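import Cfsg.Agent.H58.RegularLinearQuaternion
import Cfsg.Agent.H58.Zass.Main
import Cfsg.Agent.H2.NonsolvableComplement

/-!
Regular linear groups with an `SL(2,5)` normal subgroup.
-/

set_option autoImplicit false

namespace H58.RegLin

open Polynomial

theorem sl25_arith {p k s i a J : ℕ} (hp : p.Prime) (hp7 : 7 ≤ p) (hk : 0 < k) (hs : 2 ≤ s)
    (hi : i ≠ 0) (hik : i ≤ k) (ha : a ∣ p ^ k - 1) (hJ : J = 60 ∨ J = 120)
    (ha2 : 2 ∣ a) (ha3 : ¬ 3 ∣ a) (h : i * a * J + 1 = (p ^ k) ^ s) :
    k = 1 ∧ s = 2 ∧ J = 60 ∧ (p = 11 ∧ a = 2 ∨ p = 29 ∧ a = 14 ∨ p = 59 ∧ a = 58) := by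
  set q := p ^ k with hq
  clear_value q
  have hq7 : 7 ^ k ≤ q := hq ▸ Nat.pow_le_pow_left hp7 k
  have hq7' : 7 ≤ q := le_trans (by simpa using Nat.pow_le_pow_right (by norm_num : 0 < 7) hk) hq7
  obtain ⟨m, hm⟩ := ha
  have ha' : a ≤ q - 1 := hm ▸ Nat.le_mul_of_pos_right a (Nat.pos_of_ne_zero (by
    rintro rfl; rw [mul_zero] at hm; omega))
  obtain ⟨r, hr⟩ : ∃ r, q = r + 1 := ⟨q - 1, by omega⟩
  rw [hr, Nat.add_sub_cancel] at ha' hm
  have hgrow : ∀ n, 3 ≤ n → n * 120 + 1 < 7 ^ n + 240 := by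
    intro n hn
    induction n, hn using Nat.le_induction with
    | base => norm_num
    | succ n hn ih =>
      have : 7 ^ 3 ≤ 7 ^ n := Nat.pow_le_pow_right (by norm_num) hn
      rw [pow_succ]; omega
  rcases Nat.eq_or_lt_of_le hs with hs2 | hs3
  · subst hs2
    have hS : i * J = m * (q + 1) := by
      have h1 : a * (m * (q + 1)) = a * (i * J) := by
        rw [← mul_assoc, ← hm]
        have : r * (r + 1 + 1) + 1 = (r + 1) ^ 2 := by ring
        rw [hr] at h ⊢
        nlinarith
      have hapos : 0 < a := Nat.pos_of_ne_zero (by rintro rfl; rw [zero_mul] at hm; omega)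
      exact (Nat.eq_of_mul_eq_mul_left hapos h1).symm
    have hJd : J ∣ 120 := by rcases hJ with rfl | rfl <;> norm_num
    have hdvd : q + 1 ∣ i * 120 := (Dvd.intro_left m hS.symm).trans (Nat.mul_dvd_mul_left i hJd)
    have hle : q + 1 ≤ k * 120 := (Nat.le_of_dvd (by omega) hdvd).trans (Nat.mul_le_mul_right _ hik)
    rcases (show k = 1 ∨ k = 2 ∨ k = 3 ∨ 4 ≤ k by omega) with rfl | rfl | rfl | hk4
    · have hi1 : i = 1 := by omega
      subst hi1
      rw [one_mul] at hdvd hS
      rw [pow_one] at hq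
      subst hq
      have hpd := Nat.mem_divisors.mpr ⟨hdvd, by norm_num⟩
      rw [show Nat.divisors 120 = {1, 2, 3, 4, 5, 6, 8, 10, 12, 15, 20, 24, 30, 40, 60, 120} by
        decide +kernel] at hpd
      simp only [Finset.mem_insert, Finset.mem_singleton] at hpd
      rw [one_mul] at h
      refine ⟨rfl, rfl, ?_⟩
      obtain ⟨c, rfl⟩ := ha2
      rcases hpd with e | e | e | e | e | e | e | e | e | e | e | e | e | e | e | e
      all_goals (have e' := Nat.eq_sub_of_add_eq e; norm_num at e'; subst e')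
      all_goals first
        | omega
        | (exfalso; revert hp; norm_num; done)
        | (rcases hJ with rfl | rfl <;> norm_num at h ⊢ <;> omega)
    · exfalso
      have : p ≤ 15 := by
        by_contra hlt
        have : 16 * 16 ≤ p ^ 2 := by rw [pow_two]; exact Nat.mul_le_mul (by omega) (by omega)
        omega
      interval_cases p <;> (first | (revert hp; norm_num; done) | (interval_cases i <;> first | omega | (rw [hq] at hdvd; norm_num at hdvd)))
    · exfalso
      have : p ≤ 7 := by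
        by_contra hlt
        have : 8 ^ 3 ≤ p ^ 3 := Nat.pow_le_pow_left (by omega) 3
        omega
      interval_cases p
      interval_cases i <;> first | omega | (rw [hq] at hdvd; norm_num at hdvd)
    · exfalso
      have := hgrow k (by omega)
      have : 7 ^ 4 ≤ 7 ^ k := Nat.pow_le_pow_right (by norm_num) hk4
      have h5 : k * 120 < 7 ^ k := by
        rcases (show k = 4 ∨ 5 ≤ k by omega) with rfl | h5
        · norm_num
        · have h6 := hgrow (k - 1) (by omega)
          obtain ⟨l, rfl⟩ : ∃ l, k = l + 1 := ⟨k - 1, by omega⟩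
          rw [Nat.add_sub_cancel] at h6
          rw [pow_succ] at *
          omega
      omega
  · exfalso
    have hJ' : J ≤ 120 := by omega
    have h1 : i * a * J ≤ k * r * 120 := Nat.mul_le_mul (Nat.mul_le_mul hik ha') hJ'
    have h2 : q ^ 3 ≤ q ^ s := Nat.pow_le_pow_right (by omega) hs3
    rw [hr] at h hq7 hq7' h2
    have hb : (r + 1) ^ 3 ≤ k * r * 120 + 1 := by omega
    have hb' : (r + 1) * (r + 1) ≤ k * 120 := by
      by_contra hlt
      have : (k * 120 + 1) * (r + 1) ≤ (r + 1) * (r + 1) * (r + 1) := Nat.mul_le_mul_right _ (by omega)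
      have e : (r + 1) ^ 3 = (r + 1) * (r + 1) * (r + 1) := by ring
      nlinarith
    have hsq : 7 ^ k * 7 ^ k ≤ k * 120 := (Nat.mul_le_mul hq7 hq7).trans hb'
    have hk1 : k = 1 := by
      by_contra hk1
      have : ∀ n, 2 ≤ n → n * 120 < 7 ^ n * 7 ^ n := by
        intro n hn
        induction n, hn using Nat.le_induction with
        | base => norm_num
        | succ n hn ih => rw [pow_succ]; nlinarith
      exact absurd hsq (not_le.mpr (this k (by omega)))
    subst hk1
    have hi1 : i = 1 := by omega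
    subst hi1
    rw [pow_one] at hq
    have hr6 : r ≤ 9 := by
      by_contra hlt
      have : 11 * 11 ≤ (r + 1) * (r + 1) := Nat.mul_le_mul (by omega) (by omega)
      omega
    obtain rfl : p = 7 := by
      have : p ≤ 10 := by omega
      interval_cases p <;> first | rfl | (revert hp; norm_num)
    obtain rfl : r = 6 := by omega
    rcases Nat.eq_or_lt_of_le hs3 with e | e
    · subst e
      norm_num at h
      rcases hJ with rfl | rfl <;> omega
    · have : 7 ^ 4 ≤ 7 ^ s := Nat.pow_le_pow_right (by norm_num) e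
      have h3 : a * J ≤ 6 * 120 := Nat.mul_le_mul ha' hJ'
      norm_num at h
      omega

theorem dvd_of_prime_lt_seven {p : ℕ} (hp : p.Prime) (h : p < 7) : p ∣ 120 := by
  have := hp.two_le
  interval_cases p <;> first | (norm_num at hp; done) | norm_num

variable {p : ℕ} [Fact p.Prime] {V : Type*} [AddCommGroup V] [Module (ZMod p) V] [Finite V]
  {H : Subgroup (V ≃ₗ[ZMod p] V)}

/-- A linear group that is regular on non-zero vectors is a Frobenius complement. -/
theorem fcInt (hreg : Reg H) [Nontrivial V] [Nontrivial H] : H28.FCInt H := by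
  haveI := finite_group (H := H)
  let φ : H →* MulAut (Multiplicative V) :=
    { toFun := fun h => AddEquiv.toMultiplicative (h : V ≃ₗ[ZMod p] V).toAddEquiv
      map_one' := rfl
      map_mul' := fun _ _ => rfl }
  refine fcInt_of_fpf_aut φ fun h hh m hm => ?_
  by_contra hne
  exact hh (fpf hreg (v := m.toAdd) (fun e => hne (by simpa using congrArg Multiplicative.ofAdd e))
    (congrArg Multiplicative.toAdd hm))

/-- A perfect non-trivial subgroup is `SL(2,5)`. -/
theorem perfect_iso_sl25 (hreg : Reg H) [Nontrivial V] {N : Subgroup H} [Nontrivial N]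
    (hperf : commutator N = ⊤) :
    Nonempty (N ≃* Matrix.SpecialLinearGroup (Fin 2) (ZMod 5)) := by
  haveI := finite_group (H := H)
  haveI : Nontrivial H := N.subtype_injective.nontrivial
  exact perfect_fpf_iso_sl25 (H28.fcInt_of_injective N.subtype N.subtype_injective (fcInt hreg)) hperf

omit [Finite V] in
theorem perfect_le_centralizer {N A : Subgroup H} [A.Normal] [IsCyclic A]
    (hperf : commutator N = ⊤) : N ≤ Subgroup.centralizer (A : Set H) := by
  intro n hn
  rw [Subgroup.mem_centralizer_iff]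
  intro a ha
  have := Zass.hom_trivial (Zass.mulAut_comm (H := A)) hperf (MulAut.conjNormal.comp N.subtype) ⟨n, hn⟩
  exact (mul_inv_eq_iff_eq_mul.mp (congrArg Subtype.val (MulEquiv.congr_fun this ⟨a, ha⟩))).symm

omit [Finite V] in
/-- The centraliser of an irreducible cyclic subgroup is abelian. -/
theorem commute_of_irreducible {A : Subgroup H} [IsCyclic A] [Nontrivial V]
    (hirr : ∀ W : Submodule (ZMod p) V, Inv A W → W = ⊥ ∨ W = ⊤) [Finite A] {f g : H}
    (hf : f ∈ Subgroup.centralizer (A : Set H)) (hg : g ∈ Subgroup.centralizer (A : Set H)) :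
    f * g = g * f := by
  obtain ⟨a, ha⟩ := IsCyclic.exists_monoid_generator (α := A)
  obtain ⟨v, hv⟩ := exists_ne (0 : V)
  set T := toEnd H (a : H) with hT
  let U : Submodule (ZMod p) V :=
    LinearMap.range ((LinearMap.applyₗ v).comp (Polynomial.aeval (R := ZMod p) T).toLinearMap)
  have hU : ∀ x, x ∈ U ↔ ∃ Q : (ZMod p)[X], aeval T Q v = x := fun x => LinearMap.mem_range
  have htop : U = ⊤ := by
    refine (hirr U fun b hb x hx => ?_).resolve_left fun e => hv ?_
    · obtain ⟨Q, rfl⟩ := (hU x).mp hx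
      obtain ⟨m, hm⟩ := ha ⟨b, hb⟩
      refine (hU _).mpr ⟨X ^ m * Q, ?_⟩
      rw [map_mul, map_pow, aeval_X, hT, ← map_pow, ← SubgroupClass.coe_pow]
      simp only at hm
      rw [hm]
      rfl
    · have : v ∈ U := (hU v).mpr ⟨1, by simp⟩
      simpa [e] using this
  have hall : ∀ x, ∃ Q : (ZMod p)[X], aeval T Q v = x := fun x => (hU x).mp (htop ▸ Submodule.mem_top)
  have hcomm : ∀ h : H, h ∈ Subgroup.centralizer (A : Set H) → ∀ Q x,
      (h : V ≃ₗ[ZMod p] V) (aeval (R := ZMod p) T Q x) = aeval T Q ((h : V ≃ₗ[ZMod p] V) x) := by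
    intro h hh Q
    have hc : Commute (toEnd H h) T := by
      have := (Subgroup.mem_centralizer_iff.mp hh a a.2).symm
      exact congrArg (toEnd H) this |> fun e => by rwa [map_mul, map_mul] at e
    intro x
    induction Q using Polynomial.induction_on generalizing x with
    | C c => simp [Module.algebraMap_end_apply]
    | add q r hq hr => simp [hq x, hr x]
    | monomial n c ih =>
      rw [pow_succ, ← mul_assoc, map_mul, aeval_X, Module.End.mul_apply, Module.End.mul_apply, ih]
      exact congrArg _ (LinearMap.congr_fun hc.eq x)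
  obtain ⟨Q, hQ⟩ := hall ((f : V ≃ₗ[ZMod p] V) v)
  have hfQ : ∀ x, (f : V ≃ₗ[ZMod p] V) x = aeval T Q x := by
    intro x
    obtain ⟨R, rfl⟩ := hall x
    rw [hcomm f hf, ← hQ, ← Module.End.mul_apply, ← Module.End.mul_apply, ← map_mul, ← map_mul,
      mul_comm]
  refine Subtype.ext (LinearEquiv.ext fun x => ?_)
  show (f : V ≃ₗ[ZMod p] V) ((g : V ≃ₗ[ZMod p] V) x) = (g : V ≃ₗ[ZMod p] V) ((f : V ≃ₗ[ZMod p] V) x)
  rw [hfQ, hfQ, hcomm g hg]

/-- A group with a perfect non-trivial subgroup has no irreducible cyclic normal subgroup. -/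
theorem noCyc_of_perfect [Nontrivial V] {N : Subgroup H} [Nontrivial N] (hperf : commutator N = ⊤) :
    NoCyc H := by
  haveI := finite_group (H := H)
  intro A hA hAc
  haveI := hA
  haveI := hAc
  by_contra hcon
  have hirr : ∀ W : Submodule (ZMod p) V, Inv A W → W = ⊥ ∨ W = ⊤ := fun W hW => by
    by_contra h
    push Not at h
    exact hcon ⟨W, h.1, h.2, hW⟩
  have hle := perfect_le_centralizer (A := A) hperf
  exact Zass.not_solvable_of_perfect hperf (Group.isSolvable_of_comm fun x y =>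
    Subtype.ext (commute_of_irreducible hirr (hle x.2) (hle y.2)))

/-- The `SL(2,5)` case. -/
theorem sl25_case (hreg : Reg H) (hI : NoCyc H) {A : Subgroup H} (hA : MaxAb A)
    {N : Subgroup H} [hNn : N.Normal] (hNle : N ≤ Subgroup.centralizer (A : Set H))
    (e : N ≃* Matrix.SpecialLinearGroup (Fin 2) (ZMod 5)) (hperf : commutator N = ⊤) :
    Nat.card V = p ^ 2 ∧ Subgroup.centralizer (N : Set H) = A ∧
      Subgroup.centralizer (A : Set H) = ⊤ ∧ IsCyclic A ∧ Nat.card H = Nat.card A * 60 ∧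
      (p = 11 ∧ Nat.card A = 2 ∨ p = 29 ∧ Nat.card A = 14 ∨ p = 59 ∧ Nat.card A = 58) := by
  haveI := hA.1
  haveI := hA.2.1
  haveI := nontrivial_space hI
  haveI := finite_group (H := H)
  obtain ⟨hN120, hnorm, -⟩ := H2.perfect_sl25_facts hperf e
  haveI : Nontrivial N := Finite.one_lt_card_iff_nontrivial.mp (by omega)
  haveI : Nontrivial H := N.subtype_injective.nontrivial
  have hFC := fcInt hreg
  set C := Subgroup.centralizer (A : Set H) with hC
  have hi4' : orderOf (H2.slI : H59.SL25) = 4 := by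
    haveI : Fact (Nat.Prime 2) := ⟨Nat.prime_two⟩
    exact orderOf_eq_prime_pow (p := 2) (n := 1) (by decide +kernel) (by decide +kernel)
  set i : H := ((e.symm H2.slI : N) : H) with hi
  have hi4 : orderOf i = 4 := by rw [hi, Subgroup.orderOf_coe, MulEquiv.orderOf_eq, hi4']
  have hinc : ∃ n ∈ N, ¬ Commute i n := by
    refine ⟨_, (e.symm H2.slJ).2, fun hc => ?_⟩
    have h1 : e.symm H2.slI * e.symm H2.slJ = e.symm H2.slJ * e.symm H2.slI := Subtype.ext hc
    rw [← map_mul, ← map_mul, e.symm.injective.eq_iff] at h1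
    revert h1
    decide +kernel
  have hinf : C ⊓ Subgroup.centralizer (N : Set H) = A :=
    inf_centralizer_eq hreg hA hNle (i := i) (SetLike.coe_mem _) hi4 hinc
  -- the image in the automorphisms of `N`
  obtain ⟨f, -, hker, -⟩ := H2.exists_hom_perm_five hFC hperf e
  let g : C →* Equiv.Perm (Fin 5) := f.comp C.subtype
  have hgker : g.ker = A.subgroupOf C := by
    ext c
    rw [MonoidHom.mem_ker, Subgroup.mem_subgroupOf]
    show f (c : H) = 1 ↔ (c : H) ∈ A
    rw [← MonoidHom.mem_ker, hker, ← hinf]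
    exact ⟨fun h => ⟨c.2, h⟩, fun h => h.2⟩
  set J := Nat.card g.range with hJ
  have hJdvd : J ∣ 120 := by
    refine (Subgroup.card_subgroup_dvd_card g.range).trans ?_
    rw [Nat.card_perm, Nat.card_fin]; rfl
  have hJge : 60 ≤ J := by
    let g' : N →* Equiv.Perm (Fin 5) := g.comp (Subgroup.inclusion hNle)
    have h1 : Nat.card g'.range ≤ J :=
      Subgroup.card_le_of_le (fun x ⟨y, hy⟩ => ⟨_, hy⟩)
    have hne : g'.ker ≠ ⊤ := by
      intro ht
      obtain ⟨n, hn, hnc⟩ := hinc
      have hiC : i ∈ Subgroup.centralizer (N : Set H) := by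
        rw [← hker, MonoidHom.mem_ker]
        exact (show e.symm H2.slI ∈ g'.ker from ht ▸ Subgroup.mem_top _)
      exact hnc (Subgroup.mem_centralizer_iff.mp hiC n hn).symm
    have h2 := hnorm _ inferInstance hne
    have h3 := g'.ker.card_mul_index
    rw [Subgroup.index_ker, hN120] at h3
    have : Nat.card g'.ker * Nat.card g'.range ≤ 2 * J := Nat.mul_le_mul h2 h1
    omega
  have hJ' : J = 60 ∨ J = 120 := by
    obtain ⟨c, hc⟩ := hJdvd
    have : c ≤ 2 := by
      by_contra hlt
      have : 60 * 3 ≤ J * c := Nat.mul_le_mul hJge (by omega)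
      omega
    interval_cases c <;> omega
  have hcard : Nat.card H = C.index * Nat.card A * J := by
    have h1 : Nat.card C = Nat.card A * J := by
      rw [← Subgroup.card_mul_index g.ker, Subgroup.index_ker, hgker, hJ,
        Nat.card_congr (Subgroup.subgroupOfEquivOfLe (le_centralizer_self hA)).toEquiv]
    rw [← C.card_mul_index, h1]
    ring
  obtain ⟨hAcyc, W, htop, hW⟩ := exists_proper_minInv hreg hI A hA.1 hA.2.1
  obtain ⟨s, hs, hV⟩ := sq_le_card hreg htop hW
  have hidx := index_centralizer_le hreg hA.2.1 hW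
  obtain ⟨-, hdvd, -⟩ := cyclic_dvd hreg hA.2.1 hW
  haveI : Nontrivial W := Submodule.nontrivial_iff_ne_bot.mpr hW.1
  have hk : 0 < Module.finrank (ZMod p) W := Module.finrank_pos
  rw [Module.natCard_eq_pow_finrank (K := ZMod p) (V := W), Nat.card_zmod] at hV
  have hone := card_add_one hreg
  have hp7 : 7 ≤ p := by
    by_contra hlt
    have hp := (Fact.out : p.Prime)
    have h120 : p ∣ 120 := dvd_of_prime_lt_seven hp (by omega)
    have h1 : p ∣ Nat.card H := (hN120 ▸ h120).trans N.card_subgroup_dvd_card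
    have h2 : p ∣ Nat.card V := hV ▸ dvd_pow (dvd_pow_self p hk.ne') (by omega)
    rw [← hone] at h2
    exact hp.not_dvd_one ((Nat.dvd_add_right h1).mp h2)
  -- the involution
  haveI : Fact (Nat.Prime 2) := ⟨Nat.prime_two⟩
  haveI : Fact (Nat.Prime 3) := ⟨Nat.prime_three⟩
  have h2A : 2 ∣ Nat.card A := by
    obtain ⟨z, hz⟩ := exists_prime_orderOf_dvd_card' (G := N) 2 (by rw [hN120]; norm_num)
    rw [← Subgroup.orderOf_coe] at hz
    have hzc : ∀ x : H, x * z = z * x := fun x => by
      have h1 : MulAut.conj x (z : H) = z :=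
        H2.fcInt_involution_unique hFC (by rw [MulEquiv.orderOf_eq, hz]) hz
      exact mul_inv_eq_iff_eq_mul.mp h1
    have hn : (Subgroup.zpowers (z : H)).Normal := ⟨fun x hx y => by
      obtain ⟨m, rfl⟩ := hx
      show y * (z : H) ^ m * y⁻¹ ∈ _
      rw [(Commute.zpow_right (show Commute y (z : H) from hzc y) m).eq, mul_inv_cancel_right]
      exact Subgroup.zpow_mem_zpowers _ m⟩
    have hle := le_of_normal_comm hA hn inferInstance
      (Subgroup.zpowers_le.mpr (hNle z.2))
    exact hz ▸ Subgroup.orderOf_dvd_natCard A (hle (Subgroup.mem_zpowers _))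
  have h3A : ¬ 3 ∣ Nat.card A := by
    intro h3
    obtain ⟨a, ha⟩ := exists_prime_orderOf_dvd_card' (G := A) 3 h3
    obtain ⟨b, hb⟩ := exists_prime_orderOf_dvd_card' (G := N) 3 (by rw [hN120]; norm_num)
    rw [← Subgroup.orderOf_coe] at ha hb
    have hc : Commute (b : H) a := (Subgroup.mem_centralizer_iff.mp (hNle b.2) a a.2).symm
    have haN : (a : H) ∈ N := by
      have := (abCyc hreg).mem_zpowers_of_commute hc hb (by rw [← ha, pow_orderOf_eq_one])
      exact Subgroup.zpowers_le.mpr b.2 this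
    have hac : (⟨a, haN⟩ : N) ∈ Subgroup.center N := Subgroup.mem_center_iff.mpr fun n =>
      Subtype.ext (Subgroup.mem_centralizer_iff.mp (hNle n.2) a a.2).symm
    have hne : Subgroup.center N ≠ ⊤ := by
      intro ht
      obtain ⟨n, hn, hnc⟩ := hinc
      exact hnc (congrArg Subtype.val (Subgroup.mem_center_iff.mp
        (show e.symm H2.slI ∈ Subgroup.center N from ht ▸ Subgroup.mem_top _) ⟨n, hn⟩)).symm
    have h4 := hnorm _ inferInstance hne
    have h5 := Nat.le_of_dvd Nat.card_pos (Subgroup.orderOf_dvd_natCard _ hac)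
    rw [Subgroup.orderOf_mk, ha] at h5
    omega
  obtain ⟨hk1, hs2, hJ60, hpa⟩ := sl25_arith (Fact.out : p.Prime) hp7 hk hs
    Subgroup.index_ne_zero_of_finite hidx hdvd hJ' h2A h3A
    (by rw [← hcard]; exact hone.trans hV)
  rw [hk1, pow_one, hs2] at hV
  rw [hk1] at hidx
  have hCtop : C = ⊤ := by
    rw [← Subgroup.index_eq_one]
    have := Subgroup.index_ne_zero_of_finite (H := C)
    change C.index ≤ 1 at hidx
    omega
  refine ⟨hV, by rw [← hinf, hCtop, top_inf_eq], hCtop, hAcyc, ?_, hpa⟩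
  rw [hcard, hCtop, Subgroup.index_top, one_mul, hJ60]

/-- The structure of a non-solvable regular linear group. -/
theorem nonsolvable_structure (hreg : Reg H) (hsolv : ¬ Group.IsSolvable H) :
    ∃ m, (p = 11 ∧ m = 1 ∨ p = 29 ∧ m = 7 ∨ p = 59 ∧ m = 29) ∧ Nat.card V = p ^ 2 ∧
      ∃ (N M : Subgroup H), Nonempty (N ≃* Matrix.SpecialLinearGroup (Fin 2) (ZMod 5)) ∧
        IsCyclic M ∧ Nat.card M = m ∧ Nonempty (N × M ≃* H) := by
  haveI := finite_group (H := H)
  haveI : Nontrivial V := by
    by_contra hV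
    rw [not_nontrivial_iff_subsingleton] at hV
    haveI : Subsingleton H := ⟨fun a b => Subtype.ext (LinearEquiv.ext fun v => Subsingleton.elim _ _)⟩
    exact hsolv (Group.isSolvable_of_comm fun a b => Subsingleton.elim _ _)
  obtain ⟨N, hNn, hNne, hperf⟩ := H2.exists_perfect_normal hsolv
  haveI := hNn
  haveI : Nontrivial N := (Subgroup.nontrivial_iff_ne_bot N).mpr hNne
  obtain ⟨e⟩ := perfect_iso_sl25 hreg hperf
  have hI := noCyc_of_perfect (H := H) (N := N) hperf
  obtain ⟨A, hA⟩ := exists_maxAb (H := H)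
  haveI := hA.1
  haveI := (exists_proper_minInv hreg hI A hA.1 hA.2.1).1
  have hNle := perfect_le_centralizer (A := A) hperf
  obtain ⟨hV, hcN, -, -, hcard, hpa⟩ := sl25_case hreg hI hA hNle e hperf
  obtain ⟨m, hm, hAm⟩ : ∃ m, (p = 11 ∧ m = 1 ∨ p = 29 ∧ m = 7 ∨ p = 59 ∧ m = 29) ∧ Nat.card A = 2 * m := by
    rcases hpa with ⟨h, h'⟩ | ⟨h, h'⟩ | ⟨h, h'⟩
    exacts [⟨1, Or.inl ⟨h, rfl⟩, h'⟩, ⟨7, Or.inr (Or.inl ⟨h, rfl⟩), h'⟩, ⟨29, Or.inr (Or.inr ⟨h, rfl⟩), h'⟩]
  obtain ⟨g, hg⟩ := IsCyclic.exists_generator (α := A)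
  have hgo : orderOf (g : H) = 2 * m := by
    rw [Subgroup.orderOf_coe, orderOf_eq_card_of_forall_mem_zpowers hg, hAm]
  set M := Subgroup.zpowers ((g : H) ^ 2) with hM
  have hMm : Nat.card M = m := by
    rw [Nat.card_zpowers, orderOf_pow_of_dvd two_ne_zero (by rw [hgo]; exact dvd_mul_right 2 m), hgo]
    omega
  have hMA : M ≤ A := Subgroup.zpowers_le.mpr (Subgroup.pow_mem A g.2 2)
  have hN120 : Nat.card N = 120 := (Nat.card_congr e.toEquiv).trans H59.card_SL25
  have hcomm : ∀ (n : N) (x : M), Commute (N.subtype n) (M.subtype x) := fun n x =>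
    (Subgroup.mem_centralizer_iff.mp (hNle n.2) x (hMA x.2)).symm
  let ψ := MonoidHom.noncommCoprod N.subtype M.subtype hcomm
  have hinj : Function.Injective ψ := by
    rw [injective_iff_map_eq_one]
    rintro ⟨n, x⟩ h
    have h' : (n : H) * x = 1 := h
    have hnM : (n : H) ∈ M := by rw [eq_inv_of_mul_eq_one_left h']; exact inv_mem x.2
    have h1 := Subgroup.orderOf_dvd_natCard M hnM
    have h2 := Subgroup.orderOf_dvd_natCard N n.2
    rw [hMm] at h1
    rw [hN120] at h2
    have hco : Nat.gcd 120 m = 1 := by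
      rcases hm with ⟨-, rfl⟩ | ⟨-, rfl⟩ | ⟨-, rfl⟩ <;> rfl
    have hn1 : (n : H) = 1 := orderOf_eq_one_iff.mp (Nat.dvd_one.mp (hco ▸ Nat.dvd_gcd h2 h1))
    exact Prod.ext (Subtype.ext hn1) (Subtype.ext (by rwa [hn1, one_mul] at h'))
  have hbij : Function.Bijective ψ := by
    rw [Nat.bijective_iff_injective_and_card]
    refine ⟨hinj, ?_⟩
    rw [Nat.card_prod, hN120, hMm, hcard, hAm]
    ring
  exact ⟨m, hm, hV, N, M, ⟨e⟩, inferInstance, hMm, ⟨MulEquiv.ofBijective ψ hbij⟩⟩

end H58.RegLin
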