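import Cfsg.Agent.H58.PrimeSylow

/-!
Non-solvable transitive groups of degree seven not containing the alternating group.
-/

set_option autoImplicit false
set_option linter.unusedSectionVars false

namespace H58

open MulAction

theorem descFactorial_dvd_card {G α : Type*} [Group G] [MulAction G α] [Fintype α] {k : ℕ}
    (h : IsMultiplyPretransitive G α k) (hk : k ≤ Fintype.card α) :
    (Fintype.card α).descFactorial k ∣ Nat.card G := by
  classical
  obtain ⟨x⟩ : Nonempty (Fin k ↪ α) :=
    Function.Embedding.nonempty_of_card_le (by rwa [Fintype.card_fin])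
  have hidx : (stabilizer G x).index = Nat.card (Fin k ↪ α) := by
    rw [index_stabilizer, ← Set.ncard_univ]
    exact congrArg Set.ncard (Set.eq_univ_of_forall fun z => h.exists_smul_eq x z)
  rw [Nat.card_eq_fintype_card, Fintype.card_embedding_eq, Fintype.card_fin] at hidx
  exact hidx ▸ Subgroup.index_dvd_card _

theorem sign_sub_left_seven : ∀ b : ZMod 7, Equiv.Perm.sign (Equiv.subLeft b) = -1 := by decide

variable {α : Type*} [Fintype α] [DecidableEq α]

theorem isPretransitive_of_normal_subgroupOf {p : ℕ} [Fact p.Prime] (hα : Fintype.card α = p)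
    (G M : Subgroup (Equiv.Perm α)) [IsPretransitive G α] (hMG : M ≤ G)
    (hn : (M.subgroupOf G).Normal) (hM : M ≠ ⊥) : IsPretransitive M α := by
  haveI : IsPreprimitive G α := IsPreprimitive.of_prime_card (by
    rw [Nat.card_eq_fintype_card, hα]; exact Fact.out)
  haveI := hn
  have hne : M.subgroupOf G ≠ ⊥ := by
    intro h
    rw [Subgroup.subgroupOf_eq_bot] at h
    exact hM (by rwa [disjoint_iff, inf_eq_left.mpr hMG] at h)
  have htr : IsPretransitive (M.subgroupOf G) α := by
    apply IsQuasiPreprimitive.isPretransitive_of_normal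
    intro hfix
    apply hne
    rw [Subgroup.eq_bot_iff_forall]
    intro n hn
    refine eq_of_smul_eq_smul (α := α) fun a => ?_
    rw [one_smul]
    exact (hfix ▸ Set.mem_univ a : a ∈ fixedPoints (M.subgroupOf G) α) ⟨n, hn⟩
  refine ⟨fun x y => ?_⟩
  obtain ⟨g, hg⟩ := htr.exists_smul_eq x y
  exact ⟨⟨_, Subgroup.mem_subgroupOf.mp g.2⟩, hg⟩

theorem degree_seven (hα : Fintype.card α = 7) (G : Subgroup (Equiv.Perm α))
    [IsPretransitive G α] (hG : ¬ Group.IsSolvable G) (hA : ¬ alternatingGroup α ≤ G) :
    Nat.card G = 168 ∧ IsSimpleGroup G := by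
  haveI : Fact (Nat.Prime 7) := ⟨by norm_num⟩
  haveI : Nonempty α := Fintype.card_pos_iff.mp (by omega)
  set M := G ⊓ alternatingGroup α with hMdef
  have hMG : M ≤ G := inf_le_left
  let sg : G →* ℤˣ := Equiv.Perm.sign.comp G.subtype
  have hMn : M.subgroupOf G = sg.ker := by
    ext g
    simp [M, sg, Subgroup.mem_subgroupOf]
  have hMnorm : (M.subgroupOf G).Normal := hMn ▸ sg.normal_ker
  have hMns : ¬ Group.IsSolvable M := by
    intro hs
    apply hG
    haveI : Group.IsSolvable sg.ker := by
      haveI : Group.IsSolvable (M.subgroupOf G) :=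
        Group.isSolvable_of_surjective (f := (Subgroup.subgroupOfEquivOfLe hMG).symm.toMonoidHom)
          (Subgroup.subgroupOfEquivOfLe hMG).symm.surjective
      rwa [← hMn]
    exact Group.isSolvable_of_ker_le_range sg.ker.subtype sg (by simp)
  haveI hMtr : IsPretransitive M α := isPretransitive_of_normal_subgroupOf hα G M hMG hMnorm
    (fun h => hMns (by rw [h]; exact Group.isSolvable_of_comm fun a b => Subsingleton.elim _ _))
  have hnn : pSubgroups 7 M = pSubgroups 7 G := pSubgroups_normal_eq hα G M hMG hMnorm
  obtain ⟨P⟩ := (inferInstance : Nonempty (Sylow 7 M))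
  obtain ⟨d, hNd, hM, hd, hmod, hd1, hn1⟩ := sylow_data hα M P
  set n := (pSubgroups 7 M).ncard with hn
  have hd3 : d = 3 := by
    have hodd : ¬ Even d := by
      intro hev
      obtain ⟨e, c, hcM, -, hc, t, htM, b, htb⟩ :=
        exists_reversal hα M P (by norm_num) (by rw [hNd]; exact hev.mul_left 7)
      have hσ : relabel e t = Equiv.subLeft b := Equiv.ext htb
      have hsign : Equiv.Perm.sign (relabel e t) = Equiv.Perm.sign t :=
        Equiv.Perm.sign_trans_trans_symm t e
      rw [hσ, sign_sub_left_seven, Equiv.Perm.mem_alternatingGroup.mp (inf_le_right (a := G) htM)] at hsign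
      exact absurd hsign (by decide)
    have hne : d ≠ 1 := by
      intro h
      apply hMns
      haveI : IsCyclic M := isCyclic_of_prime_card (p := 7) (hd1 h)
      exact Group.isSolvable_of_comm mul_comm'
    have hd' := Nat.le_of_dvd (by norm_num) hd
    interval_cases d <;> simp_all (config := { decide := true })
  subst hd3
  have hn120 : n ∣ 120 := by
    have h2 := Subgroup.card_dvd_of_le (inf_le_right : M ≤ alternatingGroup α)
    haveI : Nontrivial α := Fintype.one_lt_card_iff_nontrivial.mp (by omega)
    have h3 := two_mul_nat_card_alternatingGroup (α := α)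
    rw [Nat.card_perm, Nat.card_eq_fintype_card (α := α), hα] at h3
    have hA2 : Nat.card (alternatingGroup α) = 2520 := by
      rw [show Nat.factorial 7 = 5040 from rfl] at h3; omega
    rw [hA2, hM] at h2
    exact (Nat.mul_dvd_mul_iff_left (show 0 < 21 by norm_num)).mp h2
  have hn8 : n = 8 := by
    have hle := Nat.le_of_dvd (by norm_num) hn120
    have hcases : n = 1 ∨ n = 8 ∨ n = 15 ∨ n = 120 := by
      have key : ∀ m ∈ Nat.divisors 120, m % 7 = 1 → m = 1 ∨ m = 8 ∨ m = 15 ∨ m = 120 := by decide
      exact key n (Nat.mem_divisors.mpr ⟨hn120, by norm_num⟩) hmod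
    rcases hcases with h | h | h | h
    · exact absurd (hn1 h) hMns
    · exact h
    · exfalso
      obtain ⟨e, c, hcM, -, hc⟩ := exists_numbering hα M
      rcases allAff_or_two_pretransitive M hcM hc with haff | h2
      · exact hMns haff.isSolvable
      · have := descFactorial_dvd_card h2 (by omega)
        rw [hα, hM, h] at this
        exact absurd this (by decide)
    · exfalso
      apply hA
      refine le_trans (le_of_eq ?_) hMG
      refine (Subgroup.eq_of_le_of_card_ge inf_le_right ?_).symm
      rw [hM, h]
      haveI : Nontrivial α := Fintype.one_lt_card_iff_nontrivial.mp (by omega)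
      have h3 := two_mul_nat_card_alternatingGroup (α := α)
      rw [Nat.card_perm, Nat.card_eq_fintype_card (α := α), hα] at h3
      rw [show Nat.factorial 7 = 5040 from rfl] at h3; omega
  obtain ⟨PG⟩ := (inferInstance : Nonempty (Sylow 7 G))
  obtain ⟨dG, hNdG, hGc, hdG, -, -, -⟩ := sylow_data hα G PG
  rw [← hnn, ← hn, hn8] at hGc
  have hdGodd : ¬ Even dG := by
    intro hev
    have h3 := three_pretransitive_of_even_normalizer hα G hG PG (by rw [hNdG]; exact hev.mul_left 7)
    have h4 := descFactorial_dvd_card h3 (by omega)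
    rw [hα, hGc] at h4
    have h5 := Nat.le_of_dvd (by norm_num) hdG
    have hpos : 0 < dG := Nat.pos_of_dvd_of_pos hdG (by norm_num)
    interval_cases dG <;> revert h4 <;> decide
  have hMcard : Nat.card M = 168 := by rw [hM, hn8]
  have hGM : Nat.card G = 168 := by
    have h1 := Subgroup.card_dvd_of_le hMG
    rw [hMcard, hGc] at h1
    have hpos : 0 < dG := Nat.pos_of_dvd_of_pos hdG (by norm_num)
    have h5 := Nat.le_of_dvd (by norm_num) hdG
    rw [hGc]
    interval_cases dG <;> simp_all (config := { decide := true })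
  refine ⟨hGM, ?_⟩
  haveI : Nontrivial G := by
    rw [← Finite.one_lt_card_iff_nontrivial, hGM]; norm_num
  refine ⟨fun K hK => ?_⟩
  by_cases hKb : K = ⊥
  · exact Or.inl hKb
  right
  let K' := K.map G.subtype
  have hK'G : K' ≤ G := Subgroup.map_subtype_le _
  have hK'n : (K'.subgroupOf G).Normal := by
    rw [show K'.subgroupOf G = K from Subgroup.comap_map_eq_self_of_injective G.subtype_injective K]
    exact hK
  haveI : IsPretransitive K' α := isPretransitive_of_normal_subgroupOf hα G K' hK'G hK'n
    (fun h => hKb ((Subgroup.map_eq_bot_iff_of_injective _ G.subtype_injective).mp h))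
  obtain ⟨PK⟩ := (inferInstance : Nonempty (Sylow 7 K'))
  obtain ⟨dK, -, hKc, hdK, -, hdK1, -⟩ := sylow_data hα K' PK
  rw [pSubgroups_normal_eq hα G K' hK'G hK'n, ← hnn, ← hn, hn8] at hKc
  have hdKne : dK ≠ 1 := fun h => by
    have := hdK1 h
    rw [hKc, h] at this
    norm_num at this
  have hcardK : Nat.card K = Nat.card K' :=
    (Subgroup.card_map_of_injective G.subtype_injective).symm
  have hdiv := Subgroup.card_subgroup_dvd_card K
  rw [hGM, hcardK, hKc] at hdiv
  refine Subgroup.eq_top_of_card_eq _ ?_
  rw [hcardK, hKc, hGM]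
  have h5 := Nat.le_of_dvd (by norm_num) hdK
  interval_cases dK <;> simp_all (config := { decide := true })

end H58
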