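import Cfsg.Prelude.Def_Perm
import Mathlib

/-!
Finite sharply doubly transitive groups: the fixed-point-free elements and the identity form a
normal regular elementary abelian subgroup; such groups come from near-fields.
-/

set_option autoImplicit false
set_option linter.unusedSectionVars false

namespace H58

open MulAction

variable {G Ω : Type*} [Group G] [MulAction G Ω]

theorem sharp_fix_two {n : ℕ} (hn : n = 2) (hsharp : ∀ x : Fin n ↪ Ω, MulAction.stabilizer G x = ⊥)
    {g : G} {a b : Ω} (hab : a ≠ b) (ha : g • a = a) (hb : g • b = b) : g = 1 := by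
  subst hn
  let x : Fin 2 ↪ Ω := ⟨![a, b], fun i j h => by fin_cases i <;> fin_cases j <;> simp_all [hab.symm]⟩
  have : g ∈ MulAction.stabilizer G x := by
    rw [MulAction.mem_stabilizer_iff]
    ext i
    fin_cases i
    · exact ha
    · exact hb
  rwa [hsharp, Subgroup.mem_bot] at this

/-- A finite sharply 2-transitive action has a regular elementary abelian normal subgroup
consisting of the identity and the fixed-point-free elements. -/
theorem sharplyTwo_kernel [Finite G] [Fintype Ω]
    (h2 : MulAction.IsMultiplyPretransitive G Ω 2)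
    (hfix : ∀ (g : G) (a b : Ω), a ≠ b → g • a = a → g • b = b → g = 1)
    (hΩ : 2 ≤ Fintype.card Ω) :
    ∃ N : Subgroup G, N.Normal ∧ (∀ g, g ∈ N ↔ g = 1 ∨ ∀ a : Ω, g • a ≠ a) ∧
      (∀ x ∈ N, ∀ y ∈ N, x * y = y * x) ∧ Nat.card N = Fintype.card Ω ∧
      Nat.card G = Fintype.card Ω * (Fintype.card Ω - 1) ∧
      (∀ a b : Ω, ∃! g : G, g ∈ N ∧ g • a = b) ∧
      ∃ p j : ℕ, p.Prime ∧ 1 ≤ j ∧ Fintype.card Ω = p ^ j ∧ ∀ x ∈ N, x ^ p = 1 := by
  classical
  haveI : Fintype G := Fintype.ofFinite G
  set n := Fintype.card Ω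
  haveI : MulAction.IsPretransitive G Ω := MulAction.isPretransitive_of_is_two_pretransitive
  obtain ⟨a₀, b₀, hab₀⟩ := Fintype.exists_pair_of_one_lt_card (α := Ω) (by omega)
  have hG : Nat.card G = n * (n - 1) := by
    let D := {q : Ω × Ω // q.1 ≠ q.2}
    let e : G → D := fun g => ⟨(g • a₀, g • b₀), (MulAction.injective g).ne hab₀⟩
    have he : Function.Bijective e := by
      constructor
      · intro g h hgh'
        have hgh : g • a₀ = h • a₀ ∧ g • b₀ = h • b₀ :=
          Prod.ext_iff.mp (congrArg Subtype.val hgh')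
        exact (inv_mul_eq_one.mp (hfix (h⁻¹ * g) a₀ b₀ hab₀
          (by rw [mul_smul, hgh.1, inv_smul_smul]) (by rw [mul_smul, hgh.2, inv_smul_smul]))).symm
      · rintro ⟨⟨x, y⟩, hxy⟩
        obtain ⟨g, hg, hg'⟩ := MulAction.is_two_pretransitive_iff.mp h2 hab₀ hxy
        exact ⟨g, Subtype.ext (Prod.ext hg hg')⟩
    rw [Nat.card_congr (Equiv.ofBijective e he), Nat.card_eq_fintype_card, Fintype.card_subtype]
    have : (Finset.univ.filter fun q : Ω × Ω => q.1 ≠ q.2) = Finset.univ.offDiag := by
      ext ⟨x, y⟩; simp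
    rw [this, Finset.offDiag_card, Finset.card_univ, Nat.mul_sub, mul_one]
  let F : Finset G := Finset.univ.filter fun g => ∀ a : Ω, g • a ≠ a
  have memF : ∀ g, g ∈ F ↔ ∀ a : Ω, g • a ≠ a := fun g => by simp [F]
  have h1F : (1 : G) ∉ F := fun h => (memF 1).mp h a₀ (one_smul _ _)
  have hF : F.card = n - 1 := by
    have hburn := MulAction.sum_card_fixedBy_eq_card_orbits_mul_card_group G Ω
    have horb : Fintype.card (MulAction.orbitRel.Quotient G Ω) = 1 :=
      Fintype.card_eq_one_iff.mpr ⟨Quotient.mk'' a₀, fun z => by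
        induction z using Quotient.inductionOn' with
        | h y => exact Quotient.sound (MulAction.exists_smul_eq G a₀ y)⟩
    have hone : ∀ g : G, Fintype.card (MulAction.fixedBy Ω g) + (if g ∈ F then 1 else 0) =
        1 + (if g = 1 then n - 1 else 0) := by
      intro g
      by_cases hg : g = 1
      · have : Fintype.card (MulAction.fixedBy Ω g) = n :=
          Fintype.card_congr ((Equiv.setCongr (by ext; simp [hg])).trans (Equiv.Set.univ Ω))
        rw [if_pos hg, if_neg (hg ▸ h1F), this]
        omega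
      · rw [if_neg hg]
        by_cases hgF : g ∈ F
        · rw [if_pos hgF]
          have : Fintype.card (MulAction.fixedBy Ω g) = 0 :=
            Fintype.card_eq_zero_iff.mpr ⟨fun x => (memF g).mp hgF x.1 x.2⟩
          omega
        · rw [if_neg hgF]
          have : ¬ ∀ a : Ω, g • a ≠ a := fun h => hgF ((memF g).mpr h)
          push Not at this
          obtain ⟨a, ha⟩ := this
          have hc : Fintype.card (MulAction.fixedBy Ω g) = 1 :=
            Fintype.card_eq_one_iff.mpr ⟨⟨a, ha⟩, fun x => Subtype.ext (by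
              by_contra hne
              exact hg (hfix g _ _ hne x.2 ha))⟩
          omega
    have hs := Finset.sum_congr (s₁ := (Finset.univ : Finset G)) rfl (fun g _ => hone g)
    simp only [Finset.sum_add_distrib, hburn, horb, one_mul, Finset.sum_ite_eq', Finset.mem_univ,
      if_true, Finset.sum_const, Finset.card_univ, smul_eq_mul, mul_one, Finset.sum_ite_mem,
      Finset.univ_inter] at hs
    omega
  obtain ⟨x, hx⟩ : F.Nonempty := Finset.card_pos.mp (by omega)
  have hsemi : ∀ y ∈ F, ∀ g, g * y = y * g → g = 1 ∨ g ∈ F := by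
    intro y hy g hgy
    by_contra! h
    obtain ⟨hg1, hgF⟩ := h
    have : ¬ ∀ a : Ω, g • a ≠ a := fun h => hgF ((memF g).mpr h)
    push Not at this
    obtain ⟨a, ha⟩ := this
    exact hg1 (hfix g a (y • a) ((memF y).mp hy a).symm ha (by rw [← mul_smul, hgy, mul_smul, ha]))
  have hconjF : ∀ y ∈ F, ∀ g : G, g * y * g⁻¹ ∈ F := by
    intro y hy g
    rw [memF]
    intro a h
    apply (memF y).mp hy (g⁻¹ • a)
    rw [mul_smul, mul_smul] at h
    exact (eq_inv_smul_iff).mpr h
  have hkey : ∀ y ∈ F, (∀ g, g * y = y * g ↔ g = 1 ∨ g ∈ F) ∧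
      ∀ z ∈ F, ∃ g : G, g * y * g⁻¹ = z := by
    intro y hy
    let C := Subgroup.centralizer ({y} : Set G)
    have memC : ∀ g, g ∈ C ↔ g * y = y * g := fun g => Subgroup.mem_centralizer_singleton_iff
    let Cf : Finset G := Finset.univ.filter fun g => g * y = y * g
    have hCle : Cf ⊆ insert 1 F := fun g hg => Finset.mem_insert.mpr
      (hsemi y hy g (Finset.mem_filter.mp hg).2)
    let cls : Finset G := Finset.univ.image fun g => g * y * g⁻¹
    have hcls : cls ⊆ F := fun z hz => by
      obtain ⟨g, -, rfl⟩ := Finset.mem_image.mp hz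
      exact hconjF y hy g
    have hcardeq : (Finset.univ : Finset G).card = cls.card * Cf.card := by
      refine (Finset.card_eq_sum_card_image (fun g => g * y * g⁻¹) Finset.univ).trans ?_
      rw [Finset.sum_const_nat]
      intro z hz
      obtain ⟨g, -, rfl⟩ := Finset.mem_image.mp hz
      refine Finset.card_bij (fun k _ => g⁻¹ * k) ?_ ?_ ?_
      · intro k hk
        have hk' : k * y * k⁻¹ = g * y * g⁻¹ := (Finset.mem_filter.mp hk).2
        refine Finset.mem_filter.mpr ⟨Finset.mem_univ _, ?_⟩
        calc g⁻¹ * k * y = g⁻¹ * (k * y * k⁻¹) * k := by group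
          _ = y * (g⁻¹ * k) := by rw [hk']; group
      · intro k _ k' _ h; exact mul_left_cancel h
      · intro c hc
        have hc' : c * y = y * c := (Finset.mem_filter.mp hc).2
        refine ⟨g * c, Finset.mem_filter.mpr ⟨Finset.mem_univ _, ?_⟩, by group⟩
        calc g * c * y * (g * c)⁻¹ = g * (c * y) * c⁻¹ * g⁻¹ := by group
          _ = g * y * g⁻¹ := by rw [hc']; group
    have h1 : cls.card ≤ n - 1 := hF ▸ Finset.card_le_card hcls
    have h2' : Cf.card ≤ n := by
      have := Finset.card_le_card hCle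
      rw [Finset.card_insert_of_notMem h1F, hF] at this
      omega
    rw [Finset.card_univ, ← Nat.card_eq_fintype_card, hG] at hcardeq
    have h3 : cls.card = n - 1 := by
      by_contra h
      have : cls.card * Cf.card < n * (n - 1) :=
        lt_of_le_of_lt (Nat.mul_le_mul_left _ h2')
          (by rw [mul_comm n]; exact Nat.mul_lt_mul_of_pos_right (by omega) (by omega))
      omega
    have h4 : Cf.card = n := by
      rw [h3, mul_comm n] at hcardeq
      exact (Nat.eq_of_mul_eq_mul_left (by omega) hcardeq).symm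
    have hCeq : Cf = insert 1 F := Finset.eq_of_subset_of_card_le hCle (by
      rw [Finset.card_insert_of_notMem h1F, hF, h4]; omega)
    have hclseq : cls = F := Finset.eq_of_subset_of_card_le hcls (by omega)
    refine ⟨fun g => ?_, fun z hz => ?_⟩
    · have : g ∈ Cf ↔ g ∈ insert 1 F := by rw [hCeq]
      simpa [Cf] using this
    · rw [← hclseq] at hz
      obtain ⟨g, -, hg⟩ := Finset.mem_image.mp hz
      exact ⟨g, hg⟩
  let N : Subgroup G := Subgroup.centralizer ({x} : Set G)
  have memN : ∀ g, g ∈ N ↔ g = 1 ∨ g ∈ F := fun g => by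
    rw [← (hkey x hx).1 g]
    exact Subgroup.mem_centralizer_singleton_iff
  have hNn : N.Normal := ⟨fun y hy g => by
    rcases (memN y).mp hy with rfl | hyF
    · simp
    · exact (memN _).mpr (Or.inr (hconjF y hyF g))⟩
  have hcomm : ∀ u ∈ N, ∀ v ∈ N, u * v = v * u := by
    intro u hu v hv
    rcases (memN v).mp hv with rfl | hvF
    · simp
    · exact ((hkey v hvF).1 u).mpr ((memN u).mp hu)
  have hcardN : Nat.card N = n := by
    rw [Nat.card_eq_fintype_card, Fintype.card_subtype]
    have : (Finset.univ.filter fun g => g ∈ N) = insert 1 F := by ext g; simp [memN]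
    rw [this, Finset.card_insert_of_notMem h1F, hF]
    omega
  have hsemiN : ∀ g ∈ N, ∀ a : Ω, g • a = a → g = 1 := fun g hg a ha =>
    ((memN g).mp hg).resolve_right fun h => (memF g).mp h a ha
  have hreg : ∀ a b : Ω, ∃! g : G, g ∈ N ∧ g • a = b := by
    intro a b
    have hb : Function.Bijective (fun g : N => (g : G) • a) := by
      refine (Fintype.bijective_iff_injective_and_card _).mpr ⟨?_, ?_⟩
      · intro g h hgh
        simp only at hgh
        exact Subtype.ext (inv_mul_eq_one.mp (hsemiN ((h : G)⁻¹ * g) (N.mul_mem (N.inv_mem h.2) g.2) a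
          (by rw [mul_smul, hgh, inv_smul_smul]))).symm
      · rw [← Nat.card_eq_fintype_card, hcardN]
    obtain ⟨g, hg⟩ := hb.2 b
    exact ⟨g, ⟨g.2, hg⟩, fun k hk => congrArg Subtype.val (hb.1 (a₁ := ⟨k, hk.1⟩) (hk.2.trans hg.symm))⟩
  refine ⟨N, hNn, fun g => by rw [memN, memF], hcomm, hcardN, hG, hreg, ?_⟩
  set p := n.minFac
  have hp : p.Prime := Nat.minFac_prime (by omega)
  haveI : Fact p.Prime := ⟨hp⟩
  obtain ⟨⟨y, hyN⟩, hy⟩ := exists_prime_orderOf_dvd_card' (G := N) p (hcardN ▸ n.minFac_dvd)
  rw [← Subgroup.orderOf_coe] at hy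
  have hyF : y ∈ F := ((memN y).mp hyN).resolve_left fun h => by
    simp only at hy
    rw [h, orderOf_one] at hy; exact hp.one_lt.ne hy
  have hexp : ∀ z ∈ N, z ^ p = 1 := by
    intro z hz
    rcases (memN z).mp hz with rfl | hzF
    · simp
    · obtain ⟨g, rfl⟩ := (hkey y hyF).2 z hzF
      rw [conj_pow, ← hy, pow_orderOf_eq_one]
      group
  have hPG : IsPGroup p N := fun z => ⟨1, Subtype.ext (by simpa using hexp z z.2)⟩
  obtain ⟨j, hj⟩ := IsPGroup.iff_card.mp hPG
  refine ⟨p, j, hp, ?_, hcardN ▸ hj, hexp⟩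
  rcases Nat.eq_zero_or_pos j with h0 | h0
  · rw [h0, pow_zero, hcardN] at hj; omega
  · exact h0

theorem exists_nearField {α : Type*} [Fintype α] [DecidableEq α] (H : Subgroup (Equiv.Perm α))
    (h2t : MulAction.IsMultiplyPretransitive H α 2)
    (hsharp : ∀ x : Fin 2 ↪ α, MulAction.stabilizer H x = ⊥) (h2 : 2 ≤ Fintype.card α) :
    ∃ _ : Cfsg.NearField α, ∀ σ : Equiv.Perm α, σ ∈ H ↔
      ∃ a b : α, a ≠ 0 ∧ ∀ x : α, σ x = x * a + b := by
  classical
  have hfix : ∀ (g : H) (a b : α), a ≠ b → g • a = a → g • b = b → g = 1 :=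
    fun g a b hab ha hb => sharp_fix_two rfl hsharp hab ha hb
  obtain ⟨N, hNn, -, hcomm, -, -, hreg, -⟩ := sharplyTwo_kernel h2t hfix h2
  obtain ⟨o, i, hoi⟩ := Fintype.exists_pair_of_one_lt_card (α := α) (by omega)
  have hbij : Function.Bijective fun g : N => (g : H) • o := by
    refine ⟨fun g k hgk => Subtype.ext ?_, fun b => ?_⟩
    · obtain ⟨u, -, hu⟩ := hreg o ((g : H) • o)
      exact (hu g ⟨g.2, rfl⟩).trans (hu k ⟨k.2, hgk.symm⟩).symm
    · obtain ⟨u, hu, -⟩ := hreg o b
      exact ⟨⟨u, hu.1⟩, hu.2⟩
  let eo : N ≃ α := Equiv.ofBijective _ hbij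
  let T : α → H := fun a => (eo.symm a : N)
  have hTo : ∀ a, T a • o = a := fun a => eo.apply_symm_apply a
  have hTN : ∀ a, T a ∈ N := fun a => (eo.symm a).2
  have hTuniq : ∀ g, g ∈ N → T (g • o) = g := fun g hg =>
    congrArg Subtype.val (eo.symm_apply_apply ⟨g, hg⟩)
  have hstab : ∀ a, a ≠ o → ∃ h : H, h • o = o ∧ h • i = a := fun a ha =>
    MulAction.is_two_pretransitive_iff.mp h2t hoi (Ne.symm ha)
  let L : α → H := fun a => if ha : a = o then 1 else (hstab a ha).choose
  have hLo : ∀ a, L a • o = o := by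
    intro a
    simp only [L]
    split_ifs with ha
    · exact one_smul _ _
    · exact (hstab a ha).choose_spec.1
  have hLi : ∀ a, a ≠ o → L a • i = a := by
    intro a ha
    simp only [L, dif_neg ha]
    exact (hstab a ha).choose_spec.2
  have hLuniq : ∀ h : H, h • o = o → L (h • i) = h := by
    intro h ho
    have hne : h • i ≠ o := fun he => hoi ((MulAction.injective h) (ho.trans he.symm))
    exact inv_mul_eq_one.mp (hfix ((L (h • i))⁻¹ * h) o i hoi
      (by rw [mul_smul, ho, inv_smul_eq_iff, hLo])
      (by rw [mul_smul, inv_smul_eq_iff, hLi _ hne]))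
  letI ag : AddGroup α := (eo.symm.trans Additive.ofMul).addGroup
  have hadd : ∀ a b : α, a + b = T b • a := by
    intro a b
    change ((eo.symm a * eo.symm b : N) : H) • o = T b • a
    rw [Subgroup.coe_mul, hcomm _ (eo.symm a).2 _ (eo.symm b).2, mul_smul]
    exact congrArg (fun z => T b • z) (hTo a)
  have hzero : (0 : α) = o := by
    change ((1 : N) : H) • o = o
    simp
  let mulf : α → α → α := fun x a => if a = o then o else L a • x
  have hLm : ∀ a b, a ≠ o → b ≠ o → L (L b • a) = L b * L a := by
    intro a b ha hb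
    have h1 : (L b * L a) • o = o := by rw [mul_smul, hLo, hLo]
    have h3 := hLuniq _ h1
    rwa [mul_smul, hLi a ha] at h3
  have hne : ∀ a b, a ≠ o → L b • a ≠ o := fun a b ha h =>
    ha ((MulAction.injective (L b)) (h.trans (hLo b).symm))
  have hLone : L i = 1 := by
    have := hLuniq 1 (one_smul _ _)
    rwa [one_smul] at this
  let mon : Monoid α :=
    { mul := mulf
      one := i
      mul_assoc := fun x a b => by
        change mulf (mulf x a) b = mulf x (mulf a b)
        simp only [mulf]
        by_cases hb : b = o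
        · simp [hb]
        by_cases ha : a = o
        · simp [ha, hb, hLo]
        simp [ha, hb, hne a b ha, hLm a b ha hb, mul_smul]
      one_mul := fun a => by
        change mulf i a = a
        simp only [mulf]
        split_ifs with h
        · exact h.symm
        · exact hLi a h
      mul_one := fun a => by
        change mulf a i = a
        simp only [mulf]
        rw [if_neg hoi.symm, hLone, one_smul] }
  let NF : Cfsg.NearField α :=
    { ag, mon with
      right_distrib := fun a b c => by
        change mulf (a + b) c = mulf a c + mulf b c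
        simp only [mulf]
        split_ifs with hc
        · rw [← hzero, add_zero]
        · rw [hadd, hadd, ← mul_smul]
          have hmem : L c * T b * (L c)⁻¹ ∈ N := hNn.conj_mem _ (hTN b) _
          have h1 : (L c * T b * (L c)⁻¹) • o = L c • b := by
            rw [mul_smul, mul_smul, inv_smul_eq_iff.mpr (hLo c).symm, hTo]
          have h3 : T (L c • b) = L c * T b * (L c)⁻¹ := by rw [← h1]; exact hTuniq _ hmem
          rw [h3, ← mul_smul, inv_mul_cancel_right]
      mul_zero := fun a => by
        change mulf a (0 : α) = (0 : α)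
        simp [mulf, hzero]
      zero_ne_one := by
        change (0 : α) ≠ i
        rw [hzero]; exact hoi
      exists_inv := fun a ha => by
        have ha' : a ≠ o := fun h => ha (h.trans hzero.symm)
        set b := (L a)⁻¹ • i with hb
        have hinvo : (L a)⁻¹ • o = o := inv_smul_eq_iff.mpr (hLo a).symm
        have hb0 : b ≠ o := fun h => hoi ((MulAction.injective (L a)⁻¹) (hinvo.trans h.symm))
        have hLb : L b = (L a)⁻¹ := hLuniq _ hinvo
        refine ⟨b, ?_, ?_⟩
        · change mulf a b = i
          simp only [mulf, if_neg hb0, hLb]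
          exact inv_smul_eq_iff.mpr (hLi a ha').symm
        · change mulf b a = i
          simp only [mulf, if_neg ha']
          exact smul_inv_smul _ _ }
  refine ⟨NF, fun σ => ⟨fun hσ => ?_, ?_⟩⟩
  · set g : H := ⟨σ, hσ⟩
    set h := (T (g • o))⁻¹ * g with hh
    have ho : h • o = o := by rw [hh, mul_smul, inv_smul_eq_iff, hTo]
    have hne' : h • i ≠ o := fun he => hoi ((MulAction.injective h) (ho.trans he.symm))
    refine ⟨h • i, g • o, fun he => hne' (he.trans hzero), fun x => ?_⟩
    change g • x = mulf x (h • i) + g • o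
    simp only [mulf, if_neg hne']
    rw [hadd, hLuniq h ho, hh, ← mul_smul, mul_inv_cancel_left]
  · rintro ⟨a, b, ha, hab⟩
    have ha' : a ≠ o := fun h => ha (h.trans hzero.symm)
    have heq : σ = ((T b * L a : H) : Equiv.Perm α) := Equiv.ext fun x => by
      rw [hab x]
      change mulf x a + b = (T b * L a) • x
      simp only [mulf, if_neg ha']
      rw [hadd, mul_smul]
    rw [heq]
    exact SetLike.coe_mem _

end H58
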