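import Cfsg.Agent.H58.BaseColour

/-!
Rigid closed colourings of `(ZMod 2)^n`.
-/

set_option autoImplicit false
set_option linter.unusedSimpArgs false
set_option linter.style.haveILetI false

namespace H58.BaseColour

open H27.Base2

variable {C : ℕ}

/-- The coloured set for `n = 4`. -/
def four : Finset (Fin 4 → ZMod 2) :=
  {bv 3, bv 3 + bv 0, bv 3 + bv 1, bv 0 + bv 2}

/-- The uncoloured set for `n = 4`. -/
def fourZ : Finset (Fin 4 → ZMod 2) := {bv 0, bv 1, bv 2}

theorem four_rigid : ∀ x ∈ fourZ, ∀ y ∈ fourZ, ∀ z ∈ fourZ, ∀ w ∈ four,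
    x ≠ y → x ≠ z → y ≠ z → x + z ∈ four → w + x ∈ four → w + y ∈ four →
    x = bv 0 ∧ y = bv 1 ∧ z = bv 2 ∧ w = bv 3 := by decide +kernel

theorem exists_colour_four (hC : 2 ≤ C) :
    ∃ col : (Fin 4 → ZMod 2) → Option (Fin C),
      RigidOn Set.univ col ∧ ClosedCol col ∧ (col 0).isSome := by
  refine ⟨mkCol fourZ four ⟨0, by omega⟩ ⟨1, by omega⟩, ?_,
    closedCol_mkCol (by decide +kernel), isSome_mkCol (by decide +kernel)⟩
  intro π _ hπ
  have hne : (⟨0, by omega⟩ : Fin C) ≠ ⟨1, by omega⟩ := by simp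
  have hZ : ∀ u ∈ fourZ, π u ∈ fourZ := fun u hu => mem_Z_of_preserved hπ hu
  have hT : ∀ u ∈ four, π u ∈ four := fun u hu =>
    mem_T_of_preserved hne hπ hu ((by decide +kernel : ∀ u ∈ four, u ∉ fourZ) u hu)
  have h := four_rigid _ (hZ (bv 0) (by decide +kernel)) _ (hZ (bv 1) (by decide +kernel))
    _ (hZ (bv 2) (by decide +kernel)) _ (hT (bv 3) (by decide +kernel))
    (π.injective.ne (by decide +kernel)) (π.injective.ne (by decide +kernel))
    (π.injective.ne (by decide +kernel))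
    (by rw [← map_add]; exact hT _ (by decide +kernel))
    (by rw [← map_add]; exact hT _ (by decide +kernel))
    (by rw [← map_add]; exact hT _ (by decide +kernel))
  refine eq_id_of_basis π fun i => ?_
  fin_cases i
  exacts [h.1, h.2.1, h.2.2.1, h.2.2.2]

/-- (c), large and tiny dimensions. -/
theorem exists_colour_two_large {n : ℕ} (hC : 2 ≤ C) (hn : n ≤ 1 ∨ 4 ≤ n) :
    ∃ col : (Fin n → ZMod 2) → Option (Fin C),
      RigidOn Set.univ col ∧ ClosedCol col ∧ (col 0).isSome := by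
  rcases hn with hn | hn
  · exact exists_colour_one hC hn
  rcases eq_or_lt_of_le hn with rfl | h5
  · exact exists_colour_four hC
  refine exists_colour_big hn ?_ hC
  have key : ∀ m, 5 ≤ m → 4 * m < 2 ^ m := by
    intro m hm
    induction m, hm using Nat.le_induction with
    | base => norm_num
    | succ k hk ih => rw [pow_succ]; omega
  exact key n h5

/-- (b): three colours. -/
theorem exists_colour_two_three {n : ℕ} (hC : 3 ≤ C) :
    ∃ col : (Fin n → ZMod 2) → Option (Fin C),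
      RigidOn Set.univ col ∧ ClosedCol col ∧ (col 0).isSome := by
  by_cases hn : n ≤ 1 ∨ 4 ≤ n
  · exact exists_colour_two_large (by omega) hn
  obtain ⟨c₁, hc₁⟩ : ∃ c : Fin C, c = ⟨1, by omega⟩ := ⟨_, rfl⟩
  obtain ⟨c₂, hc₂⟩ : ∃ c : Fin C, c = ⟨2, by omega⟩ := ⟨_, rfl⟩
  obtain ⟨c₀, hc₀⟩ : ∃ c : Fin C, c = ⟨0, by omega⟩ := ⟨_, rfl⟩
  have h12 : c₁ ≠ c₂ := by simp [hc₁, hc₂]
  have h10 : c₁ ≠ c₀ := by simp [hc₁, hc₀]
  have h20 : c₂ ≠ c₀ := by simp [hc₂, hc₀]
  rcases (show n = 2 ∨ n = 3 by omega) with rfl | rfl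
  · obtain ⟨col, hcol⟩ : ∃ col : (Fin 2 → ZMod 2) → Option (Fin C), col = fun u =>
        if u = bv 0 then some c₁ else if u = bv 1 then some c₂ else some c₀ := ⟨_, rfl⟩
    have hsome : ∀ u, (col u).isSome := fun u => by
      rw [hcol]; dsimp only; split_ifs <;> rfl
    refine ⟨col, fun π _ hπ => ?_, fun z hz => absurd hz (fun e => ?_), hsome 0⟩
    · refine eq_id_of_basis π fun i => ?_
      have h := hπ (bv i)
      rw [hcol] at h
      dsimp only at h
      have e01 : (bv 1 : Fin 2 → ZMod 2) ≠ bv 0 := by decide +kernel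
      fin_cases i <;> simp only [Fin.zero_eta, Fin.mk_one, if_true, if_neg e01] at h ⊢ <;>
        split_ifs at h <;> first | assumption | simp_all [Ne.symm h12, Ne.symm h10, Ne.symm h20]
    · have := hsome z
      rw [e] at this
      exact absurd this (by simp)
  · obtain ⟨col, hcol⟩ : ∃ col : (Fin 3 → ZMod 2) → Option (Fin C), col = fun u =>
        if u = bv 0 then none else if u = bv 1 then some c₁ else if u = bv 2 then some c₂
        else some c₀ := ⟨_, rfl⟩
    refine ⟨col, fun π _ hπ => ?_, closedCol_of_card {bv 0} (fun u hu => ?_) (by decide +kernel),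
      ?_⟩
    · refine eq_id_of_basis π fun i => ?_
      have h := hπ (bv i)
      rw [hcol] at h
      dsimp only at h
      have e10 : (bv 1 : Fin 3 → ZMod 2) ≠ bv 0 := by decide +kernel
      have e20 : (bv 2 : Fin 3 → ZMod 2) ≠ bv 0 := by decide +kernel
      have e21 : (bv 2 : Fin 3 → ZMod 2) ≠ bv 1 := by decide +kernel
      fin_cases i <;>
        simp only [Fin.zero_eta, Fin.mk_one, Fin.reduceFinMk, if_true, if_neg e10, if_neg e20,
          if_neg e21] at h ⊢ <;>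
        split_ifs at h <;> first | assumption | simp_all [Ne.symm h12, Ne.symm h10, Ne.symm h20]
    · rw [Finset.mem_singleton]
      rw [hcol] at hu
      dsimp only at hu
      split_ifs at hu with h
      exact h
    · have e0 : (0 : Fin 3 → ZMod 2) ≠ bv 0 := by decide +kernel
      rw [hcol]; dsimp only; rw [if_neg e0]; split_ifs <;> rfl

/-! ### Two colours, dimensions two and three -/

/-- The linear map given by the images of a basis. -/
def lin {n : ℕ} (a : Fin n → Fin n → ZMod 2) (u : Fin n → ZMod 2) : Fin n → ZMod 2 :=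
  fun j => ∑ i, u i * a i j

theorem eq_lin {n : ℕ} (π : (Fin n → ZMod 2) ≃+ (Fin n → ZMod 2)) (u : Fin n → ZMod 2) :
    π u = lin (fun i => π (bv i)) u := by
  have h1 : u = ∑ i, u i • bv i := by
    funext j; simp [bv, Finset.sum_apply, Pi.single_apply]
  funext j
  conv_lhs => rw [h1]
  have h2 : ∀ i, π (u i • bv i) = u i • π (bv i) := fun i =>
    ((π.toAddMonoidHom.toZModLinearMap 2).map_smul (u i) (bv i) :)
  rw [map_sum, Finset.sum_apply]
  simp only [h2, lin, Pi.smul_apply, smul_eq_mul]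

set_option synthInstance.maxSize 4000 in
set_option synthInstance.maxHeartbeats 200000 in
theorem two_pair : ∀ a₀ a₁ b₀ b₁ : Fin 2 → ZMod 2,
    a₀ ≠ a₁ → a₀ ≠ 0 → a₁ ≠ 0 → b₀ ≠ b₁ → b₀ ≠ 0 → b₁ ≠ 0 →
    ∀ m : Fin 2 → ZMod 2, m ≠ 0 → lin (n := 2) ![a₀, a₁] m ≠ m → lin (n := 2) ![b₀, b₁] m = m →
      (∀ u : Fin 2 → ZMod 2, lin (n := 2) ![b₀, b₁] u = u) ∨
      (∀ u : Fin 2 → ZMod 2, lin (n := 2) ![a₀, a₁] (lin (n := 2) ![a₀, a₁] (lin (n := 2) ![a₀, a₁] u)) = u) ∨
      (∀ u : Fin 2 → ZMod 2, lin (n := 2) ![b₀, b₁] (lin (n := 2) ![a₀, a₁] (lin (n := 2) ![b₀, b₁] (lin (n := 2) ![a₀, a₁]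
        (lin (n := 2) ![b₀, b₁] (lin (n := 2) ![a₀, a₁] u))))) = u) ∧ ∃ u : Fin 2 → ZMod 2, lin (n := 2) ![b₀, b₁] (lin (n := 2) ![a₀, a₁] u) ≠ u := by
  decide +kernel

theorem eq_lin2 (π : (Fin 2 → ZMod 2) ≃+ (Fin 2 → ZMod 2)) (u : Fin 2 → ZMod 2) :
    π u = lin ![π (bv 0), π (bv 1)] u := by
  rw [eq_lin π u]
  congr 1
  funext i
  fin_cases i <;> rfl

theorem exists_colour_two_dim2 (hC : 2 ≤ C) (P : Set ((Fin 2 → ZMod 2) ≃+ (Fin 2 → ZMod 2)))
    (hP : ∀ π ∈ P, ∀ π' ∈ P, π.trans π' ∈ P)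
    (h3 : ∀ π ∈ P, (∀ u, π (π (π u)) = u) → ∀ u, π u = u) :
    ∃ col : (Fin 2 → ZMod 2) → Option (Fin C),
      RigidOn P col ∧ ClosedCol col ∧ (col 0).isSome := by
  obtain ⟨c₀, hc₀⟩ : ∃ c : Fin C, c = ⟨0, by omega⟩ := ⟨_, rfl⟩
  obtain ⟨c₁, hc₁⟩ : ∃ c : Fin C, c = ⟨1, by omega⟩ := ⟨_, rfl⟩
  have hc : c₀ ≠ c₁ := by simp [hc₀, hc₁]
  obtain ⟨π, hπP, m, hm⟩ | htriv :
      (∃ π ∈ P, ∃ m, π m ≠ m) ∨ ∀ π ∈ P, ∀ u, π u = u := by
    by_cases h : ∃ π ∈ P, ∃ m, π m ≠ m
    · exact Or.inl h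
    · push Not at h; exact Or.inr h
  · refine ⟨mkCol ∅ {m} c₀ c₁, fun π' hπ' hpres => ?_,
      closedCol_mkCol (by decide +kernel), isSome_mkCol (Finset.notMem_empty _)⟩
    have hfix : π' m = m := by
      simpa using mem_T_of_preserved hc hpres (Finset.mem_singleton_self m) (Finset.notMem_empty _)
    have hm0 : m ≠ 0 := fun e => hm (by rw [e, map_zero])
    have e01 : (bv 0 : Fin 2 → ZMod 2) ≠ bv 1 := by decide +kernel
    have e0 : (bv 0 : Fin 2 → ZMod 2) ≠ 0 := by decide +kernel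
    have e1 : (bv 1 : Fin 2 → ZMod 2) ≠ 0 := by decide +kernel
    have z : ∀ (f : (Fin 2 → ZMod 2) ≃+ (Fin 2 → ZMod 2)) {v}, v ≠ 0 → f v ≠ 0 :=
      fun f v hv h => hv (f.injective (h.trans f.map_zero.symm))
    have key := two_pair _ _ _ _ (π.injective.ne e01) (z π e0) (z π e1) (π'.injective.ne e01)
      (z π' e0) (z π' e1) m hm0
    simp only [← eq_lin2] at key
    rcases key hm hfix with h | h | ⟨h, u, hu⟩
    · exact h
    · exact absurd (h3 π hπP h m) hm
    · exact absurd (h3 _ (hP π hπP π' hπ') h u) hu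
  · exact ⟨fun _ => some c₀, fun π' hπ' _ => htriv π' hπ',
      fun z hz => by simp at hz, rfl⟩

/-- Seven lines: two spanning points and a point outside. -/
def ptsZ : Fin 7 → Fin 3 → ZMod 2 :=
  ![![1, 0, 0], ![1, 0, 0], ![0, 1, 0], ![1, 0, 0], ![0, 1, 0], ![0, 0, 1], ![1, 1, 0]]

/-- Second points. -/
def ptsT : Fin 7 → Fin 3 → ZMod 2 :=
  ![![0, 1, 0], ![0, 0, 1], ![0, 0, 1], ![0, 1, 1], ![1, 0, 1], ![1, 1, 0], ![1, 0, 1]]

/-- Points outside. -/
def ptsW : Fin 7 → Fin 3 → ZMod 2 :=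
  ![![0, 0, 1], ![0, 1, 0], ![1, 0, 0], ![0, 1, 0], ![1, 0, 0], ![1, 0, 0], ![1, 0, 0]]

/-- Candidate centres on the `k`-th line. -/
def centre (k : Fin 7) (i : Fin 3) : Fin 3 → ZMod 2 :=
  ![ptsZ k, ptsT k, ptsZ k + ptsT k] i

/-- The point lies on the `k`-th line. -/
def onLine (k : Fin 7) (v : Fin 3 → ZMod 2) : Bool :=
  decide (v = 0 ∨ v = ptsZ k ∨ v = ptsT k ∨ v = ptsZ k + ptsT k)

/-- The transvection with the `k`-th axis and `i`-th centre on it. -/
def trv (k : Fin 7) (i : Fin 3) (u : Fin 3 → ZMod 2) : Fin 3 → ZMod 2 :=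
  if onLine k u then u else u + centre k i

theorem three_gen : ∀ k (u : Fin 3 → ZMod 2), ∃ a b c : ZMod 2,
    u = a • ptsZ k + b • ptsT k + c • ptsW k := by decide +kernel

theorem three_img : ∀ k (h : Fin 3 → ZMod 2), h ≠ 0 → h ≠ ptsW k → ¬ onLine k (ptsW k + h) →
    ∃ i, ∀ a b c : ZMod 2, a • ptsZ k + b • ptsT k + c • (ptsW k + h) =
      trv k i (a • ptsZ k + b • ptsT k + c • ptsW k) := by decide +kernel

theorem two_incidences : ∀ k i, (Finset.univ.filter
    (fun k' => k' ≠ k ∧ onLine k' (centre k i) = true)).card = 2 := by decide +kernel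

theorem cross_order_three : ∀ k k' i i', onLine k' (centre k i) = false →
    onLine k (centre k' i') = false →
    (∀ u, trv k i (trv k' i' (trv k i (trv k' i' (trv k i (trv k' i' u))))) = u) ∧
      ∃ u, trv k i (trv k' i' u) ≠ u := by decide +kernel

theorem no_cover (c : Fin 7 → Fin 3) :
    ∃ k k', onLine k' (centre k (c k)) = false ∧ onLine k (centre k' (c k')) = false := by
  by_contra hcon
  push Not at hcon
  let S : Fin 7 → Finset (Fin 7 × Fin 7) := fun k =>
    (Finset.univ.filter (fun k' => k' ≠ k ∧ onLine k' (centre k (c k)) = true)).image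
      (fun k' => (k, k'))
  have hS : ∀ k, (S k).card ≤ 2 := fun k =>
    Finset.card_image_le.trans (two_incidences k (c k)).le
  have hsub : (Finset.univ : Finset (Fin 7)).offDiag ⊆
      Finset.univ.biUnion S ∪ (Finset.univ.biUnion S).image Prod.swap := by
    rintro ⟨k, k'⟩ hk
    simp only [Finset.mem_offDiag, Finset.mem_univ, true_and] at hk
    simp only [S, Finset.mem_union, Finset.mem_biUnion, Finset.mem_image, Finset.mem_univ,
      true_and, Finset.mem_filter]
    by_cases h : onLine k' (centre k (c k)) = true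
    · exact Or.inl ⟨k, k', ⟨fun e => hk e.symm, h⟩, rfl⟩
    · have := hcon k k' (by simpa using h)
      exact Or.inr ⟨(k', k), ⟨k', k, ⟨hk, by simpa using this⟩, rfl⟩, rfl⟩
  have h1 := (Finset.card_le_card hsub).trans (Finset.card_union_le _ _)
  have h2 := (Finset.card_image_le (s := Finset.univ.biUnion S) (f := Prod.swap))
  have h3 := (Finset.card_biUnion_le (s := (Finset.univ : Finset (Fin 7))) (t := S)).trans
    (Finset.sum_le_sum fun k _ => hS k)
  rw [Finset.offDiag_card, Finset.card_univ, Fintype.card_fin] at h1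
  simp at h3
  omega

theorem exists_colour_two_dim3 (hC : 2 ≤ C) (P : Set ((Fin 3 → ZMod 2) ≃+ (Fin 3 → ZMod 2)))
    (hP : ∀ π ∈ P, ∀ π' ∈ P, π.trans π' ∈ P)
    (h3 : ∀ π ∈ P, (∀ u, π (π (π u)) = u) → ∀ u, π u = u) :
    ∃ col : (Fin 3 → ZMod 2) → Option (Fin C),
      RigidOn P col ∧ ClosedCol col ∧ (col 0).isSome := by
  obtain ⟨c₀, hc₀⟩ : ∃ c : Fin C, c = ⟨0, by omega⟩ := ⟨_, rfl⟩
  obtain ⟨c₁, hc₁⟩ : ∃ c : Fin C, c = ⟨1, by omega⟩ := ⟨_, rfl⟩
  have hc : c₀ ≠ c₁ := by simp [hc₀, hc₁]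
  by_contra hcon
  have hex : ∀ k, ∃ i, ∃ π ∈ P, ∀ u, π u = trv k i u := by
    intro k
    by_contra hk
    refine hcon ⟨mkCol {ptsZ k} {ptsT k} c₀ c₁, fun π hπ hpres => ?_,
      closedCol_mkCol (by simp [card_space]), isSome_mkCol ?_⟩
    · by_contra hmove
      push Not at hmove
      obtain ⟨u₀, hu₀⟩ := hmove
      have hz : π (ptsZ k) = ptsZ k := by
        simpa using mem_Z_of_preserved hpres (Finset.mem_singleton_self (ptsZ k))
      have hne : ∀ k, ptsT k ≠ ptsZ k := by decide +kernel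
      have ht : π (ptsT k) = ptsT k := by
        simpa using mem_T_of_preserved hc hpres (Finset.mem_singleton_self (ptsT k))
          (by simpa using hne k)
      obtain ⟨h, hh⟩ : ∃ h, π (ptsW k) = ptsW k + h := ⟨π (ptsW k) - ptsW k, by abel⟩
      have hlin : ∀ a b c : ZMod 2, π (a • ptsZ k + b • ptsT k + c • ptsW k) =
          a • ptsZ k + b • ptsT k + c • (ptsW k + h) := by
        intro a b c
        have := fun (x : ZMod 2) v => ((π.toAddMonoidHom.toZModLinearMap 2).map_smul x v :)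
        simp only [AddMonoidHom.coe_toZModLinearMap, AddEquiv.coe_toAddMonoidHom] at this
        rw [map_add, map_add, this, this, this, hz, ht, hh]
      have h0 : h ≠ 0 := by
        intro e
        obtain ⟨a, b, c, rfl⟩ := three_gen k u₀
        exact hu₀ (by rw [hlin, e, add_zero])
      have hw0 : ∀ k, ptsW k + ptsW k = 0 ∧ ptsW k ≠ 0 := by decide +kernel
      have hW : h ≠ ptsW k := fun e => (hw0 k).2 (π.injective (by
        rw [hh, e, (hw0 k).1, map_zero]))
      have hoff : ¬ onLine k (ptsW k + h) := by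
        intro hl
        simp only [onLine, decide_eq_true_eq] at hl
        have hd : ∀ k, ptsW k ≠ 0 ∧ ptsW k ≠ ptsZ k ∧ ptsW k ≠ ptsT k ∧
            ptsW k ≠ ptsZ k + ptsT k := by decide +kernel
        rw [← hh] at hl
        rcases hl with e | e | e | e
        · exact (hd k).1 (π.injective (e.trans π.map_zero.symm))
        · exact (hd k).2.1 (π.injective (e.trans hz.symm))
        · exact (hd k).2.2.1 (π.injective (e.trans ht.symm))
        · exact (hd k).2.2.2 (π.injective (by rw [e, map_add, hz, ht]))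
      obtain ⟨i, hi⟩ := three_img k h h0 hW hoff
      refine hk ⟨i, π, hπ, fun u => ?_⟩
      obtain ⟨a, b, c, rfl⟩ := three_gen k u
      rw [hlin, hi]
    · have hne : ∀ k, (0 : Fin 3 → ZMod 2) ≠ ptsZ k := by decide +kernel
      simpa using hne k
  choose i π hπP hπ using hex
  obtain ⟨k, k', h1, h2⟩ := no_cover i
  obtain ⟨h3', u, hu⟩ := cross_order_three k k' _ _ h1 h2
  have e : ∀ v, ((π k').trans (π k)) v = trv k (i k) (trv k' (i k') v) := fun v => by
    rw [AddEquiv.trans_apply, hπ, hπ]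
  have := h3 _ (hP _ (hπP k') _ (hπP k)) (fun v => by rw [e, e, e, h3']) u
  rw [e] at this
  exact hu this

/-- (c), dimensions two and three: no element of order three. -/
theorem exists_colour_two_small {n : ℕ} (hn : n = 2 ∨ n = 3) (hC : 2 ≤ C)
    (P : Set ((Fin n → ZMod 2) ≃+ (Fin n → ZMod 2)))
    (hP : ∀ π ∈ P, ∀ π' ∈ P, π.trans π' ∈ P)
    (h3 : ∀ π ∈ P, (∀ u, π (π (π u)) = u) → ∀ u, π u = u) :
    ∃ col : (Fin n → ZMod 2) → Option (Fin C),
      RigidOn P col ∧ ClosedCol col ∧ (col 0).isSome := by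
  rcases hn with rfl | rfl
  · exact exists_colour_two_dim2 hC P hP h3
  · exact exists_colour_two_dim3 hC P hP h3

end H58.BaseColour
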