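import Cfsg.Prelude.Def_DegreeGraph
import Cfsg.Agent.H19.PrimeDegrees
import Cfsg.Agent.H14.DegreeIndex

/-!
A finite group whose character degrees involve at most two primes is solvable.
-/

set_option autoImplicit false
set_option linter.unusedSectionVars false

open Cfsg
open scoped ComplexConjugate

namespace H58.DegPrimes

universe u

theorem degree_ne_one_of_ne_oneIrr {S : Type u} [Group S] [Fintype S] [IsSimpleGroup S]
    (hna : ¬ IsMulCommutative S) {χ : IrrCharacter S} (hχ : χ ≠ H12.oneIrr S) :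
    H12.degree (χ : S → ℂ) ≠ 1 := by
  intro h1
  obtain ⟨l, hl⟩ := H12.exists_monoidHom_of_apply_one_eq_one (H12.isCharacter_irr χ)
    (by rw [H12.irr_apply_one, h1, Nat.cast_one])
  refine hχ (Subtype.ext (funext fun g => ?_))
  rw [H12.oneIrr_apply, ← hl]
  have hk : g ∈ l.ker := (Abelianization.commutator_subset_ker l)
    ((H19.PrimeDeg.commutator_top hna).symm ▸ Subgroup.mem_top g)
  show (l g : ℂ) = 1
  rw [MonoidHom.mem_ker.mp hk]
  rfl

/-- Column orthogonality: some nontrivial character of degree prime to `p` does not vanish at `x`. -/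
theorem exists_coprime_nonvanishing {S : Type u} [Group S] [Fintype S] {p : ℕ} (hp : p.Prime)
    {x : S} (hx : x ≠ 1) :
    ∃ χ : IrrCharacter S, χ ≠ H12.oneIrr S ∧ (χ : S → ℂ) x ≠ 0 ∧ ¬ p ∣ H12.degree (χ : S → ℂ) := by
  classical
  by_contra hcon
  push Not at hcon
  have hcol := H12.column_orthogonality x (1 : S)
  rw [if_neg (fun h => hx (isConj_one_left.mp h)), ← Finset.add_sum_erase _ _ (Finset.mem_univ (H12.oneIrr S)),
    H12.oneIrr_apply, H12.oneIrr_apply, map_one, one_mul] at hcol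
  set T : ℂ := ∑ χ ∈ Finset.univ.erase (H12.oneIrr S),
    (χ : S → ℂ) x * ((H12.degree (χ : S → ℂ) / p : ℕ) : ℂ) with hT
  have hsum : ∑ χ ∈ Finset.univ.erase (H12.oneIrr S), (χ : S → ℂ) x * conj ((χ : S → ℂ) 1) =
      (p : ℂ) * T := by
    rw [hT, Finset.mul_sum]
    refine Finset.sum_congr rfl fun χ hχ => ?_
    rw [H12.irr_apply_one, Complex.conj_natCast]
    by_cases h0 : (χ : S → ℂ) x = 0
    · simp [h0]
    · conv_lhs => rw [← Nat.div_mul_cancel (hcon χ (Finset.ne_of_mem_erase hχ) h0)]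
      push_cast
      ring
  rw [hsum] at hcol
  have hint : IsIntegral ℤ T := IsIntegral.sum _ fun χ _ =>
    (H12.IsCharacter.isIntegral (H12.isCharacter_irr χ) x).mul (isIntegral_natCast _)
  have hTq : ((((-1 : ℚ) / p : ℚ)) : ℂ) = T := by
    push_cast
    rw [div_eq_iff (Nat.cast_ne_zero.mpr hp.ne_zero)]
    linear_combination -hcol
  obtain ⟨z, hz⟩ := H12.exists_int_of_isIntegral_rat (hTq ▸ hint)
  rw [eq_div_iff (Nat.cast_ne_zero.mpr hp.ne_zero)] at hz
  have hz' : z * (p : ℤ) = -1 := by exact_mod_cast hz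
  have hdvd : (p : ℤ) ∣ 1 := ⟨-z, by rw [mul_neg, mul_comm, hz']; norm_num⟩
  exact hp.ne_one (Nat.dvd_one.mp (by exact_mod_cast hdvd))

/-- In a non-abelian simple group the degrees involve more than two primes. -/
theorem simple_not_two {S : Type u} [Group S] [Finite S] [IsSimpleGroup S]
    (hna : ¬ IsMulCommutative S) (p q : ℕ) : ∃ r ∈ degreePrimes S, r ≠ p ∧ r ≠ q := by
  haveI := Fintype.ofFinite S
  by_contra hcon
  push Not at hcon
  have hpow : ∀ χ : IrrCharacter S, χ ≠ H12.oneIrr S → ∀ r : ℕ, r.Prime →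
      r ∣ H12.degree (χ : S → ℂ) → r = p ∨ r = q := by
    intro χ hχ r hr hrd
    by_contra h
    push Not at h
    exact h.2 (hcon r ⟨hr, H12.degree (χ : S → ℂ), ⟨χ, rfl⟩, hrd⟩ h.1)
  obtain ⟨x₀, hx₀⟩ := exists_ne (1 : S)
  obtain ⟨χ₀, h1, -, -⟩ := exists_coprime_nonvanishing Nat.prime_two hx₀
  obtain ⟨r, hr, hrd⟩ := Nat.exists_prime_and_dvd (degree_ne_one_of_ne_oneIrr hna h1)
  obtain ⟨r', hrr⟩ : ∃ r', ∀ χ : IrrCharacter S, χ ≠ H12.oneIrr S → ∀ s : ℕ, s.Prime →
      s ∣ H12.degree (χ : S → ℂ) → s = r ∨ s = r' := by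
    rcases hpow χ₀ h1 r hr hrd with h | h
    · exact ⟨q, h ▸ hpow⟩
    · exact ⟨p, fun χ hχ s hs hsd => h ▸ (hpow χ hχ s hs hsd).symm⟩
  haveI := Fact.mk hr
  -- a prime different from `r` dividing some degree
  obtain ⟨χ₁, hχ₁, -, hd₁⟩ := exists_coprime_nonvanishing hr hx₀
  obtain ⟨s, hs, hsd⟩ := Nat.exists_prime_and_dvd (degree_ne_one_of_ne_oneIrr hna hχ₁)
  have hsr : s ≠ r := fun h => hd₁ (h ▸ hsd)
  haveI := Fact.mk hs
  have hs' : s = r' := (hrr χ₁ hχ₁ s hs hsd).resolve_left hsr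
  obtain ⟨Q⟩ : Nonempty (Sylow s S) := inferInstance
  have hsS : s ∣ Nat.card S := hsd.trans (H12.irr_degree_dvd_card χ₁)
  haveI : Nontrivial (Q : Subgroup S) :=
    Subgroup.nontrivial_iff_ne_bot _ |>.mpr (Sylow.ne_bot_of_dvd_card Q hsS)
  haveI := IsPGroup.center_nontrivial (Q.isPGroup' : IsPGroup s (Q : Subgroup S))
  obtain ⟨⟨z, hz⟩, hz1⟩ := exists_ne (1 : Subgroup.center (Q : Subgroup S))
  have hzne : (z : S) ≠ 1 := fun h => hz1 (Subtype.ext (Subtype.ext h))
  obtain ⟨χ, hχ, hne, hdeg⟩ := exists_coprime_nonvanishing hr hzne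
  refine hne (H19.PrimeDeg.burnside hna χ hχ hzne ?_)
  rw [Nat.coprime_iff_gcd_eq_one]
  by_contra hg
  obtain ⟨t, ht, htd⟩ := Nat.exists_prime_and_dvd hg
  have ht' : t = s := by
    rcases hrr χ hχ t ht (htd.trans (Nat.gcd_dvd_left _ _)) with h | h
    · exact absurd (h ▸ htd.trans (Nat.gcd_dvd_left _ _)) hdeg
    · rw [h, hs']
  subst ht'
  refine Q.not_dvd_index ((htd.trans (Nat.gcd_dvd_right _ _)).trans (Subgroup.index_dvd_of_le ?_))
  intro b hb
  exact Subgroup.mem_centralizer_singleton_iff.mpr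
    (congrArg Subtype.val (Subgroup.mem_center_iff.mp hz ⟨b, hb⟩))

theorem degreePrimes_quotient {G : Type u} [Group G] [Finite G] (N : Subgroup G) [N.Normal] :
    degreePrimes (G ⧸ N) ⊆ degreePrimes G := by
  rintro p ⟨hp, d, ⟨χ, hd⟩, hpd⟩
  refine ⟨hp, d, ⟨H12.inflate N χ, ?_⟩, hpd⟩
  rw [← hd]
  unfold charDegree
  rw [H12.inflate_apply]
  rfl

theorem degreePrimes_normal {G : Type u} [Group G] [Finite G] (N : Subgroup G) [N.Normal] :
    degreePrimes N ⊆ degreePrimes G := by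
  rintro p ⟨hp, d, ⟨θ, hd⟩, hpd⟩
  obtain ⟨χ, hχ⟩ := H14.exists_degree_dvd N θ
  exact ⟨hp, _, ⟨χ, rfl⟩, (hpd.trans (dvd_of_eq hd.symm)).trans hχ⟩

theorem isSolvable_of_two {G : Type u} [Group G] [Finite G] (p q : ℕ)
    (h : degreePrimes G ⊆ {p, q}) : Group.IsSolvable G := by
  suffices ∀ (n : ℕ) (H : Type u) [Group H] [Finite H], Nat.card H = n →
      degreePrimes H ⊆ {p, q} → Group.IsSolvable H from this _ G rfl h
  intro n
  induction n using Nat.strong_induction_on with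
  | _ n ih =>
  intro H _ _ hn hsub
  rcases subsingleton_or_nontrivial H with hH | hH
  · infer_instance
  by_cases hs : IsSimpleGroup H
  · by_cases hab : IsMulCommutative H
    · exact isSolvable_of_comm fun a b => hab.is_comm.comm a b
    · exfalso
      obtain ⟨r, hr, h1, h2⟩ := simple_not_two hab p q
      rcases hsub hr with h | h
      · exact h1 h
      · exact h2 h
  · obtain ⟨N, hNn, hN1, hN2⟩ : ∃ N : Subgroup H, N.Normal ∧ N ≠ ⊥ ∧ N ≠ ⊤ := by
      by_contra hcon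
      push Not at hcon
      exact hs ⟨fun N hN => or_iff_not_imp_left.mpr (fun hb => hcon N hN hb)⟩
    have h1 : Group.IsSolvable N := ih _ (hn ▸ lt_of_le_of_ne (Subgroup.card_le_card_group N)
      (fun e => hN2 (Subgroup.eq_top_of_card_eq N e))) N rfl ((degreePrimes_normal N).trans hsub)
    have h2 : Group.IsSolvable (H ⧸ N) := ih _ (hn ▸ by
      rw [← Subgroup.index_eq_card, ← Subgroup.index_mul_card N]
      exact lt_mul_of_one_lt_right (Nat.pos_of_ne_zero Subgroup.index_ne_zero_of_finite)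
        ((Subgroup.one_lt_card_iff_ne_bot N).mpr hN1)) (H ⧸ N) rfl ((degreePrimes_quotient N).trans hsub)
    exact solvable_of_ker_le_range N.subtype (QuotientGroup.mk' N) (by simp)

theorem exists_three {G : Type u} [Group G] [Finite G] (hG : ¬ Group.IsSolvable G) :
    ∃ p q r : ℕ, p ≠ q ∧ q ≠ r ∧ p ≠ r ∧ p ∈ degreePrimes G ∧ q ∈ degreePrimes G ∧
      r ∈ degreePrimes G := by
  by_contra hcon
  push Not at hcon
  rcases (degreePrimes G).eq_empty_or_nonempty with he | ⟨p, hp⟩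
  · exact hG (isSolvable_of_two 0 0 (by simp [he]))
  by_cases hq : ∃ q ∈ degreePrimes G, q ≠ p
  · obtain ⟨q, hq, hqp⟩ := hq
    refine hG (isSolvable_of_two p q fun r hr => ?_)
    by_contra h
    simp only [Set.mem_insert_iff, Set.mem_singleton_iff, not_or] at h
    exact hcon p q r hqp.symm (Ne.symm h.2) (Ne.symm h.1) hp hq hr
  · push Not at hq
    exact hG (isSolvable_of_two p p fun r hr => by simp [hq r hr])

end H58.DegPrimes
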