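import Mathlib

/-!
The multiplicative order of `q` modulo `n * (q - 1)`: it is `n` exactly when every prime divisor
of `n` divides `q - 1` and `4 ∣ n → 4 ∣ q - 1`.
-/

set_option autoImplicit false

namespace H58

/-- `1 + q + ... + q^(i-1)` over the integers. -/
def geomSumZ (q : ℤ) (i : ℕ) : ℤ := ∑ j ∈ Finset.range i, q ^ j

theorem geomSumZ_succ (q : ℤ) (i : ℕ) : geomSumZ q (i + 1) = q * geomSumZ q i + 1 := by
  rw [geomSumZ, Finset.sum_range_succ', geomSumZ, Finset.mul_sum]
  simp [pow_succ']

theorem geomSumZ_add (q : ℤ) (i j : ℕ) :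
    geomSumZ q (i + j) = geomSumZ q i + q ^ i * geomSumZ q j := by
  simp [geomSumZ, Finset.sum_range_add, Finset.mul_sum, pow_add]

theorem geomSumZ_mul (q : ℤ) (r m : ℕ) :
    geomSumZ q (r * m) = geomSumZ q m * geomSumZ (q ^ m) r := by
  induction r with
  | zero => simp [geomSumZ]
  | succ r ih => rw [Nat.succ_mul, geomSumZ_succ, add_comm (r * m), geomSumZ_add, ih]; ring

theorem dvd_geomSumZ_sub (q : ℤ) (i : ℕ) : q - 1 ∣ geomSumZ q i - i := by
  induction i with
  | zero => simp [geomSumZ]
  | succ i ih =>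
    rw [geomSumZ_succ]
    have : q * geomSumZ q i + 1 - ((i + 1 : ℕ) : ℤ) =
        (q - 1) * geomSumZ q i + (geomSumZ q i - i) := by push_cast; ring
    rw [this]
    exact dvd_add (dvd_mul_right _ _) ih

theorem sq_dvd_geomSumZ_sub (x : ℤ) (i : ℕ) :
    x * x ∣ geomSumZ (1 + x) i - (i + x * (i.choose 2 : ℕ)) := by
  induction i with
  | zero => simp [geomSumZ]
  | succ i ih =>
    obtain ⟨c, hc⟩ := dvd_geomSumZ_sub (1 + x) i
    obtain ⟨d, hd⟩ := ih
    rw [geomSumZ_succ]
    refine ⟨c + d, ?_⟩
    rw [Nat.choose_succ_succ' i 1, Nat.choose_one_right]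
    have hc' : geomSumZ (1 + x) i = i + x * c := by linear_combination hc
    push_cast
    linear_combination x * hc' + hd

/-- If `r ∣ q - 1` (and `4 ∣ q - 1` when `r = 2` and the exponent is at least `2`), the `r`-part of
`1 + ... + q^(i-1)` is that of `i`. -/
theorem pow_dvd_geomSumZ_iff {r : ℕ} (hr : r.Prime) {q : ℤ} (h1 : (r : ℤ) ∣ q - 1) :
    ∀ (k : ℕ), (r = 2 → 2 ≤ k → (4 : ℤ) ∣ q - 1) →
      ∀ i, (r : ℤ) ^ k ∣ geomSumZ q i ↔ r ^ k ∣ i := by
  intro k
  induction k with
  | zero => simp
  | succ k ih =>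
    intro h4 i
    have hbase : ((r : ℤ) ∣ geomSumZ q i ↔ r ∣ i) := by
      rw [← Int.natCast_dvd_natCast]
      have := h1.trans (dvd_geomSumZ_sub q i)
      exact ⟨fun h => (dvd_sub_right h).mp this, fun h => (dvd_sub_left h).mp this⟩
    by_cases hri : r ∣ i
    · obtain ⟨m, rfl⟩ := hri
      rcases Nat.eq_zero_or_pos k with hk | hk
      · subst hk
        simpa using hbase
      set x := q ^ m - 1 with hx
      have hxr : (r : ℤ) ∣ x := h1.trans (sub_one_dvd_pow_sub_one q m)
      obtain ⟨d, hd⟩ := sq_dvd_geomSumZ_sub x r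
      have hmul : (r : ℤ) * r ∣ geomSumZ (1 + x) r - r := by
        have e : geomSumZ (1 + x) r - r = x * x * d + x * (r.choose 2 : ℕ) := by linear_combination hd
        rw [e]
        refine dvd_add (dvd_mul_of_dvd_left (mul_dvd_mul hxr hxr) _) ?_
        rcases eq_or_ne r 2 with h2 | h2
        · subst h2
          have : (4 : ℤ) ∣ x := (h4 rfl (by omega)).trans (sub_one_dvd_pow_sub_one q m)
          simpa using this
        · have : r ∣ r.choose 2 := hr.dvd_choose_self (by norm_num)
            (lt_of_le_of_ne hr.two_le (Ne.symm h2))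
          exact mul_dvd_mul hxr (Int.natCast_dvd_natCast.mpr this)
      obtain ⟨t, ht⟩ := hmul
      have hT : geomSumZ (q ^ m) r = r * (1 + r * t) := by
        have : (1 : ℤ) + x = q ^ m := by rw [hx]; ring
        rw [this] at ht
        linear_combination ht
      rw [geomSumZ_mul, hT, pow_succ', pow_succ',
        show geomSumZ q m * (r * (1 + r * t)) = r * (geomSumZ q m * (1 + r * t)) by ring,
        mul_dvd_mul_iff_left (by exact_mod_cast hr.ne_zero),
        Nat.mul_dvd_mul_iff_left hr.pos, ← ih (fun a b => h4 a (by omega)) m]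
      have hcop : IsCoprime ((r : ℤ) ^ k) (1 + r * t) := by
        refine IsCoprime.pow_left ?_
        exact ⟨-t, 1, by ring⟩
      exact ⟨hcop.dvd_of_dvd_mul_right, fun h => h.mul_right _⟩
    · refine ⟨fun h => ?_, fun h => absurd (dvd_trans (dvd_pow_self r k.succ_ne_zero) h) hri⟩
      exact absurd (hbase.mp (dvd_trans (dvd_pow_self (r : ℤ) k.succ_ne_zero) h)) hri

theorem order_eq_iff_conditions {q n : ℕ} (hq : 2 ≤ q) (hn : 1 < n) :
    ((∀ r : ℕ, r.Prime → r ∣ n → r ∣ q - 1) ∧ (4 ∣ n → 4 ∣ q - 1)) ↔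
      (q ^ n ≡ 1 [MOD n * (q - 1)] ∧
        ∀ i : ℕ, 0 < i → i < n → ¬ q ^ i ≡ 1 [MOD n * (q - 1)]) := by
  have hq1 : ((q - 1 : ℕ) : ℤ) = (q : ℤ) - 1 := by omega
  have hiff : ∀ i, q ^ i ≡ 1 [MOD n * (q - 1)] ↔ (n : ℤ) ∣ geomSumZ (q : ℤ) i := by
    intro i
    rw [Nat.ModEq.comm, Nat.modEq_iff_dvd, Nat.cast_mul, Nat.cast_pow, hq1, Nat.cast_one,
      ← geom_sum_mul (q : ℤ) i]
    exact mul_dvd_mul_iff_right (by omega)
  simp only [hiff]
  constructor
  · rintro ⟨hr, h4⟩
    have key : ∀ i, (n : ℤ) ∣ geomSumZ (q : ℤ) i ↔ n ∣ i := by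
      intro i
      have hfac : ∀ r : ℕ, r.Prime → r ∣ n → ∀ k, r ^ k ∣ n →
          ((r : ℤ) ^ k ∣ geomSumZ (q : ℤ) i ↔ r ^ k ∣ i) := by
        intro r hrp hrn k hk
        refine pow_dvd_geomSumZ_iff hrp (hq1 ▸ Int.natCast_dvd_natCast.mpr (hr r hrp hrn)) k ?_ i
        intro h2 hk2
        subst h2
        rw [← hq1]
        exact Int.natCast_dvd_natCast.mpr (h4 ((pow_dvd_pow 2 hk2).trans hk))
      have hnat : ((n : ℤ) ∣ geomSumZ (q : ℤ) i) ↔ n ∣ (geomSumZ (q : ℤ) i).natAbs :=
        Int.natCast_dvd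
      rw [hnat, Nat.dvd_iff_prime_pow_dvd_dvd, Nat.dvd_iff_prime_pow_dvd_dvd i n]
      refine forall_congr' fun r => forall_congr' fun k => ?_
      constructor
      · intro h hrp hk
        rcases Nat.eq_zero_or_pos k with h0 | h0
        · simp [h0]
        · exact (hfac r hrp ((dvd_pow_self r (by omega)).trans hk) k hk).mp
            (by exact_mod_cast Int.natCast_dvd.mpr (h hrp hk))
      · intro h hrp hk
        rcases Nat.eq_zero_or_pos k with h0 | h0
        · simp [h0]
        · refine Int.natCast_dvd.mp ?_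
          have := (hfac r hrp ((dvd_pow_self r (by omega)).trans hk) k hk).mpr (h hrp hk)
          exact_mod_cast this
    refine ⟨(key n).mpr dvd_rfl, fun i hi hin h => ?_⟩
    exact absurd (Nat.le_of_dvd hi ((key i).mp h)) (by omega)
  · rintro ⟨h0, hmin⟩
    set S : ℕ → ZMod n := fun i => (geomSumZ (q : ℤ) i : ZMod n)
    have hS0 : ∀ i, S i = 0 ↔ (n : ℤ) ∣ geomSumZ (q : ℤ) i :=
      fun i => ZMod.intCast_zmod_eq_zero_iff_dvd _ _
    have hsucc : ∀ i, S (i + 1) = (q : ZMod n) * S i + 1 := fun i => by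
      simp [S, geomSumZ_succ]
    have hSn : S n = 0 := (hS0 n).mpr h0
    haveI : NeZero n := ⟨by omega⟩
    have hqn : IsUnit (q : ZMod n) := by
      obtain ⟨c, hc⟩ := h0
      refine IsUnit.of_pow_eq_one (n := n) ?_ (by omega)
      have h := geom_sum_mul (q : ℤ) n
      have h' := congrArg (fun z : ℤ => (z : ZMod n)) h
      simp only [Int.cast_mul, Int.cast_sub, Int.cast_pow, Int.cast_natCast, Int.cast_one] at h'
      have hz : ((∑ j ∈ Finset.range n, (q : ℤ) ^ j : ℤ) : ZMod n) = 0 := hSn
      rw [hz, zero_mul] at h'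
      exact sub_eq_zero.mp h'.symm
    have hsurj : Function.Surjective fun i : Fin n => S i := by
      refine Function.Injective.surjective_of_finite (ZMod.finEquiv n).toEquiv ?_
      intro i j hij
      by_contra hne
      wlog hlt : (i : ℕ) < j generalizing i j
      · exact this hij.symm (Ne.symm hne)
          (lt_of_le_of_ne (not_lt.mp hlt) (fun h => hne (Fin.ext h.symm)))
      have hsplit : S j = S i + (q : ZMod n) ^ (i : ℕ) * S (j - i) := by
        simp only [S]
        conv_lhs => rw [show (j : ℕ) = i + (j - i) by omega, geomSumZ_add]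
        push_cast
        ring
      simp only at hij
      have h1 : (q : ZMod n) ^ (i : ℕ) * S (j - i) = 0 := by linear_combination -hsplit - hij
      exact hmin (j - i) (by omega) (by omega) ((hS0 _).mp ((hqn.pow _).mul_right_eq_zero.mp h1))
    refine ⟨fun r hr hrn => ?_, fun h4 => ?_⟩
    · haveI : Fact r.Prime := ⟨hr⟩
      by_contra hrq
      have hq' : (q : ZMod r) - 1 ≠ 0 := by
        intro h
        apply hrq
        rw [← ZMod.natCast_eq_zero_iff, Nat.cast_sub (by omega)]
        simpa using h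
      let f := ZMod.castHom hrn (ZMod r)
      set s : ℕ → ZMod r := fun i => f (S i)
      have hs : ∀ i, s (i + 1) = (q : ZMod r) * s i + 1 := fun i => by
        simp only [s, hsucc, map_add, map_mul, map_natCast, map_one]
      set x : ZMod r := -(1 / ((q : ZMod r) - 1)) with hx
      obtain ⟨z, hz⟩ := ZMod.ringHom_surjective f x
      obtain ⟨i, hi⟩ := hsurj z
      have hix : s i = x := by simp only [s]; rw [← hz, ← hi]
      have hfx : (q : ZMod r) * x + 1 = x := by
        rw [hx]; field_simp; ring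
      have hall : ∀ m, s ((i : ℕ) + m) = x := by
        intro m
        induction m with
        | zero => exact hix
        | succ m ih => rw [← add_assoc, hs, ih, hfx]
      have := hall (n - i)
      rw [show (i : ℕ) + (n - i) = n by omega] at this
      simp [s, hSn] at this
      rw [hx, eq_comm, neg_eq_zero, one_div, inv_eq_zero] at this
      exact hq' this
    · by_contra hq4
      let f := ZMod.castHom h4 (ZMod 4)
      set s : ℕ → ZMod 4 := fun i => f (S i)
      have hs : ∀ i, s (i + 1) = (q : ZMod 4) * s i + 1 := fun i => by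
        simp only [s, hsucc, map_add, map_mul, map_natCast, map_one]
      obtain ⟨z, hz⟩ := ZMod.ringHom_surjective f 2
      obtain ⟨i, hi⟩ := hsurj z
      have hi2 : s i = 2 := by simp only [s]; rw [← hz, ← hi]
      have hs0 : s 0 = 0 := by simp [s, S, geomSumZ]
      have hu : IsUnit (q : ZMod 4) := by simpa [f] using hqn.map f
      have hq3 : (q : ZMod 4) = 3 := by
        have h1 : (q : ZMod 4) ≠ 1 := by
          intro h
          apply hq4
          rw [← ZMod.natCast_eq_zero_iff, Nat.cast_sub (by omega), h]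
          simp
        obtain ⟨u, hu'⟩ := hu
        rw [← hu'] at h1 ⊢
        have : ∀ a b : ZMod 4, a * b = 1 → a ≠ 1 → a = 3 := by decide
        exact this _ _ u.mul_inv h1
      have h01 : ∀ m, s m = 0 ∨ s m = 1 := by
        intro m
        induction m with
        | zero => exact Or.inl hs0
        | succ m ih =>
          rw [hs, hq3]
          rcases ih with h | h <;> rw [h] <;> decide
      rcases h01 i with h | h <;> rw [hi2] at h <;> revert h <;> decide

end H58
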