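import Cfsg.Agent.H27.Base2.ColourDefs

/-!
Rigid closed colourings of `(ZMod r)^n` for the monomial base-two argument.
-/

set_option autoImplicit false
set_option linter.unusedSimpArgs false
set_option linter.style.haveILetI false

namespace H58.BaseColour

open H27.Base2

/-- The colouring with uncoloured points `Z`, colour `c₁` on `T` and colour `c₀` elsewhere. -/
def mkCol {U κ : Type*} [DecidableEq U] (Z T : Finset U) (c₀ c₁ : κ) (u : U) : Option κ :=
  if u ∈ Z then none else if u ∈ T then some c₁ else some c₀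

section general

variable {U : Type*} [AddCommGroup U] [DecidableEq U] {κ : Type*}

theorem closedCol_of_card [Fintype U] {col : U → Option κ} (Z : Finset U)
    (hZ : ∀ u, col u = none → u ∈ Z) (hcard : 4 * Z.card < Fintype.card U) : ClosedCol col := by
  intro z _
  have ne : ∀ u, u ∉ Z → col u ≠ none := fun u hu h => hu (hZ u h)
  have avoid : ∀ A : Finset U, A.card ≤ 4 * Z.card → ∃ u, u ∉ A := fun A hA => by
    by_contra h
    push Not at h
    have := Finset.card_le_card (fun u (_ : u ∈ Finset.univ) => h u)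
    rw [Finset.card_univ] at this
    omega
  have hi : ∀ f : U → U, (Z.image f).card ≤ Z.card := fun f => Finset.card_image_le
  obtain ⟨u, hu⟩ := avoid (Z ∪ Z.image (z - ·)) (by
    have := Finset.card_union_le Z (Z.image (z - ·)); have := hi (z - ·); omega)
  obtain ⟨v, hv⟩ := avoid (Z ∪ Z.image (· - u) ∪ Z.image (z - ·) ∪ Z.image (z - u - ·)) (by
    have := Finset.card_union_le (Z ∪ Z.image (· - u) ∪ Z.image (z - ·)) (Z.image (z - u - ·))
    have := Finset.card_union_le (Z ∪ Z.image (· - u)) (Z.image (z - ·))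
    have := Finset.card_union_le Z (Z.image (· - u))
    have := hi (z - ·); have := hi (· - u); have := hi (z - u - ·); omega)
  simp only [Finset.mem_union, Finset.mem_image, not_or, not_exists, not_and] at hu hv
  obtain ⟨⟨⟨hvZ, hv1⟩, hv2⟩, hv3⟩ := hv
  refine ⟨u, v, z - u - v, by abel, ne _ hu.1, ne _ hvZ, ne _ fun h => hv3 _ h (by abel),
    ne _ fun h => hv1 _ h (by abel), ne _ fun h => hv2 _ h (by abel),
    ne _ fun h => hu.2 _ h (by abel)⟩

theorem closedCol_mkCol [Fintype U] {Z T : Finset U} {c₀ c₁ : κ}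
    (hcard : 4 * Z.card < Fintype.card U) : ClosedCol (mkCol Z T c₀ c₁) :=
  closedCol_of_card Z (fun u h => by
    unfold mkCol at h
    split_ifs at h with h1 h2
    exact h1) hcard

theorem mem_Z_of_preserved {Z T : Finset U} {c₀ c₁ : κ} {π : U → U}
    (h : ∀ u, mkCol Z T c₀ c₁ (π u) = mkCol Z T c₀ c₁ u) {u : U} (hu : u ∈ Z) : π u ∈ Z := by
  have h1 := h u
  rw [mkCol, mkCol, if_pos hu] at h1
  by_contra hn
  rw [if_neg hn] at h1
  split_ifs at h1

theorem mem_T_of_preserved {Z T : Finset U} {c₀ c₁ : κ} (hc : c₀ ≠ c₁) {π : U → U}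
    (h : ∀ u, mkCol Z T c₀ c₁ (π u) = mkCol Z T c₀ c₁ u) {u : U} (huT : u ∈ T) (hu : u ∉ Z) :
    π u ∈ T := by
  have h1 := h u
  rw [mkCol, mkCol, if_neg hu, if_pos huT] at h1
  split_ifs at h1 with h2 h3
  · exact h3
  · exact absurd (Option.some.inj h1) hc

theorem isSome_mkCol {Z T : Finset U} {c₀ c₁ : κ} {u : U} (hu : u ∉ Z) :
    (mkCol Z T c₀ c₁ u).isSome := by
  rw [mkCol, if_neg hu]
  split_ifs <;> rfl

theorem RigidOn.of_univ {col : U → Option κ} (h : RigidOn (Set.univ : Set (U ≃+ U)) col)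
    (P : Set (U ≃+ U)) : RigidOn P col :=
  fun π _ hπ => h π (Set.mem_univ π) hπ

end general

section vectors

variable {r n : ℕ}

/-- Standard basis vector. -/
def bv (i : Fin n) : Fin n → ZMod r := Pi.single i 1

/-- Indicator vector of a set of coordinates. -/
def ind (S : Finset (Fin n)) : Fin n → ZMod r := fun i => if i ∈ S then 1 else 0

theorem eq_id_of_basis (π : (Fin n → ZMod r) ≃+ (Fin n → ZMod r))
    (h : ∀ i, π (bv i) = bv i) (u : Fin n → ZMod r) : π u = u := by
  have he : π.toAddMonoidHom.toZModLinearMap r = LinearMap.id := by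
    apply (Pi.basisFun (ZMod r) (Fin n)).ext
    intro i
    rw [Pi.basisFun_apply]
    exact h i
  exact congrArg (fun f => f u) he

theorem ind_eq_sum (S : Finset (Fin n)) : (ind S : Fin n → ZMod r) = ∑ i ∈ S, bv i := by
  funext j
  simp [ind, bv, Finset.sum_apply, Pi.single_apply]

theorem ind_singleton (i : Fin n) : (ind {i} : Fin n → ZMod r) = bv i := by
  rw [ind_eq_sum, Finset.sum_singleton]

variable [Fact r.Prime]

theorem ind_injective : Function.Injective (ind : Finset (Fin n) → Fin n → ZMod r) := by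
  intro S T h
  ext i
  have := congrFun h i
  by_cases hS : i ∈ S <;> by_cases hT : i ∈ T <;> simp [ind, hS, hT] at this ⊢

theorem bv_injective : Function.Injective (bv : Fin n → Fin n → ZMod r) := fun i j h => by
  rw [← ind_singleton, ← ind_singleton] at h
  exact Finset.singleton_injective (ind_injective h)

theorem zero_notMem_basis :
    (0 : Fin n → ZMod r) ∉ (Finset.univ.image bv : Finset (Fin n → ZMod r)) := by
  simp only [Finset.mem_image, Finset.mem_univ, true_and, not_exists]
  intro i h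
  have := congrFun h i
  simp [bv] at this

theorem exists_perm_of_basis (π : (Fin n → ZMod r) ≃+ (Fin n → ZMod r))
    (h : ∀ i, π (bv i) ∈ (Finset.univ.image bv : Finset (Fin n → ZMod r))) :
    ∃ σ : Fin n → Fin n, Function.Injective σ ∧ (∀ i, π (bv i) = bv (σ i)) ∧
      ∀ S : Finset (Fin n), π (ind S) = ind (S.image σ) := by
  simp only [Finset.mem_image, Finset.mem_univ, true_and] at h
  choose σ hσ using h
  have hinj : Function.Injective σ := fun i j e =>
    bv_injective (π.injective (by rw [← hσ, ← hσ, e]))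
  refine ⟨σ, hinj, fun i => (hσ i).symm, fun S => ?_⟩
  rw [ind_eq_sum, ind_eq_sum, map_sum, Finset.sum_image hinj.injOn]
  exact Finset.sum_congr rfl fun i _ => (hσ i).symm

theorem card_space : Fintype.card (Fin n → ZMod r) = r ^ n := by
  haveI : NeZero r := ⟨(Fact.out : r.Prime).ne_zero⟩
  simp [ZMod.card]

theorem card_basis_le : (Finset.univ.image bv : Finset (Fin n → ZMod r)).card ≤ n :=
  Finset.card_image_le.trans (by simp)

variable {C : ℕ}

/-- Prefix of the coordinates. -/
def pre (i : ℕ) : Finset (Fin n) := Finset.univ.filter (·.val < i)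

theorem card_pre {i : ℕ} (hi : i ≤ n) : (pre i : Finset (Fin n)).card = i := by
  rw [pre, Fin.card_filter_val_lt, min_eq_right hi]

/-- The supports of colour `1` for `4 ≤ n`. -/
def supps (h : 4 ≤ n) : Finset (Finset (Fin n)) :=
  (Finset.Icc 3 n).image pre ∪
    {{⟨0, by omega⟩, ⟨1, by omega⟩}, {⟨1, by omega⟩, ⟨3, by omega⟩}}

theorem perm_eq_id_of_supps (h : 4 ≤ n) {σ : Fin n → Fin n} (hinj : Function.Injective σ)
    (hmem : ∀ S ∈ supps h, S.image σ ∈ supps h) : ∀ i, σ i = i := by
  obtain ⟨a, ha⟩ : ∃ a : Fin n, a = ⟨0, by omega⟩ := ⟨_, rfl⟩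
  obtain ⟨b, hb⟩ : ∃ b : Fin n, b = ⟨1, by omega⟩ := ⟨_, rfl⟩
  obtain ⟨d, hd⟩ : ∃ d : Fin n, d = ⟨3, by omega⟩ := ⟨_, rfl⟩
  have hab : a ≠ b := by simp [ha, hb]
  have hbd : b ≠ d := by simp [hb, hd]
  have had : a ≠ d := by simp [ha, hd]
  have hs : supps h = (Finset.Icc 3 n).image pre ∪ {{a, b}, {b, d}} := by
    rw [ha, hb, hd]; rfl
  have hcl : ∀ S ∈ supps h, (∃ i, 3 ≤ i ∧ i ≤ n ∧ S = pre i) ∨ S = {a, b} ∨ S = {b, d} := by
    intro S hS
    rw [hs] at hS
    simp only [Finset.mem_union, Finset.mem_image, Finset.mem_Icc, Finset.mem_insert,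
      Finset.mem_singleton] at hS
    rcases hS with ⟨i, hi, rfl⟩ | hS
    · exact Or.inl ⟨i, hi.1, hi.2, rfl⟩
    · exact Or.inr hS
  have hfix : ∀ i, 3 ≤ i → i ≤ n → (pre i).image σ = pre i := by
    intro i hi3 hin
    have hc : ((pre i).image σ).card = i := by
      rw [Finset.card_image_of_injective _ hinj, card_pre hin]
    rcases hcl _ (hmem (pre i) (by
      rw [hs]; exact Finset.mem_union_left _ (Finset.mem_image.2 ⟨i, Finset.mem_Icc.2 ⟨hi3, hin⟩, rfl⟩)))
      with ⟨j, -, hjn, e⟩ | e | e
    · rw [e] at hc ⊢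
      rw [card_pre hjn] at hc
      rw [hc]
    · rw [e, Finset.card_pair hab] at hc; omega
    · rw [e, Finset.card_pair hbd] at hc; omega
  have hge : ∀ j : Fin n, 3 ≤ j.val → σ j = j := by
    intro j hj
    have := Finset.mem_image_of_mem σ (show j ∈ pre (j.val + 1) by simp [pre])
    rw [hfix _ (by omega) (by omega)] at this
    have h1 : (σ j).val < j.val + 1 := by simpa [pre] using this
    by_contra hne
    have h2 : σ j ∈ pre j.val := by
      have : (σ j).val ≠ j.val := fun e => hne (Fin.ext e)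
      simp [pre]; omega
    rw [← hfix _ hj j.isLt.le] at h2
    obtain ⟨k, hk, e⟩ := Finset.mem_image.1 h2
    rw [hinj e] at hk
    simp [pre] at hk
  have hdd : σ d = d := hge d (by simp [hd])
  have hsmall : ∀ j : Fin n, j.val < 3 → (σ j).val < 3 := fun j hj => by
    have := Finset.mem_image_of_mem σ (show j ∈ pre 3 by simp [pre, hj])
    rw [hfix 3 le_rfl (by omega)] at this
    simpa [pre] using this
  have pair : ∀ x y : Fin n, ({x, y} : Finset (Fin n)) ∈ supps h → x ≠ y →
      ({σ x, σ y} : Finset (Fin n)) = {a, b} ∨ ({σ x, σ y} : Finset (Fin n)) = {b, d} := by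
    intro x y hxy hne
    have e0 : ({x, y} : Finset (Fin n)).image σ = {σ x, σ y} := by simp
    rcases hcl _ (hmem _ hxy) with ⟨j, hj3, hjn, e⟩ | e | e
    · have := congrArg Finset.card e
      rw [Finset.card_image_of_injective _ hinj, Finset.card_pair hne, card_pre hjn] at this
      omega
    · exact Or.inl (e0 ▸ e)
    · exact Or.inr (e0 ▸ e)
  have hbb : σ b = b := by
    rcases pair b d (by rw [hs]; simp) hbd with e | e
    · exfalso
      have : σ d ∈ ({a, b} : Finset (Fin n)) := e ▸ (by simp)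
      rw [hdd] at this
      simp [had.symm, hbd.symm] at this
    · have h1 : σ b ∈ ({b, d} : Finset (Fin n)) := e ▸ (by simp)
      simp only [Finset.mem_insert, Finset.mem_singleton] at h1
      exact h1.resolve_right fun e' => hbd (hinj (e'.trans hdd.symm))
  have haa : σ a = a := by
    rcases pair a b (by rw [hs]; simp) hab with e | e
    · have h1 : σ a ∈ ({a, b} : Finset (Fin n)) := e ▸ (by simp)
      simp only [Finset.mem_insert, Finset.mem_singleton] at h1
      exact h1.resolve_right fun e' => hab (hinj (e'.trans hbb.symm))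
    · exfalso
      have h1 : d ∈ ({σ a, σ b} : Finset (Fin n)) := e ▸ (by simp)
      simp only [Finset.mem_insert, Finset.mem_singleton, hbb, hbd.symm, or_false] at h1
      have := hsmall a (by simp [ha])
      rw [← h1, hd] at this
      simp at this
  intro j
  rcases Nat.lt_or_ge j.val 3 with hj | hj
  · rcases (show j.val = 0 ∨ j.val = 1 ∨ j.val = 2 by omega) with e | e | e
    · rw [show j = a from Fin.ext (by simp [ha, e]), haa]
    · rw [show j = b from Fin.ext (by simp [hb, e]), hbb]
    · have h1 := hsmall j hj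
      have h2 : σ j ≠ σ a := fun e' => by have := hinj e'; simp [ha, this] at e
      have h3 : σ j ≠ σ b := fun e' => by have := hinj e'; simp [hb, this] at e
      rw [haa, ha] at h2
      rw [hbb, hb] at h3
      simp only [ne_eq, Fin.ext_iff] at h2 h3
      exact Fin.ext (by omega)
  · exact hge j hj

theorem exists_colour_big (h : 4 ≤ n) (hcard : 4 * n < r ^ n) (hC : 2 ≤ C) :
    ∃ col : (Fin n → ZMod r) → Option (Fin C),
      RigidOn Set.univ col ∧ ClosedCol col ∧ (col 0).isSome := by
  obtain ⟨c₀, hc₀⟩ : ∃ c : Fin C, c = ⟨0, by omega⟩ := ⟨_, rfl⟩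
  obtain ⟨c₁, hc₁⟩ : ∃ c : Fin C, c = ⟨1, by omega⟩ := ⟨_, rfl⟩
  have hc : c₀ ≠ c₁ := by simp [hc₀, hc₁]
  haveI : NeZero r := ⟨(Fact.out : r.Prime).ne_zero⟩
  refine ⟨mkCol (Finset.univ.image bv) ((supps h).image ind) c₀ c₁, ?_, closedCol_mkCol ?_,
    isSome_mkCol zero_notMem_basis⟩
  · intro π _ hπ
    have hZ : ∀ i, π (bv i) ∈ (Finset.univ.image bv : Finset (Fin n → ZMod r)) := fun i =>
      mem_Z_of_preserved hπ (Finset.mem_image_of_mem _ (Finset.mem_univ i))
    obtain ⟨σ, hinj, hσ, hS⟩ := exists_perm_of_basis π hZ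
    have hmem : ∀ S ∈ supps h, S.image σ ∈ supps h := by
      intro S hSm
      have hcardS : 2 ≤ S.card := by
        simp only [supps, Finset.mem_union, Finset.mem_image, Finset.mem_Icc, Finset.mem_insert,
          Finset.mem_singleton] at hSm
        rcases hSm with ⟨i, hi, rfl⟩ | rfl | rfl
        · rw [card_pre hi.2]; omega
        · rw [Finset.card_pair (by simp)]
        · rw [Finset.card_pair (by simp)]
      have hnZ : (ind S : Fin n → ZMod r) ∉ Finset.univ.image bv := by
        simp only [Finset.mem_image, Finset.mem_univ, true_and, not_exists]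
        intro i e
        rw [← ind_singleton] at e
        rw [← ind_injective e, Finset.card_singleton] at hcardS
        omega
      have h2 := mem_T_of_preserved hc hπ (Finset.mem_image_of_mem ind hSm) hnZ
      rw [hS] at h2
      obtain ⟨S', hS', e⟩ := Finset.mem_image.1 h2
      exact ind_injective e ▸ hS'
    exact eq_id_of_basis π fun i => by rw [hσ, perm_eq_id_of_supps h hinj hmem i]
  · rw [card_space]
    exact lt_of_le_of_lt (Nat.mul_le_mul_left 4 card_basis_le) hcard

theorem exists_colour_odd_small (hr : r ≠ 2) (h2 : 2 ≤ n) (h3 : n ≤ 3) (hC : 2 ≤ C) :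
    ∃ col : (Fin n → ZMod r) → Option (Fin C),
      RigidOn Set.univ col ∧ ClosedCol col ∧ (col 0).isSome := by
  obtain ⟨c₀, hc₀⟩ : ∃ c : Fin C, c = ⟨0, by omega⟩ := ⟨_, rfl⟩
  obtain ⟨c₁, hc₁⟩ : ∃ c : Fin C, c = ⟨1, by omega⟩ := ⟨_, rfl⟩
  have hc : c₀ ≠ c₁ := by simp [hc₀, hc₁]
  haveI : NeZero r := ⟨(Fact.out : r.Prime).ne_zero⟩
  have hr3 : 3 ≤ r := by have := (Fact.out : r.Prime).two_le; omega
  obtain ⟨a, ha⟩ : ∃ a : Fin n, a = ⟨0, by omega⟩ := ⟨_, rfl⟩
  obtain ⟨b, hb⟩ : ∃ b : Fin n, b = ⟨1, by omega⟩ := ⟨_, rfl⟩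
  have hab : a ≠ b := by simp [ha, hb]
  have htwo : (2 : ZMod r) ≠ 0 := fun e => by
    have := (ZMod.natCast_eq_zero_iff 2 r).1 (by exact_mod_cast e)
    have := Nat.le_of_dvd (by norm_num) this
    omega
  refine ⟨mkCol (Finset.univ.image bv) {bv a + (bv b + bv b)} c₀ c₁, ?_, closedCol_mkCol ?_,
    isSome_mkCol zero_notMem_basis⟩
  · intro π _ hπ
    have hZ : ∀ i, π (bv i) ∈ (Finset.univ.image bv : Finset (Fin n → ZMod r)) := fun i =>
      mem_Z_of_preserved hπ (Finset.mem_image_of_mem _ (Finset.mem_univ i))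
    obtain ⟨σ, hinj, hσ, -⟩ := exists_perm_of_basis π hZ
    have hnZ : (bv a + (bv b + bv b) : Fin n → ZMod r) ∉ Finset.univ.image bv := by
      simp only [Finset.mem_image, Finset.mem_univ, true_and, not_exists]
      intro i e
      have ea := congrFun e a
      have eb := congrFun e b
      simp [bv, hab, hab.symm, Pi.single_apply] at ea eb
      split_ifs at ea eb <;> simp_all [eq_comm, one_add_one_eq_two]
    have hT := mem_T_of_preserved hc hπ (Finset.mem_singleton_self _) hnZ
    rw [Finset.mem_singleton, map_add, map_add, hσ, hσ] at hT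
    have hne : σ a ≠ σ b := fun e => hab (hinj e)
    have e1 := congrFun hT (σ a)
    have e2 := congrFun hT (σ b)
    simp [bv, hne, hne.symm, hab, hab.symm, Pi.single_apply] at e1 e2
    have hone : (1 : ZMod r) ≠ 2 := fun e => by
      have h0 : (1 : ZMod r) + 1 = 1 + 0 := by rw [one_add_one_eq_two, ← e, add_zero]
      exact one_ne_zero (add_left_cancel h0)
    have haa : σ a = a := by
      by_contra hne'
      rw [if_neg hne'] at e1
      split_ifs at e1
      · rw [zero_add, one_add_one_eq_two] at e1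
        exact hone e1
      · rw [add_zero, add_zero] at e1
        exact one_ne_zero e1
    have hbb : σ b = b := by
      by_contra hne'
      rw [if_neg hne', if_neg (fun e => hne (haa.trans e.symm)), add_zero, add_zero,
        one_add_one_eq_two] at e2
      exact htwo e2
    refine eq_id_of_basis π fun i => ?_
    rw [hσ]
    congr 1
    by_cases hia : i = a
    · rw [hia, haa]
    by_cases hib : i = b
    · rw [hib, hbb]
    have h1 : σ i ≠ a := fun e => hia (hinj (e.trans haa.symm))
    have h4 : σ i ≠ b := fun e => hib (hinj (e.trans hbb.symm))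
    simp only [ha, hb, ne_eq, Fin.ext_iff] at hia hib h1 h4
    exact Fin.ext (by omega)
  · rw [card_space]
    refine lt_of_le_of_lt (Nat.mul_le_mul_left 4 card_basis_le) ?_
    have : 3 ^ n ≤ r ^ n := Nat.pow_le_pow_left hr3 n
    interval_cases n <;> simp at this ⊢ <;> omega

theorem exists_colour_one (hC : 2 ≤ C) (hn : n ≤ 1) :
    ∃ col : (Fin n → ZMod r) → Option (Fin C),
      RigidOn Set.univ col ∧ ClosedCol col ∧ (col 0).isSome := by
  haveI : NeZero r := ⟨(Fact.out : r.Prime).ne_zero⟩
  haveI : Subsingleton (Fin n) := ⟨fun i j => Fin.ext (by omega)⟩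
  refine ⟨mkCol ∅ (Finset.univ.image bv) ⟨0, by omega⟩ ⟨1, by omega⟩, ?_,
    closedCol_mkCol (by simp [card_space, (Fact.out : r.Prime).pos]), isSome_mkCol (by simp)⟩
  intro π _ hπ
  refine eq_id_of_basis π fun i => ?_
  have := mem_T_of_preserved (by simp) hπ (Finset.mem_image_of_mem bv (Finset.mem_univ i))
    (Finset.notMem_empty _)
  obtain ⟨j, -, e⟩ := Finset.mem_image.1 this
  rw [← e, Subsingleton.elim j i]

/-- (a): odd `r`. -/
theorem exists_colour_odd (hr : r ≠ 2) (hC : 2 ≤ C) :
    ∃ col : (Fin n → ZMod r) → Option (Fin C),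
      RigidOn Set.univ col ∧ ClosedCol col ∧ (col 0).isSome := by
  have hr3 : 3 ≤ r := by have := (Fact.out : r.Prime).two_le; omega
  rcases le_or_gt n 1 with h | h
  · exact exists_colour_one hC h
  rcases le_or_gt n 3 with h3 | h3
  · exact exists_colour_odd_small hr h h3 hC
  refine exists_colour_big h3 ?_ hC
  have key : ∀ m, 4 ≤ m → 4 * m < 3 ^ m := by
    intro m hm
    induction m, hm using Nat.le_induction with
    | base => norm_num
    | succ k hk ih => rw [pow_succ]; omega
  exact lt_of_lt_of_le (key n h3) (Nat.pow_le_pow_left hr3 n)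

end vectors

end H58.BaseColour
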