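import Cfsg.Agent.H58.BaseColourOne

/-!
A rigid set of `(ZMod 2)^5` whose colouring closes up in two rounds; all single-colour dimensions.
-/

set_option autoImplicit false

namespace H58.BaseColour

open H27.Base2

/-- The twelve uncoloured points. -/
def fiveZ : Finset (Fin 5 → ZMod 2) :=
  ([2, 6, 8, 11, 14, 15, 17, 19, 22, 23, 28, 30].map (vec 5)).toFinset

/-- Five points determined by their invariants. -/
def fiveB : Finset (Fin 5 → ZMod 2) := ([8, 11, 14, 15, 17].map (vec 5)).toFinset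

/-- The points left after one round. -/
def fiveBad : Finset (Fin 5 → ZMod 2) := ([6, 11].map (vec 5)).toFinset

theorem five_round_one : ∀ z, z ∉ fiveBad → z ∈ fiveZ → ∃ u v, u ∉ fiveZ ∧ v ∉ fiveZ ∧
    z + u + v ∉ fiveZ ∧ u + v ∉ fiveZ ∧ u + (z + u + v) ∉ fiveZ ∧ v + (z + u + v) ∉ fiveZ := by
  decide +kernel

theorem five_round_two : ∀ z ∈ fiveBad, ∃ u v, u ∉ fiveBad ∧ v ∉ fiveBad ∧
    z + u + v ∉ fiveBad ∧ u + v ∉ fiveBad ∧ u + (z + u + v) ∉ fiveBad ∧
      v + (z + u + v) ∉ fiveBad := by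
  decide +kernel

theorem five_sum : ∀ z u v : Fin 5 → ZMod 2, u + v + (z + u + v) = z := by decide +kernel

/-- A single colour in dimension five. -/
theorem exists_colour_five :
    ∃ col : (Fin 5 → ZMod 2) → Option (Fin 1),
      RigidOn Set.univ col ∧ ClosesUp col ∧ (col 0).isSome := by
  refine ⟨mkCol fiveZ ∅ 0 0, fun π _ hπ => ?_, ?_, isSome_mkCol (by decide +kernel)⟩
  · have hZ : ∀ u ∈ fiveZ, π u ∈ fiveZ := fun u hu => mem_Z_of_preserved hπ hu
    have huniq : ∀ b ∈ fiveB, b ∈ fiveZ ∧ ∀ z ∈ fiveZ,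
        tri fiveZ z = tri fiveZ b → quad fiveZ z = quad fiveZ b → z = b := by decide +kernel
    have hspan : ∀ i, ∃ s ∈ fiveB.powerset, ∑ x ∈ s, x = bv i := by decide +kernel
    have hfix : ∀ b ∈ fiveB, π b = b := fun b hb =>
      (huniq b hb).2 _ (hZ b (huniq b hb).1) (tri_map π hZ b) (quad_map π hZ b)
    refine eq_id_of_basis π fun i => ?_
    obtain ⟨s, hs, e⟩ := hspan i
    rw [← e, map_sum]
    exact Finset.sum_congr rfl fun x hx => hfix x (Finset.mem_powerset.1 hs hx)
  · intro X hX hclosed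
    have h1 : ∀ z, z ∉ fiveZ → z ∈ X := fun z hz => hX z (fun h => by
      unfold mkCol at h
      rw [if_neg hz] at h
      split_ifs at h)
    have h2 : ∀ z, z ∉ fiveBad → z ∈ X := by
      intro z hz
      by_cases hzZ : z ∈ fiveZ
      · obtain ⟨u, v, a, b, c, d, e, f⟩ := five_round_one z hz hzZ
        rw [← five_sum z u v]
        exact hclosed u v _ (h1 _ a) (h1 _ b) (h1 _ c) (h1 _ d) (h1 _ e) (h1 _ f)
      · exact h1 z hzZ
    intro z
    by_cases hz : z ∈ fiveBad
    · obtain ⟨u, v, a, b, c, d, e, f⟩ := five_round_two z hz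
      rw [← five_sum z u v]
      exact hclosed u v _ (h2 _ a) (h2 _ b) (h2 _ c) (h2 _ d) (h2 _ e) (h2 _ f)
    · exact h2 z hz

/-- A single colour, `5 ≤ n`. -/
theorem exists_colour_single_closesUp {n : ℕ} (hn : 5 ≤ n) :
    ∃ col : (Fin n → ZMod 2) → Option (Fin 1),
      RigidOn Set.univ col ∧ ClosesUp col ∧ (col 0).isSome := by
  rcases eq_or_lt_of_le hn with rfl | h
  · exact exists_colour_five
  · obtain ⟨col, h1, h2, h3⟩ := exists_colour_single h
    exact ⟨col, h1, h2.closesUp, h3⟩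

end H58.BaseColour
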