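import Cfsg.Agent.H58.BaseColour

/-!
Rigid closed sets of `(ZMod 2)^n` for a single colour, `6 ≤ n`.
-/

set_option autoImplicit false
set_option linter.style.haveILetI false

namespace H58.BaseColour

open H27.Base2

variable {n : ℕ}

/-- Bit vector of a number. -/
def vec (n k : ℕ) : Fin n → ZMod 2 := fun i => ((k / 2 ^ i.val % 2 : ℕ) : ZMod 2)

/-- Number of triples through a point. -/
def tri (Z : Finset (Fin n → ZMod 2)) (z : Fin n → ZMod 2) : ℕ :=
  (Z.filter fun x => x + z ∈ Z).card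

/-- Number of quadruples through a point. -/
def quad (Z : Finset (Fin n → ZMod 2)) (z : Fin n → ZMod 2) : ℕ :=
  ∑ x ∈ Z, (Z.filter fun y => x + y + z ∈ Z).card

theorem mem_iff_of_mapsTo {U : Type*} [AddCommGroup U] [DecidableEq U] {Z : Finset U} (π : U ≃+ U)
    (h : ∀ u ∈ Z, π u ∈ Z) (u : U) : π u ∈ Z ↔ u ∈ Z := by
  refine ⟨fun hu => ?_, h u⟩
  have he : Z.image π = Z := Finset.eq_of_subset_of_card_le
    (fun v hv => by obtain ⟨w, hw, rfl⟩ := Finset.mem_image.1 hv; exact h w hw)
    (Finset.card_image_of_injective _ π.injective).ge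
  rw [← he] at hu
  obtain ⟨w, hw, e⟩ := Finset.mem_image.1 hu
  exact π.injective e ▸ hw

theorem tri_map {Z : Finset (Fin n → ZMod 2)} (π : (Fin n → ZMod 2) ≃+ (Fin n → ZMod 2))
    (h : ∀ u ∈ Z, π u ∈ Z) (z : Fin n → ZMod 2) : tri Z (π z) = tri Z z := by
  have hi := mem_iff_of_mapsTo π h
  refine (Finset.card_bij (fun x _ => π x) (fun x hx => ?_) (fun _ _ _ _ e => π.injective e)
    (fun y hy => ?_)).symm
  · simp only [Finset.mem_filter] at hx ⊢
    exact ⟨h x hx.1, by rw [← map_add, hi]; exact hx.2⟩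
  · obtain ⟨x, rfl⟩ := π.surjective y
    simp only [Finset.mem_filter, hi, ← map_add] at hy
    exact ⟨x, by simpa using hy, rfl⟩

theorem quad_map {Z : Finset (Fin n → ZMod 2)} (π : (Fin n → ZMod 2) ≃+ (Fin n → ZMod 2))
    (h : ∀ u ∈ Z, π u ∈ Z) (z : Fin n → ZMod 2) : quad Z (π z) = quad Z z := by
  have hi := mem_iff_of_mapsTo π h
  refine (Finset.sum_bij (fun x _ => π x) (fun x hx => h x hx) (fun _ _ _ _ e => π.injective e)
    (fun y hy => ?_) (fun x _ => ?_)).symm
  · obtain ⟨x, rfl⟩ := π.surjective y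
    exact ⟨x, (hi x).1 hy, rfl⟩
  refine Finset.card_bij (fun y _ => π y) (fun y hy => ?_) (fun _ _ _ _ e => π.injective e)
    (fun y hy => ?_)
  · simp only [Finset.mem_filter] at hy ⊢
    exact ⟨h y hy.1, by rw [← map_add, ← map_add, hi]; exact hy.2⟩
  · obtain ⟨w, rfl⟩ := π.surjective y
    simp only [Finset.mem_filter, hi, ← map_add] at hy
    exact ⟨w, by simpa using hy, rfl⟩

theorem exists_colour_of_cert (Z B : Finset (Fin n → ZMod 2)) (h0 : (0 : Fin n → ZMod 2) ∉ Z)
    (hcard : 4 * Z.card < Fintype.card (Fin n → ZMod 2)) (hB : B ⊆ Z)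
    (huniq : ∀ b ∈ B, ∀ z ∈ Z, tri Z z = tri Z b → quad Z z = quad Z b → z = b)
    (hspan : ∀ i, ∃ s ∈ B.powerset, ∑ x ∈ s, x = bv i) :
    ∃ col : (Fin n → ZMod 2) → Option (Fin 1),
      RigidOn Set.univ col ∧ ClosedCol col ∧ (col 0).isSome := by
  refine ⟨mkCol Z ∅ 0 0, fun π _ hπ => ?_, closedCol_mkCol hcard, isSome_mkCol h0⟩
  have hZ : ∀ u ∈ Z, π u ∈ Z := fun u hu => mem_Z_of_preserved hπ hu
  have hfix : ∀ b ∈ B, π b = b := fun b hb =>
    huniq b hb _ (hZ b (hB hb)) (tri_map π hZ b) (quad_map π hZ b)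
  refine eq_id_of_basis π fun i => ?_
  obtain ⟨s, hs, e⟩ := hspan i
  rw [← e, map_sum]
  exact Finset.sum_congr rfl fun x hx => hfix x (Finset.mem_powerset.1 hs hx)

theorem exists_colour_six :
    ∃ col : (Fin 6 → ZMod 2) → Option (Fin 1),
      RigidOn Set.univ col ∧ ClosedCol col ∧ (col 0).isSome :=
  exists_colour_of_cert (([1, 2, 4, 6, 8, 9, 12, 16, 24, 32, 45, 63].map (vec 6)).toFinset)
    (([4, 6, 8, 32, 45, 63].map (vec 6)).toFinset) (by decide +kernel) (by decide +kernel)
    (by decide +kernel) (by decide +kernel) (by decide +kernel)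

theorem exists_colour_seven :
    ∃ col : (Fin 7 → ZMod 2) → Option (Fin 1),
      RigidOn Set.univ col ∧ ClosedCol col ∧ (col 0).isSome :=
  exists_colour_of_cert (([1, 2, 4, 8, 11, 16, 27, 32, 49, 64, 67, 97, 113].map (vec 7)).toFinset)
    (([1, 4, 8, 11, 16, 49, 113].map (vec 7)).toFinset) (by decide +kernel) (by decide +kernel)
    (by decide +kernel) (by decide +kernel) (by decide +kernel)

theorem exists_colour_eight :
    ∃ col : (Fin 8 → ZMod 2) → Option (Fin 1),
      RigidOn Set.univ col ∧ ClosedCol col ∧ (col 0).isSome :=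
  exists_colour_of_cert
    (([1, 2, 4, 8, 16, 32, 41, 64, 73, 107, 111, 128, 171, 174, 175].map (vec 8)).toFinset)
    (([1, 4, 8, 16, 41, 64, 111, 174].map (vec 8)).toFinset) (by decide +kernel) (by decide +kernel)
    (by decide +kernel) (by decide +kernel) (by decide +kernel)

/-! ### Dimension at least nine -/

/-- The cycle with two chords. -/
def adj (i j : Fin n) : Prop :=
  j.val = i.val + 1 ∨ i.val = j.val + 1 ∨
    (i.val = 0 ∧ (j.val = n - 1 ∨ j.val = 3 ∨ j.val = 5)) ∨
    (j.val = 0 ∧ (i.val = n - 1 ∨ i.val = 3 ∨ i.val = 5))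

instance (i j : Fin n) : Decidable (adj i j) := by unfold adj; infer_instance

theorem adj_symm {i j : Fin n} (h : adj i j) : adj j i := by unfold adj at *; omega

theorem adj_ne (hn : 9 ≤ n) {i j : Fin n} (h : adj i j) : i ≠ j := by
  rintro rfl; unfold adj at h; omega

theorem no_triangle (hn : 9 ≤ n) {i j k : Fin n} (h1 : adj i j) (h2 : adj j k) (h3 : adj i k) :
    False := by
  unfold adj at *; omega

theorem graph_rigid (hn : 9 ≤ n) {σ : Fin n → Fin n} (hinj : Function.Injective σ)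
    (hσ : ∀ i j, adj i j → adj (σ i) (σ j)) : ∀ i, σ i = i := by
  have e : ∀ k, ∀ hk : k < n, ∃ x : Fin n, x.val = k := fun k hk => ⟨⟨k, hk⟩, rfl⟩
  obtain ⟨a, ha⟩ := e 0 (by omega)
  obtain ⟨b, hb⟩ := e 1 (by omega)
  obtain ⟨c, hc⟩ := e 2 (by omega)
  obtain ⟨d, hd⟩ := e 3 (by omega)
  obtain ⟨f, hf⟩ := e 5 (by omega)
  obtain ⟨g, hg⟩ := e 4 (by omega)
  obtain ⟨m, hm⟩ := e (n - 1) (by omega)
  obtain ⟨m₂, hm₂⟩ := e (n - 2) (by omega)
  obtain ⟨h6, hh6⟩ := e 6 (by omega)
  have inj : ∀ x y : Fin n, x.val ≠ y.val → (σ x).val ≠ (σ y).val := fun x y h h' =>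
    h (congrArg Fin.val (hinj (Fin.ext h')))
  have ab := hσ a b (by unfold adj; omega)
  have ad := hσ a d (by unfold adj; omega)
  have af := hσ a f (by unfold adj; omega)
  have am := hσ a m (by unfold adj; omega)
  have bc := hσ b c (by unfold adj; omega)
  have cd := hσ c d (by unfold adj; omega)
  have dg := hσ d g (by unfold adj; omega)
  have gf := hσ g f (by unfold adj; omega)
  have f6 := hσ f h6 (by unfold adj; omega)
  unfold adj at ab ad af am
  have := inj b d (by omega); have := inj b f (by omega); have := inj b m (by omega)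
  have := inj d f (by omega); have := inj d m (by omega); have := inj f m (by omega)
  have sa : (σ a).val = 0 := by omega
  have := inj c a (by omega); have := inj g a (by omega); have := inj h6 a (by omega)
  have := inj c g (by omega); have := inj h6 g (by omega)
  have sdf : ((σ d).val = 3 ∨ (σ d).val = 5) ∧ ((σ f).val = 3 ∨ (σ f).val = 5) := by
    have := inj a g (by omega)
    have := inj c h6 (by omega)
    unfold adj at cd dg gf f6
    omega
  have sbc : (σ b).val = 1 ∧ (σ c).val = 2 ∧ (σ d).val = 3 := by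
    unfold adj at bc cd
    omega
  have sg : (σ g).val = 4 ∧ (σ f).val = 5 := by
    unfold adj at dg gf
    omega
  have all : ∀ k, ∀ i : Fin n, i.val ≤ k → (σ i).val = i.val := by
    intro k
    induction k with
    | zero => intro i hi; rw [show i = a from Fin.ext (by omega), sa, ha]
    | succ k ih =>
      intro i hi
      rcases Nat.lt_or_ge i.val (k + 1) with h | h
      · exact ih i (by omega)
      by_cases h5 : i.val ≤ 5
      · rcases (show i.val = 1 ∨ i.val = 2 ∨ i.val = 3 ∨ i.val = 4 ∨ i.val = 5 by omega) with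
          h | h | h | h | h
        · rw [show i = b from Fin.ext (by omega), sbc.1, hb]
        · rw [show i = c from Fin.ext (by omega), sbc.2.1, hc]
        · rw [show i = d from Fin.ext (by omega), sbc.2.2, hd]
        · rw [show i = g from Fin.ext (by omega), sg.1, hg]
        · rw [show i = f from Fin.ext (by omega), sg.2, hf]
      obtain ⟨p, hp⟩ := e (i.val - 1) (by omega)
      obtain ⟨q, hq⟩ := e (i.val - 2) (by omega)
      have hpi := hσ p i (by unfold adj; omega)
      have := ih p (by omega)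
      have := ih q (by omega)
      have := inj i a (by omega); have := inj i q (by omega)
      unfold adj at hpi
      omega
  exact fun i => Fin.ext (all _ i le_rfl)

/-- Singletons and edges. -/
def ptSupps (n : ℕ) : Finset (Finset (Fin n)) :=
  Finset.univ.image (fun i => {i}) ∪
    ((Finset.univ : Finset (Fin n × Fin n)).filter fun x => adj x.1 x.2).image fun x => {x.1, x.2}

theorem mem_ptSupps {S : Finset (Fin n)} :
    S ∈ ptSupps n ↔ (∃ i, S = {i}) ∨ ∃ i j, adj i j ∧ S = {i, j} := by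
  simp only [ptSupps, Finset.mem_union, Finset.mem_image, Finset.mem_univ, true_and,
    Finset.mem_filter, Prod.exists]
  constructor
  · rintro (⟨i, rfl⟩ | ⟨i, j, h, rfl⟩)
    · exact Or.inl ⟨i, rfl⟩
    · exact Or.inr ⟨i, j, h, rfl⟩
  · rintro (⟨i, rfl⟩ | ⟨i, j, h, rfl⟩)
    · exact Or.inl ⟨i, rfl⟩
    · exact Or.inr ⟨i, j, h, rfl⟩

theorem ind_add (S T : Finset (Fin n)) :
    (ind S + ind T : Fin n → ZMod 2) = ind (symmDiff S T) := by
  funext i
  by_cases hS : i ∈ S <;> by_cases hT : i ∈ T <;> simp [ind, Finset.mem_symmDiff, hS, hT] <;>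
    decide

theorem edge_partner (hn : 9 ≤ n) {i j : Fin n} (hij : adj i j) {X : Finset (Fin n)}
    (hX : X ∈ ptSupps n) (hU : symmDiff X {i, j} ∈ ptSupps n) : X = {i} ∨ X = {j} := by
  obtain ⟨U, hUdef⟩ : ∃ U, U = symmDiff X {i, j} := ⟨_, rfl⟩
  rw [← hUdef] at hU
  have hmem : ∀ v, v ∈ U ↔ (v ∈ X ∧ ¬ (v = i ∨ v = j)) ∨ ((v = i ∨ v = j) ∧ v ∉ X) := fun v => by
    rw [hUdef, Finset.mem_symmDiff]; simp
  have hne := adj_ne hn hij
  rcases mem_ptSupps.1 hX with ⟨k, rfl⟩ | ⟨k, l, hkl, rfl⟩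
  · by_cases hki : k = i
    · exact Or.inl (by rw [hki])
    by_cases hkj : k = j
    · exact Or.inr (by rw [hkj])
    exfalso
    have hi : i ∈ U := (hmem i).2 (Or.inr ⟨Or.inl rfl, by simp [Ne.symm hki]⟩)
    have hj : j ∈ U := (hmem j).2 (Or.inr ⟨Or.inr rfl, by simp [Ne.symm hkj]⟩)
    have hk : k ∈ U := (hmem k).2 (Or.inl ⟨by simp, by simp [hki, hkj]⟩)
    rcases mem_ptSupps.1 hU with ⟨p, rfl⟩ | ⟨p, q, -, rfl⟩
    · simp only [Finset.mem_singleton] at hi hj
      exact hne (hi.trans hj.symm)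
    · simp only [Finset.mem_insert, Finset.mem_singleton] at hi hj hk
      rcases hi with rfl | rfl <;> rcases hj with rfl | rfl <;> rcases hk with rfl | rfl <;> simp_all
  · exfalso
    have hkl' := adj_ne hn hkl
    rcases mem_ptSupps.1 hU with ⟨p, rfl⟩ | ⟨p, q, hpq, rfl⟩
    · have f : ∀ v, (v = k ∨ v = l) ∧ ¬ (v = i ∨ v = j) ∨ (v = i ∨ v = j) ∧ ¬ (v = k ∨ v = l) →
          v = p := fun v h => Finset.mem_singleton.1 ((hmem v).2 (by simpa using h))
      have f1 : i = k ∨ i = l ∨ i = p := by have := f i; tauto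
      have f2 : j = k ∨ j = l ∨ j = p := by have := f j; tauto
      have f3 : k = i ∨ k = j ∨ k = p := by have := f k; tauto
      have f4 : l = i ∨ l = j ∨ l = p := by have := f l; tauto
      have f5 : (p = k ∨ p = l) ∧ ¬ (p = i ∨ p = j) ∨ (p = i ∨ p = j) ∧ ¬ (p = k ∨ p = l) := by
        simpa using (hmem p).1 (Finset.mem_singleton_self p)
      simp only [Fin.ext_iff, ne_eq] at f1 f2 f3 f4 f5 hne hkl'
      omega
    · have f : ∀ v, (v = k ∨ v = l) ∧ ¬ (v = i ∨ v = j) ∨ (v = i ∨ v = j) ∧ ¬ (v = k ∨ v = l) →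
          v = p ∨ v = q := fun v h => by simpa using (hmem v).2 (by simpa using h)
      have g1 : (p = k ∨ p = l) ∧ ¬ (p = i ∨ p = j) ∨ (p = i ∨ p = j) ∧ ¬ (p = k ∨ p = l) := by
        simpa using (hmem p).1 (by simp)
      have two : ∀ {x y : Fin n}, x ≠ y → (x = p ∨ x = q) → (y = p ∨ y = q) →
          p = x ∧ q = y ∨ p = y ∧ q = x := by
        intro x y hxy hx hy
        rcases hx with rfl | rfl <;> rcases hy with rfl | rfl
        exacts [absurd rfl hxy, Or.inl ⟨rfl, rfl⟩, Or.inr ⟨rfl, rfl⟩, absurd rfl hxy]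
      -- one end is shared, the other two are `p` and `q`
      have key : (k = i ∧ (p = l ∧ q = j ∨ p = j ∧ q = l)) ∨ (k = j ∧ (p = l ∧ q = i ∨ p = i ∧ q = l)) ∨
          (l = i ∧ (p = k ∧ q = j ∨ p = j ∧ q = k)) ∨ (l = j ∧ (p = k ∧ q = i ∨ p = i ∧ q = k)) := by
        by_cases hki : k = i
        · subst hki
          by_cases hlj : l = j
          · subst hlj; tauto
          exact Or.inl ⟨rfl, two hlj (f l (Or.inl ⟨Or.inr rfl, fun h => h.elim (fun e => hkl' e.symm) hlj⟩))
            (f j (Or.inr ⟨Or.inr rfl, fun h => h.elim (fun e => hne e.symm) (fun e => hlj e.symm)⟩))⟩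
        by_cases hkj : k = j
        · subst hkj
          by_cases hli : l = i
          · subst hli; tauto
          exact Or.inr (Or.inl ⟨rfl, two hli (f l (Or.inl ⟨Or.inr rfl, fun h => h.elim hli (fun e => hkl' e.symm)⟩))
            (f i (Or.inr ⟨Or.inl rfl, fun h => h.elim (fun e => hki e.symm) (fun e => hli e.symm)⟩))⟩)
        have hk := f k (Or.inl ⟨Or.inl rfl, fun h => h.elim hki hkj⟩)
        by_cases hli : l = i
        · subst hli
          exact Or.inr (Or.inr (Or.inl ⟨rfl, two hkj hk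
            (f j (Or.inr ⟨Or.inr rfl, fun h => h.elim (fun e => hkj e.symm) (fun e => hne e.symm)⟩))⟩))
        by_cases hlj : l = j
        · subst hlj
          exact Or.inr (Or.inr (Or.inr ⟨rfl, two hki hk
            (f i (Or.inr ⟨Or.inl rfl, fun h => h.elim (fun e => hki e.symm) hne⟩))⟩))
        exfalso
        have hl := f l (Or.inl ⟨Or.inr rfl, fun h => h.elim hli hlj⟩)
        have hi' := f i (Or.inr ⟨Or.inl rfl, fun h => h.elim (fun e => hki e.symm) (fun e => hli e.symm)⟩)
        rcases two hkl' hk hl with ⟨rfl, rfl⟩ | ⟨rfl, rfl⟩ <;> rcases hi' with rfl | rfl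
        exacts [hki rfl, hli rfl, hli rfl, hki rfl]
      rcases key with ⟨rfl, ⟨rfl, rfl⟩ | ⟨rfl, rfl⟩⟩ | ⟨rfl, ⟨rfl, rfl⟩ | ⟨rfl, rfl⟩⟩ |
        ⟨rfl, ⟨rfl, rfl⟩ | ⟨rfl, rfl⟩⟩ | ⟨rfl, ⟨rfl, rfl⟩ | ⟨rfl, rfl⟩⟩
      exacts [no_triangle hn hkl hpq hij, no_triangle hn hkl (adj_symm hpq) hij,
        no_triangle hn hkl hpq (adj_symm hij), no_triangle hn hkl (adj_symm hpq) (adj_symm hij),
        no_triangle hn hkl hij hpq, no_triangle hn hkl hij (adj_symm hpq),
        no_triangle hn hkl (adj_symm hij) hpq, no_triangle hn hkl (adj_symm hij) (adj_symm hpq)]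

theorem vertex_partners (hn : 9 ≤ n) (i : Fin n) :
    ∃ j k, adj i j ∧ adj i k ∧ j ≠ k := by
  rcases Nat.eq_zero_or_pos i.val with h | h
  · exact ⟨⟨1, by omega⟩, ⟨n - 1, by omega⟩, by unfold adj; dsimp only; omega,
      by unfold adj; dsimp only; omega, by simp [Fin.ext_iff]; omega⟩
  rcases Nat.lt_or_ge (i.val + 1) n with h1 | h1
  · exact ⟨⟨i.val + 1, h1⟩, ⟨i.val - 1, by omega⟩, by unfold adj; dsimp only; omega,
      by unfold adj; dsimp only; omega, by simp [Fin.ext_iff]; omega⟩
  · exact ⟨⟨0, by omega⟩, ⟨i.val - 1, by omega⟩, by unfold adj; dsimp only; omega,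
      by unfold adj; dsimp only; omega, by simp [Fin.ext_iff]; omega⟩

theorem card_ptSupps_le (hn : 9 ≤ n) : (ptSupps n).card ≤ 2 * n + 3 := by
  have hsub : ((Finset.univ : Finset (Fin n × Fin n)).filter fun x => adj x.1 x.2).image
      (fun x => ({x.1, x.2} : Finset (Fin n))) ⊆
      Finset.univ.image (fun i : Fin n => if h : i.val + 1 < n then {i, ⟨i.val + 1, h⟩} else {i, ⟨0, i.pos⟩}) ∪
        {{⟨0, by omega⟩, ⟨3, by omega⟩}, {⟨0, by omega⟩, ⟨5, by omega⟩}} := by
    intro S hS
    simp only [Finset.mem_image, Finset.mem_filter, Finset.mem_univ, true_and, Prod.exists] at hS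
    obtain ⟨i, j, h, rfl⟩ := hS
    simp only [Finset.mem_union, Finset.mem_image, Finset.mem_univ, true_and, Finset.mem_insert,
      Finset.mem_singleton]
    have key : ∀ i j : Fin n, (j.val = i.val + 1 ∨ i.val = n - 1 ∧ j.val = 0) →
        ∃ a : Fin n, (if h : a.val + 1 < n then ({a, ⟨a.val + 1, h⟩} : Finset (Fin n)) else {a, ⟨0, a.pos⟩}) = {i, j} := by
      intro i j h
      refine ⟨i, ?_⟩
      split_ifs with h1
      · rw [show j = ⟨i.val + 1, h1⟩ from Fin.ext (by simp only; omega)]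
      · rw [show j = ⟨0, i.pos⟩ from Fin.ext (by simp only; omega)]
    rcases h with h | h | ⟨h, h' | h' | h'⟩ | ⟨h, h' | h' | h'⟩
    · exact Or.inl (key i j (Or.inl h))
    · rw [Finset.pair_comm]; exact Or.inl (key j i (Or.inl h))
    · rw [Finset.pair_comm]; exact Or.inl (key j i (Or.inr ⟨h', h⟩))
    · exact Or.inr (Or.inl (by rw [show i = ⟨0, by omega⟩ from Fin.ext h, show j = ⟨3, by omega⟩ from Fin.ext h']))
    · exact Or.inr (Or.inr (by rw [show i = ⟨0, by omega⟩ from Fin.ext h, show j = ⟨5, by omega⟩ from Fin.ext h']))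
    · exact Or.inl (key i j (Or.inr ⟨h', h⟩))
    · exact Or.inr (Or.inl (by rw [Finset.pair_comm, show j = ⟨0, by omega⟩ from Fin.ext h, show i = ⟨3, by omega⟩ from Fin.ext h']))
    · exact Or.inr (Or.inr (by rw [Finset.pair_comm, show j = ⟨0, by omega⟩ from Fin.ext h, show i = ⟨5, by omega⟩ from Fin.ext h']))
  unfold ptSupps
  refine (Finset.card_union_le _ _).trans ?_
  refine le_trans (add_le_add Finset.card_image_le
    ((Finset.card_le_card hsub).trans ((Finset.card_union_le _ _).trans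
      (add_le_add Finset.card_image_le Finset.card_le_two)))) ?_
  simp; omega

theorem exists_colour_cycle (hn : 9 ≤ n) :
    ∃ col : (Fin n → ZMod 2) → Option (Fin 1),
      RigidOn Set.univ col ∧ ClosedCol col ∧ (col 0).isSome := by
  refine ⟨mkCol ((ptSupps n).image ind) ∅ 0 0, fun π _ hπ => ?_, closedCol_mkCol ?_, isSome_mkCol ?_⟩
  · have hZ : ∀ u ∈ (ptSupps n).image (ind : Finset (Fin n) → Fin n → ZMod 2),
        π u ∈ (ptSupps n).image (ind : Finset (Fin n) → Fin n → ZMod 2) :=
      fun u hu => mem_Z_of_preserved hπ hu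
    have memi : ∀ S : Finset (Fin n), (ind S : Fin n → ZMod 2) ∈ (ptSupps n).image ind ↔ S ∈ ptSupps n :=
      fun S => by
        rw [Finset.mem_image]
        exact ⟨fun ⟨T, hT, e⟩ => ind_injective e ▸ hT, fun h => ⟨S, h, rfl⟩⟩
    have hsing : ∀ i : Fin n, ({i} : Finset (Fin n)) ∈ ptSupps n :=
      fun i => mem_ptSupps.2 (Or.inl ⟨i, rfl⟩)
    have hbv : ∀ i, ∃ k, π (bv i) = bv k := by
      intro i
      obtain ⟨S, hS, e⟩ := Finset.mem_image.1 (hZ (bv i) (by rw [← ind_singleton]; exact (memi _).2 (hsing i)))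
      rcases mem_ptSupps.1 hS with ⟨k, rfl⟩ | ⟨k, l, hkl, rfl⟩
      · exact ⟨k, by rw [← e, ind_singleton]⟩
      exfalso
      obtain ⟨j₁, j₂, h₁, h₂, hne⟩ := vertex_partners hn i
      have part : ∀ j, adj i j → ∀ v, (v = bv j ∨ v = bv i + bv j) →
          π v = bv k ∨ π v = bv l := by
        intro j hj v hv
        have hmem : v ∈ (ptSupps n).image ind ∧ v + bv i ∈ (ptSupps n).image ind := by
          have e1 : (ind {i, j} : Fin n → ZMod 2) = bv i + bv j := by
            rw [ind_eq_sum, Finset.sum_pair (adj_ne hn hj)]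
          have hE : (bv i + bv j : Fin n → ZMod 2) ∈ (ptSupps n).image ind :=
            e1 ▸ (memi _).2 (mem_ptSupps.2 (Or.inr ⟨i, j, hj, rfl⟩))
          have hB : (bv j : Fin n → ZMod 2) ∈ (ptSupps n).image ind := by
            rw [← ind_singleton]; exact (memi _).2 (hsing j)
          rcases hv with rfl | rfl
          · exact ⟨hB, by rwa [add_comm]⟩
          · exact ⟨hE, by rwa [add_comm (bv i), add_assoc, show bv i + bv i = (0 : Fin n → ZMod 2) from funext fun _ => CharTwo.add_self_eq_zero _, add_zero]⟩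
        obtain ⟨X, hX, eX⟩ := Finset.mem_image.1 (hZ v hmem.1)
        have h2 := hZ _ hmem.2
        rw [map_add, ← eX, ← e, ind_add] at h2
        rcases edge_partner hn hkl hX ((memi _).1 h2) with h | h
        · exact Or.inl (by rw [← eX, h, ind_singleton])
        · exact Or.inr (by rw [← eX, h, ind_singleton])
      have a1 := part j₁ h₁ _ (Or.inl rfl)
      have a2 := part j₁ h₁ _ (Or.inr rfl)
      have a3 := part j₂ h₂ _ (Or.inl rfl)
      have d12 : (bv j₁ : Fin n → ZMod 2) ≠ bv i + bv j₁ := fun h => by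
        have h' := congrFun h i
        simp [bv, (adj_ne hn h₁)] at h'
      have d13 : (bv j₁ : Fin n → ZMod 2) ≠ bv j₂ := fun h => hne (bv_injective h)
      have d23 : (bv i + bv j₁ : Fin n → ZMod 2) ≠ bv j₂ := fun h => by
        have h' := congrFun h i
        simp [bv, (adj_ne hn h₁), (adj_ne hn h₂)] at h'
      rcases a1 with a1 | a1 <;> rcases a2 with a2 | a2 <;> rcases a3 with a3 | a3 <;>
        first
          | exact d12 (π.injective (a1.trans a2.symm))
          | exact d13 (π.injective (a1.trans a3.symm))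
          | exact d23 (π.injective (a2.trans a3.symm))
    choose σ hσ using hbv
    have hinj : Function.Injective σ := fun i j h =>
      bv_injective (π.injective (by rw [hσ, hσ, h]))
    have hadj : ∀ i j, adj i j → adj (σ i) (σ j) := by
      intro i j hij
      have h1 : (ind {i, j} : Fin n → ZMod 2) ∈ (ptSupps n).image ind :=
        (memi _).2 (mem_ptSupps.2 (Or.inr ⟨i, j, hij, rfl⟩))
      have h2 := hZ _ h1
      have hne : σ i ≠ σ j := fun h => adj_ne hn hij (hinj h)
      rw [ind_eq_sum, Finset.sum_pair (adj_ne hn hij), map_add, hσ, hσ,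
        ← Finset.sum_pair (f := bv) hne, ← ind_eq_sum] at h2
      rcases mem_ptSupps.1 ((memi _).1 h2) with ⟨k, hk⟩ | ⟨k, l, hkl, he⟩
      · have := congrArg Finset.card hk
        rw [Finset.card_pair hne, Finset.card_singleton] at this
        omega
      · have hk : k ∈ ({σ i, σ j} : Finset (Fin n)) := he ▸ by simp
        have hl : l ∈ ({σ i, σ j} : Finset (Fin n)) := he ▸ by simp
        simp only [Finset.mem_insert, Finset.mem_singleton] at hk hl
        have := adj_ne hn hkl
        rcases hk with rfl | rfl <;> rcases hl with rfl | rfl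
        exacts [absurd rfl this, hkl, adj_symm hkl, absurd rfl this]
    exact eq_id_of_basis π fun i => by rw [hσ, graph_rigid hn hinj hadj i]
  · rw [card_space]
    refine lt_of_le_of_lt (Nat.mul_le_mul_left 4 (Finset.card_image_le.trans (card_ptSupps_le hn))) ?_
    have key : ∀ m, 9 ≤ m → 4 * (2 * m + 3) < 2 ^ m := by
      intro m hm
      induction m, hm using Nat.le_induction with
      | base => norm_num
      | succ k hk ih => rw [pow_succ]; omega
    exact key n hn
  · rw [Finset.mem_image]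
    rintro ⟨S, hS, e⟩
    have hempty : S = ∅ := ind_injective (e.trans (by funext i; simp [ind]))
    rcases mem_ptSupps.1 hS with ⟨k, hk⟩ | ⟨k, l, -, hk⟩
    · exact Finset.singleton_ne_empty k (hk.symm.trans hempty)
    · exact Finset.insert_ne_empty k {l} (hk.symm.trans hempty)

/-- A single colour, `6 ≤ n`. -/
theorem exists_colour_single (hn : 6 ≤ n) :
    ∃ col : (Fin n → ZMod 2) → Option (Fin 1),
      RigidOn Set.univ col ∧ ClosedCol col ∧ (col 0).isSome := by
  rcases Nat.lt_or_ge n 9 with h | h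
  · rcases (show n = 6 ∨ n = 7 ∨ n = 8 by omega) with rfl | rfl | rfl
    exacts [exists_colour_six, exists_colour_seven, exists_colour_eight]
  · exact exists_colour_cycle h

end H58.BaseColour
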