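import Mathlib

/-!
The centraliser of a transitive permutation group.
-/

set_option autoImplicit false

namespace H58

open MulAction

variable {α : Type*}

theorem centraliser_semiregular (G : Subgroup (Equiv.Perm α)) [MulAction.IsPretransitive G α] :
    ∀ c ∈ Subgroup.centralizer (G : Set (Equiv.Perm α)), ∀ a : α, c a = a → c = 1 := by
  intro c hc a ha
  refine Equiv.ext fun x => ?_
  obtain ⟨g, rfl⟩ := MulAction.exists_smul_eq G a x
  change c ((g : Equiv.Perm α) a) = (g : Equiv.Perm α) a
  rw [← Equiv.Perm.mul_apply, ← hc g g.2, Equiv.Perm.mul_apply, ha]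

theorem centraliser_pretransitive_iff (G : Subgroup (Equiv.Perm α))
    [MulAction.IsPretransitive G α] :
    MulAction.IsPretransitive (Subgroup.centralizer (G : Set (Equiv.Perm α))) α ↔
      ∀ a : α, MulAction.stabilizer G a = ⊥ := by
  constructor
  · intro h a
    rw [Subgroup.eq_bot_iff_forall]
    intro g hg
    refine Subtype.ext (Equiv.ext fun x => ?_)
    obtain ⟨c, rfl⟩ := MulAction.exists_smul_eq (Subgroup.centralizer (G : Set (Equiv.Perm α))) a x
    change (g : Equiv.Perm α) ((c : Equiv.Perm α) a) = (c : Equiv.Perm α) a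
    rw [← Equiv.Perm.mul_apply, c.2 g g.2, Equiv.Perm.mul_apply]
    exact congrArg (c : Equiv.Perm α) hg
  · intro h
    refine ⟨fun a b => ?_⟩
    have hb : ∀ x : α, Function.Bijective fun g : G => g • x := by
      intro x
      refine ⟨fun g k hgk => ?_, MulAction.exists_smul_eq G x⟩
      have : k⁻¹ * g ∈ MulAction.stabilizer G x := by
        rw [MulAction.mem_stabilizer_iff, mul_smul, show g • x = k • x from hgk, inv_smul_smul]
      rw [h, Subgroup.mem_bot, inv_mul_eq_one] at this
      exact this.symm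
    let c : Equiv.Perm α := (Equiv.ofBijective _ (hb a)).symm.trans (Equiv.ofBijective _ (hb b))
    have hc : ∀ g : G, c (g • a) = g • b := fun g =>
      congrArg (Equiv.ofBijective _ (hb b)) ((Equiv.ofBijective _ (hb a)).symm_apply_apply g)
    refine ⟨⟨c, fun g hg => Equiv.ext fun x => ?_⟩, ?_⟩
    · obtain ⟨k, rfl⟩ := MulAction.exists_smul_eq G a x
      change g (c (k • a)) = c ((⟨g, hg⟩ : G) • k • a)
      rw [hc, ← mul_smul, hc, mul_smul]
      rfl
    · show c a = b
      simpa using hc 1

variable [Finite α]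

theorem centraliser_equiv_normalizer_quotient (G : Subgroup (Equiv.Perm α))
    [MulAction.IsPretransitive G α] (a : α) :
    Nonempty (Subgroup.centralizer (G : Set (Equiv.Perm α)) ≃*
      Subgroup.normalizer ((MulAction.stabilizer G a : Subgroup G) : Set G) ⧸
        (MulAction.stabilizer G a).subgroupOf
          (Subgroup.normalizer ((MulAction.stabilizer G a : Subgroup G) : Set G))) ∧
    MulAction.orbit (Subgroup.centralizer (G : Set (Equiv.Perm α))) a =
      MulAction.fixedPoints (MulAction.stabilizer G a) α := by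
  classical
  set H := MulAction.stabilizer G a with hH
  set N := Subgroup.normalizer (H : Set G)
  set C := Subgroup.centralizer (G : Set (Equiv.Perm α))
  have hs : ∀ x, ∃ g : G, g • a = x := MulAction.exists_smul_eq G a
  choose s hs using hs
  have hwd : ∀ n : N, ∀ g k : G, g • a = k • a → g • (n : G)⁻¹ • a = k • (n : G)⁻¹ • a := by
    intro n g k h
    have h1 : k⁻¹ * g ∈ H := by rw [hH, MulAction.mem_stabilizer_iff, mul_smul, h, inv_smul_smul]
    have h2 := (Subgroup.mem_normalizer_iff.mp n.2 _).mp h1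
    rw [hH, MulAction.mem_stabilizer_iff, mul_smul, mul_smul, mul_smul, smul_eq_iff_eq_inv_smul,
      inv_smul_eq_iff] at h2
    exact h2
  let f : N → Function.End α := fun n x => s x • (n : G)⁻¹ • a
  have hf : ∀ (n : N) (g : G), f n (g • a) = g • (n : G)⁻¹ • a := fun n g => hwd n _ _ (hs _)
  let φ' : N →* Function.End α :=
    { toFun := f
      map_one' := funext fun x => by simp [f, hs]; rfl
      map_mul' := fun m n => funext fun x => by
        change f (m * n) x = f m (f n x)
        obtain ⟨g, rfl⟩ := MulAction.exists_smul_eq G a x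
        rw [hf n, ← mul_smul g, hf, hf]
        simp [mul_smul] }
  let ψ : N →* Equiv.Perm α := Equiv.Perm.equivUnitsEnd.symm.toMonoidHom.comp φ'.toHomUnits
  have hψ : ∀ n (g : G), ψ n (g • a) = g • (n : G)⁻¹ • a := fun n g => hf n g
  have hψC : ∀ n, ψ n ∈ C := by
    intro n k hk
    refine Equiv.ext fun x => ?_
    obtain ⟨g, rfl⟩ := MulAction.exists_smul_eq G a x
    change k (ψ n (g • a)) = ψ n ((⟨k, hk⟩ : G) • g • a)
    rw [hψ, ← mul_smul _ g a, hψ, mul_smul]
    rfl
  let φ : N →* C := ψ.codRestrict C hψC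
  have hnorm : ∀ g : G, (∀ h ∈ H, h • g • a = g • a) → g⁻¹ ∈ N := by
    intro g hg
    have hN : ∀ x ∈ H, g⁻¹ * x * g⁻¹⁻¹ ∈ H := by
      intro x hx
      rw [inv_inv, hH, MulAction.mem_stabilizer_iff, mul_smul, mul_smul, hg x hx, inv_smul_smul]
    exact Subgroup.mem_normalizer_iff.mpr fun x => ⟨hN x, fun hx => by
      have hmap : H.map (MulAut.conj g⁻¹).toMonoidHom = H := by
        refine Subgroup.eq_of_le_of_card_ge ?_ (Subgroup.card_map_of_injective (MulAut.conj g⁻¹).injective).ge
        rintro _ ⟨y, hy, rfl⟩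
        exact hN y hy
      rw [← hmap] at hx
      obtain ⟨y, hy, he⟩ := hx
      exact (MulAut.conj g⁻¹).injective he ▸ hy⟩
  have hpt : ∀ c ∈ C, ∀ h ∈ H, (h : G) • c a = c a := by
    intro c hc h hh
    change ((h : Equiv.Perm α) * c) a = c a
    rw [hc h h.2]
    exact congrArg c hh
  have hsurj : Function.Surjective φ := by
    rintro ⟨c, hc⟩
    obtain ⟨g, hg⟩ := MulAction.exists_smul_eq G a (c a)
    refine ⟨⟨g⁻¹, hnorm g fun h hh => by rw [hg]; exact hpt c hc h hh⟩, Subtype.ext ?_⟩
    refine Equiv.ext fun x => ?_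
    obtain ⟨k, rfl⟩ := MulAction.exists_smul_eq G a x
    change ψ _ (k • a) = c (k • a)
    rw [hψ]
    simp only [inv_inv, hg]
    change ((k : Equiv.Perm α) * c) a = _
    rw [hc k k.2]
    rfl
  have hker : φ.ker = H.subgroupOf N := by
    ext n
    rw [MonoidHom.mem_ker, Subgroup.mem_subgroupOf, hH, MulAction.mem_stabilizer_iff]
    constructor
    · intro h
      have h1 := hψ n 1
      rw [show ψ n = 1 from congrArg Subtype.val h, one_smul, one_smul] at h1
      exact eq_inv_smul_iff.mp h1
    · intro h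
      refine Subtype.ext (Equiv.ext fun x => ?_)
      obtain ⟨g, rfl⟩ := MulAction.exists_smul_eq G a x
      change ψ n (g • a) = g • a
      rw [hψ, inv_smul_eq_iff.mpr h.symm]
  refine ⟨⟨(QuotientGroup.quotientKerEquivOfSurjective φ hsurj).symm.trans
    (QuotientGroup.quotientMulEquivOfEq hker)⟩, ?_⟩
  ext b
  constructor
  · rintro ⟨⟨c, hc⟩, rfl⟩ ⟨h, hh⟩
    exact hpt c hc h hh
  · intro hb
    obtain ⟨g, rfl⟩ := MulAction.exists_smul_eq G a b
    refine ⟨φ ⟨g⁻¹, hnorm g fun h hh => hb ⟨h, hh⟩⟩, ?_⟩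
    change ψ _ a = g • a
    conv_lhs => rw [← one_smul G a]
    rw [hψ]
    simp

end H58
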