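import Cfsg.Agent.H54.ChevCentralData

/-!
Tools for centralisers of products of commuting root elements in Chevalley groups:
comparison of supports under conjugation by monomial elements, and the stabiliser of a
dominant combination of two roots.
-/

set_option autoImplicit false
set_option linter.unusedSectionVars false

open Cfsg.Lie
open scoped MatrixGroups

namespace H58

namespace ChevMixed

open H54 H54.Ctx

variable {D : ChevalleyDatum} (C : H54.Ctx D) {F : Type*} [Field F]

include C in
/-- A product of commuting root elements with distinct positive roots is the ordered product. -/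
theorem noncommProd_eq_upProd {α : Type*} [DecidableEq α] (p : α → ℕ) (c : α → F) :
    ∀ (k : ℕ) (s : Finset α), (∀ a ∈ s, k ≤ p a ∧ p a < D.nroots) → Set.InjOn p s →
      ∀ hcm : (s : Set α).Pairwise (Function.onFun Commute fun a => H52.rt D (p a) (c a)),
      s.noncommProd (fun a => H52.rt D (p a) (c a)) hcm =
        H52.upProd D k (fun r => ∑ a ∈ s.filter (fun a => p a = r), c a) := by
  intro k
  induction hn : D.nroots - k generalizing k with
  | zero =>
    intro s hs _ hcm
    have : s = ∅ := Finset.eq_empty_of_forall_notMem fun a ha => by have := hs a ha; omega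
    subst this
    simp [H52.upProd, H52.wordRt, hn]
  | succ n ih =>
    intro s hs hinj hcm
    rw [H52.Checked.upProd_step (by omega)]
    by_cases hex : ∃ a ∈ s, p a = k
    · obtain ⟨a, ha, hak⟩ := hex
      have hfilt : s.filter (fun b => p b = k) = {a} := by
        ext b
        simp only [Finset.mem_filter, Finset.mem_singleton]
        exact ⟨fun h => hinj h.1 ha (h.2.trans hak.symm), fun h => h ▸ ⟨ha, hak⟩⟩
      rw [← Finset.mul_noncommProd_erase s ha, hfilt, Finset.sum_singleton, hak]
      congr 1
      refine (ih (k + 1) (by omega) (s.erase a) ?_ (hinj.mono (Finset.erase_subset _ _)) _).trans ?_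
      swap
      · refine H52.Checked.upProd_congr fun r hr _ => Finset.sum_congr ?_ fun _ _ => rfl
        ext b
        simp only [Finset.mem_filter, Finset.mem_erase]
        exact ⟨fun h => ⟨h.1.2, h.2⟩, fun h => ⟨⟨fun e => by rw [e, hak] at h; omega, h.1⟩, h.2⟩⟩
      · intro b hb
        obtain ⟨hba, hb⟩ := Finset.mem_erase.1 hb
        have := hs b hb
        have : p b ≠ k := fun e => hba (hinj hb ha (e.trans hak.symm))
        omega
    · push Not at hex
      rw [Finset.filter_eq_empty_iff.2 hex, Finset.sum_empty, C.hC.rt_zero, one_mul]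
      refine ih (k + 1) (by omega) s ?_ hinj hcm
      intro b hb
      have := hs b hb
      have := hex b hb
      omega

include C in
/-- If a monomial element conjugates a product of commuting root elements with positive roots
into a given ordered product, each factor goes to a positive root carrying a coefficient. -/
theorem image_support {n : GL D.Idx F} {π : Equiv.Perm (Fin D.nroots)} {s : Finset (Fin D.nroots)}
    (hs : ∀ r ∈ s, D.nroots / 2 ≤ r.val) (f : Fin D.nroots → F)
    (hcm : (s : Set (Fin D.nroots)).Pairwise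
      (Function.onFun Commute fun r => H52.rt D r.val (f r)))
    (hconj : ∀ (r : Fin D.nroots) (z : F), ∃ e : F, (z ≠ 0 → e ≠ 0) ∧
      n * H52.rt D r.val z * n⁻¹ = H52.rt D (π r).val e)
    (g : ℕ → F)
    (he : n * s.noncommProd (fun r => H52.rt D r.val (f r)) hcm * n⁻¹ =
      H52.upProd D (D.nroots / 2) g) :
    ∀ r ∈ s, f r ≠ 0 → D.nroots / 2 ≤ (π r).val ∧ g (π r).val ≠ 0 := by
  classical
  choose e he0 hec using fun r => hconj r (f r)
  have hU : D.posUnipotent F = H52.upper D F (D.nroots / 2) := C.hC.posUnipotent_eq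
  set z : Fin D.nroots → GL D.Idx F := fun r => H52.rt D r.val (f r) with hz
  have hz' : ∀ r, (MulAut.conj n).toMonoidHom (z r) = H52.rt D (π r).val (e r) := fun r => hec r
  set P := s.filter fun r => D.nroots / 2 ≤ (π r).val with hP
  set N := s.filter fun r => ¬ D.nroots / 2 ≤ (π r).val with hN
  have hcP := hcm.mono (Finset.coe_subset.2 (Finset.filter_subset _ s) : (P : Set (Fin D.nroots)) ⊆ s)
  have hcN := hcm.mono (Finset.coe_subset.2 (Finset.filter_subset _ s) : (N : Set (Fin D.nroots)) ⊆ s)
  have hsplit : s.noncommProd z hcm = P.noncommProd z hcP * N.noncommProd z hcN := by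
    have hd : Disjoint P N := Finset.disjoint_filter_filter_not s s _
    rw [← Finset.noncommProd_union_of_disjoint hd z
      (by rw [Finset.filter_union_filter_not_eq]; exact hcm)]
    exact Finset.noncommProd_congr (Finset.filter_union_filter_not_eq _ _).symm (fun _ _ => rfl) _
  have hPU : (MulAut.conj n).toMonoidHom (P.noncommProd z hcP) ∈ D.posUnipotent F := by
    rw [Finset.map_noncommProd]
    refine Subgroup.noncommProd_mem _ _ fun r hr => ?_
    rw [hz']
    exact C.hC.rt_mem_pos (Finset.mem_filter.1 hr).2 (π r).isLt _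
  have hNV : (MulAut.conj n).toMonoidHom (N.noncommProd z hcN) ∈ D.negUnipotent F := by
    rw [Finset.map_noncommProd]
    refine Subgroup.noncommProd_mem _ _ fun r hr => ?_
    rw [hz']
    exact C.hC.rt_mem_neg (not_le.1 (Finset.mem_filter.1 hr).2) _
  have he' : (MulAut.conj n).toMonoidHom (P.noncommProd z hcP) *
      (MulAut.conj n).toMonoidHom (N.noncommProd z hcN) = H52.upProd D (D.nroots / 2) g := by
    rw [← map_mul, ← hsplit]; exact he
  have hN1 : N.noncommProd z hcN = 1 := by
    have h1 : (MulAut.conj n).toMonoidHom (N.noncommProd z hcN) ∈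
        D.borelSubgroup F ⊓ D.negUnipotent F := by
      refine Subgroup.mem_inf.2 ⟨(le_sup_left : _ ≤ D.borelSubgroup F) ?_, hNV⟩
      have h2 : H52.upProd D (D.nroots / 2) g ∈ D.posUnipotent F := hU ▸ H52.Checked.upProd_mem _ g
      rw [← he'] at h2
      exact (Subgroup.mul_mem_cancel_left _ hPU).1 h2
    rw [C.hC.borel_inf_neg, Subgroup.mem_bot] at h1
    exact (MulAut.conj n).injective (h1.trans (map_one _).symm)
  have hNf : ∀ r ∈ N, f r = 0 := by
    intro r hr
    have h1 := noncommProd_eq_upProd C (fun r : Fin D.nroots => r.val) f (D.nroots / 2) N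
      (fun a ha => ⟨hs a (Finset.mem_of_mem_filter a ha), a.isLt⟩)
      (fun a _ b _ h => Fin.ext h) hcN
    rw [show N.noncommProd (fun r => H52.rt D r.val (f r)) hcN = 1 from hN1] at h1
    have h0 : H52.upProd D (D.nroots / 2) (fun _ => (0 : F)) = 1 := by
      rw [H52.upProd, H52.wordRt, List.prod_eq_one]
      intro x hx
      obtain ⟨q, hq, rfl⟩ := List.mem_map.1 hx
      obtain ⟨j, -, rfl⟩ := List.mem_map.1 hq
      exact C.hC.rt_zero _
    rw [← h0] at h1
    have h3 := C.hC.upProd_injective le_rfl h1 r.val (hs r (Finset.mem_of_mem_filter r hr)) r.isLt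
    rw [Finset.sum_eq_single r (fun b hb hne => absurd (Fin.ext (Finset.mem_filter.1 hb).2) hne)
      (fun h => (h (Finset.mem_filter.2 ⟨hr, rfl⟩)).elim)] at h3
    exact h3.symm
  intro r hr hfr
  have hpos : D.nroots / 2 ≤ (π r).val := by
    by_contra h
    exact hfr (hNf r (Finset.mem_filter.2 ⟨hr, h⟩))
  refine ⟨hpos, ?_⟩
  rw [hN1, map_one, mul_one] at he'
  have hcP' : (P : Set (Fin D.nroots)).Pairwise
      (Function.onFun Commute fun a => H52.rt D (π a).val (e a)) := by
    intro a ha b hb hab
    have := (hcP ha hb hab).map (MulAut.conj n).toMonoidHom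
    rw [hz', hz'] at this
    exact this
  have h4 : (MulAut.conj n).toMonoidHom (P.noncommProd z hcP) =
      P.noncommProd (fun a => H52.rt D (π a).val (e a)) hcP' := by
    rw [Finset.map_noncommProd]
    exact Finset.noncommProd_congr rfl (fun a _ => hz' a) _
  rw [h4, noncommProd_eq_upProd C (fun a => (π a).val) e (D.nroots / 2) P
    (fun a ha => ⟨(Finset.mem_filter.1 ha).2, (π a).isLt⟩)
    (fun a _ b _ h => π.injective (Fin.ext h))] at he'
  have h5 := C.hC.upProd_injective le_rfl he' _ hpos (π r).isLt
  rw [Finset.sum_eq_single r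
    (fun b hb hne => absurd (π.injective (Fin.ext (Finset.mem_filter.1 hb).2)) hne)
    (fun h => (h (Finset.mem_filter.2 ⟨Finset.mem_filter.2 ⟨hr, hpos⟩, rfl⟩)).elim)] at h5
  rw [← h5]
  exact he0 r hfr

include C in
/-- Conjugation of root elements by a monomial element. -/
theorem conj_monomial (c : Fin D.rank → Fˣ) (L : List (Fin D.rank)) (r : Fin D.nroots) (z : F) :
    ∃ e : F, (z ≠ 0 → e ≠ 0) ∧
      H52.torus D c * nw D F L * H52.rt D r.val z * (H52.torus D c * nw D F L)⁻¹ =
        H52.rt D (C.wperm L r).val e := by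
  obtain ⟨e, he, h⟩ := C.nw_conj_rt L r z
  refine ⟨((∏ i : Fin D.rank, c i ^ D.cartan i.val (C.wperm L r).val : Fˣ) : F) * ((e : F) * z),
    fun hz => ?_, ?_⟩
  swap
  · rw [show H52.torus D c * nw D F L * H52.rt D r.val z * (H52.torus D c * nw D F L)⁻¹ =
        H52.torus D c * (nw D F L * H52.rt D r.val z * (nw D F L)⁻¹) * (H52.torus D c)⁻¹ by
      group, h]
    exact C.hC.torus_conj_rt c (C.wperm L r).isLt _
  · refine mul_ne_zero (Units.ne_zero _) (mul_ne_zero ?_ hz)
    rcases he with rfl | rfl <;> simp

/-- The key of the image of the weighted sum of two roots. -/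
def kw (L : List (Fin D.rank)) (a b : Fin D.nroots) (x y : ℤ) : ℤ :=
  x * H52.keyOf D.rank (C.T.co (C.wperm L a).val) + y * H52.keyOf D.rank (C.T.co (C.wperm L b).val)

/-- A dominant combination of two roots is highest in its orbit, and its stabiliser is generated
by the fundamental reflections that it is orthogonal to. -/
theorem kw_le {a b : Fin D.nroots} {x y : ℤ}
    (hdom : ∀ i < D.rank, 0 ≤ x * D.cartan i a.val + y * D.cartan i b.val) :
    ∀ L : List (Fin D.rank), kw C L a b x y ≤ kw C [] a b x y ∧
      (kw C L a b x y = kw C [] a b x y →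
        ∃ L' : List (Fin D.rank), C.wperm L' = C.wperm L ∧
          ∀ i ∈ L', x * D.cartan i.val a.val + y * D.cartan i.val b.val = 0) := by
  intro L
  induction hn : ninv (C.wperm L) using Nat.strong_induction_on generalizing L with
  | _ n ih =>
  by_cases hex : ∃ r : Fin D.nroots, D.nroots / 2 ≤ r.val ∧ ¬ D.nroots / 2 ≤ (C.wperm L r).val
  swap
  · push Not at hex
    have h1 := C.wperm_fix hex
    have : kw C L a b x y = kw C [] a b x y := by rw [kw, kw, h1, C.wperm_nil]
    exact ⟨this.le, fun _ => ⟨[], by rw [h1]; rfl, by simp⟩⟩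
  obtain ⟨i, hi⟩ := C.W.descent (C.wperm_mem (F := ℚ) L) hex
  rw [not_le] at hi
  have hsi : (C.W.data.simple i).val = D.simple i.val := C.W.simple_eq i
  set al := C.W.data.simple i with hal
  have hapos : D.nroots / 2 ≤ al.val := hsi ▸ C.hC.simple_pos i.isLt
  have hco : ∀ r : Fin D.nroots, ∀ j < D.rank, C.T.co (C.W.sigma i r).val j =
      C.T.co r.val j + (- D.cartan i.val r.val) * C.T.co al.val j := by
    intro r j hj
    rw [C.sigma_val, C.hC.co_reflect i.isLt r.isLt hj, hsi, C.hC.co_simple i.isLt hj]
    split_ifs <;> ring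
  have happ : ∀ r, C.wperm (L ++ [i]) r = C.wperm L (C.W.sigma i r) := by
    intro r
    rw [C.wperm_append, Equiv.Perm.mul_apply, C.wperm_cons i [], C.wperm_nil, mul_one]
  have hstep : kw C (L ++ [i]) a b x y = kw C L a b x y -
      (x * D.cartan i.val a.val + y * D.cartan i.val b.val) *
        H52.keyOf D.rank (C.T.co (C.wperm L al).val) := by
    rw [kw, kw, happ, happ, C.wperm_key L _ _ _ _ (hco a), C.wperm_key L _ _ _ _ (hco b)]
    ring
  have hkey : H52.keyOf D.rank (C.T.co (C.wperm L al).val) < 0 := by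
    have h3 := C.hC.chain_neg_key_ne (C.wperm L al).isLt
    have h4 : ¬ 0 < H52.keyOf D.rank (C.T.co (C.wperm L al).val) := fun h5 => by
      have := (C.hC.key_pos_iff (C.wperm L al).isLt).1 h5; omega
    omega
  have hlt : ninv (C.wperm (L ++ [i])) < n := by
    rw [← hn, ninv, ninv, ← Finset.card_image_of_injective _ (C.W.sigma i).injective]
    apply Finset.card_lt_card
    have hax := C.axioms (F := ℚ)
    rw [Finset.ssubset_iff_of_subset]
    · refine ⟨al, Finset.mem_filter.2 ⟨Finset.mem_univ _, hapos, hi⟩, ?_⟩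
      simp only [Finset.mem_image, Finset.mem_filter, Finset.mem_univ, true_and, not_exists, not_and]
      intro z hz he
      have hz' : z = C.W.sigma i al := by
        rw [← he]; exact (hax.sigma_sigma i z).symm
      have h5 : ¬ D.nroots / 2 ≤ (C.W.sigma i al).val := by
        have := H53.RootGroupSys.pos_neg_a hax i
        rw [← hax.sigma_a i] at this
        exact this
      exact h5 (hz' ▸ hz.1)
    · intro z hz
      obtain ⟨z, hz₀, rfl⟩ := Finset.mem_image.1 hz
      obtain ⟨-, hz1, hz2⟩ := Finset.mem_filter.1 hz₀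
      rw [happ] at hz2
      refine Finset.mem_filter.2 ⟨Finset.mem_univ _, ?_, hz2⟩
      refine hax.sigma_pos i z hz1 fun e => ?_
      have h8 : C.wperm L (C.W.sigma i z) = C.wperm L (H53.WeylFor.negF C.W al) := by
        rw [e]; exact congrArg _ (hax.sigma_a i)
      rw [h8] at hz2
      have h9 := H53.RootGroupSys.W_neg hax (C.wperm_mem (F := ℚ) L) al
      rw [show (H53.grpSys C.W ℚ).neg al = H53.WeylFor.negF C.W al from rfl] at h9
      rw [h9] at hz2
      exact absurd ((C.W.pos_negF (C.wperm L al)).2 (not_le.2 hi)) (not_le.2 hz2)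
  obtain ⟨hle, heq⟩ := ih _ hlt (L ++ [i]) rfl
  have hd := hdom i.val i.isLt
  refine ⟨by nlinarith, fun he => ?_⟩
  have hzero : x * D.cartan i.val a.val + y * D.cartan i.val b.val = 0 := by nlinarith
  obtain ⟨L', hL', hz'⟩ := heq (by rw [hstep, hzero, he]; ring)
  refine ⟨L' ++ [i], ?_, ?_⟩
  · rw [C.wperm_append, hL', C.wperm_append, mul_assoc, C.wperm_cons i [], C.wperm_nil, mul_one]
    rw [show C.W.sigma i * C.W.sigma i = 1 from
      Equiv.ext fun r => (C.axioms (F := ℚ)).sigma_sigma i r, mul_one]
  · intro j hj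
    rcases List.mem_append.1 hj with hj | hj
    · exact hz' j hj
    · rw [List.mem_singleton.1 hj]; exact hzero

include C in
theorem sigma_fix {i : Fin D.rank} {a : Fin D.nroots} (h : D.cartan i.val a.val = 0) :
    C.W.sigma i a = a := by
  refine Fin.ext (C.hC.co_inj (C.W.sigma i a).isLt a.isLt fun j hj => ?_)
  rw [C.sigma_val, C.hC.co_reflect i.isLt a.isLt hj, h]
  simp

include C in
theorem wperm_fixes {L : List (Fin D.rank)} {a : Fin D.nroots}
    (h : ∀ i ∈ L, D.cartan i.val a.val = 0) : C.wperm L a = a := by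
  induction L with
  | nil => rfl
  | cons i L ih =>
    rw [wperm_cons, Equiv.Perm.mul_apply, ih fun j hj => h j (List.mem_cons_of_mem _ hj),
      sigma_fix C (h i List.mem_cons_self)]

include C in
/-- The inversion set of a word avoids every set of positive roots preserved by its letters. -/
theorem uinv_le_of {L : List (Fin D.rank)} {P : ℕ → Bool}
    (hP : ∀ r < D.nroots, P r = true → D.nroots / 2 ≤ r ∧ ∀ i ∈ L, P (D.reflectRoot i.val r) = true)
    (K : Subgroup (GL D.Idx F))
    (hK : ∀ (r : ℕ) (t : F), D.nroots / 2 ≤ r → r < D.nroots → P r = false → H52.rt D r t ∈ K) :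
    uinv D F (C.wperm L) ≤ K := by
  refine (Subgroup.closure_le _).2 ?_
  rintro g ⟨r, t, h1, h2, rfl⟩
  refine hK r.val t h1 r.isLt ?_
  by_contra hr
  rw [Bool.not_eq_false] at hr
  have key : ∀ M : List (Fin D.rank), (∀ i ∈ M, i ∈ L) → P (C.wperm M r).val = true := by
    intro M
    induction M with
    | nil => intro _; exact hr
    | cons i M ih =>
      intro hM
      rw [wperm_cons, Equiv.Perm.mul_apply, C.sigma_val]
      exact (hP _ (C.wperm M r).isLt (ih fun j hj => hM j (List.mem_cons_of_mem _ hj))).2 i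
        (hM i List.mem_cons_self)
  have := (hP _ (C.wperm L r).isLt (key L fun i hi => hi)).1
  omega

include C in
/-- A torus element trivial outside `J` lies in a group containing the rank one groups of `J`. -/
theorem torus_mem {c : Fin D.rank → Fˣ} {K : Subgroup (GL D.Idx F)} (J : ℕ → Prop)
    (hK : ∀ (j : ℕ) (t : F), j < D.rank → J j →
      H52.rt D (D.simple j) t ∈ K ∧ H52.rt D (D.neg (D.simple j)) t ∈ K)
    (hc : ∀ i : Fin D.rank, ¬ J i.val → c i = 1) : H52.torus D c ∈ K := by
  rw [C.hC.torus_eq_prod]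
  refine list_prod_mem fun z hz => ?_
  obtain ⟨i, -, rfl⟩ := List.mem_map.1 hz
  by_cases hJ : J i.val
  · refine H52.Checked.wordRt_mem K _ fun p hp => ?_
    have hpmem : p.1 = D.simple i.val ∨ p.1 = D.neg (D.simple i.val) := by
      simp only [ChevalleyDatum.hWord, ChevalleyDatum.nWord, List.mem_append, List.mem_cons,
        List.not_mem_nil, or_false] at hp
      rcases hp with (rfl | rfl | rfl) | (rfl | rfl | rfl) <;> simp
    rcases hpmem with e | e <;> rw [e]
    · exact (hK _ _ i.isLt hJ).1
    · exact (hK _ _ i.isLt hJ).2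
  · rw [hc i hJ]
    have : H52.hElt D (D.simple i.val) ((1 : Fˣ) : F) = 1 := by
      rw [C.hC.hElt_eq_dgR (C.hC.simple_lt i.isLt)]
      apply Units.ext
      rw [H52.coe_dgR]
      simp [← Matrix.diagonal_one]
    rw [this]; exact one_mem _

include C in
theorem nw_mem_of {L : List (Fin D.rank)} {K : Subgroup (GL D.Idx F)}
    (hK : ∀ i ∈ L, ∀ t : F,
      H52.rt D (D.simple i.val) t ∈ K ∧ H52.rt D (D.neg (D.simple i.val)) t ∈ K) :
    nw D F L ∈ K :=
  list_prod_mem fun z hz => by
    obtain ⟨i, hi, rfl⟩ := List.mem_map.1 hz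
    exact mul_mem (mul_mem (hK i hi _).1 (hK i hi _).2) (hK i hi _).1

include C in
/-- The monomial part differs from the representative of another word for it by a torus element. -/
theorem nw_div_mem {L L' : List (Fin D.rank)} (h : C.wperm L' = C.wperm L) :
    nw D F L * (nw D F L')⁻¹ ∈ D.diagonalSubgroup F := by
  have h1 : nw D F L * (nw D F L')⁻¹ = ((C.nwG L * (C.nwG L')⁻¹ : ↥(D.group F)) : GL D.Idx F) := by
    simp [coe_nwG]
  rw [h1, H53.mem_diag_iff C.hC C.W]
  refine H53.RootGroupSys.mem_H_of_acts_one C.axioms C.sep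
    (mul_mem (C.nwG_mem_N L) (inv_mem (C.nwG_mem_N L'))) ?_
  have := H53.RootGroupSys.acts_mul (C.nwG_acts (F := F) L)
    (H53.RootGroupSys.acts_inv (C.nwG_acts (F := F) L'))
  rwa [h, mul_inv_cancel] at this

end ChevMixed

end H58
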