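import Cfsg.Agent.H53.TwistD4
import Cfsg.Agent.H54.ChevBaseChange

/-!
Coordinates in the positive unipotent subgroup of ³D₄, any characteristic: products of root elements
are collected by rewriting with the commutator formula.
-/

set_option autoImplicit false
set_option linter.unusedSectionVars false

open Cfsg.Lie
open scoped MatrixGroups

namespace H58.D4Sub

variable {K : Type*} [Field K]

local notation "x" => H52.rt chevD4

/-- Roots with trivial commutator. -/
def CoCheck (r s : ℕ) : Prop :=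
  r < chevD4.nroots ∧ s < chevD4.nroots ∧ s ≠ r ∧ s ≠ chevD4.neg r ∧ chevD4.commTerms r s = []

/-- Roots with commutator in a third root group, which commutes with the first. -/
def SwCheck (r s k : ℕ) (m : ℤ) : Prop :=
  r < chevD4.nroots ∧ s < chevD4.nroots ∧ s ≠ r ∧ s ≠ chevD4.neg r ∧
    chevD4.commTerms r s = [(k, m, 1, 1)] ∧ CoCheck k r

instance (r s : ℕ) : Decidable (CoCheck r s) := by unfold CoCheck; infer_instance
instance (r s k : ℕ) (m : ℤ) : Decidable (SwCheck r s k m) := by unfold SwCheck; infer_instance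

theorem co {r s : ℕ} (h : CoCheck r s) (a b : K) : Commute (x r a) (x s b) :=
  H53.rt_commute H52.checkedD4 h.1 h.2.1 h.2.2.1 h.2.2.2.1 h.2.2.2.2 a b

theorem cog {r s : ℕ} (h : CoCheck r s) (a b : K) (g : GL chevD4.Idx K) :
    x r a * (x s b * g) = x s b * (x r a * g) := by
  rw [← mul_assoc, (co h a b).eq, mul_assoc]

theorem sw {r s k : ℕ} {m : ℤ} (h : SwCheck r s k m) (a b : K) :
    x r a * x s b = x s b * (x k ((m : K) * (a * b)) * x r a) := by
  obtain ⟨h1, h2, h3, h4, h5, hk⟩ := h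
  have e := H52.checkedD4.comm_rt h1 h2 h3 h4 a b
  simp only [H52.wordRt, ChevalleyDatum.commWord, h5, List.map_cons, List.map_nil, List.prod_cons,
    List.prod_nil, mul_one, pow_one] at e
  rw [show (m : K) * -a * b = -((m : K) * (a * b)) by ring, ← H52.checkedD4.rt_inv,
    eq_mul_inv_iff_mul_eq] at e
  rw [← e, (co hk _ _).eq, mul_assoc]

theorem swg {r s k : ℕ} {m : ℤ} (h : SwCheck r s k m) (a b : K) (g : GL chevD4.Idx K) :
    x r a * (x s b * g) = x s b * (x k ((m : K) * (a * b)) * (x r a * g)) := by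
  rw [← mul_assoc, sw h, mul_assoc, mul_assoc]

theorem mg (r : ℕ) (a b : K) (g : GL chevD4.Idx K) : x r a * (x r b * g) = x r (a + b) * g := by
  rw [← mul_assoc, H52.checkedD4.rt_mul]

set_option maxHeartbeats 1000000 in
/-- Rewriting to the order 14, 19, 16, 15, 17, 20, 21, 22, 23, 18, 13, 12. -/
theorem rules :
    (∀ (a b : K) g, x 19 a * (x 14 b * g) = x 14 b * (x 19 a * g)) ∧
    (∀ (a b : K) g, x 16 a * (x 14 b * g) = x 14 b * (x 16 a * g)) ∧
    (∀ (a b : K) g, x 16 a * (x 19 b * g) = x 19 b * (x 16 a * g)) ∧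
    (∀ (a b : K) g, x 15 a * (x 14 b * g) = x 14 b * (x 15 a * g)) ∧
    (∀ (a b : K) g, x 15 a * (x 19 b * g) = x 19 b * (x 15 a * g)) ∧
    (∀ (a b : K) g, x 15 a * (x 16 b * g) = x 16 b * (x 15 a * g)) ∧
    (∀ (a b : K) g, x 17 a * (x 14 b * g) = x 14 b * (x 17 a * g)) ∧
    (∀ (a b : K) g, x 17 a * (x 19 b * g) = x 19 b * (x 23 ((a * b)) * (x 17 a * g))) ∧
    (∀ (a b : K) g, x 17 a * (x 16 b * g) = x 16 b * (x 17 a * g)) ∧
    (∀ (a b : K) g, x 17 a * (x 15 b * g) = x 15 b * (x 17 a * g)) ∧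
    (∀ (a b : K) g, x 20 a * (x 14 b * g) = x 14 b * (x 20 a * g)) ∧
    (∀ (a b : K) g, x 20 a * (x 19 b * g) = x 19 b * (x 20 a * g)) ∧
    (∀ (a b : K) g, x 20 a * (x 16 b * g) = x 16 b * (x 23 ((a * b)) * (x 20 a * g))) ∧
    (∀ (a b : K) g, x 20 a * (x 15 b * g) = x 15 b * (x 20 a * g)) ∧
    (∀ (a b : K) g, x 20 a * (x 17 b * g) = x 17 b * (x 20 a * g)) ∧
    (∀ (a b : K) g, x 21 a * (x 14 b * g) = x 14 b * (x 21 a * g)) ∧
    (∀ (a b : K) g, x 21 a * (x 19 b * g) = x 19 b * (x 21 a * g)) ∧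
    (∀ (a b : K) g, x 21 a * (x 16 b * g) = x 16 b * (x 21 a * g)) ∧
    (∀ (a b : K) g, x 21 a * (x 15 b * g) = x 15 b * (x 23 ((a * b)) * (x 21 a * g))) ∧
    (∀ (a b : K) g, x 21 a * (x 17 b * g) = x 17 b * (x 21 a * g)) ∧
    (∀ (a b : K) g, x 21 a * (x 20 b * g) = x 20 b * (x 21 a * g)) ∧
    (∀ (a b : K) g, x 22 a * (x 14 b * g) = x 14 b * (x 23 (-(a * b)) * (x 22 a * g))) ∧
    (∀ (a b : K) g, x 22 a * (x 19 b * g) = x 19 b * (x 22 a * g)) ∧
    (∀ (a b : K) g, x 22 a * (x 16 b * g) = x 16 b * (x 22 a * g)) ∧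
    (∀ (a b : K) g, x 22 a * (x 15 b * g) = x 15 b * (x 22 a * g)) ∧
    (∀ (a b : K) g, x 22 a * (x 17 b * g) = x 17 b * (x 22 a * g)) ∧
    (∀ (a b : K) g, x 22 a * (x 20 b * g) = x 20 b * (x 22 a * g)) ∧
    (∀ (a b : K) g, x 22 a * (x 21 b * g) = x 21 b * (x 22 a * g)) ∧
    (∀ (a b : K) g, x 23 a * (x 14 b * g) = x 14 b * (x 23 a * g)) ∧
    (∀ (a b : K) g, x 23 a * (x 19 b * g) = x 19 b * (x 23 a * g)) ∧
    (∀ (a b : K) g, x 23 a * (x 16 b * g) = x 16 b * (x 23 a * g)) ∧
    (∀ (a b : K) g, x 23 a * (x 15 b * g) = x 15 b * (x 23 a * g)) ∧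
    (∀ (a b : K) g, x 23 a * (x 17 b * g) = x 17 b * (x 23 a * g)) ∧
    (∀ (a b : K) g, x 23 a * (x 20 b * g) = x 20 b * (x 23 a * g)) ∧
    (∀ (a b : K) g, x 23 a * (x 21 b * g) = x 21 b * (x 23 a * g)) ∧
    (∀ (a b : K) g, x 23 a * (x 22 b * g) = x 22 b * (x 23 a * g)) ∧
    (∀ (a b : K) g, x 18 a * (x 14 b * g) = x 14 b * (x 19 (-(a * b)) * (x 18 a * g))) ∧
    (∀ (a b : K) g, x 18 a * (x 19 b * g) = x 19 b * (x 18 a * g)) ∧
    (∀ (a b : K) g, x 18 a * (x 16 b * g) = x 16 b * (x 21 (-(a * b)) * (x 18 a * g))) ∧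
    (∀ (a b : K) g, x 18 a * (x 15 b * g) = x 15 b * (x 20 (-(a * b)) * (x 18 a * g))) ∧
    (∀ (a b : K) g, x 18 a * (x 17 b * g) = x 17 b * (x 22 (-(a * b)) * (x 18 a * g))) ∧
    (∀ (a b : K) g, x 18 a * (x 20 b * g) = x 20 b * (x 18 a * g)) ∧
    (∀ (a b : K) g, x 18 a * (x 21 b * g) = x 21 b * (x 18 a * g)) ∧
    (∀ (a b : K) g, x 18 a * (x 22 b * g) = x 22 b * (x 18 a * g)) ∧
    (∀ (a b : K) g, x 18 a * (x 23 b * g) = x 23 b * (x 18 a * g)) ∧
    (∀ (a b : K) g, x 13 a * (x 14 b * g) = x 14 b * (x 16 ((a * b)) * (x 13 a * g))) ∧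
    (∀ (a b : K) g, x 13 a * (x 19 b * g) = x 19 b * (x 21 ((a * b)) * (x 13 a * g))) ∧
    (∀ (a b : K) g, x 13 a * (x 16 b * g) = x 16 b * (x 13 a * g)) ∧
    (∀ (a b : K) g, x 13 a * (x 15 b * g) = x 15 b * (x 17 ((a * b)) * (x 13 a * g))) ∧
    (∀ (a b : K) g, x 13 a * (x 17 b * g) = x 17 b * (x 13 a * g)) ∧
    (∀ (a b : K) g, x 13 a * (x 20 b * g) = x 20 b * (x 22 ((a * b)) * (x 13 a * g))) ∧
    (∀ (a b : K) g, x 13 a * (x 21 b * g) = x 21 b * (x 13 a * g)) ∧
    (∀ (a b : K) g, x 13 a * (x 22 b * g) = x 22 b * (x 13 a * g)) ∧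
    (∀ (a b : K) g, x 13 a * (x 23 b * g) = x 23 b * (x 13 a * g)) ∧
    (∀ (a b : K) g, x 13 a * (x 18 b * g) = x 18 b * (x 13 a * g)) ∧
    (∀ (a b : K) g, x 12 a * (x 14 b * g) = x 14 b * (x 15 ((a * b)) * (x 12 a * g))) ∧
    (∀ (a b : K) g, x 12 a * (x 19 b * g) = x 19 b * (x 20 ((a * b)) * (x 12 a * g))) ∧
    (∀ (a b : K) g, x 12 a * (x 16 b * g) = x 16 b * (x 17 ((a * b)) * (x 12 a * g))) ∧
    (∀ (a b : K) g, x 12 a * (x 15 b * g) = x 15 b * (x 12 a * g)) ∧
    (∀ (a b : K) g, x 12 a * (x 17 b * g) = x 17 b * (x 12 a * g)) ∧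
    (∀ (a b : K) g, x 12 a * (x 20 b * g) = x 20 b * (x 12 a * g)) ∧
    (∀ (a b : K) g, x 12 a * (x 21 b * g) = x 21 b * (x 22 ((a * b)) * (x 12 a * g))) ∧
    (∀ (a b : K) g, x 12 a * (x 22 b * g) = x 22 b * (x 12 a * g)) ∧
    (∀ (a b : K) g, x 12 a * (x 23 b * g) = x 23 b * (x 12 a * g)) ∧
    (∀ (a b : K) g, x 12 a * (x 18 b * g) = x 18 b * (x 12 a * g)) ∧
    (∀ (a b : K) g, x 12 a * (x 13 b * g) = x 13 b * (x 12 a * g)) := by
  refine ⟨
    cog (by decide +kernel),
    cog (by decide +kernel),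
    cog (by decide +kernel),
    cog (by decide +kernel),
    cog (by decide +kernel),
    cog (by decide +kernel),
    cog (by decide +kernel),
    fun a b g => (swg (k := 23) (m := 1) (by decide +kernel) a b g).trans (by simp),
    cog (by decide +kernel),
    cog (by decide +kernel),
    cog (by decide +kernel),
    cog (by decide +kernel),
    fun a b g => (swg (k := 23) (m := 1) (by decide +kernel) a b g).trans (by simp),
    cog (by decide +kernel),
    cog (by decide +kernel),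
    cog (by decide +kernel),
    cog (by decide +kernel),
    cog (by decide +kernel),
    fun a b g => (swg (k := 23) (m := 1) (by decide +kernel) a b g).trans (by simp),
    cog (by decide +kernel),
    cog (by decide +kernel),
    fun a b g => (swg (k := 23) (m := -1) (by decide +kernel) a b g).trans (by simp),
    cog (by decide +kernel),
    cog (by decide +kernel),
    cog (by decide +kernel),
    cog (by decide +kernel),
    cog (by decide +kernel),
    cog (by decide +kernel),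
    cog (by decide +kernel),
    cog (by decide +kernel),
    cog (by decide +kernel),
    cog (by decide +kernel),
    cog (by decide +kernel),
    cog (by decide +kernel),
    cog (by decide +kernel),
    cog (by decide +kernel),
    fun a b g => (swg (k := 19) (m := -1) (by decide +kernel) a b g).trans (by simp),
    cog (by decide +kernel),
    fun a b g => (swg (k := 21) (m := -1) (by decide +kernel) a b g).trans (by simp),
    fun a b g => (swg (k := 20) (m := -1) (by decide +kernel) a b g).trans (by simp),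
    fun a b g => (swg (k := 22) (m := -1) (by decide +kernel) a b g).trans (by simp),
    cog (by decide +kernel),
    cog (by decide +kernel),
    cog (by decide +kernel),
    cog (by decide +kernel),
    fun a b g => (swg (k := 16) (m := 1) (by decide +kernel) a b g).trans (by simp),
    fun a b g => (swg (k := 21) (m := 1) (by decide +kernel) a b g).trans (by simp),
    cog (by decide +kernel),
    fun a b g => (swg (k := 17) (m := 1) (by decide +kernel) a b g).trans (by simp),
    cog (by decide +kernel),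
    fun a b g => (swg (k := 22) (m := 1) (by decide +kernel) a b g).trans (by simp),
    cog (by decide +kernel),
    cog (by decide +kernel),
    cog (by decide +kernel),
    cog (by decide +kernel),
    fun a b g => (swg (k := 15) (m := 1) (by decide +kernel) a b g).trans (by simp),
    fun a b g => (swg (k := 20) (m := 1) (by decide +kernel) a b g).trans (by simp),
    fun a b g => (swg (k := 17) (m := 1) (by decide +kernel) a b g).trans (by simp),
    cog (by decide +kernel),
    cog (by decide +kernel),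
    cog (by decide +kernel),
    fun a b g => (swg (k := 22) (m := 1) (by decide +kernel) a b g).trans (by simp),
    cog (by decide +kernel),
    cog (by decide +kernel),
    cog (by decide +kernel),
    cog (by decide +kernel)⟩

end H58.D4Sub
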