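import Cfsg.Agent.H58.D4SubId
import Cfsg.Agent.H53.TwistD4Res

/-!
Weyl elements, membership and the field automorphism for the root elements of ³D₄.
-/

set_option autoImplicit false
set_option linter.unusedSectionVars false

open Cfsg.Lie
open scoped MatrixGroups

namespace H58.D4Sub

variable {K : Type*} [Field K] (f : K ≃+* K)

local notation "x" => H52.rt chevD4
local notation "σ" => H54.glF chevD4 (RingHomClass.toRingHom f)

/-- The checked data of D₄. -/
def ctx : H54.Ctx chevD4 := ⟨H52.tablesD4, H52.checkedD4, H53.weylForD4, H53.D4T.ok⟩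

/-- The Weyl element of the middle node. -/
noncomputable def nb (K : Type*) [Field K] : GL chevD4.Idx K := H52.nElt chevD4 14 (1 : K)

/-- The Weyl element of the outer nodes. -/
noncomputable def na (K : Type*) [Field K] : GL chevD4.Idx K :=
  H52.nElt chevD4 18 (1 : K) * H52.nElt chevD4 13 1 * H52.nElt chevD4 12 1

theorem nbx {r s : ℕ} (e : ℤ) (h : r < chevD4.nroots ∧ chevD4.reflectRoot 1 r = s ∧
    H52.tablesD4.eps 1 r = e) (t : K) : nb K * x r t * (nb K)⁻¹ = x s ((e : K) * t) := by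
  obtain ⟨h1, rfl, rfl⟩ := h
  have h2 := H52.checkedD4.sig_conj_rt (F := K) (i := 1) (by decide) h1 t
  rw [show chevD4.simple 1 = 14 by decide +kernel] at h2
  exact h2

theorem nax {r r1 r2 s : ℕ} (e : ℤ) (h : r < chevD4.nroots ∧ r1 < chevD4.nroots ∧ r2 < chevD4.nroots ∧
    chevD4.reflectRoot 3 r = r1 ∧ chevD4.reflectRoot 2 r1 = r2 ∧ chevD4.reflectRoot 0 r2 = s ∧
    H52.tablesD4.eps 0 r2 * (H52.tablesD4.eps 2 r1 * H52.tablesD4.eps 3 r) = e) (t : K) :
    na K * x r t * (na K)⁻¹ = x s ((e : K) * t) := by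
  obtain ⟨h0, h1, h2, rfl, rfl, rfl, rfl⟩ := h
  have e3 := H52.checkedD4.sig_conj_rt (F := K) (i := 3) (by decide) h0 t
  have e2 := H52.checkedD4.sig_conj_rt (F := K) (i := 2) (by decide) h1
    ((H52.tablesD4.eps 3 r : K) * t)
  have e0 := H52.checkedD4.sig_conj_rt (F := K) (i := 0) (by decide) h2
    ((H52.tablesD4.eps 2 (chevD4.reflectRoot 3 r) : K) * ((H52.tablesD4.eps 3 r : K) * t))
  rw [show chevD4.simple 3 = 12 by decide +kernel] at e3
  rw [show chevD4.simple 2 = 13 by decide +kernel] at e2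
  rw [show chevD4.simple 0 = 18 by decide +kernel] at e0
  simp only [Int.cast_mul, mul_assoc] at e0 ⊢
  rw [← e0, ← e2, ← e3, na]
  group

theorem conj3 (n a b c : GL chevD4.Idx K) :
    n * (a * b * c) * n⁻¹ = (n * a * n⁻¹) * (n * b * n⁻¹) * (n * c * n⁻¹) := by group

theorem nb_A (a : K) : nb K * A f a * (nb K)⁻¹ = U1 f (-a) := by
  rw [A, U1, conj3, nbx (s := 19) 1 (by decide +kernel), nbx (s := 16) (-1) (by decide +kernel),
    nbx (s := 15) (-1) (by decide +kernel)]
  simp

theorem nb_U1 (u : K) : nb K * U1 f u * (nb K)⁻¹ = A f u := by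
  rw [A, U1, conj3, nbx (s := 18) (-1) (by decide +kernel), nbx (s := 13) 1 (by decide +kernel),
    nbx (s := 12) 1 (by decide +kernel)]
  simp

theorem nb_W (w : K) : nb K * W f w * (nb K)⁻¹ = W f w := by
  rw [W, conj3, nbx (s := 17) 1 (by decide +kernel), nbx (s := 20) 1 (by decide +kernel),
    nbx (s := 21) 1 (by decide +kernel)]
  simp

theorem nb_S (s : K) : nb K * x 22 s * (nb K)⁻¹ = x 23 s := by
  rw [nbx (s := 23) 1 (by decide +kernel)]; simp

theorem nb_E (e : K) : nb K * x 23 e * (nb K)⁻¹ = x 22 (-e) := by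
  rw [nbx (s := 22) (-1) (by decide +kernel)]; simp

theorem nb_B (k : K) : nb K * x 14 k * (nb K)⁻¹ = x 9 (-k) := by
  rw [nbx (s := 9) (-1) (by decide +kernel)]; simp

theorem nb_En (t : K) : nb K * x 0 t * (nb K)⁻¹ = x 1 (-t) := by
  rw [nbx (s := 1) (-1) (by decide +kernel)]; simp

theorem na_A (a : K) : na K * A f a * (na K)⁻¹ = An f (-a) := by
  rw [A, An, conj3, nax (r1 := 18) (r2 := 18) (s := 5) (-1) (by decide +kernel),
    nax (r1 := 13) (r2 := 10) (s := 10) (-1) (by decide +kernel),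
    nax (r1 := 11) (r2 := 11) (s := 11) (-1) (by decide +kernel)]
  simp

theorem na_U1 (u : K) : na K * U1 f u * (na K)⁻¹ = W f (-u) := by
  rw [W, U1, conj3, nax (r1 := 20) (r2 := 22) (s := 17) 1 (by decide +kernel),
    nax (r1 := 17) (r2 := 15) (s := 20) 1 (by decide +kernel),
    nax (r1 := 14) (r2 := 16) (s := 21) 1 (by decide +kernel)]
  simp

theorem na_W (w : K) : na K * W f w * (na K)⁻¹ = U1 f w := by
  rw [W, U1, conj3, nax (r1 := 16) (r2 := 14) (s := 19) (-1) (by decide +kernel),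
    nax (r1 := 19) (r2 := 21) (s := 16) (-1) (by decide +kernel),
    nax (r1 := 22) (r2 := 20) (s := 15) (-1) (by decide +kernel)]
  simp

theorem na_S (s : K) : na K * x 22 s * (na K)⁻¹ = x 14 s := by
  rw [nax (r1 := 21) (r2 := 19) (s := 14) 1 (by decide +kernel)]; simp

theorem na_Sn (t : K) : na K * x 1 t * (na K)⁻¹ = x 9 t := by
  rw [nax (r1 := 2) (r2 := 4) (s := 9) 1 (by decide +kernel)]; simp

/-- The hypotheses on `q` and the Frobenius map. -/
structure Frob (q : ℕ) (f : K ≃+* K) : Prop where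
  eq : ∀ t, f t = t ^ q
  three : ∀ t, f (f (f t)) = t

/-- The points of the twisted group fixed by the field automorphism. -/
noncomputable def Fxd (q : ℕ) (f : K ≃+* K) : Subgroup (GL chevD4.Idx K) :=
  twistedD4 K q ⊓ (H54.glF chevD4 (f : K →+* K)).eqLocus (MonoidHom.id _)

theorem mem_Fxd {q : ℕ} {g : GL chevD4.Idx K} : g ∈ Fxd q f ↔ g ∈ twistedD4 K q ∧ σ g = g :=
  Iff.rfl

theorem σ_rt (r : ℕ) (t : K) : σ (x r t) = x r (f t) := ctx.glF_rt _ r t

theorem σ_A (a : K) : σ (A f a) = A f (f a) := by simp [A, σ_rt]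
theorem σ_An (a : K) : σ (An f a) = An f (f a) := by simp [An, σ_rt]
theorem σ_U1 (u : K) : σ (U1 f u) = U1 f (f u) := by simp [U1, σ_rt]
theorem σ_W (w : K) : σ (W f w) = W f (f w) := by simp [W, σ_rt]

theorem σ_nElt (r : ℕ) : σ (H52.nElt chevD4 r (1 : K)) = H52.nElt chevD4 r (1 : K) := by
  simp [H52.Checked.nElt_eq, σ_rt]

variable {f} {q : ℕ} (hf : Frob q f)
include hf

theorem qqq (t : K) : ((t ^ q) ^ q) ^ q = t := by rw [← hf.eq, ← hf.eq, ← hf.eq, hf.three]

theorem A_mem (a : K) : A f a ∈ twistedD4 K q := by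
  have h := H53.D4T.triple_mem q (a := 18) (b := 13) (c := 12) (by decide) a
  rwa [H53.D4T.sq_pow, ← hf.eq, ← hf.eq] at h

theorem An_mem (a : K) : An f a ∈ twistedD4 K q := by
  have h := H53.D4T.triple_mem q (a := 5) (b := 10) (c := 11) (by decide) a
  rwa [H53.D4T.sq_pow, ← hf.eq, ← hf.eq] at h

theorem single_fx {r : ℕ} (hr : r ∈ [14, 9]) {k : K} (hk : f k = k) : x r k ∈ Fxd q f :=
  ⟨H53.D4T.single_mem hr (by rw [← hf.eq, hk]), by
    show σ (x r k) = x r k
    rw [σ_rt, hk]⟩

theorem nb_fx : nb K ∈ Fxd q f := by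
  refine ⟨?_, σ_nElt f 14⟩
  have h := H53.D4T.mk_mem (qqq hf) (0 : Fin 2)
  rw [Subgroup.mem_subgroupOf, H53.D4T.coe_mk] at h
  rwa [show ((H53.D4T.spec.word 0).map fun i => H52.nElt chevD4 (chevD4.simple i.val) (1 : K)).prod = nb K
    from (mul_one _).trans (congrArg (fun z => H52.nElt chevD4 z (1 : K)) (H53.D4T.simple_val (1 : Fin 4)).1)] at h

theorem na_fx : na K ∈ Fxd q f := by
  refine ⟨?_, show σ (na K) = na K by simp [na, σ_nElt]⟩
  have h := H53.D4T.mk_mem (qqq hf) (1 : Fin 2)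
  rw [Subgroup.mem_subgroupOf, H53.D4T.coe_mk] at h
  rwa [show ((H53.D4T.spec.word 1).map fun i => H52.nElt chevD4 (chevD4.simple i.val) (1 : K)).prod = na K
    from by
      show H52.nElt chevD4 (chevD4.simple (0 : Fin 4).val) (1 : K) *
        (H52.nElt chevD4 (chevD4.simple (2 : Fin 4).val) 1 *
          (H52.nElt chevD4 (chevD4.simple (3 : Fin 4).val) 1 * 1)) = _
      rw [(H53.D4T.simple_val 0).1, (H53.D4T.simple_val 2).1, (H53.D4T.simple_val 3).1, mul_one, ← mul_assoc]
      rfl] at h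

theorem U1_mem (u : K) : U1 f u ∈ twistedD4 K q := by
  rw [← neg_neg u, ← nb_A]
  exact mul_mem (mul_mem (nb_fx hf).1 (A_mem hf _)) (inv_mem (nb_fx hf).1)

theorem W_mem (w : K) : W f w ∈ twistedD4 K q := by
  rw [← neg_neg w, ← na_U1]
  exact mul_mem (mul_mem (na_fx hf).1 (U1_mem hf _)) (inv_mem (na_fx hf).1)

theorem A_fx {a : K} (ha : f a = a) : A f a ∈ Fxd q f :=
  ⟨A_mem hf a, show σ (A f a) = A f a by rw [σ_A, ha]⟩

theorem U1_fx {u : K} (hu : f u = u) : U1 f u ∈ Fxd q f :=
  ⟨U1_mem hf u, show σ (U1 f u) = U1 f u by rw [σ_U1, hu]⟩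

theorem W_fx {w : K} (hw : f w = w) : W f w ∈ Fxd q f :=
  ⟨W_mem hf w, show σ (W f w) = W f w by rw [σ_W, hw]⟩

theorem S_fx {s : K} (hs : f s = s) : x 22 s ∈ Fxd q f := by
  have h : x 22 s = (na K)⁻¹ * x 14 s * na K := by rw [← na_S]; group
  rw [h]
  exact mul_mem (mul_mem (inv_mem (na_fx hf)) (single_fx hf (by decide) hs)) (na_fx hf)

theorem E_fx {e : K} (he : f e = e) : x 23 e ∈ Fxd q f := by
  rw [← nb_S]
  exact mul_mem (mul_mem (nb_fx hf) (S_fx hf he)) (inv_mem (nb_fx hf))

omit hf in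
theorem rt_pos {r : ℕ} (h : chevD4.nroots / 2 ≤ r ∧ r < chevD4.nroots) (t : K) :
    x r t ∈ chevD4.posUnipotent K :=
  H52.checkedD4.rt_mem_pos h.1 h.2 t

omit hf in
theorem A_pos (a : K) : A f a ∈ chevD4.posUnipotent K :=
  mul_mem (mul_mem (rt_pos (by decide +kernel) _) (rt_pos (by decide +kernel) _)) (rt_pos (by decide +kernel) _)

omit hf in
theorem U1_pos (a : K) : U1 f a ∈ chevD4.posUnipotent K :=
  mul_mem (mul_mem (rt_pos (by decide +kernel) _) (rt_pos (by decide +kernel) _)) (rt_pos (by decide +kernel) _)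

omit hf in
theorem W_pos (a : K) : W f a ∈ chevD4.posUnipotent K :=
  mul_mem (mul_mem (rt_pos (by decide +kernel) _) (rt_pos (by decide +kernel) _)) (rt_pos (by decide +kernel) _)

omit hf in
theorem sep_SE {p p' e e' : K} (h : x 22 p * x 23 e = x 22 p' * x 23 e') : p = p' ∧ e = e' := by
  have h1 : x 22 (p - p') = x 23 (e' - e) := by
    calc x 22 (p - p') = (x 22 p')⁻¹ * (x 22 p * x 23 e) * (x 23 e)⁻¹ := by
          rw [H52.checkedD4.rt_inv, ← mul_assoc, H52.checkedD4.rt_mul, mul_inv_cancel_right,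
            neg_add_eq_sub]
      _ = _ := by
        rw [h, ← mul_assoc, inv_mul_cancel, one_mul, H52.checkedD4.rt_inv, H52.checkedD4.rt_mul,
          sub_eq_add_neg]
  have hp : p = p' := by
    by_contra hp
    have := (ctx.rt_eq_rt (r := 22) (s := 23) (by decide +kernel) (by decide +kernel) (sub_ne_zero.2 hp) h1).1
    omega
  subst hp
  exact ⟨rfl, H52.checkedD4.rt_injective (by decide +kernel) (mul_left_cancel h)⟩

/-- Every element of `U¹` in coordinates. -/
theorem exists_coord [Fintype K] (hq : IsPrimePow q) (hK : Fintype.card K = q ^ 3) {g : GL chevD4.Idx K}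
    (hg : g ∈ chevD4.posUnipotent K) (hgt : g ∈ twistedD4 K q) :
    ∃ k s e a u w : K, f k = k ∧ f s = s ∧ f e = e ∧
      g = x 14 k * (x 22 s * (x 23 e * (A f a * (U1 f u * W f w)))) := by
  classical
  let R := {t : K // f t = t}
  let Φ : R × R × R × K × K × K → ↥(chevD4.posUnipotent K ⊓ twistedD4 K q) := fun z =>
    ⟨x 14 z.1.1 * (x 22 z.2.1.1 * (x 23 z.2.2.1.1 * (A f z.2.2.2.1 * (U1 f z.2.2.2.2.1 * W f z.2.2.2.2.2)))),
      mul_mem (rt_pos (by decide +kernel) _) (mul_mem (rt_pos (by decide +kernel) _)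
        (mul_mem (rt_pos (by decide +kernel) _) (mul_mem (A_pos _) (mul_mem (U1_pos _) (W_pos _))))),
      mul_mem (single_fx hf (by decide) z.1.2).1 (mul_mem (S_fx hf z.2.1.2).1
        (mul_mem (E_fx hf z.2.2.1.2).1 (mul_mem (A_mem hf _) (mul_mem (U1_mem hf _) (W_mem hf _)))))⟩
  have hinj : Function.Injective Φ := by
    rintro ⟨⟨k, hk⟩, ⟨s, hs⟩, ⟨e, he⟩, a, u, w⟩ ⟨⟨k', hk'⟩, ⟨s', hs'⟩, ⟨e', he'⟩, a', u', w'⟩ h
    replace h : x 14 k * (x 22 s * (x 23 e * (A f a * (U1 f u * W f w)))) =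
        x 14 k' * (x 22 s' * (x 23 e' * (A f a' * (U1 f u' * W f w')))) := congrArg Subtype.val h
    obtain rfl : a = a' := by
      have e1 := collect20 f k s e a u w 1
      have e2 := collect20 f k' s' e' a' u' w' 1
      simp only [mul_one] at e1 e2
      have := congrArg (fun z => z * x 20 1) h
      simp only [mul_assoc] at this
      rw [e1, e2, ← h] at this
      have h2 := mul_left_cancel this
      simp only [← mul_assoc] at h2
      repeat replace h2 := mul_right_cancel h2
      exact f.injective (sep_SE h2).1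
    obtain rfl : k = k' := by
      have e1 := collect22 f k s e a u w 1
      have e2 := collect22 f k' s' e' a u' w' 1
      simp only [mul_one] at e1 e2
      have := congrArg (fun z => z * x 22 1) h
      simp only [mul_assoc] at this
      rw [e1, e2, ← h] at this
      exact H52.checkedD4.rt_injective (by decide +kernel) (mul_right_cancel (mul_left_cancel this))
    have h1 : x 22 s * (x 23 e * (U1 f u * W f w)) = x 22 s' * (x 23 e' * (U1 f u' * W f w')) := by
      have h2 := mul_left_cancel h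
      simp only [← mul_assoc] at h2 ⊢
      have hc : ∀ p r : K, Commute (x 22 p * x 23 r) (A f a) := fun p r =>
        Commute.mul_left (((co (by decide +kernel) _ _).mul_right (co (by decide +kernel) _ _)).mul_right
          (co (by decide +kernel) _ _)) (((co (by decide +kernel) _ _).mul_right
          (co (by decide +kernel) _ _)).mul_right (co (by decide +kernel) _ _))
      rw [(hc s e).eq, (hc s' e').eq] at h2
      simp only [mul_assoc] at h2 ⊢
      exact mul_left_cancel h2
    obtain rfl : u = u' := by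
      have e1 := collect17 f s e u w 1
      have e2 := collect17 f s' e' u' w' 1
      simp only [mul_one] at e1 e2
      have := congrArg (fun z => z * x 17 1) h1
      simp only [mul_assoc] at this
      rw [e1, e2, ← h1] at this
      exact H52.checkedD4.rt_injective (by decide +kernel) (mul_right_cancel (mul_left_cancel this))
    obtain rfl : w = w' := by
      have e1 := collect19 f s e u w 1
      have e2 := collect19 f s' e' u w' 1
      simp only [mul_one] at e1 e2
      have := congrArg (fun z => z * x 19 1) h1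
      simp only [mul_assoc] at this
      rw [e1, e2, ← h1] at this
      exact H52.checkedD4.rt_injective (by decide +kernel) (mul_right_cancel (mul_left_cancel this))
    simp only [← mul_assoc] at h1
    obtain ⟨rfl, rfl⟩ := sep_SE (mul_right_cancel (mul_right_cancel h1))
    rfl
  have hR : Fintype.card R = q := by
    rw [← Nat.card_eq_fintype_card, Nat.card_congr (Equiv.subtypeEquivRight fun t => by rw [hf.eq])]
    exact H53.card_pow_fixed hq.one_lt hK
  have hcard : Nat.card (R × R × R × K × K × K) = Nat.card ↥(chevD4.posUnipotent K ⊓ twistedD4 K q) := by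
    rw [H53.D4T.card_U hq hK]
    simp only [Nat.card_eq_fintype_card, Fintype.card_prod, hR, hK]
    ring
  obtain ⟨⟨k, s, e, a, u, w⟩, hp⟩ :=
    ((Nat.bijective_iff_injective_and_card Φ).2 ⟨hinj, hcard⟩).2 ⟨g, hg, hgt⟩
  exact ⟨k.1, s.1, e.1, a, u, w, k.2, s.2, e.2, (congrArg Subtype.val hp).symm⟩

end H58.D4Sub
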