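import Cfsg.Agent.H58.D4SubCoord
import Cfsg.Agent.H54.ChevBaseChange

/-!
Root elements of ³D₄ attached to the positive roots of G₂ and their products.
-/

set_option autoImplicit false
set_option linter.unusedSectionVars false

open Cfsg.Lie
open scoped MatrixGroups

namespace H58.D4Sub

variable {K : Type*} [Field K] (f : K ≃+* K)

local notation "x" => H52.rt chevD4

/-- The orbit of `p₁`. -/
noncomputable def A (a : K) : GL chevD4.Idx K := x 18 a * x 13 (f a) * x 12 (f (f a))
/-- The opposite orbit. -/
noncomputable def An (a : K) : GL chevD4.Idx K := x 5 a * x 10 (f a) * x 11 (f (f a))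
/-- The orbit of `p₁ + p₂`. -/
noncomputable def U1 (u : K) : GL chevD4.Idx K := x 19 (-u) * x 16 (f u) * x 15 (f (f u))
/-- The orbit of `p₁ + p₂ + p₃`. -/
noncomputable def W (w : K) : GL chevD4.Idx K := x 17 w * x 20 (-f w) * x 21 (-f (f w))

local notation "B" => x 14
local notation "S" => x 22
local notation "E" => x 23

theorem collectA (hf3 : ∀ t, f (f (f t)) = t) {a k : K} (hk : f k = k) (u w : K)
    (g : GL chevD4.Idx K) :
    A f a * (U1 f u * (W f w * (B k * g))) =
      B k * (U1 f (k * a) * (W f (k * (f a * f (f a))) * (S (-(k * (a * (f a * f (f a))))) *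
        (E (-(k * k * (a * (f a * f (f a))))) * (A f a * (U1 f u * (W f w * g))))))) := by
  simp only [A, U1, W, mul_assoc, mg, rules, map_mul, map_neg, hk, hf3]
  ring_nf

theorem collectU (hf3 : ∀ t, f (f (f t)) = t) (u w : K) (g : GL chevD4.Idx K) :
    A f 1 * (U1 f u * (W f w * g)) = U1 f u * (W f w * (W f (f u + f (f u)) *
      (S (-(u + f u + f (f u) + (w + f w + f (f w)))) *
      (E (-(u * f (f u) + f u * f (f u) + u * f u)) * (A f 1 * g))))) := by
  simp only [A, U1, W, mul_assoc, mg, rules, map_mul, map_add, map_neg, map_one, hf3]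
  ring_nf

theorem collectUW (u w : K) (g : GL chevD4.Idx K) :
    U1 f u * (W f w * g) =
      W f w * (E (u * w + f u * f w + f (f u) * f (f w)) * (U1 f u * g)) := by
  simp only [U1, W, mul_assoc, mg, rules]
  ring_nf
  simp only [H52.checkedD4.rt_zero, one_mul]

theorem collect20 (k s e a u w : K) (g : GL chevD4.Idx K) :
    B k * (S s * (E e * (A f a * (U1 f u * (W f w * (x 20 1 * g)))))) =
      x 20 1 * (S (f a) * (E (k * f a - f u) * (B k * (S s * (E e * (A f a * (U1 f u * (W f w * g)))))))) := by
  simp only [A, U1, W, mul_assoc, mg, rules]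
  ring_nf

theorem collect22 (k s e a u w : K) (g : GL chevD4.Idx K) :
    B k * (S s * (E e * (A f a * (U1 f u * (W f w * (S 1 * g)))))) =
      S 1 * (E k * (B k * (S s * (E e * (A f a * (U1 f u * (W f w * g))))))) := by
  simp only [A, U1, W, mul_assoc, mg, rules]
  ring_nf

theorem collect17 (s e u w : K) (g : GL chevD4.Idx K) :
    S s * (E e * (U1 f u * (W f w * (x 17 1 * g)))) =
      x 17 1 * (E u * (S s * (E e * (U1 f u * (W f w * g))))) := by
  simp only [U1, W, mul_assoc, mg, rules]
  ring_nf

theorem collect19 (s e u w : K) (g : GL chevD4.Idx K) :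
    S s * (E e * (U1 f u * (W f w * (x 19 1 * g)))) =
      x 19 1 * (E w * (S s * (E e * (U1 f u * (W f w * g))))) := by
  simp only [U1, W, mul_assoc, mg, rules]
  ring_nf

theorem collectBS (k s : K) (g : GL chevD4.Idx K) :
    B k * (S s * g) = S s * (E (k * s) * (B k * g)) := by
  rw [swg (k := 23) (m := 1) (by decide +kernel)]
  simp

end H58.D4Sub
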