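import Cfsg.Agent.H58.D4SubElts

/-!
An overgroup of G₂(q) in ³D₄(q) containing a long root element outside G₂(q) contains an irrational
short root element.
-/

set_option autoImplicit false
set_option linter.unusedSectionVars false

open Cfsg.Lie
open scoped MatrixGroups

namespace H58.D4Sub

variable {K : Type*} [Field K] {f : K ≃+* K}

local notation "x" => H52.rt chevD4
local notation "σ" => H54.glF chevD4 (RingHomClass.toRingHom f)

/-- Conjugation of a fixed element keeps the fixed-point question. -/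
theorem σ_conj {m y : GL chevD4.Idx K} (hm : σ m = m) :
    σ (m * y * m⁻¹) = m * y * m⁻¹ ↔ σ y = y := by
  rw [map_mul, map_mul, map_inv, hm, mul_left_inj, mul_right_inj]

/-- An irrational element of the orbit of `p₁ + p₂ + p₃` in `H`. -/
def Irr (f : K ≃+* K) (H : Subgroup (GL chevD4.Idx K)) : Prop := ∃ c, f c ≠ c ∧ W f c ∈ H

variable {q : ℕ} (hf : Frob q f) {H : Subgroup (GL chevD4.Idx K)} (hH : Fxd q f ≤ H)
include hf hH

theorem irr_of_UW {u w : K} (h : U1 f u * W f w ∈ H) (hne : f u ≠ u ∨ f w ≠ w) : Irr f H := by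
  have h3 := hf.three
  by_cases hu : f u = u
  · refine ⟨w, hne.resolve_left (not_not.2 hu), ?_⟩
    exact (Subgroup.mul_mem_cancel_left H (hH (U1_fx hf hu))).1 h
  · have hA : A f 1 ∈ H := hH (A_fx hf (map_one f))
    have e := collectU f h3 u w 1
    simp only [mul_one] at e
    set c := f u + f (f u)
    set c1 := -(u + f u + f (f u) + (w + f w + f (f w)))
    set c2 := -(u * f (f u) + f u * f (f u) + u * f u)
    have hc1 : f c1 = c1 := by simp only [c1, map_neg, map_add, h3]; ring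
    have hc2 : f c2 = c2 := by simp only [c2, map_neg, map_add, map_mul, h3]; ring
    have hm : x 22 c1 * (x 23 c2 * A f 1) ∈ H :=
      mul_mem (hH (S_fx hf hc1)) (mul_mem (hH (E_fx hf hc2)) hA)
    refine ⟨c, fun hc => hu ?_, ?_⟩
    · have : f (f u) + u = f u + f (f u) := by simpa only [c, map_add, h3] using hc
      linear_combination -this
    · have hl : A f 1 * (U1 f u * W f w) ∈ H := mul_mem hA h
      rw [e, ← mul_assoc (U1 f u), Subgroup.mul_mem_cancel_left H h,
        Subgroup.mul_mem_cancel_right H hm] at hl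
      exact hl

/-- The image of a long root element of the middle node under conjugation by a unipotent element. -/
theorem irr_of_conjB {a u w t : K} (ht : f t = t) (ht0 : t ≠ 0) (ha : f a ≠ a)
    (h : A f a * (U1 f u * W f w) * x 14 t * (A f a * (U1 f u * W f w))⁻¹ ∈ H) : Irr f H := by
  have h3 := hf.three
  have e := collectA f h3 (a := a) ht u w 1
  simp only [mul_one] at e
  set c1 := -(t * (a * (f a * f (f a))))
  set c2 := -(t * t * (a * (f a * f (f a))))
  have hc1 : f c1 = c1 := by simp only [c1, map_neg, map_mul, h3, ht]; ring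
  have hc2 : f c2 = c2 := by simp only [c2, map_neg, map_mul, h3, ht]; ring
  have hm : x 22 c1 * x 23 c2 ∈ H := mul_mem (hH (S_fx hf hc1)) (hH (E_fx hf hc2))
  rw [show A f a * (U1 f u * W f w) * x 14 t = A f a * (U1 f u * (W f w * x 14 t)) from by group, e,
    show ∀ b U V S' E' X : GL chevD4.Idx K, b * (U * (V * (S' * (E' * X)))) * X⁻¹ =
      b * ((U * V) * (S' * E')) from fun b U V S' E' X => by group,
    Subgroup.mul_mem_cancel_left H (hH (single_fx hf (by decide) ht)),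
    Subgroup.mul_mem_cancel_right H hm] at h
  refine irr_of_UW hf hH h (Or.inl fun hc => ha ?_)
  rw [map_mul, ht] at hc
  exact mul_left_cancel₀ ht0 hc

variable [Fintype K] (hq : IsPrimePow q) (hK : Fintype.card K = q ^ 3)
include hq hK

theorem pos_cases {g : GL chevD4.Idx K} (hg : g ∈ chevD4.posUnipotent K) (hgt : g ∈ twistedD4 K q)
    (hgH : g ∈ H) : σ g = g ∨ Irr f H := by
  obtain ⟨k, s, e, a, u, w, hk, hs, he, rfl⟩ := exists_coord hf hq hK hg hgt
  have hR : x 14 k * (x 22 s * x 23 e) ∈ Fxd q f :=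
    mul_mem (single_fx hf (by decide) hk) (mul_mem (S_fx hf hs) (E_fx hf he))
  have hsplit : ∀ z : GL chevD4.Idx K, x 14 k * (x 22 s * (x 23 e * z)) = x 14 k * (x 22 s * x 23 e) * z :=
    fun z => by group
  rw [hsplit] at hgH ⊢
  rw [Subgroup.mul_mem_cancel_left H (hH hR)] at hgH
  have hX : σ (x 14 k * (x 22 s * x 23 e) * (A f a * (U1 f u * W f w))) =
      x 14 k * (x 22 s * x 23 e) * σ (A f a * (U1 f u * W f w)) := by
    rw [map_mul, ((mem_Fxd f).1 hR).2]
  rw [hX, mul_right_inj]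
  by_cases ha : f a = a
  · rw [map_mul, ((mem_Fxd f).1 (A_fx hf ha)).2, mul_right_inj]
    rw [Subgroup.mul_mem_cancel_left H (hH (A_fx hf ha))] at hgH
    by_cases huw : f u = u ∧ f w = w
    · left; rw [map_mul, σ_U1, σ_W, huw.1, huw.2]
    · exact Or.inr (irr_of_UW hf hH hgH (not_and_or.1 huw))
  · exact Or.inr (irr_of_conjB hf hH (map_one f) one_ne_zero ha
      (mul_mem (mul_mem hgH (hH (single_fx hf (by decide) (map_one f)))) (inv_mem hgH)))

omit hq hK in
theorem fx_of_conj {m y : GL chevD4.Idx K} (hm : m ∈ Fxd q f) (h : m * y * m⁻¹ ∈ H) : y ∈ H := by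
  rwa [Subgroup.mul_mem_cancel_right H (inv_mem (hH hm)), Subgroup.mul_mem_cancel_left H (hH hm)] at h

theorem case_x9 {v : GL chevD4.Idx K} (hv : v ∈ chevD4.posUnipotent K) (hvt : v ∈ twistedD4 K q) {t : K}
    (ht : f t = t) (h : v * x 9 t * v⁻¹ ∈ H) : σ (v * x 9 t * v⁻¹) = v * x 9 t * v⁻¹ ∨ Irr f H := by
  obtain ⟨k, s, e, a, u, w, hk, hs, he, rfl⟩ := exists_coord hf hq hK hv hvt
  have hR : x 14 k * (x 22 s * x 23 e) ∈ Fxd q f :=
    mul_mem (single_fx hf (by decide) hk) (mul_mem (S_fx hf hs) (E_fx hf he))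
  set X := A f a * (U1 f u * W f w) with hX
  rw [show x 14 k * (x 22 s * (x 23 e * X)) * x 9 t * (x 14 k * (x 22 s * (x 23 e * X)))⁻¹ =
    x 14 k * (x 22 s * x 23 e) * (X * x 9 t * X⁻¹) * (x 14 k * (x 22 s * x 23 e))⁻¹ by group] at h ⊢
  rw [σ_conj ((mem_Fxd f).1 hR).2]
  replace h := fx_of_conj hf hH hR h
  let P : Subgroup (GL chevD4.Idx K) :=
    (chevD4.posUnipotent K).comap (MulAut.conj (x 9 t)⁻¹).toMonoidHom
  have gen : ∀ {r k : ℕ} {m : ℤ}, SwCheck r 9 k m → (chevD4.nroots / 2 ≤ r ∧ chevD4.nroots / 2 ≤ k) →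
      ∀ z : K, x r z ∈ P := by
    intro r k m hsw hr z
    show (x 9 t)⁻¹ * x r z * (x 9 t)⁻¹⁻¹ ∈ chevD4.posUnipotent K
    rw [inv_inv, mul_assoc, sw hsw, inv_mul_cancel_left]
    exact mul_mem (rt_pos ⟨hr.2, hsw.2.2.2.2.2.1⟩ _) (rt_pos ⟨hr.1, hsw.1⟩ _)
  have gen0 : ∀ {r : ℕ}, CoCheck r 9 → chevD4.nroots / 2 ≤ r → ∀ z : K, x r z ∈ P := by
    intro r hc hr z
    show (x 9 t)⁻¹ * x r z * (x 9 t)⁻¹⁻¹ ∈ chevD4.posUnipotent K
    rw [inv_inv, mul_assoc, (co hc _ _).eq, inv_mul_cancel_left]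
    exact rt_pos ⟨hr, hc.1⟩ _
  have hXP : X ∈ P := by
    refine mul_mem (mul_mem (mul_mem ?_ ?_) ?_) (mul_mem (mul_mem (mul_mem ?_ ?_) ?_) (mul_mem (mul_mem ?_ ?_) ?_))
    · exact gen0 (by decide +kernel) (by decide +kernel) _
    · exact gen0 (by decide +kernel) (by decide +kernel) _
    · exact gen0 (by decide +kernel) (by decide +kernel) _
    · exact gen (k := 18) (m := -1) (by decide +kernel) (by decide +kernel) _
    · exact gen (k := 13) (m := 1) (by decide +kernel) (by decide +kernel) _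
    · exact gen (k := 12) (m := 1) (by decide +kernel) (by decide +kernel) _
    · exact gen0 (by decide +kernel) (by decide +kernel) _
    · exact gen0 (by decide +kernel) (by decide +kernel) _
    · exact gen0 (by decide +kernel) (by decide +kernel) _
  have h9 : x 9 t ∈ Fxd q f := single_fx hf (by decide) ht
  have hXt : X ∈ twistedD4 K q := mul_mem (A_mem hf _) (mul_mem (U1_mem hf _) (W_mem hf _))
  have hp : (x 9 t)⁻¹ * (X * x 9 t * X⁻¹) ∈ chevD4.posUnipotent K := by
    have h1 : (x 9 t)⁻¹ * X * (x 9 t)⁻¹⁻¹ ∈ chevD4.posUnipotent K := hXP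
    have h2 : X⁻¹ ∈ chevD4.posUnipotent K := inv_mem (mul_mem (A_pos _) (mul_mem (U1_pos _) (W_pos _)))
    rw [show (x 9 t)⁻¹ * (X * x 9 t * X⁻¹) = ((x 9 t)⁻¹ * X * (x 9 t)⁻¹⁻¹) * X⁻¹ by group]
    exact mul_mem h1 h2
  refine (pos_cases hf hH hq hK hp (mul_mem (inv_mem h9.1) (mul_mem (mul_mem hXt h9.1) (inv_mem hXt)))
    (mul_mem (inv_mem (hH h9)) h)).imp_left fun e => ?_
  rwa [map_mul, map_inv, ((mem_Fxd f).1 h9).2, mul_right_inj] at e

theorem case_x1 {v : GL chevD4.Idx K} (hv : v ∈ chevD4.posUnipotent K) (hvt : v ∈ twistedD4 K q) {t : K}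
    (ht : f t = t) (h : v * x 1 t * v⁻¹ ∈ H) : σ (v * x 1 t * v⁻¹) = v * x 1 t * v⁻¹ ∨ Irr f H := by
  have h3 := hf.three
  obtain ⟨k, s, e, a, u, w, hk, hs, he, rfl⟩ := exists_coord hf hq hK hv hvt
  have hR : x 14 k * (x 22 s * x 23 e) ∈ Fxd q f :=
    mul_mem (single_fx hf (by decide) hk) (mul_mem (S_fx hf hs) (E_fx hf he))
  set X := A f a * (U1 f u * W f w) with hX
  rw [show x 14 k * (x 22 s * (x 23 e * X)) * x 1 t * (x 14 k * (x 22 s * (x 23 e * X)))⁻¹ =
    x 14 k * (x 22 s * x 23 e) * (X * x 1 t * X⁻¹) * (x 14 k * (x 22 s * x 23 e))⁻¹ by group] at h ⊢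
  rw [σ_conj ((mem_Fxd f).1 hR).2]
  replace h := fx_of_conj hf hH hR h
  by_cases ht0 : t = 0
  · left; simp [ht0, H52.checkedD4.rt_zero]
  by_cases ha : f a = a
  swap
  · right
    have hE : x 23 (1 : K) ∈ H := hH (E_fx hf (map_one f))
    have hEX : Commute (x 23 (1 : K)) X :=
      (((co (by decide +kernel) _ _).mul_right (co (by decide +kernel) _ _)).mul_right
        (co (by decide +kernel) _ _)).mul_right
      ((((co (by decide +kernel) _ _).mul_right (co (by decide +kernel) _ _)).mul_right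
        (co (by decide +kernel) _ _)).mul_right
      (((co (by decide +kernel) _ _).mul_right (co (by decide +kernel) _ _)).mul_right
        (co (by decide +kernel) _ _)))
    have hsw := sw (r := 23) (s := 1) (k := 14) (m := 1) (by decide +kernel) (1 : K) t
    have hcore : x 23 (1 : K) * x 1 t * (x 23 1)⁻¹ * (x 1 t)⁻¹ = x 14 t := by
      rw [hsw, show ∀ b c e : GL chevD4.Idx K, b * (c * e) * e⁻¹ * b⁻¹ = b * c * b⁻¹ from
        fun b c e => by group, ((co (r := 1) (s := 14) (by decide +kernel) t _).eq), mul_inv_cancel_right]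
      simp
    have e1 : x 23 (1 : K) * (X * x 1 t * X⁻¹) * (x 23 1)⁻¹ * (X * x 1 t * X⁻¹)⁻¹ = X * x 14 t * X⁻¹ := by
      rw [← hcore]
      calc _ = (x 23 1 * X) * x 1 t * (x 23 1 * X)⁻¹ * (X * (x 1 t)⁻¹ * X⁻¹) := by group
        _ = _ := by rw [hEX.eq]; group
    exact irr_of_conjB hf hH ht ht0 ha (e1 ▸ mul_mem (mul_mem (mul_mem hE h) (inv_mem hE)) (inv_mem h))
  have hA := A_fx hf ha
  rw [show X * x 1 t * X⁻¹ = A f a * (U1 f u * W f w * x 1 t * (U1 f u * W f w)⁻¹) * (A f a)⁻¹ by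
    rw [hX]; group] at h ⊢
  rw [σ_conj ((mem_Fxd f).1 hA).2]
  replace h := fx_of_conj hf hH hA h
  set c := u * w + f u * f w + f (f u) * f (f w)
  have hc : f c = c := by simp only [c, map_add, map_mul, h3]; ring
  have euw : U1 f u * W f w = x 23 c * W f w * U1 f u := by
    have e := collectUW f u w 1
    simp only [mul_one] at e
    rw [e, ← mul_assoc]
    congr 1
    exact (((co (r := 23) (s := 17) (by decide +kernel) _ _).mul_right (co (by decide +kernel) _ _)).mul_right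
      (co (by decide +kernel) _ _)).eq.symm
  have hU : U1 f u * x 1 t = x 1 t * U1 f u :=
    (((co (r := 19) (s := 1) (by decide +kernel) _ _).mul_left (co (by decide +kernel) _ _)).mul_left
      (co (by decide +kernel) _ _)).eq
  have e2 : U1 f u * W f w * x 1 t * (U1 f u * W f w)⁻¹ =
      x 23 c * (W f w * x 1 t * (W f w)⁻¹) * (x 23 c)⁻¹ := by
    rw [euw]
    calc _ = x 23 c * W f w * (U1 f u * x 1 t) * (U1 f u)⁻¹ * (W f w)⁻¹ * (x 23 c)⁻¹ := by group
      _ = _ := by rw [hU]; group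
  rw [e2] at h ⊢
  rw [σ_conj ((mem_Fxd f).1 (E_fx hf hc)).2]
  replace h := fx_of_conj hf hH (E_fx hf hc) h
  have hna : na K * (W f w * x 1 t * (W f w)⁻¹) * (na K)⁻¹ = U1 f w * x 9 t * (U1 f w)⁻¹ := by
    rw [← na_W, ← na_Sn]; group
  refine (case_x9 hf hH hq hK (U1_pos _) (U1_mem hf w) ht
    (hna ▸ mul_mem (mul_mem (hH (na_fx hf)) h) (inv_mem (hH (na_fx hf))))).imp_left fun e' => ?_
  rw [← hna] at e'
  exact (σ_conj ((mem_Fxd f).1 (na_fx hf)).2).1 e'

theorem case_x0 {v : GL chevD4.Idx K} (hv : v ∈ chevD4.posUnipotent K) (hvt : v ∈ twistedD4 K q) {t : K}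
    (ht : f t = t) (h : v * x 0 t * v⁻¹ ∈ H) : σ (v * x 0 t * v⁻¹) = v * x 0 t * v⁻¹ ∨ Irr f H := by
  obtain ⟨k, s, e, a, u, w, hk, hs, he, rfl⟩ := exists_coord hf hq hK hv hvt
  have hR : x 14 k * (x 22 s * x 23 e) ∈ Fxd q f :=
    mul_mem (single_fx hf (by decide) hk) (mul_mem (S_fx hf hs) (E_fx hf he))
  set X := A f a * (U1 f u * W f w) with hX
  rw [show x 14 k * (x 22 s * (x 23 e * X)) * x 0 t * (x 14 k * (x 22 s * (x 23 e * X)))⁻¹ =
    x 14 k * (x 22 s * x 23 e) * (X * x 0 t * X⁻¹) * (x 14 k * (x 22 s * x 23 e))⁻¹ by group] at h ⊢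
  rw [σ_conj ((mem_Fxd f).1 hR).2]
  replace h := fx_of_conj hf hH hR h
  have hnb : nb K * (X * x 0 t * X⁻¹) * (nb K)⁻¹ =
      U1 f (-a) * (A f u * W f w) * x 1 (-t) * (U1 f (-a) * (A f u * W f w))⁻¹ := by
    rw [← nb_A f a, ← nb_En]
    conv_rhs => rw [← nb_U1 f u]
    conv_rhs => rw [← nb_W f w]
    rw [hX]; group
  refine (case_x1 hf hH hq hK (mul_mem (U1_pos _) (mul_mem (A_pos _) (W_pos _)))
    (mul_mem (U1_mem hf _) (mul_mem (A_mem hf _) (W_mem hf _))) (t := -t) (by rw [map_neg, ht])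
    (hnb ▸ mul_mem (mul_mem (hH (nb_fx hf)) h) (inv_mem (hH (nb_fx hf))))).imp_left fun e' => ?_
  rw [← hnb] at e'
  exact (σ_conj ((mem_Fxd f).1 (nb_fx hf)).2).1 e'

/-- A long root element of `H` in normal form is fixed, or `H` contains an irrational element. -/
theorem long_cases {v : GL chevD4.Idx K} (hv : v ∈ chevD4.posUnipotent K) (hvt : v ∈ twistedD4 K q) {t : K}
    (ht : f t = t) {r : ℕ} (hr : r ∈ [0, 1, 9, 14, 22, 23]) (h : v * x r t * v⁻¹ ∈ H) :
    σ (v * x r t * v⁻¹) = v * x r t * v⁻¹ ∨ Irr f H := by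
  simp only [List.mem_cons, List.not_mem_nil, or_false] at hr
  rcases hr with rfl | rfl | rfl | rfl | rfl | rfl
  · exact case_x0 hf hH hq hK hv hvt ht h
  · exact case_x1 hf hH hq hK hv hvt ht h
  · exact case_x9 hf hH hq hK hv hvt ht h
  · have h14 : x 14 t ∈ Fxd q f := single_fx hf (by decide) ht
    exact pos_cases hf hH hq hK (mul_mem (mul_mem hv (rt_pos (by decide +kernel) t)) (inv_mem hv))
      (mul_mem (mul_mem hvt h14.1) (inv_mem hvt)) h
  · left
    obtain ⟨k, s, e, a, u, w, hk, hs, he, rfl⟩ := exists_coord hf hq hK hv hvt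
    have hR : x 14 k * (x 22 s * x 23 e) ∈ Fxd q f :=
      mul_mem (single_fx hf (by decide) hk) (mul_mem (S_fx hf hs) (E_fx hf he))
    have hc : Commute (A f a * (U1 f u * W f w)) (x 22 t) :=
      (((co (by decide +kernel) _ _).mul_left (co (by decide +kernel) _ _)).mul_left
        (co (by decide +kernel) _ _)).mul_left
      ((((co (by decide +kernel) _ _).mul_left (co (by decide +kernel) _ _)).mul_left
        (co (by decide +kernel) _ _)).mul_left
      (((co (by decide +kernel) _ _).mul_left (co (by decide +kernel) _ _)).mul_left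
        (co (by decide +kernel) _ _)))
    rw [show x 14 k * (x 22 s * (x 23 e * (A f a * (U1 f u * W f w)))) * x 22 t *
      (x 14 k * (x 22 s * (x 23 e * (A f a * (U1 f u * W f w)))))⁻¹ =
      x 14 k * (x 22 s * x 23 e) * (A f a * (U1 f u * W f w) * x 22 t *
        (A f a * (U1 f u * W f w))⁻¹) * (x 14 k * (x 22 s * x 23 e))⁻¹ by group, hc.eq, mul_inv_cancel_right,
      σ_conj ((mem_Fxd f).1 hR).2]
    exact ((mem_Fxd f).1 (S_fx hf ht)).2
  · left
    obtain ⟨k, s, e, a, u, w, hk, hs, he, rfl⟩ := exists_coord hf hq hK hv hvt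
    have hR : x 14 k * (x 22 s * x 23 e) ∈ Fxd q f :=
      mul_mem (single_fx hf (by decide) hk) (mul_mem (S_fx hf hs) (E_fx hf he))
    have hc : Commute (A f a * (U1 f u * W f w)) (x 23 t) :=
      (((co (by decide +kernel) _ _).mul_left (co (by decide +kernel) _ _)).mul_left
        (co (by decide +kernel) _ _)).mul_left
      ((((co (by decide +kernel) _ _).mul_left (co (by decide +kernel) _ _)).mul_left
        (co (by decide +kernel) _ _)).mul_left
      (((co (by decide +kernel) _ _).mul_left (co (by decide +kernel) _ _)).mul_left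
        (co (by decide +kernel) _ _)))
    rw [show x 14 k * (x 22 s * (x 23 e * (A f a * (U1 f u * W f w)))) * x 23 t *
      (x 14 k * (x 22 s * (x 23 e * (A f a * (U1 f u * W f w)))))⁻¹ =
      x 14 k * (x 22 s * x 23 e) * (A f a * (U1 f u * W f w) * x 23 t *
        (A f a * (U1 f u * W f w))⁻¹) * (x 14 k * (x 22 s * x 23 e))⁻¹ by group, hc.eq, mul_inv_cancel_right,
      σ_conj ((mem_Fxd f).1 hR).2]
    exact ((mem_Fxd f).1 (E_fx hf ht)).2

end H58.D4Sub
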