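import Cfsg.Agent.H58.D4SubLong
import Cfsg.Agent.H56.BNParabolic
import Cfsg.Agent.H53.NormalForm
import Cfsg.Agent.H58.ChevMixed

/-!
G₂(q) is maximal in ³D₄(q).
-/

set_option autoImplicit false
set_option linter.unusedSectionVars false

open Cfsg.Lie
open scoped MatrixGroups

namespace H58.D4Sub

variable {K : Type*} [Field K] {f : K ≃+* K}

local notation "x" => H52.rt chevD4
local notation "σ" => H54.glF chevD4 (RingHomClass.toRingHom f)

/-- The word of the longest element. -/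
def L0 : List (Fin chevD4.rank) :=
  [⟨0, by decide⟩, ⟨2, by decide⟩, ⟨3, by decide⟩, ⟨1, by decide⟩, ⟨0, by decide⟩, ⟨2, by decide⟩,
    ⟨3, by decide⟩, ⟨1, by decide⟩, ⟨0, by decide⟩, ⟨2, by decide⟩, ⟨3, by decide⟩, ⟨1, by decide⟩]

set_option backward.isDefEq.respectTransparency false in
theorem L0_neg : ∀ r : Fin chevD4.nroots, chevD4.nroots / 2 ≤ r.val →
    (L0.foldr H53.weylForD4.data.act r).val < chevD4.nroots / 2 := by
  decide +kernel

set_option backward.isDefEq.respectTransparency false in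
theorem vtab : let v := H53.weylForD4.data.v
    (∀ i : Fin chevD4.rank, i.val ≠ 1 → ∃ a b : Fin chevD4.nroots,
      v a = v (H53.weylForD4.data.simple i) + v ⟨14, by decide⟩ ∧
        v ⟨22, by decide⟩ = v (H53.weylForD4.data.simple i) + v b) ∧
    v ⟨23, by decide⟩ = v ⟨22, by decide⟩ + v ⟨14, by decide⟩ ∧
    (H53.weylForD4.data.simple ⟨1, by decide⟩).val = 14 := by
  decide +kernel

set_option backward.isDefEq.respectTransparency false in
theorem vpos : let v := H53.weylForD4.data.v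
    (∀ r, v r = v ⟨14, by decide⟩ → r.val = 14) ∧
    ∀ r : Fin chevD4.nroots, (∃ a, v a = v r + v ⟨14, by decide⟩) →
      (∃ b, v ⟨22, by decide⟩ = v r + v b) → chevD4.nroots / 2 ≤ r.val := by
  decide +kernel

theorem char_table : ∀ i : Fin chevD4.rank,
    chevD4.cartan i.val 19 = chevD4.cartan i.val 18 + chevD4.cartan i.val 14 ∧
    chevD4.cartan i.val 16 = chevD4.cartan i.val 13 + chevD4.cartan i.val 14 ∧
    chevD4.cartan i.val 15 = chevD4.cartan i.val 12 + chevD4.cartan i.val 14 := by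
  decide +kernel

/-- The long root elements. -/
def Lng (q : ℕ) (f : K ≃+* K) (y : GL chevD4.Idx K) : Prop :=
  ∃ g ∈ twistedD4 K q, ∃ t : K, f t = t ∧ y = g * x 23 t * g⁻¹

/-- `U` centralises the highest root group. -/
theorem pos_comm_E {u : GL chevD4.Idx K} (hu : u ∈ chevD4.posUnipotent K) (t : K) :
    Commute u (x 23 t) := by
  rw [H52.checkedD4.posUnipotent_eq] at hu
  induction hu using Subgroup.closure_induction with
  | mem g hg =>
    obtain ⟨r, c, h1, h2, rfl⟩ := hg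
    rcases (show ∀ r < chevD4.nroots, chevD4.nroots / 2 ≤ r → r = 23 ∨ CoCheck r 23 by decide +kernel) r h2 h1
      with rfl | hc
    · show x 23 c * x 23 t = x 23 t * x 23 c
      rw [H52.checkedD4.rt_mul, H52.checkedD4.rt_mul, add_comm]
    · exact co hc _ _
  | one => exact Commute.one_left _
  | mul a b _ _ ha hb => exact ha.mul_left hb
  | inv a _ ha => exact ha.inv_left

/-- `U` conjugates the root group of 22 modulo the highest root group. -/
theorem pos_conj_S {u : GL chevD4.Idx K} (hu : u ∈ chevD4.posUnipotent K) :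
    ∀ c : K, ∃ d, u * x 22 c * u⁻¹ = x 22 c * x 23 d := by
  rw [H52.checkedD4.posUnipotent_eq] at hu
  induction hu using Subgroup.closure_induction with
  | mem g hg =>
    obtain ⟨r, z, h1, h2, rfl⟩ := hg
    intro c
    rcases (show ∀ r < chevD4.nroots, chevD4.nroots / 2 ≤ r → r = 22 ∨ r = 14 ∨ CoCheck r 22 by
      decide +kernel) r h2 h1 with rfl | rfl | hc
    · exact ⟨0, by rw [H52.checkedD4.rt_mul, add_comm, ← H52.checkedD4.rt_mul, mul_inv_cancel_right,
        H52.checkedD4.rt_zero, mul_one]⟩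
    · exact ⟨((1 : ℤ) : K) * (z * c), by
        rw [sw (r := 14) (s := 22) (k := 23) (m := 1) (by decide +kernel), ← mul_assoc, mul_inv_cancel_right]⟩
    · exact ⟨0, by rw [(co hc z c).eq, mul_inv_cancel_right, H52.checkedD4.rt_zero, mul_one]⟩
  | one => exact fun c => ⟨0, by simp [H52.checkedD4.rt_zero]⟩
  | mul a b ha' hb' ha hb =>
    intro c
    have ha'' : a ∈ chevD4.posUnipotent K := by rw [H52.checkedD4.posUnipotent_eq]; exact ha'
    obtain ⟨d1, h1⟩ := ha c
    obtain ⟨d2, h2⟩ := hb c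
    refine ⟨d1 + d2, ?_⟩
    rw [show a * b * x 22 c * (a * b)⁻¹ = a * (b * x 22 c * b⁻¹) * a⁻¹ by group, h2,
      show a * (x 22 c * x 23 d2) * a⁻¹ = (a * x 22 c * a⁻¹) * (a * x 23 d2 * a⁻¹) by group, h1,
      (pos_comm_E ha'' d2).eq, mul_inv_cancel_right, mul_assoc, H52.checkedD4.rt_mul]
  | inv a ha' ha =>
    intro c
    have ha'' : a ∈ chevD4.posUnipotent K := by rw [H52.checkedD4.posUnipotent_eq]; exact ha'
    obtain ⟨d, h⟩ := ha c
    refine ⟨-d, ?_⟩
    rw [inv_inv]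
    calc a⁻¹ * x 22 c * a = a⁻¹ * (a * x 22 c * a⁻¹ * (x 23 d)⁻¹) * a := by
          rw [h, mul_inv_cancel_right]
      _ = x 22 c * (a⁻¹ * (x 23 d)⁻¹ * a) := by group
      _ = _ := by
        rw [H52.checkedD4.rt_inv, mul_assoc a⁻¹, ← (pos_comm_E ha'' (-d)).eq, inv_mul_cancel_left]

/-- A monomial element permutes the root elements. -/
theorem mono_conj {n : GL chevD4.Idx K} (hn : n ∈ chevD4.monomialSubgroup K) (r : Fin chevD4.nroots) (t : K) :
    ∃ s : Fin chevD4.nroots, ∃ t' : K, n * x r.val t * n⁻¹ = x s.val t' := by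
  lift n to ↥(chevD4.group K) using H53.monomial_le_group H52.checkedD4 H53.weylForD4 H53.D4T.ok hn
  rw [H53.mem_monomial_iff H52.checkedD4 H53.weylForD4 H53.D4T.ok] at hn
  obtain ⟨π, hπ⟩ := H53.RootGroupSys.exists_acts (H53.grp_axioms H52.checkedD4 H53.weylForD4 H53.D4T.ok) hn
  have h := H53.RootGroupSys.acts_conj_mem hπ (r := r) (g := (H53.matSys chevD4 K).x r t)
    (Subgroup.subset_closure ⟨t, rfl⟩)
  obtain ⟨t', ht'⟩ := (H53.ChevSys.mem_Usub
    (H53.chainOK_checked H52.checkedD4 H53.weylForD4 H53.D4T.ok)).1 h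
  exact ⟨π r, t', congrArg Subtype.val ht'⟩

variable {q : ℕ} (hf : Frob q f)
include hf

theorem Lng_conj {g y : GL chevD4.Idx K} (hg : g ∈ twistedD4 K q) (h : Lng q f y) :
    Lng q f (g * y * g⁻¹) := by
  obtain ⟨g', hg', t, ht, rfl⟩ := h
  exact ⟨g * g', mul_mem hg hg', t, ht, by group⟩

theorem Lng_E {t : K} (ht : f t = t) : Lng q f (x 23 t) := ⟨1, one_mem _, t, ht, by simp⟩

theorem Lng_S {t : K} (ht : f t = t) : Lng q f (x 22 t) := by
  rw [← neg_neg t, ← nb_E]
  exact Lng_conj hf (nb_fx hf).1 (Lng_E hf (by rw [map_neg, ht]))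

theorem Lng_B {t : K} (ht : f t = t) : Lng q f (x 14 t) := by
  rw [← na_S]
  exact Lng_conj hf (na_fx hf).1 (Lng_S hf ht)

variable [Fintype K] (hq : IsPrimePow q) (hK : Fintype.card K = q ^ 3)
include hq hK

theorem Lng_form {y : GL chevD4.Idx K} (hy : Lng q f y) :
    ∃ v ∈ chevD4.posUnipotent K, v ∈ twistedD4 K q ∧ ∃ r ∈ [0, 1, 9, 14, 22, 23],
      ∃ t : K, f t = t ∧ y = v * x r t * v⁻¹ := by
  obtain ⟨g, hg, t, ht, rfl⟩ := hy
  by_cases ht0 : t = 0
  · exact ⟨1, one_mem _, one_mem _, 23, by decide, t, ht, by simp [ht0, H52.checkedD4.rt_zero]⟩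
  obtain ⟨P, hPB, hPN⟩ := H53.D4T.exists_pair hq hK
  obtain ⟨n, hn, hgn⟩ := H56.exists_cell_N P ⟨g, hg⟩
  obtain ⟨b, hb, c, hc, he⟩ := (H56.mem_cell P).1 hgn
  rw [hPB, Subgroup.mem_subgroupOf, Subgroup.mem_inf] at hb hc
  rw [hPN, Subgroup.mem_subgroupOf, Subgroup.mem_inf] at hn
  replace he : g = (b : GL chevD4.Idx K) * n * c := congrArg Subtype.val he
  obtain ⟨u', hu', cc, hcc⟩ := H52.checkedD4.mem_borel_iff.1 hc.1
  set χ : K := ((∏ i : Fin chevD4.rank, cc i ^ chevD4.cartan i.val 23 : Kˣ) : K)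
  have h1 : (c : GL chevD4.Idx K) * x 23 t * (c : GL chevD4.Idx K)⁻¹ = x 23 (χ * t) := by
    rw [hcc, show ∀ a d : GL chevD4.Idx K, a * d * x 23 t * (a * d)⁻¹ = a * (d * x 23 t * d⁻¹) * a⁻¹ from
      fun a d => by group, H52.checkedD4.torus_conj_rt cc (by decide +kernel), (pos_comm_E hu' _).eq,
      mul_inv_cancel_right]
  obtain ⟨s, t', h2⟩ := mono_conj hn.1 ⟨23, by decide⟩ (χ * t)
  obtain ⟨f', hf'⟩ := H53.D4T.exists_f hq hK
  have hT := H53.D4T.hyp (H53.D4T.qqq hK) hf'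
  let b0 : ↥(chevD4.group K) := ⟨b, H53.D4T.twisted_le q hb.2⟩
  obtain ⟨u0, hu0, hu0G, h0, hh0, hh0G, hb0⟩ := H53.TwistData.split_B hT (b := b0)
    ((H53.mem_borel_iff H52.checkedD4 H53.weylForD4 b0).1 hb.1) hb.2
  have hh0d : (h0 : GL chevD4.Idx K) ∈ chevD4.diagonalSubgroup K :=
    (H53.mem_diag_iff H52.checkedD4 H53.weylForD4 h0).2 hh0
  rw [H52.checkedD4.diagonalSubgroup_eq] at hh0d
  obtain ⟨c0, hc0⟩ := hh0d
  set t'' : K := ((∏ i : Fin chevD4.rank, c0 i ^ chevD4.cartan i.val s.val : Kˣ) : K) * t'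
  have hu0p : (u0 : GL chevD4.Idx K) ∈ chevD4.posUnipotent K :=
    (H53.mem_pos_iff H52.checkedD4 H53.weylForD4 u0).2 hu0
  have hb0' : (b : GL chevD4.Idx K) = u0 * H52.torus chevD4 c0 := by
    rw [hc0]; exact congrArg Subtype.val hb0
  have hy : g * x 23 t * g⁻¹ = u0 * x s.val t'' * (u0 : GL chevD4.Idx K)⁻¹ := by
    rw [he, show ∀ a d e z : GL chevD4.Idx K, a * d * e * z * (a * d * e)⁻¹ = a * (d * (e * z * e⁻¹) * d⁻¹) * a⁻¹
      from fun a d e z => by group, h1, h2, hb0',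
      show ∀ a d z : GL chevD4.Idx K, a * d * z * (a * d)⁻¹ = a * (d * z * d⁻¹) * a⁻¹ from fun a d z => by group,
      H52.checkedD4.torus_conj_rt c0 s.isLt]
  have hxs : x s.val t'' ∈ twistedD4 K q := by
    have e : x s.val t'' = (u0 : GL chevD4.Idx K)⁻¹ * (g * x 23 t * g⁻¹) * u0 := by rw [hy]; group
    rw [e]
    exact mul_mem (mul_mem (inv_mem hu0G) (mul_mem (mul_mem hg (E_fx hf ht).1) (inv_mem hg))) hu0G
  have ht'' : t'' ≠ 0 := by
    intro h
    rw [h, H52.checkedD4.rt_zero, mul_one, mul_inv_cancel, conj_eq_one_iff] at hy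
    exact ht0 (H52.checkedD4.rt_injective (by decide +kernel) (hy.trans (H52.checkedD4.rt_zero _).symm))
  have hfix := congrArg (fun z : ↥(chevD4.group K) => (z : GL chevD4.Idx K))
    (H53.D4T.fix (H53.D4T.qqq hK) hf' (⟨x s.val t'', H53.D4T.twisted_le q hxs⟩ : ↥(chevD4.group K)) hxs)
  simp only at hfix
  rw [H53.twistAut_rt H52.checkedD4 H53.d4Sym_valid f' (g := ⟨x s.val t'', H53.D4T.twisted_le q hxs⟩)
    s.isLt rfl] at hfix
  obtain ⟨hlt, htab⟩ := (show ∀ r : Fin chevD4.nroots, H53.d4Sym.qn r.val < chevD4.nroots ∧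
      (H53.d4Sym.qn r.val = r.val → r.val ∈ [0, 1, 9, 14, 22, 23] ∧ H53.d4Sym.sn r.val = 1) by
    decide +kernel) s
  obtain ⟨hqs, heq⟩ := ctx.rt_eq_rt s.isLt hlt ht'' hfix.symm
  obtain ⟨hmem, hsn⟩ := htab hqs.symm
  refine ⟨u0, hu0p, hu0G, s.val, hmem, t'', ?_, hy⟩
  rw [hsn, Int.cast_one, one_mul, hf', ← hf.eq] at heq
  exact heq.symm

/-- An element of the twisted group centralising the long root elements of `G₂(q)` lies in `B`. -/
theorem mem_borel {z : GL chevD4.Idx K} (hz : z ∈ twistedD4 K q)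
    (hcom : ∀ y, Lng q f y → σ y = y → Commute z y) : z ∈ chevD4.borelSubgroup K := by
  obtain ⟨u, hu, d, hd, L, v, hv, rfl⟩ := ctx.exists_nf (H53.D4T.twisted_le q hz)
  have hd' := hd
  rw [H52.checkedD4.diagonalSubgroup_eq] at hd
  obtain ⟨cc, rfl⟩ := hd
  set N := H52.torus chevD4 cc * H54.Ctx.nw chevD4 K L with hN
  have hvp := ctx.uinv_le _ hv
  set π := ctx.wperm L with hπdef
  have key : ∀ y z' : GL chevD4.Idx K, Commute (u * H52.torus chevD4 cc * H54.Ctx.nw chevD4 K L * v) y →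
      v * y * v⁻¹ = z' → N * z' * N⁻¹ = u⁻¹ * y * u := by
    intro y z' hc he
    rw [← he, hN]
    calc _ = u⁻¹ * ((u * H52.torus chevD4 cc * H54.Ctx.nw chevD4 K L * v) * y *
          (u * H52.torus chevD4 cc * H54.Ctx.nw chevD4 K L * v)⁻¹) * u := by group
      _ = _ := by rw [hc.eq, mul_inv_cancel_right]
  have hfix1 : f 1 = 1 := map_one f
  have k23 := key _ _ (hcom _ (Lng_E hf hfix1) ((mem_Fxd f).1 (E_fx hf hfix1)).2)
    (show v * x 23 1 * v⁻¹ = x 23 1 by rw [(pos_comm_E hvp _).eq, mul_inv_cancel_right])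
  obtain ⟨d0, hd0⟩ := pos_conj_S hvp (1 : K)
  have k22 := key _ _ (hcom _ (Lng_S hf hfix1) ((mem_Fxd f).1 (S_fx hf hfix1)).2) hd0
  obtain ⟨e, he0, hmon⟩ := H58.ChevMixed.conj_monomial ctx cc L ⟨23, by decide⟩ (1 : K)
  rw [k23, mul_assoc, ← (pos_comm_E hu _).eq, inv_mul_cancel_left] at hmon
  have h23 : (π ⟨23, by decide⟩).val = 23 :=
    (ctx.rt_eq_rt (by decide +kernel) (π _).isLt one_ne_zero hmon).1.symm
  obtain ⟨d2, hd2⟩ := pos_conj_S (inv_mem hu) (1 : K)
  rw [inv_inv] at hd2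
  obtain ⟨e', he0', hmon'⟩ := H58.ChevMixed.conj_monomial ctx cc L ⟨22, by decide⟩ (1 : K)
  obtain ⟨e3, -, hmon3⟩ := H58.ChevMixed.conj_monomial ctx cc L ⟨23, by decide⟩ d0
  have h22 : (π ⟨22, by decide⟩).val = 22 := by
    have hrel : x (π ⟨22, by decide⟩).val e' * x (π ⟨23, by decide⟩).val e3 = x 22 1 * x 23 d2 := by
      rw [← hd2, ← k22, ← hmon', ← hmon3, hN]; group
    rw [h23] at hrel
    by_contra hne
    have hne23 : (π ⟨22, by decide⟩).val ≠ 23 := fun h => by
      have := π.injective (Fin.ext (h.trans h23.symm))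
      simp at this
    rcases Nat.lt_or_ge (π ⟨22, by decide⟩).val (chevD4.nroots / 2) with hlt | hge
    · have hB : x (π ⟨22, by decide⟩).val e' ∈ chevD4.borelSubgroup K ⊓ chevD4.negUnipotent K := by
        refine ⟨?_, H52.checkedD4.rt_mem_neg hlt _⟩
        have h' : x (π ⟨22, by decide⟩).val e' = x 22 1 * x 23 d2 * (x 23 e3)⁻¹ :=
          eq_mul_inv_of_mul_eq hrel
        rw [h']
        exact Subgroup.mem_sup_left (mul_mem (mul_mem (rt_pos (by decide +kernel) _) (rt_pos (by decide +kernel) _))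
          (inv_mem (rt_pos (by decide +kernel) _)))
      rw [H52.checkedD4.borel_inf_neg, Subgroup.mem_bot] at hB
      exact he0' one_ne_zero (H52.checkedD4.rt_injective (π _).isLt (hB.trans (H52.checkedD4.rt_zero _).symm))
    · set r := (π ⟨22, by decide⟩).val
      have hr22 : r < 22 := by
        have := (π ⟨22, by decide⟩).isLt
        have h24 : chevD4.nroots = 24 := by decide +kernel
        omega
      have hlw : H53.listWord chevD4 [r, 22, 23] (fun j => if j = r then e' else if j = 22 then 0 else e3) =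
          H53.listWord chevD4 [r, 22, 23] (fun j => if j = r then 0 else if j = 22 then 1 else d2) := by
        have h22r : 22 ≠ r := by omega
        have h23r : 23 ≠ r := by omega
        simpa [H53.listWord_cons, H53.listWord_nil, h22r, h23r, H52.checkedD4.rt_zero] using hrel
      have := H53.listWord_injective H52.checkedD4 (P := [r, 22, 23])
        (by simp; omega) (by
          intro j hj
          simp only [List.mem_cons, List.not_mem_nil, or_false] at hj
          rcases hj with rfl | rfl | rfl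
          · exact ⟨hge, (π _).isLt⟩
          · decide +kernel
          · decide +kernel) hlw r (by simp)
      simp at this
      exact he0' one_ne_zero this
  obtain ⟨vt, v23, vs⟩ := vtab
  obtain ⟨p14, ppos⟩ := vpos
  have hπW := ctx.wperm_mem (F := K) L
  obtain ⟨w, hw⟩ := H53.weylForD4.perm_linear (π := π) hπW
  have e22 : π ⟨22, by decide⟩ = ⟨22, by decide⟩ := Fin.ext h22
  have e23 : π ⟨23, by decide⟩ = ⟨23, by decide⟩ := Fin.ext h23
  have v14 : H53.weylForD4.data.v (π ⟨14, by decide⟩) = H53.weylForD4.data.v ⟨14, by decide⟩ := by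
    have := congrArg (H53.WeylData.rho H53.weylForD4.valid w) v23
    rw [map_add, hw, hw, hw, e22, e23, v23] at this
    exact (add_left_cancel this).symm
  have e14 : π ⟨14, by decide⟩ = ⟨14, by decide⟩ := Fin.ext (p14 _ v14)
  have hsimple : ∀ i, chevD4.nroots / 2 ≤ (π (H53.weylForD4.data.simple i)).val := by
    intro i
    by_cases hi : i.val = 1
    · rw [show H53.weylForD4.data.simple i = ⟨14, by decide⟩ from Fin.ext (by
        rw [show i = ⟨1, by decide⟩ from Fin.ext hi]; exact vs), e14]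
      decide +kernel
    · obtain ⟨a, b, ha, hb⟩ := vt i hi
      refine ppos _ ⟨π a, ?_⟩ ⟨π b, ?_⟩
      · rw [← hw, ← hw, ← v14, ← hw, ← map_add, ha]
      · rw [← e22, ← hw, ← hw, ← hw, ← map_add, hb]
  have hpos : ∀ r : Fin chevD4.nroots, chevD4.nroots / 2 ≤ r.val → chevD4.nroots / 2 ≤ (π r).val := by
    intro r hr
    rw [← H53.weylForD4.pos_eq, ← hw, H53.weylForD4.v_decomp r, map_sum]
    intro c
    rw [Finset.sum_apply]
    refine Finset.sum_nonneg fun i _ => ?_
    rw [map_smul, hw, Pi.smul_apply, smul_eq_mul]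
    exact mul_nonneg ((H53.weylForD4.pos_eq r).2 hr i) ((H53.weylForD4.pos_eq _).2 (hsimple i) c)
  have hπ1 : π = 1 := (ctx.sep (F := K)).fix π hπW hpos
  have hnw : H54.Ctx.nw chevD4 K L ∈ chevD4.diagonalSubgroup K := by
    rw [← ctx.coe_nwG]
    refine (H53.mem_diag_iff H52.checkedD4 H53.weylForD4 _).2 ?_
    have := ctx.nwG_acts (F := K) L
    rw [← hπdef, hπ1] at this
    exact H53.RootGroupSys.mem_H_of_acts_one (ctx.axioms (F := K)) (ctx.sep (F := K)) (ctx.nwG_mem_N L) this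
  exact mul_mem (mul_mem (mul_mem (Subgroup.mem_sup_left hu) (Subgroup.mem_sup_right hd'))
    (Subgroup.mem_sup_right hnw)) (Subgroup.mem_sup_left hvp)

omit hq hK in
theorem w0_fx : H54.Ctx.nw chevD4 K L0 ∈ Fxd q f := by
  have h : H54.Ctx.nw chevD4 K L0 = na K * nb K * (na K * nb K) * (na K * nb K) := by
    simp only [H54.Ctx.nw, L0, List.map_cons, List.map_nil, List.prod_cons, List.prod_nil, mul_one, H53.nGL,
      na, nb, H52.Checked.nElt_eq, show chevD4.simple 0 = 18 by decide +kernel,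
      show chevD4.simple 1 = 14 by decide +kernel, show chevD4.simple 2 = 13 by decide +kernel,
      show chevD4.simple 3 = 12 by decide +kernel]
    group
  rw [h]
  exact mul_mem (mul_mem (mul_mem (na_fx hf) (nb_fx hf)) (mul_mem (na_fx hf) (nb_fx hf)))
    (mul_mem (na_fx hf) (nb_fx hf))

/-- The twisted group has no nontrivial element centralising all long root elements of `G₂(q)`. -/
theorem eq_one_of_comm {z : GL chevD4.Idx K} (hz : z ∈ twistedD4 K q)
    (hcom : ∀ y, Lng q f y → σ y = y → Commute z y) : z = 1 := by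
  set w0 := H54.Ctx.nw chevD4 K L0
  have hw0 := (mem_Fxd f).1 (w0_fx hf)
  have hB := mem_borel hf hq hK hz hcom
  have hB' : w0 * z * w0⁻¹ ∈ chevD4.borelSubgroup K := by
    refine mem_borel hf hq hK (mul_mem (mul_mem hw0.1 hz) (inv_mem hw0.1)) fun y hy hσ => ?_
    have h := hcom (w0⁻¹ * y * w0⁻¹⁻¹) (Lng_conj hf (inv_mem hw0.1) hy)
      ((σ_conj (by rw [map_inv, hw0.2])).2 hσ)
    show w0 * z * w0⁻¹ * y = y * (w0 * z * w0⁻¹)
    calc w0 * z * w0⁻¹ * y = w0 * (z * (w0⁻¹ * y * w0⁻¹⁻¹)) * w0⁻¹ := by group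
      _ = _ := by rw [h.eq]; group
  obtain ⟨u, hu, cc, rfl⟩ := H52.checkedD4.mem_borel_iff.1 hB
  have hconj : ∀ (r : ℕ), chevD4.nroots / 2 ≤ r → r < chevD4.nroots → ∀ t : K,
      w0 * x r t * w0⁻¹ ∈ chevD4.negUnipotent K := by
    intro r h1 h2 t
    obtain ⟨e, -, he⟩ := ctx.nw_conj_rt (F := K) L0 ⟨r, h2⟩ t
    rw [he]
    exact H52.checkedD4.rt_mem_neg
      (by rw [show ctx.wperm L0 = (L0.map H53.weylForD4.sigma).prod from rfl,
            H53.foldr_eq_perm H52.checkedD4 H53.weylForD4 H53.D4T.ok]; exact L0_neg ⟨r, h2⟩ h1) _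
  have hneg : w0 * u * w0⁻¹ ∈ chevD4.negUnipotent K := by
    have : chevD4.posUnipotent K ≤ (chevD4.negUnipotent K).comap (MulAut.conj w0).toMonoidHom := by
      rw [H52.checkedD4.posUnipotent_eq, H52.upper, Subgroup.closure_le]
      rintro g ⟨r, t, h1, h2, rfl⟩
      exact hconj r h1 h2 t
    exact this hu
  have hw0N : w0 ∈ chevD4.monomialSubgroup K := by
    show H54.Ctx.nw chevD4 K L0 ∈ _
    rw [← ctx.coe_nwG]
    exact (H53.mem_monomial_iff H52.checkedD4 H53.weylForD4 H53.D4T.ok _).2 (ctx.nwG_mem_N L0)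
  have htor : w0 * H52.torus chevD4 cc * w0⁻¹ ∈ chevD4.diagonalSubgroup K :=
    (Subgroup.mem_normalizer_iff.1 (H52.checkedD4.monomial_le_normalizer hw0N) _).1
      (by rw [H52.checkedD4.diagonalSubgroup_eq]; exact ⟨cc, rfl⟩)
  have hu1 : u = 1 := by
    have h : w0 * u * w0⁻¹ ∈ chevD4.borelSubgroup K ⊓ chevD4.negUnipotent K := by
      refine ⟨?_, hneg⟩
      have := mul_mem hB' (inv_mem (Subgroup.mem_sup_right htor : _ ∈ chevD4.borelSubgroup K))
      rwa [show w0 * (u * H52.torus chevD4 cc) * w0⁻¹ * (w0 * H52.torus chevD4 cc * w0⁻¹)⁻¹ =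
        w0 * u * w0⁻¹ by group] at this
    rw [H52.checkedD4.borel_inf_neg, Subgroup.mem_bot, conj_eq_one_iff] at h
    exact h
  subst hu1
  rw [one_mul] at hcom ⊢
  have hfix1 : f 1 = 1 := map_one f
  set χ : ℕ → Kˣ := fun r => ∏ i : Fin chevD4.rank, cc i ^ chevD4.cartan i.val r
  have h14 : χ 14 = 1 := by
    have h := hcom _ (Lng_B hf hfix1) ((mem_Fxd f).1 (single_fx hf (by decide) hfix1)).2
    have e := H52.checkedD4.torus_conj_rt cc (r := 14) (by decide +kernel) (1 : K)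
    rw [h.eq, mul_inv_cancel_right, mul_one] at e
    exact Units.ext (H52.checkedD4.rt_injective (by decide +kernel) e).symm
  have ey := collectA f hf.three (a := (1 : K)) hfix1 0 0 1
  simp only [mul_one, one_mul, map_one, show U1 f (0 : K) = 1 by simp [U1, H52.checkedD4.rt_zero],
    show W f (0 : K) = 1 by simp [W, H52.checkedD4.rt_zero]] at ey
  have hcy := hcom _ (Lng_conj hf (A_mem hf 1) (Lng_B hf hfix1))
    ((σ_conj ((mem_Fxd f).1 (A_fx hf hfix1)).2).2 ((mem_Fxd f).1 (single_fx hf (by decide) hfix1)).2)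
  rw [ey] at hcy
  have hm1 : f (-1 : K) = -1 := by rw [map_neg, map_one]
  have e1 := hcom _ (Lng_B hf hfix1) ((mem_Fxd f).1 (single_fx hf (by decide) hfix1)).2
  have e2 := hcom _ (Lng_S hf hm1) ((mem_Fxd f).1 (S_fx hf hm1)).2
  have e3 := hcom _ (Lng_E hf hm1) ((mem_Fxd f).1 (E_fx hf hm1)).2
  have e4 := ((e1.inv_right.mul_right hcy).mul_right (e2.mul_right e3).inv_right)
  set τ := H52.torus chevD4 cc
  have hcW : Commute τ (U1 f 1 * W f 1) := by
    rwa [show ∀ b U V s e a : GL chevD4.Idx K,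
      b⁻¹ * (b * (U * (V * (s * (e * a)))) * a⁻¹) * (s * e)⁻¹ = U * V from
      fun b U V s e a => by group] at e4
  set X := U1 f 1 * W f 1 with hX
  have hid : ∀ b : K, X * x 17 b = x 17 b * (x 23 b * X) ∧ X * x 20 b = x 20 b * (x 23 (-b) * X) ∧
      X * x 21 b = x 21 b * (x 23 (-b) * X) := by
    intro b
    have h : ∀ g, (U1 f 1 * (W f 1 * (x 17 b * g)) = x 17 b * (x 23 b * (U1 f 1 * (W f 1 * g)))) ∧
        (U1 f 1 * (W f 1 * (x 20 b * g)) = x 20 b * (x 23 (-b) * (U1 f 1 * (W f 1 * g)))) ∧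
        (U1 f 1 * (W f 1 * (x 21 b * g)) = x 21 b * (x 23 (-b) * (U1 f 1 * (W f 1 * g)))) := by
      intro g
      refine ⟨?_, ?_, ?_⟩ <;>
        (simp only [U1, W, mul_assoc, mg, rules, map_one]; ring_nf; simp only [H52.checkedD4.rt_zero, one_mul])
    simpa [hX, mul_assoc] using h 1
  have hroot : ∀ {r s : ℕ} (m : K), m ≠ 0 → (∀ b : K, X * x s b = x s b * (x 23 (m * b) * X)) →
      (s < chevD4.nroots ∧ 23 < chevD4.nroots) →
      (∀ i : Fin chevD4.rank, chevD4.cartan i.val r + chevD4.cartan i.val s = chevD4.cartan i.val 23) →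
      χ r = 1 := by
    intro r s m hm hid hlt hadd
    have hX' : τ * X * τ⁻¹ = X := by rw [hcW.eq, mul_inv_cancel_right]
    have h2 : X * x s ((χ s : K) * 1) = x s ((χ s : K) * 1) * (x 23 ((χ 23 : K) * (m * 1)) * X) := by
      rw [← H52.checkedD4.torus_conj_rt cc hlt.1, ← H52.checkedD4.torus_conj_rt cc hlt.2]
      calc X * (τ * x s 1 * τ⁻¹) = τ * X * τ⁻¹ * (τ * x s 1 * τ⁻¹) := by rw [hX']
        _ = τ * (X * x s 1) * τ⁻¹ := by group
        _ = τ * (x s 1 * (x 23 (m * 1) * X)) * τ⁻¹ := by rw [hid]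
        _ = τ * x s 1 * τ⁻¹ * (τ * x 23 (m * 1) * τ⁻¹ * (τ * X * τ⁻¹)) := by group
        _ = _ := by rw [hX']
    rw [hid] at h2
    have h3 := H52.checkedD4.rt_injective hlt.2 (mul_right_cancel (mul_left_cancel h2))
    have h4 : χ s = χ 23 := by
      apply Units.ext
      rw [mul_one, mul_one] at h3
      exact mul_left_cancel₀ hm (h3.trans (mul_comm _ _))
    have h5 : χ r * χ s = χ 23 := by
      simp only [χ]
      rw [← Finset.prod_mul_distrib]
      exact Finset.prod_congr rfl fun i _ => by rw [← zpow_add, hadd]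
    rw [← h4] at h5
    exact mul_eq_right.1 h5
  have c19 : χ 19 = 1 := hroot (s := 17) 1 one_ne_zero (fun b => by rw [one_mul]; exact (hid b).1)
    (by decide +kernel) (by decide +kernel)
  have c16 : χ 16 = 1 := hroot (s := 20) (-1) (neg_ne_zero.2 one_ne_zero)
    (fun b => by rw [neg_one_mul]; exact (hid b).2.1) (by decide +kernel) (by decide +kernel)
  have c15 : χ 15 = 1 := hroot (s := 21) (-1) (neg_ne_zero.2 one_ne_zero)
    (fun b => by rw [neg_one_mul]; exact (hid b).2.2) (by decide +kernel) (by decide +kernel)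
  have hsplit : ∀ a b, (∀ i : Fin chevD4.rank, chevD4.cartan i.val b =
      chevD4.cartan i.val a + chevD4.cartan i.val 14) → χ b = 1 → χ a = 1 := by
    intro a b hab hb
    have : χ b = χ a * χ 14 := by
      simp only [χ]
      rw [← Finset.prod_mul_distrib]
      exact Finset.prod_congr rfl fun i _ => by rw [← zpow_add, hab]
    rwa [h14, mul_one, hb, eq_comm] at this
  refine H53.torus_eq_one H52.checkedD4 fun j => ?_
  show χ (chevD4.simple j.val) = 1
  rcases (show ∀ j : Fin chevD4.rank, chevD4.simple j.val = 14 ∨ chevD4.simple j.val = 18 ∨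
    chevD4.simple j.val = 13 ∨ chevD4.simple j.val = 12 by decide +kernel) j with e | e | e | e <;> rw [e]
  · exact h14
  · exact hsplit 18 19 (fun i => (char_table i).1) c19
  · exact hsplit 13 16 (fun i => (char_table i).2.1) c16
  · exact hsplit 12 15 (fun i => (char_table i).2.2) c15

end H58.D4Sub
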