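import Cfsg.Agent.H58.D4SubMax

/-!
An overgroup of G₂(q) in ³D₄(q) with an irrational short root element is everything.
-/

set_option autoImplicit false
set_option linter.unusedSectionVars false

open Cfsg.Lie
open scoped MatrixGroups

namespace H58.D4Sub

variable {K : Type*} [Field K] {f : K ≃+* K}

local notation "x" => H52.rt chevD4
local notation "σ" => H54.glF chevD4 (RingHomClass.toRingHom f)

theorem A_add (a b : K) : A f a * A f b = A f (a + b) := by
  have h : ∀ g, A f a * (A f b * g) = A f (a + b) * g := fun g => by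
    simp only [A, mul_assoc, mg, rules, map_add]
  simpa using h 1

variable {q : ℕ} (hf : Frob q f)
include hf

theorem A_eq_one {a : K} (h : A f a = 1) : a = 0 := by
  have e := collect20 f 0 0 0 a 0 0 1
  simp only [h, U1, W, map_zero, neg_zero, mul_zero, zero_mul, sub_zero, H52.checkedD4.rt_zero, one_mul,
    mul_one] at e
  have e' : x 22 (f a) * x 23 (0 : K) = x 22 0 * x 23 0 := by
    rw [H52.checkedD4.rt_zero, H52.checkedD4.rt_zero, mul_one, mul_one]
    exact mul_eq_left.1 e.symm
  exact (map_eq_zero f).1 (sep_SE e').1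

variable {H : Subgroup (GL chevD4.Idx K)} (hH : Fxd q f ≤ H)
include hH

theorem A_of_W {c : K} (h : W f c ∈ H) : A f c ∈ H := by
  have h1 : U1 f c ∈ H := na_W f c ▸ mul_mem (mul_mem (hH (na_fx hf)) h) (inv_mem (hH (na_fx hf)))
  exact nb_U1 f c ▸ mul_mem (mul_mem (hH (nb_fx hf)) h1) (inv_mem (hH (nb_fx hf)))

theorem U1_of_A {c : K} (h : A f (-c) ∈ H) : U1 f c ∈ H := by
  rw [← neg_neg c, ← nb_A]
  exact mul_mem (mul_mem (hH (nb_fx hf)) h) (inv_mem (hH (nb_fx hf)))

theorem A_neg_mem {c : K} (h : A f c ∈ H) : A f (-c) ∈ H := by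
  rw [show A f (-c) = (A f c)⁻¹ from eq_inv_of_mul_eq_one_left (by
    rw [A_add, neg_add_cancel]; simp [A, H52.checkedD4.rt_zero])]
  exact inv_mem h

theorem closure_step {k c : K} (hk : f k = k) (h : A f c ∈ H) :
    A f (k * c) ∈ H ∧ A f (k * (f c * f (f c))) ∈ H := by
  have h3 := hf.three
  have hX : U1 f (k * c) * W f (k * (f c * f (f c))) ∈ H := by
    have e := collectA f h3 (a := c) hk 0 0 1
    simp only [U1, W, map_zero, neg_zero, H52.checkedD4.rt_zero, one_mul, mul_one] at e
    rw [← U1, ← W] at e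
    set c1 := -(k * (c * (f c * f (f c))))
    set c2 := -(k * k * (c * (f c * f (f c))))
    have hc1 : f c1 = c1 := by simp only [c1, map_neg, map_mul, h3, hk]; ring
    have hc2 : f c2 = c2 := by simp only [c2, map_neg, map_mul, h3, hk]; ring
    have hk14 := hH (single_fx hf (r := 14) (by decide) hk)
    have h2 : A f c * x 14 k ∈ H := mul_mem h hk14
    rw [e, Subgroup.mul_mem_cancel_left H hk14, ← mul_assoc,
      Subgroup.mul_mem_cancel_right H (mul_mem (hH (S_fx hf hc1)) (mul_mem (hH (E_fx hf hc2)) h))] at h2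
    exact h2
  have hphi : W f (f (k * c) + f (f (k * c))) ∈ H := by
    generalize k * c = u at hX ⊢
    generalize k * (f c * f (f c)) = w at hX
    have hA : A f 1 ∈ H := hH (A_fx hf (map_one f))
    have e := collectU f h3 u w 1
    simp only [mul_one] at e
    set c1 := -(u + f u + f (f u) + (w + f w + f (f w)))
    set c2 := -(u * f (f u) + f u * f (f u) + u * f u)
    have hc1 : f c1 = c1 := by simp only [c1, map_neg, map_add, h3]; ring
    have hc2 : f c2 = c2 := by simp only [c2, map_neg, map_add, map_mul, h3]; ring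
    have hl : A f 1 * (U1 f u * W f w) ∈ H := mul_mem hA hX
    rw [e, ← mul_assoc (U1 f u), Subgroup.mul_mem_cancel_left H hX,
      Subgroup.mul_mem_cancel_right H (mul_mem (hH (S_fx hf hc1)) (mul_mem (hH (E_fx hf hc2)) hA))] at hl
    exact hl
  have htr : f (k * (c + f c + f (f c))) = k * (c + f c + f (f c)) := by
    simp only [map_mul, map_add, h3, hk]; ring
  have hkc : A f (k * c) ∈ H := by
    have := mul_mem (hH (A_fx hf htr)) (A_neg_mem hf hH (A_of_W hf hH hphi))
    rwa [A_add, show k * (c + f c + f (f c)) + -(f (k * c) + f (f (k * c))) = k * c by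
      simp only [map_mul, hk]; ring] at this
  refine ⟨hkc, A_of_W hf hH ?_⟩
  exact (Subgroup.mul_mem_cancel_left H (U1_of_A hf hH (A_neg_mem hf hH hkc))).1 hX

omit hH in
theorem no_quadratic {c α β δ : K} (hc : f c ≠ c) (hα : f α = α) (hβ : f β = β) (hδ : f δ = δ)
    (h : β * c ^ 2 + α * c + δ = 0) : β = 0 ∧ α = 0 := by
  have h1 : β * f c ^ 2 + α * f c + δ = 0 := by
    have := congrArg f h
    simpa [hα, hβ, hδ] using this
  have h2 : β * f (f c) ^ 2 + α * f (f c) + δ = 0 := by
    have := congrArg f h1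
    simpa [hα, hβ, hδ] using this
  have hde : f c ≠ f (f c) := fun e => hc (f.injective e).symm
  have hce : c ≠ f (f c) := fun e => hc (by
    have := congrArg f e
    rwa [hf.three] at this)
  have a1 : β * (c + f c) + α = 0 := by
    have : (c - f c) * (β * (c + f c) + α) = 0 := by linear_combination h - h1
    exact (mul_eq_zero.1 this).resolve_left (sub_ne_zero.2 (Ne.symm hc))
  have a2 : β * (f c + f (f c)) + α = 0 := by
    have : (f c - f (f c)) * (β * (f c + f (f c)) + α) = 0 := by linear_combination h1 - h2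
    exact (mul_eq_zero.1 this).resolve_left (sub_ne_zero.2 hde)
  have hb : β = 0 := by
    have : (c - f (f c)) * β = 0 := by linear_combination a1 - a2
    exact (mul_eq_zero.1 this).resolve_left (sub_ne_zero.2 hce)
  exact ⟨hb, by simpa [hb] using a1⟩

variable [Fintype K] (hq : IsPrimePow q) (hK : Fintype.card K = q ^ 3)
include hq hK

theorem twisted_le_of_irr (hirr : Irr f H) : twistedD4 K q ≤ H := by
  classical
  obtain ⟨c, hc, hW⟩ := hirr
  have hcA := A_of_W hf hH hW
  let R := {t : K // f t = t}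
  let Φ : R × R × R → K := fun z => z.1.1 + z.2.1.1 * c + z.2.2.1 * (f c * f (f c))
  have hN : f (c * (f c * f (f c))) = c * (f c * f (f c)) := by
    simp only [map_mul, hf.three]; ring
  have hinj : Function.Injective Φ := by
    rintro ⟨⟨a, ha⟩, ⟨b, hb⟩, ⟨d, hd⟩⟩ ⟨⟨a', ha'⟩, ⟨b', hb'⟩, ⟨d', hd'⟩⟩ h
    replace h : a + b * c + d * (f c * f (f c)) = a' + b' * c + d' * (f c * f (f c)) := h
    obtain ⟨h1, h2⟩ := no_quadratic hf hc (α := a - a') (β := b - b')
      (δ := (d - d') * (c * (f c * f (f c)))) (by rw [map_sub, ha, ha']) (by rw [map_sub, hb, hb'])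
      (by rw [map_mul, hN, map_sub, hd, hd']) (by linear_combination c * h)
    obtain rfl := sub_eq_zero.1 h1
    obtain rfl := sub_eq_zero.1 h2
    have hne : f c * f (f c) ≠ 0 := by
      have : c ≠ 0 := fun e => hc (by rw [e, map_zero])
      simp [this]
    obtain rfl := mul_right_cancel₀ hne (add_left_cancel h)
    rfl
  have hR : Fintype.card R = q := by
    rw [← Nat.card_eq_fintype_card, Nat.card_congr (Equiv.subtypeEquivRight fun t => by rw [hf.eq])]
    exact H53.card_pow_fixed hq.one_lt hK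
  have hbij : Function.Bijective Φ := (Fintype.bijective_iff_injective_and_card Φ).2
    ⟨hinj, by simp only [Fintype.card_prod, hR, hK]; ring⟩
  have hA : ∀ t, A f t ∈ H := by
    intro t
    obtain ⟨⟨⟨a, ha⟩, ⟨b, hb⟩, ⟨d, hd⟩⟩, rfl⟩ := hbij.2 t
    show A f (a + b * c + d * (f c * f (f c))) ∈ H
    rw [← A_add, ← A_add]
    exact mul_mem (mul_mem (hH (A_fx hf ha)) (closure_step hf hH hb hcA).1) (closure_step hf hH hd hcA).2
  refine (Subgroup.closure_le _).2 fun g hg => ?_
  rcases H53.D4T.gen_eq hg with ⟨r, hr, t, ht, rfl⟩ | ⟨⟨a, b, d⟩, habc, t, rfl⟩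
  · exact hH (single_fx hf hr (by rw [hf.eq, ht]))
  · rw [SetLike.mem_coe, H53.D4T.sq_pow, ← hf.eq, ← hf.eq]
    simp only [List.mem_cons, Prod.mk.injEq, List.not_mem_nil, or_false] at habc
    rcases habc with ⟨rfl, rfl, rfl⟩ | ⟨rfl, rfl, rfl⟩
    · exact hA t
    · have h := mul_mem (mul_mem (hH (na_fx hf)) (hA (-t))) (inv_mem (hH (na_fx hf)))
      rw [na_A, neg_neg] at h
      exact h

omit hH in
theorem σ_mem {g : GL chevD4.Idx K} (hg : g ∈ twistedD4 K q) : σ g ∈ twistedD4 K q := by
  refine (show twistedD4 K q ≤ (twistedD4 K q).comap (H54.glF chevD4 (f : K →+* K)) from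
    (Subgroup.closure_le _).2 fun z hz => ?_) hg
  show σ z ∈ twistedD4 K q
  rcases H53.D4T.gen_eq hz with ⟨r, hr, t, ht, rfl⟩ | ⟨⟨a, b, d⟩, habc, t, rfl⟩
  · rw [σ_rt]
    exact H53.D4T.single_mem hr (by rw [← map_pow, ht])
  · rw [map_mul, map_mul, σ_rt, σ_rt, σ_rt, map_pow, map_pow]
    exact H53.D4T.triple_mem q habc (f t)

/-- G₂(q) is maximal. -/
theorem maximal (hle : H ≤ twistedD4 K q) : H = Fxd q f ∨ H = twistedD4 K q := by
  by_cases hall : ∀ y ∈ H, Lng q f y → σ y = y
  · left
    refine le_antisymm (fun h hh => ⟨hle hh, ?_⟩) hH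
    show σ h = h
    have hz : h⁻¹ * σ h = 1 := by
      refine eq_one_of_comm hf hq hK (mul_mem (inv_mem (hle hh)) (σ_mem hf hq hK (hle hh))) fun y hy hσ => ?_
      have hyG : y ∈ twistedD4 K q := by
        obtain ⟨g, hg, t, ht, rfl⟩ := hy
        exact mul_mem (mul_mem hg (E_fx hf ht).1) (inv_mem hg)
      have hyH : y ∈ H := hH ⟨hyG, hσ⟩
      have h1 := hall _ (mul_mem (mul_mem hh hyH) (inv_mem hh)) (Lng_conj hf (hle hh) hy)
      rw [map_mul, map_mul, map_inv, hσ] at h1
      show h⁻¹ * σ h * y = y * (h⁻¹ * σ h)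
      calc h⁻¹ * σ h * y = h⁻¹ * (σ h * y * (σ h)⁻¹) * σ h := by group
        _ = _ := by rw [h1]; group
    exact (inv_mul_eq_one.1 hz).symm
  · right
    push Not at hall
    obtain ⟨y, hy, hl, hne⟩ := hall
    obtain ⟨v, hv, hvt, r, hr, t, ht, rfl⟩ := Lng_form hf hq hK hl
    exact le_antisymm hle
      (twisted_le_of_irr hf hH hq hK ((long_cases hf hH hq hK hv hvt ht hr hy).resolve_left hne))

omit hH in
theorem fxd_ne : Fxd q f ≠ twistedD4 K q := by
  intro h
  have hall : ∀ t : K, t ^ q = t := by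
    intro t
    have h1 : A f t ∈ Fxd q f := h ▸ A_mem hf t
    have h2 : A f (f t) = A f t := (σ_A f t).symm.trans ((mem_Fxd f).1 h1).2
    have h3 : A f (f t - t) = 1 := by
      rw [sub_eq_add_neg, ← A_add, h2, A_add, add_neg_cancel]
      simp [A, H52.checkedD4.rt_zero]
    rw [← hf.eq]
    exact sub_eq_zero.1 (A_eq_one hf h3)
  have hc := H53.card_pow_fixed hq.one_lt hK
  rw [Nat.card_congr (Equiv.subtypeUnivEquiv hall), Nat.card_eq_fintype_card, hK] at hc
  exact absurd hc (Nat.ne_of_gt (by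
    calc q = q ^ 1 := (pow_one q).symm
      _ < q ^ 3 := Nat.pow_lt_pow_right hq.one_lt (by norm_num)))

end H58.D4Sub
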