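import Cfsg.Agent.H58.E6SubLong

/-!
Long root elements of ²E₆ in normal form.
-/

set_option autoImplicit false
set_option linter.unusedSectionVars false

open Cfsg.Lie
open scoped MatrixGroups

namespace H58.E6Sub

variable {K : Type*} [Field K]

local notation "x" => H52.rt chevE6
local notation "qn" => H53.BasisSym.qn H53.e6Sym
local notation "sn" => H53.BasisSym.sn H53.e6Sym
local notation "pk" => H53.E6T.pk

/-- The first root of a node. -/
def hd (k : Fin 4) : ℕ := ([46, 39, 36, 37] : List ℕ).getD k.val 0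

theorem hd_table : ∀ k : Fin 4, hd k ∈ pk k ∧
    pk k = if qn (hd k) = hd k then [hd k] else [hd k, qn (hd k)] := by
  decide +kernel

/-- Positive roots outside a node. -/
def PP (k : Fin 4) (r : ℕ) : Prop := r < chevE6.nroots ∧ chevE6.nroots / 2 ≤ r ∧ r ∉ pk k

instance (k : Fin 4) (r : ℕ) : Decidable (PP k r) := by unfold PP; infer_instance

theorem PP_table : ∀ k : Fin 4, ∀ r, r < chevE6.nroots → PP k r →
    chevE6.nroots / 2 ≤ act k r ∧ ∀ a ∈ pk k, r ≠ a := by
  decide +kernel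

/-- The group of the positive roots outside a node. -/
noncomputable def Pg (k : Fin 4) (K : Type*) [Field K] : Subgroup (GL chevE6.Idx K) :=
  H52.genBy chevE6 K (PP k)

theorem Pg_le (k : Fin 4) : Pg k K ≤ Nh 1 K :=
  H52.genBy_mono fun _ hr => ⟨hr.1, hr.2.1, by exact_mod_cast ((hgt_table _ hr.1).2.2.1).1 hr.2.1⟩

theorem Pg_conj (k : Fin 4) {p : GL chevE6.Idx K} (hp : p ∈ Pg k K) :
    nd K k * p * (nd K k)⁻¹ ∈ Nh 1 K := by
  have : Pg k K ≤ (Nh 1 K).comap (MulAut.conj (nd K k)).toMonoidHom := by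
    refine (Subgroup.closure_le _).2 ?_
    rintro g ⟨r, t, hr, rfl⟩
    show nd K k * x r t * (nd K k)⁻¹ ∈ Nh 1 K
    rw [nd_conj k hr.1]
    have h1 := (node_table k r hr.1).1
    exact H52.rt_mem_genBy ⟨h1, (PP_table k r hr.1 hr).1,
      by exact_mod_cast ((hgt_table _ h1).2.2.1).1 (PP_table k r hr.1 hr).1⟩ _
  exact this hp

theorem phi_Pg {k : Fin 4} {a : ℕ} (ha : a ∈ pk k) {p : GL chevE6.Idx K} (hp : p ∈ Pg k K) : phi a p = 0 := by
  obtain ⟨a1, -, a3⟩ := mem_Lv.1 (simple_table k a ha).1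
  induction hp using Subgroup.closure_induction with
  | mem g hg =>
    obtain ⟨r, t, hr, rfl⟩ := hg
    rw [phi_rt a1 hr.1, if_neg fun e => (PP_table k r hr.1 hr).2 a ha e.symm]
  | one => exact phi_one a
  | mul g g' hg hg' h h' =>
    rw [phi_mul a3 le_rfl (Nh_uni le_rfl (Pg_le k hg)) (Nh_uni le_rfl (Pg_le k hg')), h, h', add_zero]
  | inv g hg h => rw [phi_inv a3 le_rfl (Nh_uni le_rfl (Pg_le k hg)), h, neg_zero]

theorem pk_commute : ∀ k : Fin 4, ∀ a ∈ pk k, ∀ b ∈ pk k, a = b ∨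
    (a < chevE6.nroots ∧ b < chevE6.nroots ∧ b ≠ chevE6.neg a ∧ chevE6.commTerms a b = []) := by
  decide +kernel

/-- `U` is the product of the root groups of a node and the others. -/
theorem split_node (k : Fin 4) {u : GL chevE6.Idx K} (hu : u ∈ Nh 1 K) :
    ∃ t : ℕ → K, ∃ p ∈ Pg k K, u = lw (pk k) t * p := by
  have hmerge : ∀ L : List ℕ, L.Nodup → (∀ z ∈ L, z ∈ pk k) → ∀ r ∈ L, ∀ (c : K) (t : ℕ → K),
      x r c * lw L t = lw L (Function.update t r (t r + c)) := by
    intro L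
    induction L with
    | nil => intro _ _ r hr; simp at hr
    | cons z L ih =>
      intro hnd hL r hr c t
      obtain ⟨hzL, hnd'⟩ := List.nodup_cons.1 hnd
      rw [lw_cons, lw_cons]
      by_cases e : r = z
      · subst e
        rw [Function.update_self, ← mul_assoc, H52.checkedE6.rt_mul, add_comm]
        congr 1
        exact congrArg List.prod (List.map_congr_left fun y hy => by
          rw [Function.update_of_ne (fun h : y = r => hzL (h ▸ hy))])
      · have hrL := (List.mem_cons.1 hr).resolve_left e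
        obtain ⟨c1, c2, c3, c4⟩ := (pk_commute k r (hL r hr) z (hL z List.mem_cons_self)).resolve_left e
        rw [Function.update_of_ne (Ne.symm e), ← ih hnd' (fun y hy => hL y (List.mem_cons_of_mem _ hy)) r hrL c t,
          ← mul_assoc, ← mul_assoc, H53.rt_commute H52.checkedE6 c1 c2 (Ne.symm e) c3 c4]
  have hnd : (pk k).Nodup := (H53.E6T.pk_closed k).1.imp fun h => Nat.ne_of_lt h
  have hnorm : ∀ r ∈ pk k, ∀ c : K, ∀ g ∈ Pg k K, x r c * g * (x r c)⁻¹ ∈ Pg k K := by
    intro r hr c g hg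
    obtain ⟨r1, r2, r3⟩ := mem_Lv.1 (simple_table k r hr).1
    refine H52.checkedE6.rt_conj_genBy r1 (fun s h => h.1) ?_ ?_ c hg
    · intro h
      exact absurd h.2.1 (not_le.2 ((show ∀ r < chevE6.nroots, chevE6.nroots / 2 ≤ r →
        chevE6.neg r < chevE6.nroots / 2 by decide +kernel) r r1 r2))
    · intro s v hs hv i j hi hj h
      have e := hgt_add h
      have h2 := ((hgt_table s hs.1).2.2.1).1 hs.2.1
      have hi' : (1 : ℤ) ≤ i := by exact_mod_cast hi
      have hj' : (1 : ℤ) ≤ j := by exact_mod_cast hj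
      rw [r3] at e
      have e2 : hgt s ≤ (j : ℤ) * hgt s := le_mul_of_one_le_left (by omega) hj'
      have hv1 : 2 ≤ hgt v := by push_cast at e; omega
      refine ⟨hv, ((hgt_table v hv).2.2.1).2 (by omega), fun hv' => ?_⟩
      have := (mem_Lv.1 (simple_table k v hv').1).2.2
      omega
  have step : ∀ r a, NP 1 r → ∀ g : GL chevE6.Idx K, (∃ t : ℕ → K, ∃ p ∈ Pg k K, g = lw (pk k) t * p) →
      ∃ t : ℕ → K, ∃ p ∈ Pg k K, x r a * g = lw (pk k) t * p := by
    rintro r a hr g ⟨t, p, hp, rfl⟩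
    by_cases hrk : r ∈ pk k
    · exact ⟨_, p, hp, by rw [← mul_assoc, hmerge _ hnd (fun z hz => hz) r hrk a t]⟩
    · have key : ∀ L : List ℕ, (∀ z ∈ L, z ∈ pk k) → ∀ w ∈ Pg k K, (lw L t)⁻¹ * w * lw L t ∈ Pg k K := by
        intro L
        induction L with
        | nil => intro _ w hw; simpa [lw] using hw
        | cons z L ih' =>
          intro hz w hw
          rw [lw_cons, show (x z (t z) * lw L t)⁻¹ * w * (x z (t z) * lw L t) =
            (lw L t)⁻¹ * ((x z (t z))⁻¹ * w * (x z (t z))⁻¹⁻¹) * lw L t by group, H52.checkedE6.rt_inv]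
          exact ih' (fun y hy => hz y (List.mem_cons_of_mem _ hy)) _ (hnorm z (hz z List.mem_cons_self) _ w hw)
      exact ⟨t, (lw (pk k) t)⁻¹ * x r a * lw (pk k) t * p,
        mul_mem (key _ (fun z hz => hz) _ (H52.rt_mem_genBy ⟨hr.1, hr.2.1, hrk⟩ a)) hp, by group⟩
  unfold Nh H52.genBy at hu
  induction hu using Subgroup.closure_induction_left with
  | one => exact ⟨fun _ => 0, 1, one_mem _, by rw [lw_update_zero, one_mul]⟩
  | mul_left z hz g' _ ih => obtain ⟨r, a, hr, rfl⟩ := hz; exact step r a hr g' ih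
  | inv_mul_cancel z hz g' _ ih =>
    obtain ⟨r, a, hr, rfl⟩ := hz
    rw [H52.checkedE6.rt_inv]
    exact step r (-a) hr g' ih

/-- The highest root commutes with the positive root elements. -/
theorem comm_top {u : GL chevE6.Idx K} (hu : u ∈ Nh 1 K) (t : K) : Commute u (x 71 t) := by
  induction hu using Subgroup.closure_induction with
  | mem g hg =>
    obtain ⟨r, c, hr, rfl⟩ := hg
    rcases (show ∀ r < chevE6.nroots, chevE6.nroots / 2 ≤ r →
      r = 71 ∨ (71 < chevE6.nroots ∧ 71 ≠ r ∧ 71 ≠ chevE6.neg r ∧ chevE6.commTerms r 71 = []) by decide +kernel)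
        r hr.1 hr.2.1 with rfl | ⟨h1, h2, h3, h4⟩
    · show x 71 c * x 71 t = x 71 t * x 71 c
      rw [H52.checkedE6.rt_mul, H52.checkedE6.rt_mul, add_comm]
    · exact H53.rt_commute H52.checkedE6 hr.1 h1 h2 h3 h4 c t
  | one => exact Commute.one_left _
  | mul a b _ _ ha hb => exact ha.mul_left hb
  | inv a _ ha => exact ha.inv_left

/-- The conditions under which a commutator with the highest root detects the coefficient of a node. -/
def Det (r : ℕ) (k : Fin 4) : Bool :=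
  match chevE6.commTerms 71 r with
  | [(z, c, 1, 1)] => decide (r ≠ 71 ∧ r ≠ chevE6.neg 71 ∧ z < chevE6.nroots ∧ chevE6.nroots / 2 ≤ z ∧
      (c = 1 ∨ c = -1) ∧ qn z = z ∧
      (71 ≠ z ∧ 71 ≠ chevE6.neg z ∧ chevE6.commTerms z 71 = []) ∧
      (r ≠ z ∧ r ≠ chevE6.neg z ∧ chevE6.commTerms z r = [])) &&
      (List.range chevE6.nroots).any fun s => decide (hgt s = hgt z + 1 ∧
        (cm (hd k) z s = 1 ∨ cm (hd k) z s = -1) ∧ ∀ b ∈ Lv 1, b ≠ hd k → cm b z s = 0)
  | _ => false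

set_option synthInstance.maxSize 4000 in
set_option synthInstance.maxHeartbeats 200000 in
theorem rec_table : ∀ r < chevE6.nroots, r < chevE6.nroots / 2 → qn r = r → ∃ k : Fin 4,
    hgt r < hgt (act k r) ∧ (k.val < 2 ∨ Det r k = true ∨
      ∃ b : Fin 4, b.val < 2 ∧ act b (hd k) = hd k ∧ hd k ∉ pk b ∧ Det (act b r) k = true) := by
  decide +kernel

variable {f : K ≃+* K}

local notation "σ" => H54.glF chevE6 (RingHomClass.toRingHom f)

variable {q : ℕ} (hf : Frob q f) [Fintype K] (hq : IsPrimePow q) (hK : Fintype.card K = q ^ 2)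
include hf hq hK

theorem node_split (k : Fin 4) {u : GL chevE6.Idx K} (hu : u ∈ Nh 1 K) (hut : u ∈ twistedE6 K q) :
    ∃ p ∈ Pg k K, p ∈ twistedE6 K q ∧ u = O f (hd k) (phi (hd k) u) * p := by
  obtain ⟨t, p, hp, he⟩ := split_node k hu
  obtain ⟨hk1, hk2⟩ := hd_table k
  obtain ⟨ha, -, -, hs, -⟩ := simple_table k _ hk1
  obtain ⟨a1, a2, a3⟩ := mem_Lv.1 ha
  have hnd : (pk k).Nodup := (H53.E6T.pk_closed k).1.imp fun h => Nat.ne_of_lt h
  have hL : ∀ z ∈ pk k, z ∈ Lv 1 := fun z hz => (simple_table k z hz).1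
  have ht : ∀ z ∈ pk k, t z = phi z u := by
    intro z hz
    obtain ⟨z1, -, z3⟩ := mem_Lv.1 (hL z hz)
    rw [he, phi_mul z3 le_rfl (Nh_uni le_rfl (lw_mem le_rfl hL t)) (Nh_uni le_rfl (Pg_le k hp)), phi_Pg hz hp,
      add_zero, phi_lw le_rfl z3 z1 t _ hnd hL, if_pos hz]
  have hlw : lw (pk k) t = O f (hd k) (phi (hd k) u) := by
    rw [hk2]
    unfold O
    by_cases e : qn (hd k) = hd k
    · rw [if_pos e, if_pos e, lw, List.map_singleton, List.prod_singleton, ht _ hk1]
    · rw [if_neg e, if_neg e, lw_cons, lw_cons, show lw [] t = 1 from rfl, mul_one, ht _ hk1,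
        ht _ (simple_table k _ hk1).2.1, tau_phi hf hq hK le_rfl ha hu hut]
  rw [hlw] at he
  refine ⟨p, hp, ?_, he⟩
  have hO := (O_mem_pos hf hq hK a1 a2 (c := phi (hd k) u)
    fun e => fixed_coef hf hq hK le_rfl ha e hu hut).1
  exact (Subgroup.mul_mem_cancel_left _ hO).1 (he ▸ hut)

variable {H : Subgroup (GL chevE6.Idx K)} (hH : Fxd q f ≤ H)
include hH

omit hK hq hf in
theorem mem_of_conj {m y : GL chevE6.Idx K} (hm : m ∈ Fxd q f) (h : m * y * m⁻¹ ∈ H) : y ∈ H := by
  rwa [Subgroup.mul_mem_cancel_right H (inv_mem (hH hm)), Subgroup.mul_mem_cancel_left H (hH hm)] at h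

theorem fixed_rt {r : ℕ} (hr : r < chevE6.nroots) (hrr : qn r = r) {t : K} (ht : f t = t)
    (hp : chevE6.nroots / 2 ≤ r) : x r t ∈ Fxd q f := by
  have h := O_mem_pos hf hq hK hr hp (c := t) fun _ => ht
  rw [show O f r t = x r t from if_pos hrr] at h
  exact ⟨h.1, show σ (x r t) = x r t by rw [σ_rt, ht]⟩

/-- The coefficient of a node is rational. -/
theorem coef_rat {r : ℕ} (hr : r < chevE6.nroots) {k : Fin 4} (hdet : Det r k = true) {u : GL chevE6.Idx K}
    (hu : u ∈ Nh 1 K) (hut : u ∈ twistedE6 K q) {t : K} (ht : f t = t) (ht0 : t ≠ 0)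
    (hy : u * x r t * u⁻¹ ∈ H) : f (phi (hd k) u) = phi (hd k) u ∨ Irr f H := by
  obtain ⟨ha, -⟩ := simple_table k _ (hd_table k).1
  unfold Det at hdet
  split at hdet
  · next z c hterm =>
    simp only [Bool.and_eq_true, decide_eq_true_eq, List.any_eq_true, List.mem_range] at hdet
    obtain ⟨⟨n1, n2, z1, z2, hc, zf, ⟨m1, m2, m3⟩, ⟨k1, k2, k3⟩⟩, s, s1, s2, s3, s4⟩ := hdet
    have h71 : (71 : ℕ) < chevE6.nroots := by decide +kernel
    have hE : x 71 (1 : K) ∈ H :=
      hH (fixed_rt hf hq hK hH h71 (by decide +kernel) (map_one f) (by decide +kernel))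
    set τ' := (c : K) * -(1 : K) * t
    have hcore : x 71 (1 : K) * x r t * (x 71 1)⁻¹ * (x r t)⁻¹ = x z (-τ') := by
      have hsw := H52.checkedE6.comm_rt h71 hr n1 n2 (1 : K) t
      simp only [H52.wordRt, ChevalleyDatum.commWord, hterm, List.map_cons, List.map_nil, List.prod_cons,
        List.prod_nil, mul_one, pow_one] at hsw
      have cz := H53.rt_commute H52.checkedE6 z1 h71 m1 m2 m3 τ' 1
      have cr := H53.rt_commute H52.checkedE6 z1 hr k1 k2 k3 τ' t
      rw [show x 71 (1 : K) * x r t = x r t * x 71 1 * (x z τ')⁻¹ by rw [hsw, mul_inv_cancel_right],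
        show x r t * x 71 1 * (x z τ')⁻¹ * (x 71 1)⁻¹ * (x r t)⁻¹ =
          x r t * ((x 71 1 * (x z τ')⁻¹) * (x 71 1)⁻¹) * (x r t)⁻¹ by group,
        (Commute.inv_right (show Commute (x 71 (1 : K)) (x z τ') from cz.symm)).eq, mul_inv_cancel_right,
        (Commute.inv_right (show Commute (x r t) (x z τ') from cr.symm)).eq, mul_inv_cancel_right,
        H52.checkedE6.rt_inv]
    set τ'' := -τ'
    have hτ : f τ'' = τ'' := by simp [τ'', τ', ht]
    have hτ0 : τ'' ≠ 0 := by
      simp only [τ'', τ', neg_ne_zero, mul_ne_zero_iff]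
      rcases hc with rfl | rfl <;> simp [ht0]
    have hX := fixed_rt hf hq hK hH z1 zf hτ z2
    have hs : u * x z τ'' * u⁻¹ ∈ H := by
      have e : x 71 (1 : K) * (u * x r t * u⁻¹) * (x 71 1)⁻¹ * (u * x r t * u⁻¹)⁻¹ = u * x z τ'' * u⁻¹ := by
        rw [← hcore]
        calc _ = (x 71 1 * u) * x r t * (x 71 1 * u)⁻¹ * (u * (x r t)⁻¹ * u⁻¹) := by group
          _ = _ := by rw [← (comm_top hu (1 : K)).eq]; group
      exact e ▸ mul_mem (mul_mem (mul_mem hE hy) (inv_mem hE)) (inv_mem hy)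
    have hsp : u * x z τ'' * u⁻¹ ∈ chevE6.posUnipotent K := by
      rw [pos_eq]
      exact mul_mem (mul_mem hu (H52.rt_mem_genBy ⟨z1, z2,
        by exact_mod_cast ((hgt_table z z1).2.2.1).1 z2⟩ _)) (inv_mem hu)
    rcases pos_cases hf hq hK hH hsp (mul_mem (mul_mem hut hX.1) (inv_mem hut)) hs with h | h
    swap
    · exact Or.inr h
    left
    have hσu : σ u ∈ Nh 1 K := by
      have : Nh 1 K ≤ (Nh 1 K).comap (H54.glF chevE6 (f : K →+* K)) := by
        refine (Subgroup.closure_le _).2 ?_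
        rintro g ⟨r', t', hr', rfl⟩
        show σ (x r' t') ∈ Nh 1 K
        rw [σ_rt]
        exact H52.rt_mem_genBy hr' _
      exact this hu
    set w := u⁻¹ * σ u
    have hw : w * x z τ'' * w⁻¹ * (x z τ'')⁻¹ = 1 := by
      rw [map_mul, map_mul, map_inv, σ_rt, hτ] at h
      calc w * x z τ'' * w⁻¹ * (x z τ'')⁻¹ = u⁻¹ * (σ u * x z τ'' * (σ u)⁻¹) * u * (x z τ'')⁻¹ := by
            simp only [w]; group
        _ = _ := by rw [h]; group
    obtain ⟨hgz, hzpos⟩ : ∃ j : ℕ, hgt z = j ∧ 1 ≤ j :=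
      ⟨(hgt z).toNat, (Int.toNat_of_nonneg (by have := ((hgt_table z z1).2.2.1).1 z2; omega)).symm,
        by have := ((hgt_table z z1).2.2.1).1 z2; omega⟩
    have hwN : w ∈ Nh 1 K := mul_mem (inv_mem hu) hσu
    have hcomm := phi_comm (j := hgz) (mem_Lv.2 ⟨z1, z2, hzpos.1⟩) le_rfl hzpos.2
      (s := s) (by rw [s2, hzpos.1]; push_cast; ring) s1 hwN τ''
    rw [hw, phi_one, sum_map_single _ Lv_nodup ha fun b hb hne => by rw [s4 b hb hne, Int.cast_zero, zero_mul]] at hcomm
    have hval : phi (hd k) w = 0 := by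
      rcases s3 with h' | h' <;> rw [h'] at hcomm <;> simpa [hτ0] using hcomm.symm
    have ha3 := (mem_Lv.1 ha).2.2
    rw [phi_mul ha3 le_rfl (inv_mem (Nh_uni le_rfl hu)) (Nh_uni le_rfl hσu),
      phi_inv ha3 le_rfl (Nh_uni le_rfl hu), phi_σ] at hval
    linear_combination hval
  · exact absurd hdet (by decide)

/-- A long root element of `H` in normal form is fixed, or `H` contains an irrational element. -/
theorem long_cases : ∀ (d : ℕ) (r : ℕ), r < chevE6.nroots → qn r = r → (12 - hgt r).toNat = d →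
    ∀ u ∈ Nh 1 K, u ∈ twistedE6 K q → ∀ t : K, f t = t → u * x r t * u⁻¹ ∈ H →
    σ (u * x r t * u⁻¹) = u * x r t * u⁻¹ ∨ Irr f H := by
  intro d
  induction d using Nat.strong_induction_on with
  | _ d ih =>
  intro r hr hrr hd' u hu hut t ht hy
  by_cases hp : chevE6.nroots / 2 ≤ r
  · refine pos_cases hf hq hK hH ?_ (mul_mem (mul_mem hut (fixed_rt hf hq hK hH hr hrr ht hp).1) (inv_mem hut)) hy
    rw [pos_eq]
    exact mul_mem (mul_mem hu (H52.rt_mem_genBy ⟨hr, hp,
      by exact_mod_cast ((hgt_table r hr).2.2.1).1 hp⟩ _)) (inv_mem hu)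
  by_cases ht0 : t = 0
  · left; simp [ht0, H52.checkedE6.rt_zero]
  obtain ⟨k, hup, hcase⟩ := rec_table r hr (not_le.1 hp) hrr
  obtain ⟨ha, -, -, -, hfix⟩ := simple_table k _ (hd_table k).1
  have hrat : f (phi (hd k) u) = phi (hd k) u ∨ Irr f H := by
    rcases hcase with hlong | hdet | ⟨b, hb, hbk, hnb, hdet⟩
    · exact Or.inl (fixed_coef hf hq hK le_rfl ha (hfix.2 hlong) hu hut)
    · exact coef_rat hf hq hK hH hr hdet hu hut ht ht0 hy
    · obtain ⟨p, hp', hpt, he⟩ := node_split hf hq hK b hu hut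
      obtain ⟨hab, -, -, -, hfixb⟩ := simple_table b _ (hd_table b).1
      set c := phi (hd b) u
      have hc : f c = c := fixed_coef hf hq hK le_rfl hab (hfixb.2 hb) hu hut
      have hOb := O_fx hf hq hK hab hc
      have hy' : p * x r t * p⁻¹ ∈ H := mem_of_conj hH hOb (by
        rw [show O f (hd b) c * (p * x r t * p⁻¹) * (O f (hd b) c)⁻¹ = u * x r t * u⁻¹ by rw [he]; group]
        exact hy)
      have hn := nd_fx hf hq hK b
      obtain ⟨n1, n2, n3, -, n5, -⟩ := node_table b r hr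
      have hy'' : nd K b * p * (nd K b)⁻¹ * x (act b r) ((ew b r : K) * t) * (nd K b * p * (nd K b)⁻¹)⁻¹ ∈ H := by
        rw [← nd_conj b hr, show nd K b * p * (nd K b)⁻¹ * (nd K b * x r t * (nd K b)⁻¹) *
          (nd K b * p * (nd K b)⁻¹)⁻¹ = nd K b * (p * x r t * p⁻¹) * (nd K b)⁻¹ by group]
        exact mul_mem (mul_mem (hH hn) hy') (inv_mem (hH hn))
      have hp'' := Pg_conj b hp'
      refine (coef_rat hf hq hK hH n1 hdet hp'' (mul_mem (mul_mem hn.1 hpt) (inv_mem hn.1))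
        (t := (ew b r : K) * t) (by rw [map_mul, map_intCast, ht])
        (mul_ne_zero (by rcases n5 with e | e <;> simp [e]) ht0) hy'').imp_left fun h => ?_
      obtain ⟨a1, a2, a3⟩ := mem_Lv.1 ha
      have hconj : ∀ w ∈ Pg b K, phi (hd k) (nd K b * w * (nd K b)⁻¹) = (ew b (hd k) : K) * phi (hd k) w := by
        intro w hw
        induction hw using Subgroup.closure_induction with
        | mem g hg =>
          obtain ⟨r', t', hr', rfl⟩ := hg
          obtain ⟨m1, -, -, -, -, m6⟩ := node_table b r' hr'.1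
          rw [nd_conj b hr'.1, phi_rt a1 m1, phi_rt a1 hr'.1]
          by_cases e : hd k = r'
          · subst e; rw [if_pos hbk.symm, if_pos rfl]
          · rw [if_neg, if_neg e, mul_zero]
            intro e'
            exact e (by rw [← m6, ← e', hbk])
        | one => simp [phi_one]
        | mul g g' hg hg' h h' =>
          rw [show nd K b * (g * g') * (nd K b)⁻¹ = (nd K b * g * (nd K b)⁻¹) * (nd K b * g' * (nd K b)⁻¹) by group,
            phi_mul a3 le_rfl (Nh_uni le_rfl (Pg_conj b hg)) (Nh_uni le_rfl (Pg_conj b hg')), h, h',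
            phi_mul a3 le_rfl (Nh_uni le_rfl (Pg_le b hg)) (Nh_uni le_rfl (Pg_le b hg')), mul_add]
        | inv g hg h =>
          rw [show nd K b * g⁻¹ * (nd K b)⁻¹ = (nd K b * g * (nd K b)⁻¹)⁻¹ by group,
            phi_inv a3 le_rfl (Nh_uni le_rfl (Pg_conj b hg)), h,
            phi_inv a3 le_rfl (Nh_uni le_rfl (Pg_le b hg)), mul_neg]
      rw [hconj p hp', map_mul, map_intCast] at h
      have hpu : phi (hd k) u = phi (hd k) p := by
        rw [he, phi_mul a3 le_rfl (Nh_uni le_rfl (O_mem_Nh hf hq hK hab c)) (Nh_uni le_rfl (Pg_le b hp')),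
          phi_O hf hq hK le_rfl hab ha, if_neg (fun e => hnb (by rw [e]; exact (hd_table b).1)),
          if_neg (fun e => hnb (by rw [e]; exact (simple_table b _ (hd_table b).1).2.1)), zero_add]
      rw [hpu]
      refine mul_left_cancel₀ ?_ h
      rcases (node_table b (hd k) a1).2.2.2.2.1 with e | e <;> simp [e]
  rcases hrat with hc | h
  swap
  · exact Or.inr h
  obtain ⟨p, hp', hpt, he⟩ := node_split hf hq hK k hu hut
  have hO := O_fx hf hq hK ha hc
  have e : u * x r t * u⁻¹ = O f (hd k) (phi (hd k) u) * (p * x r t * p⁻¹) * (O f (hd k) (phi (hd k) u))⁻¹ := by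
    conv_lhs => rw [he]
    group
  rw [e] at hy ⊢
  rw [σ_conj ((mem_Fxd f).1 hO).2]
  replace hy := mem_of_conj hH hO hy
  have hn := nd_fx hf hq hK k
  obtain ⟨n1, n2, n3, -, -, -⟩ := node_table k r hr
  have econj : nd K k * (p * x r t * p⁻¹) * (nd K k)⁻¹ =
      nd K k * p * (nd K k)⁻¹ * x (act k r) ((ew k r : K) * t) * (nd K k * p * (nd K k)⁻¹)⁻¹ := by
    rw [← nd_conj k hr]; group
  refine (ih _ (by have := (hgt_table (act k r) n1).2.1; omega) (act k r) n1 (n3.1 hrr) rfl _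
    (Pg_conj k hp') (mul_mem (mul_mem hn.1 hpt) (inv_mem hn.1)) _ (by rw [map_mul, map_intCast, ht])
    (econj ▸ mul_mem (mul_mem (hH hn) hy) (inv_mem (hH hn)))).imp_left fun e' => ?_
  rw [← econj] at e'
  exact (σ_conj ((mem_Fxd f).1 hn).2).1 e'

end H58.E6Sub
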