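import Cfsg.Agent.H58.E6SubLevel
import Cfsg.Agent.H53.TwistE6Res
import Cfsg.Agent.H54.ChevBaseChange

/-!
Orbit elements of ²E₆, the Weyl elements of the nodes, and the action of the twisting on leading
coefficients.
-/

set_option autoImplicit false
set_option linter.unusedSectionVars false

open Cfsg.Lie
open scoped MatrixGroups

namespace H58.E6Sub

variable {K : Type*} [Field K]

local notation "x" => H52.rt chevE6
local notation "qn" => H53.BasisSym.qn H53.e6Sym
local notation "sn" => H53.BasisSym.sn H53.e6Sym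

/-- The checked data of E₆. -/
def ctx : H54.Ctx chevE6 := ⟨H52.tablesE6, H52.checkedE6, H53.weylForE6, H53.E6T.ok⟩

theorem qn_pos : ∀ r < chevE6.nroots, qn r < chevE6.nroots ∧ qn (qn r) = r ∧ hgt (qn r) = hgt r ∧
    sn r * sn (qn r) = 1 ∧ (qn r = r → sn r = 1) ∧ (chevE6.nroots / 2 ≤ qn r ↔ chevE6.nroots / 2 ≤ r) ∧
    (qn r ≠ r → qn r ≠ chevE6.neg r ∧ chevE6.commTerms r (qn r) = []) := by
  decide +kernel

/-- The element of the twisted group attached to the orbit of a root. -/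
noncomputable def O (f : K ≃+* K) (r : ℕ) (c : K) : GL chevE6.Idx K :=
  if qn r = r then x r c else x r c * x (qn r) ((sn r : K) * f c)

theorem orbit_comm {r : ℕ} (hr : r < chevE6.nroots) (h : qn r ≠ r) (a b : K) :
    Commute (x r a) (x (qn r) b) := by
  obtain ⟨h1, -, -, -, -, -, h7⟩ := qn_pos r hr
  exact H53.rt_commute H52.checkedE6 hr h1 h (h7 h).1 (h7 h).2 a b

/-- The images and signs of the node reflections. -/
def actE (L : List (Fin 6)) (r : ℕ) : ℕ × ℤ :=
  L.foldr (fun i p => (chevE6.reflectRoot i.val p.1, H52.tablesE6.eps i.val p.1 * p.2)) (r, 1)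

/-- The image of a root under the node `k`. -/
def act (k : Fin 4) (r : ℕ) : ℕ := (actE (H53.E6T.spec.word k) r).1

/-- The sign of a root under the node `k`. -/
def ew (k : Fin 4) (r : ℕ) : ℤ := (actE (H53.E6T.spec.word k) r).2

theorem node_table : ∀ k : Fin 4, ∀ r < chevE6.nroots, act k r < chevE6.nroots ∧
    qn (act k r) = act k (qn r) ∧ (qn r = r ↔ qn (act k r) = act k r) ∧
    ew k (qn r) * sn r = sn (act k r) * ew k r ∧ (ew k r = 1 ∨ ew k r = -1) ∧ act k (act k r) = r := by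
  decide +kernel

/-- The representative of the node `k`. -/
noncomputable def nd (K : Type*) [Field K] (k : Fin 4) : GL chevE6.Idx K :=
  ((H53.E6T.spec.word k).map fun i => H52.nElt chevE6 (chevE6.simple i.val) (1 : K)).prod

theorem list_conj (L : List (Fin 6)) {r : ℕ} (hr : r < chevE6.nroots) (t : K) :
    (actE L r).1 < chevE6.nroots ∧
      (L.map fun i => H52.nElt chevE6 (chevE6.simple i.val) (1 : K)).prod * x r t *
          ((L.map fun i => H52.nElt chevE6 (chevE6.simple i.val) (1 : K)).prod)⁻¹ =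
        x (actE L r).1 (((actE L r).2 : K) * t) := by
  induction L with
  | nil => exact ⟨hr, by simp [actE]⟩
  | cons i L ih =>
    obtain ⟨h1, h2⟩ := ih
    refine ⟨H52.checkedE6.reflect_lt i.isLt h1, ?_⟩
    rw [List.map_cons, List.prod_cons]
    set N := (L.map fun i => H52.nElt chevE6 (chevE6.simple i.val) (1 : K)).prod
    rw [show ∀ n : GL chevE6.Idx K, n * N * x r t * (n * N)⁻¹ = n * (N * x r t * N⁻¹) * n⁻¹ from
      fun n => by group, h2, H52.checkedE6.sig_conj_rt i.isLt h1]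
    simp only [actE, List.foldr_cons, Int.cast_mul, mul_assoc]

theorem nd_conj (k : Fin 4) {r : ℕ} (hr : r < chevE6.nroots) (t : K) :
    nd K k * x r t * (nd K k)⁻¹ = x (act k r) ((ew k r : K) * t) :=
  (list_conj _ hr t).2

variable (f : K ≃+* K)

local notation "σ" => H54.glF chevE6 (RingHomClass.toRingHom f)

theorem nd_O (k : Fin 4) {r : ℕ} (hr : r < chevE6.nroots) (c : K) :
    nd K k * O f r c * (nd K k)⁻¹ = O f (act k r) ((ew k r : K) * c) := by
  obtain ⟨h1, h2, h3, h4, h5, -⟩ := node_table k r hr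
  unfold O
  by_cases h : qn r = r
  · rw [if_pos h, if_pos (h3.1 h), nd_conj k hr]
  · rw [if_neg h, if_neg (fun e => h (h3.2 e)),
      show ∀ n a b : GL chevE6.Idx K, n * (a * b) * n⁻¹ = (n * a * n⁻¹) * (n * b * n⁻¹) from
        fun n a b => by group, nd_conj k hr, nd_conj k (qn_pos r hr).1, h2]
    congr 2
    have : ((ew k (qn r) : ℤ) : K) * (sn r : K) = (sn (act k r) : K) * (ew k r : K) := by
      rw [← Int.cast_mul, ← Int.cast_mul, h4]
    rw [map_mul, map_intCast, ← mul_assoc, this]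
    ring

theorem O_zero (r : ℕ) : O f r (0 : K) = 1 := by
  unfold O; split <;> simp [H52.checkedE6.rt_zero]

theorem O_mul {r : ℕ} (hr : r < chevE6.nroots) (a b : K) : O f r a * O f r b = O f r (a + b) := by
  unfold O
  by_cases h : qn r = r
  · rw [if_pos h, if_pos h, if_pos h, H52.checkedE6.rt_mul]
  · rw [if_neg h, if_neg h, if_neg h, map_add, mul_add]
    calc x r a * x (qn r) ((sn r : K) * f a) * (x r b * x (qn r) ((sn r : K) * f b))
        = x r a * (x (qn r) ((sn r : K) * f a) * x r b) * x (qn r) ((sn r : K) * f b) := by group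
      _ = x r a * x r b * (x (qn r) ((sn r : K) * f a) * x (qn r) ((sn r : K) * f b)) := by
        rw [← (orbit_comm hr h b _).eq]; group
      _ = _ := by rw [H52.checkedE6.rt_mul, H52.checkedE6.rt_mul]

theorem O_inv {r : ℕ} (hr : r < chevE6.nroots) (a : K) : (O f r a)⁻¹ = O f r (-a) :=
  inv_eq_of_mul_eq_one_right (by rw [O_mul f hr, add_neg_cancel, O_zero])

theorem σ_rt (r : ℕ) (t : K) : σ (x r t) = x r (f t) := ctx.glF_rt _ r t

theorem σ_O (r : ℕ) (c : K) : σ (O f r c) = O f r (f c) := by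
  unfold O; split <;> simp [σ_rt]

theorem phi_σ (r : ℕ) (g : GL chevE6.Idx K) : phi r (σ g) = f (phi r g) := by
  unfold phi
  split
  · rw [map_mul, map_neg, map_intCast]; rfl
  · simp

theorem σ_nd (k : Fin 4) : σ (nd K k) = nd K k := by
  rw [nd, map_list_prod, List.map_map]
  congr 1
  refine List.map_congr_left fun i _ => ?_
  simp [H52.Checked.nElt_eq, σ_rt]

/-- The hypotheses on `q` and the Frobenius map. -/
structure Frob (q : ℕ) (f : K ≃+* K) : Prop where
  eq : ∀ t, f t = t ^ q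
  two : ∀ t, f (f t) = t

/-- The points of the twisted group fixed by the field automorphism. -/
noncomputable def Fxd (q : ℕ) (f : K ≃+* K) : Subgroup (GL chevE6.Idx K) :=
  twistedE6 K q ⊓ (H54.glF chevE6 (f : K →+* K)).eqLocus (MonoidHom.id _)

theorem mem_Fxd {q : ℕ} {g : GL chevE6.Idx K} : g ∈ Fxd q f ↔ g ∈ twistedE6 K q ∧ σ g = g :=
  Iff.rfl

variable {f} {q : ℕ} (hf : Frob q f)
include hf

theorem qq (t : K) : (t ^ q) ^ q = t := by rw [← hf.eq, ← hf.eq, hf.two]

theorem tau_rt {r : ℕ} (hr : r < chevE6.nroots) {t : K} {g : ↥(chevE6.group K)}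
    (hg : (g : GL chevE6.Idx K) = x r t) :
    (H53.twistAut H53.e6Sym H53.e6Sym_valid f g : GL chevE6.Idx K) = x (qn r) ((sn r : K) * f t) :=
  H53.twistAut_rt H52.checkedE6 H53.e6Sym_valid f hr hg

variable [Fintype K] (hq : IsPrimePow q) (hK : Fintype.card K = q ^ 2)
include hq hK

theorem hyp : (H53.twistData H53.weylForE6 H53.E6T.spec (H53.twistAut H53.e6Sym H53.e6Sym_valid f)
    ((twistedE6 K q).subgroupOf (chevE6.group K)) (H53.E6T.mk K)).Hyp :=
  H53.E6T.hyp hf.eq (qq hf) (fun h => by have := hq.one_lt; omega)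

/-- Elements of `U` fixed by the twisting lie in the twisted group. -/
theorem mem_of_fix {g : ↥(chevE6.group K)} (hg : (g : GL chevE6.Idx K) ∈ chevE6.posUnipotent K)
    (h : H53.twistAut H53.e6Sym H53.e6Sym_valid f g = g) : (g : GL chevE6.Idx K) ∈ twistedE6 K q :=
  H53.TwistData.fix_Uplus_mem (hyp hf hq hK)
    ((H53.mem_pos_iff H52.checkedE6 H53.weylForE6 g).1 hg) h

/-- Elements of the twisted group are fixed by the twisting. -/
theorem fix_of_mem {g : ↥(chevE6.group K)} (hg : (g : GL chevE6.Idx K) ∈ twistedE6 K q) :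
    H53.twistAut H53.e6Sym H53.e6Sym_valid f g = g :=
  (hyp hf hq hK).G1_fix g hg

theorem O_mem_pos {r : ℕ} (hr : r < chevE6.nroots) (hp : chevE6.nroots / 2 ≤ r) {c : K}
    (hc : qn r = r → f c = c) : O f r c ∈ twistedE6 K q ∧ O f r c ∈ chevE6.posUnipotent K := by
  obtain ⟨h1, h2, -, h4, h5, h6, -⟩ := qn_pos r hr
  have hG : O f r c ∈ chevE6.posUnipotent K := by
    unfold O
    split
    · exact H52.checkedE6.rt_mem_pos hp hr _
    · exact mul_mem (H52.checkedE6.rt_mem_pos hp hr _) (H52.checkedE6.rt_mem_pos (h6.2 hp) h1 _)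
  refine ⟨?_, hG⟩
  suffices h : H53.twistAut H53.e6Sym H53.e6Sym_valid f ⟨O f r c, H52.checkedE6.posUnipotent_le_group hG⟩ =
      ⟨O f r c, H52.checkedE6.posUnipotent_le_group hG⟩ from mem_of_fix hf hq hK (g := ⟨_, _⟩) hG h
  apply Subtype.ext
  by_cases h : qn r = r
  · have e : O f r c = x r c := if_pos h
    rw [tau_rt hf hr (g := ⟨O f r c, _⟩) e, h, h5 h, Int.cast_one, one_mul, hc h, ← e]
  · have e : O f r c = x r c * x (qn r) ((sn r : K) * f c) := if_neg h
    rw [show (⟨O f r c, H52.checkedE6.posUnipotent_le_group hG⟩ : ↥(chevE6.group K)) =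
        ⟨x r c, H52.checkedE6.rt_mem_group _ _⟩ *
          ⟨x (qn r) ((sn r : K) * f c), H52.checkedE6.rt_mem_group _ _⟩ from Subtype.ext e,
      map_mul, Subgroup.coe_mul, Subgroup.coe_mul, tau_rt hf hr rfl, tau_rt hf h1 rfl, h2,
      map_mul, map_intCast, hf.two, ← mul_assoc, ← Int.cast_mul, mul_comm (sn (qn r)), h4, Int.cast_one,
      one_mul]
    exact (orbit_comm hr h _ _).eq.symm

theorem nd_fx (k : Fin 4) : nd K k ∈ Fxd q f := by
  refine ⟨?_, σ_nd f k⟩
  have h := H53.E6T.mk_mem (K := K) (qq hf) (fun e => by have := hq.one_lt; omega) k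
  rw [Subgroup.mem_subgroupOf, H53.E6T.coe_mk] at h
  exact h

/-- The twisting preserves the filtration and acts on leading coefficients by the field map. -/
theorem tau_phi {m : ℕ} (hm : 1 ≤ m) {r : ℕ} (hr : r ∈ Lv m) {g : GL chevE6.Idx K} (hg : g ∈ Nh m K)
    (hgt' : g ∈ twistedE6 K q) : phi (qn r) g = (sn r : K) * f (phi r g) := by
  obtain ⟨r1, r2, r3⟩ := mem_Lv.1 hr
  obtain ⟨q1, -, q3, -, -, -, -⟩ := qn_pos r r1
  have hle : Nh m K ≤ chevE6.group K := by
    refine (Subgroup.closure_le _).2 ?_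
    rintro z ⟨s, t, -, rfl⟩
    exact H52.checkedE6.rt_mem_group _ _
  have key : ∀ z : GL chevE6.Idx K, z ∈ Nh m K → ∀ hz : z ∈ chevE6.group K,
      (H53.twistAut H53.e6Sym H53.e6Sym_valid f ⟨z, hz⟩ : GL chevE6.Idx K) ∈ Nh m K ∧
      phi (qn r) (H53.twistAut H53.e6Sym H53.e6Sym_valid f ⟨z, hz⟩ : GL chevE6.Idx K) =
        (sn r : K) * f (phi r z) := by
    intro z hz
    unfold Nh H52.genBy at hz
    induction hz using Subgroup.closure_induction with
    | mem z hzm =>
      obtain ⟨s, t, hs, rfl⟩ := hzm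
      intro hz
      obtain ⟨s1, s2, s3, -, -, s6, -⟩ := qn_pos s hs.1
      rw [tau_rt hf hs.1 rfl]
      refine ⟨H52.rt_mem_genBy ⟨s1, s6.2 hs.2.1, s3 ▸ hs.2.2⟩ _, ?_⟩
      rw [phi_rt q1 s1, phi_rt r1 hs.1]
      by_cases e : r = s
      · subst e; simp
      · rw [if_neg e, if_neg]
        · simp
        · intro e'
          have := congrArg qn e'
          rw [(qn_pos r r1).2.1, s2] at this
          exact e this
    | one =>
      intro hz
      rw [show (⟨1, hz⟩ : ↥(chevE6.group K)) = 1 from rfl, map_one]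
      exact ⟨one_mem _, by simp [phi_one]⟩
    | mul a b ha hb iha ihb =>
      intro hz
      have ha' := hle ha
      have hb' := hle hb
      obtain ⟨a1, a2⟩ := iha ha'
      obtain ⟨b1, b2⟩ := ihb hb'
      rw [show (⟨a * b, hz⟩ : ↥(chevE6.group K)) = ⟨a, ha'⟩ * ⟨b, hb'⟩ from rfl, map_mul, Subgroup.coe_mul]
      refine ⟨mul_mem a1 b1, ?_⟩
      rw [phi_mul (q3.trans r3) hm (Nh_uni hm a1) (Nh_uni hm b1), a2, b2,
        phi_mul r3 hm (Nh_uni hm ha) (Nh_uni hm hb), map_add, mul_add]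
    | inv a ha iha =>
      intro hz
      have ha' := hle ha
      obtain ⟨a1, a2⟩ := iha ha'
      rw [show (⟨a⁻¹, hz⟩ : ↥(chevE6.group K)) = ⟨a, ha'⟩⁻¹ from rfl, map_inv, Subgroup.coe_inv]
      refine ⟨inv_mem a1, ?_⟩
      rw [phi_inv (q3.trans r3) hm (Nh_uni hm a1), a2, phi_inv r3 hm (Nh_uni hm ha), map_neg, mul_neg]
  have h := (key g hg (hle hg)).2
  rwa [fix_of_mem hf hq hK (g := ⟨g, hle hg⟩) hgt'] at h

/-- Leading coefficients of an orbit element. -/
theorem phi_O {m : ℕ} (hm : 1 ≤ m) {r s : ℕ} (hr : r ∈ Lv m) (hs : s ∈ Lv m) (c : K) :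
    phi s (O f r c) = if s = r then c else if s = qn r then (sn r : K) * f c else 0 := by
  obtain ⟨r1, r2, r3⟩ := mem_Lv.1 hr
  obtain ⟨s1, s2, s3⟩ := mem_Lv.1 hs
  obtain ⟨q1, -, q3, -, -, q6, -⟩ := qn_pos r r1
  unfold O
  by_cases h : qn r = r
  · rw [if_pos h, phi_rt s1 r1, h]
    by_cases e : s = r <;> simp [e]
  · rw [if_neg h, phi_mul s3 hm (rt_mem_uni r1 r3.ge hm _) (rt_mem_uni q1 (q3.trans r3).ge hm _),
      phi_rt s1 r1, phi_rt s1 q1]
    by_cases e : s = r
    · subst e; rw [if_pos rfl, if_pos rfl, if_neg (Ne.symm h), add_zero]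
    · rw [if_neg e, if_neg e, zero_add]

theorem O_mem_Nh {m : ℕ} {r : ℕ} (hr : r ∈ Lv m) (c : K) : O f r c ∈ Nh m K := by
  obtain ⟨r1, r2, r3⟩ := mem_Lv.1 hr
  obtain ⟨q1, -, q3, -, -, q6, -⟩ := qn_pos r r1
  unfold O
  split
  · exact H52.rt_mem_genBy ⟨r1, r2, r3.ge⟩ _
  · exact mul_mem (H52.rt_mem_genBy ⟨r1, r2, r3.ge⟩ _) (H52.rt_mem_genBy ⟨q1, q6.2 r2, (q3.trans r3).ge⟩ _)

theorem O_fx {m : ℕ} {r : ℕ} (hr : r ∈ Lv m) {c : K} (hc : f c = c) : O f r c ∈ Fxd q f :=
  ⟨(O_mem_pos hf hq hK (mem_Lv.1 hr).1 (mem_Lv.1 hr).2.1 fun _ => hc).1,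
    show σ (O f r c) = O f r c by rw [σ_O, hc]⟩

end H58.E6Sub
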