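import Cfsg.Agent.H53.TwistE6
import Cfsg.Agent.H52.Parabolic

/-!
The filtration of the positive unipotent group of type E₆ by the height of roots, and the leading
coefficients, which are additive on each term.
-/

set_option autoImplicit false
set_option linter.unusedSectionVars false

open Cfsg.Lie
open scoped MatrixGroups

namespace H58.E6Sub

variable {K : Type*} [Field K]

local notation "x" => H52.rt chevE6
local notation "T6" => H52.tablesE6

/-- The height of a root. -/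
def hgt (r : ℕ) : ℤ := ((List.range chevE6.rank).map (H52.Tables.co T6 r)).sum

/-- The height of a coordinate, shifted to be a natural number. -/
def hl (y : chevE6.Idx) : ℕ := Sum.elim (fun _ => 20) (fun s => (20 + hgt s.val).toNat) y

/-- A coroot index pairing to a unit with the root. -/
def ci (r : ℕ) : Fin chevE6.rank :=
  ((List.finRange chevE6.rank).find? fun i => decide (chevE6.cartan i.val r = 1 ∨ chevE6.cartan i.val r = -1)).getD
    ⟨0, by decide⟩

theorem hgt_table : ∀ r < chevE6.nroots,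
    (chevE6.cartan (ci r).val r = 1 ∨ chevE6.cartan (ci r).val r = -1) ∧
    (-11 ≤ hgt r ∧ hgt r ≤ 11) ∧ (chevE6.nroots / 2 ≤ r ↔ 1 ≤ hgt r) ∧ hgt r ≠ 0 := by
  decide +kernel

theorem hgt_add {u r s : ℕ} {i j : ℤ}
    (h : ∀ k < chevE6.rank, H52.Tables.co T6 u k =
      i * H52.Tables.co T6 r k + j * H52.Tables.co T6 s k) :
    hgt u = i * hgt r + j * hgt s := by
  simp only [hgt]
  suffices ∀ L : List ℕ, (∀ k ∈ L, k < chevE6.rank) → (L.map (H52.Tables.co T6 u)).sum =
      i * (L.map (H52.Tables.co T6 r)).sum + j * (L.map (H52.Tables.co T6 s)).sum from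
    this _ fun k hk => List.mem_range.1 hk
  intro L hL
  induction L with
  | nil => simp
  | cons a L ih =>
    simp only [List.map_cons, List.sum_cons, h a (hL a List.mem_cons_self),
      ih fun k hk => hL k (List.mem_cons_of_mem _ hk)]
    ring

theorem rt_mem_uni {m : ℕ} {r : ℕ} (hr : r < chevE6.nroots) (hm : (m : ℤ) ≤ hgt r) (hm1 : 1 ≤ m) (t : K) :
    x r t ∈ H52.uniGroup hl K m := by
  have key : ∀ t : K, H52.Raises hl m (chevE6.x K r t - 1) := by
    intro t a b hab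
    rw [Matrix.sub_apply, sub_eq_zero, Matrix.one_apply]
    refine H52.checkedE6.x_apply_wt hr t a b fun k hk he => ?_
    have hz : ∀ c : chevE6.Idx, (hl c : ℤ) = 20 + ((List.range chevE6.rank).map (H52.wt chevE6 T6 c)).sum := by
      intro c
      rcases c with i | s
      · have h0 : ((List.range chevE6.rank).map (H52.wt chevE6 T6 (Sum.inl i))).sum = 0 :=
          List.sum_eq_zero fun z hz => by obtain ⟨j, -, rfl⟩ := List.mem_map.1 hz; rfl
        rw [h0]; rfl
      · have := (hgt_table s.val s.isLt).2.1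
        simp only [hl, Sum.elim_inr]
        rw [Int.toNat_of_nonneg (by omega)]
        rfl
    have hsum : ((List.range chevE6.rank).map (H52.wt chevE6 T6 a)).sum =
        ((List.range chevE6.rank).map (H52.wt chevE6 T6 b)).sum + (k : ℤ) * hgt r := by
      simp only [hgt]
      suffices ∀ L : List ℕ, (∀ j ∈ L, j < chevE6.rank) → (L.map (H52.wt chevE6 T6 a)).sum =
          (L.map (H52.wt chevE6 T6 b)).sum + (k : ℤ) * (L.map (H52.Tables.co T6 r)).sum from
        this _ fun j hj => List.mem_range.1 hj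
      intro L hL
      induction L with
      | nil => simp
      | cons c L ih =>
        simp only [List.map_cons, List.sum_cons, he c (hL c List.mem_cons_self),
          ih fun j hj => hL j (List.mem_cons_of_mem _ hj)]
        ring
    have h1 := hz a
    have h2 := hz b
    have h3 : (m : ℤ) ≤ (k : ℤ) * hgt r :=
      le_trans hm (le_mul_of_one_le_left (by omega) (by exact_mod_cast hk))
    omega
  refine ⟨?_, ?_⟩
  · rw [H52.checkedE6.coe_rt]; exact key t
  · rw [H52.checkedE6.rt_inv, H52.checkedE6.coe_rt]; exact key _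

/-- The leading coefficient at a root. -/
def phi (r : ℕ) (g : GL chevE6.Idx K) : K :=
  if h : r < chevE6.nroots then
    -(chevE6.cartan (ci r).val r : K) *
      (g : Matrix chevE6.Idx chevE6.Idx K) (Sum.inr ⟨r, h⟩) (Sum.inl (ci r))
  else 0

theorem phi_rt {r s : ℕ} (hr : r < chevE6.nroots) (hs : s < chevE6.nroots) (t : K) :
    phi r (x s t) = if r = s then t else 0 := by
  classical
  rw [phi, dif_pos hr, H52.checkedE6.coe_rt, H52.Checked.x_apply]
  show -(chevE6.cartan (ci r).val r : K) *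
    ((chevE6.x K s t).mulVec (H52.bv chevE6 K (chevE6.nroots + (ci r).val)) (Sum.inr ⟨r, hr⟩)) = _
  rw [H52.checkedE6.x_bv_h hs t (ci r).isLt, Pi.sub_apply, Pi.smul_apply, H52.bv, H52.bv, H52.basisVec_eq,
    H52.basisVec_eq]
  have hne : H52.code chevE6 (Sum.inr ⟨r, hr⟩) ≠ chevE6.nroots + (ci r).val := by
    show r ≠ chevE6.nroots + (ci r).val
    omega
  rw [if_neg hne]
  by_cases e : r = s
  · subst e
    rw [if_pos rfl, if_pos (show H52.code chevE6 (Sum.inr ⟨r, hr⟩) = r from rfl)]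
    have hc := (hgt_table r hr).1
    rcases hc with h | h <;> simp [h]
  · rw [if_neg (show ¬ H52.code chevE6 (Sum.inr ⟨r, hr⟩) = s from e), if_neg e]; simp

theorem phi_one (r : ℕ) : phi r (1 : GL chevE6.Idx K) = 0 := by
  unfold phi; split <;> simp

variable {m : ℕ}

theorem hl_root {r : ℕ} (hr : r < chevE6.nroots) (hrm : hgt r = m) :
    hl (Sum.inr ⟨r, hr⟩) = 20 + m ∧ ∀ i, hl (Sum.inl i) = 20 := by
  refine ⟨?_, fun i => rfl⟩
  simp only [hl, Sum.elim_inr, hrm]
  omega

theorem phi_mul {r : ℕ} (hrm : hgt r = m) (hm : 1 ≤ m) {g h : GL chevE6.Idx K}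
    (hg : g ∈ H52.uniGroup hl K m) (hh : h ∈ H52.uniGroup hl K m) :
    phi r (g * h) = phi r g + phi r h := by
  classical
  unfold phi
  by_cases hr : r < chevE6.nroots
  swap
  · simp [hr]
  simp only [dif_pos hr]
  obtain ⟨h1, h2⟩ := hl_root hr hrm
  have e : (g : Matrix chevE6.Idx chevE6.Idx K) * (h : Matrix _ _ K) - 1 =
      ((g : Matrix _ _ K) - 1) * ((h : Matrix _ _ K) - 1) + ((g : Matrix _ _ K) - 1) + ((h : Matrix _ _ K) - 1) := by
    noncomm_ring
  have e2 := congrArg (fun M : Matrix chevE6.Idx chevE6.Idx K => M (Sum.inr ⟨r, hr⟩) (Sum.inl (ci r))) e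
  simp only [Matrix.sub_apply, Matrix.add_apply, Matrix.one_apply_ne (Sum.inr_ne_inl), sub_zero] at e2
  rw [(hg.1.mul hh.1) _ _ (by rw [h1, h2]; omega), zero_add] at e2
  rw [Units.val_mul, e2, mul_add]

theorem phi_eq_zero {r m' : ℕ} (hrm : hgt r = m) (hm : m < m') {g : GL chevE6.Idx K}
    (hg : g ∈ H52.uniGroup hl K m') : phi r g = 0 := by
  classical
  unfold phi
  by_cases hr : r < chevE6.nroots
  swap
  · simp [hr]
  simp only [dif_pos hr]
  obtain ⟨h1, h2⟩ := hl_root hr hrm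
  have := hg.1 (Sum.inr ⟨r, hr⟩) (Sum.inl (ci r)) (by rw [h1, h2]; omega)
  rw [Matrix.sub_apply, Matrix.one_apply_ne (Sum.inr_ne_inl), sub_zero] at this
  rw [this, mul_zero]

theorem phi_inv {r : ℕ} (hrm : hgt r = m) (hm : 1 ≤ m) {g : GL chevE6.Idx K}
    (hg : g ∈ H52.uniGroup hl K m) : phi r g⁻¹ = -phi r g := by
  have := phi_mul hrm hm hg (inv_mem hg)
  rw [mul_inv_cancel, phi_one] at this
  linear_combination -this

theorem phi_conj {r : ℕ} (hrm : hgt r = m) (hm : 1 ≤ m) {g h : GL chevE6.Idx K}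
    (hg : g ∈ H52.uniGroup hl K 1) (hh : h ∈ H52.uniGroup hl K m) :
    phi r (g * h * g⁻¹) = phi r h ∧ g * h * g⁻¹ ∈ H52.uniGroup hl K m := by
  have hc : g * h * g⁻¹ * h⁻¹ ∈ H52.uniGroup hl K (1 + m) :=
    H52.commutator_uniGroup hl 1 m (Subgroup.commutator_mem_commutator hg hh)
  have hc' : g * h * g⁻¹ * h⁻¹ ∈ H52.uniGroup hl K m :=
    ⟨hc.1.mono (by omega), hc.2.mono (by omega)⟩
  rw [show g * h * g⁻¹ = g * h * g⁻¹ * h⁻¹ * h by group]
  refine ⟨?_, mul_mem hc' hh⟩
  rw [phi_mul hrm hm hc' hh, phi_eq_zero hrm (by omega) hc, zero_add]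

/-- The group generated by the roots of height at least `m`. -/
def NP (m : ℕ) (r : ℕ) : Prop := r < chevE6.nroots ∧ chevE6.nroots / 2 ≤ r ∧ (m : ℤ) ≤ hgt r

instance (m r : ℕ) : Decidable (NP m r) := by unfold NP; infer_instance

/-- The term of the filtration. -/
noncomputable def Nh (m : ℕ) (K : Type*) [Field K] : Subgroup (GL chevE6.Idx K) :=
  H52.genBy chevE6 K (NP m)

theorem Nh_uni (hm : 1 ≤ m) : Nh m K ≤ H52.uniGroup hl K m := by
  refine (Subgroup.closure_le _).2 ?_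
  rintro g ⟨r, t, ⟨h1, -, h3⟩, rfl⟩
  exact rt_mem_uni h1 h3 hm t

theorem Nh_uni1 (hm : 1 ≤ m) : Nh m K ≤ H52.uniGroup hl K 1 := fun _ hg =>
  ⟨(Nh_uni hm hg).1.mono hm, (Nh_uni hm hg).2.mono hm⟩

theorem Nh_mono {m' : ℕ} (h : m ≤ m') : Nh m' K ≤ Nh m K :=
  H52.genBy_mono fun _ hr => ⟨hr.1, hr.2.1, le_trans (by exact_mod_cast h) hr.2.2⟩

theorem pos_eq : chevE6.posUnipotent K = Nh 1 K := by
  rw [H52.checkedE6.posUnipotent_eq]
  refine congrArg Subgroup.closure (Set.ext fun g => ?_)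
  constructor
  · rintro ⟨r, t, h1, h2, rfl⟩
    exact ⟨r, t, ⟨h2, h1, by exact_mod_cast ((hgt_table r h2).2.2.1).1 h1⟩, rfl⟩
  · rintro ⟨r, t, h, rfl⟩
    exact ⟨r, t, h.2.1, h.1, rfl⟩

theorem Nh_normal {m : ℕ} {r : ℕ} (hr : r < chevE6.nroots) (hp : chevE6.nroots / 2 ≤ r) (a : K)
    {g : GL chevE6.Idx K} (hg : g ∈ Nh m K) : x r a * g * (x r a)⁻¹ ∈ Nh m K := by
  refine H52.checkedE6.rt_conj_genBy hr (fun s h => h.1) ?_ ?_ a hg
  · intro h
    exact absurd h.2.1 (not_le.2 ((show ∀ r < chevE6.nroots, chevE6.nroots / 2 ≤ r →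
      chevE6.neg r < chevE6.nroots / 2 by decide +kernel) r hr hp))
  · intro s u hs hu i j hi hj h
    have e := hgt_add h
    have h1 := ((hgt_table r hr).2.2.1).1 hp
    have h2 := ((hgt_table s hs.1).2.2.1).1 hs.2.1
    have h3 := hs.2.2
    have hi' : (1 : ℤ) ≤ i := by exact_mod_cast hi
    have hj' : (1 : ℤ) ≤ j := by exact_mod_cast hj
    have e1 : hgt r ≤ (i : ℤ) * hgt r := le_mul_of_one_le_left (by omega) hi'
    have e2 : hgt s ≤ (j : ℤ) * hgt s := le_mul_of_one_le_left (by omega) hj'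
    exact ⟨hu, ((hgt_table u hu).2.2.1).2 (by omega), by omega⟩

/-- The ordered product over a list of roots. -/
noncomputable def lw (L : List ℕ) (t : ℕ → K) : GL chevE6.Idx K := (L.map fun r => x r (t r)).prod

theorem lw_cons (r : ℕ) (L : List ℕ) (t : ℕ → K) : lw (r :: L) t = x r (t r) * lw L t := by
  simp [lw]

/-- The roots of height `m`. -/
def Lv (m : ℕ) : List ℕ :=
  (List.range chevE6.nroots).filter fun r => decide (chevE6.nroots / 2 ≤ r ∧ hgt r = (m : ℤ))

theorem mem_Lv {r : ℕ} :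
    r ∈ Lv m ↔ r < chevE6.nroots ∧ chevE6.nroots / 2 ≤ r ∧ hgt r = m := by
  simp [Lv]

/-- Absorbing a root element of height `m` into the ordered product modulo higher terms. -/
theorem absorb (hm : 1 ≤ m) : ∀ L : List ℕ, L.Nodup → (∀ r ∈ L, r ∈ Lv m) → ∀ (r : ℕ), r ∈ L → ∀ (a : K)
    (t : ℕ → K), ∃ n ∈ Nh (m + 1) K, x r a * lw L t = lw L (Function.update t r (t r + a)) * n := by
  intro L
  induction L with
  | nil => intro _ _ r hr; simp at hr
  | cons s L ih =>
    intro hnd hL r hr a t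
    obtain ⟨hsL, hnd'⟩ := List.nodup_cons.1 hnd
    have hlw : ∀ v, (∀ z ∈ L, v z = t z) → lw L v = lw L t := fun v hv => by
      simp only [lw]
      exact congrArg List.prod (List.map_congr_left fun z hz => by rw [hv z hz])
    by_cases hrs : r = s
    · subst hrs
      refine ⟨1, one_mem _, ?_⟩
      rw [mul_one, lw_cons, lw_cons, Function.update_self, ← mul_assoc, H52.checkedE6.rt_mul, add_comm,
        hlw (Function.update t r (t r + a)) fun z hz => Function.update_of_ne (fun e : z = r => hsL (e ▸ hz)) _ _]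
    have hrL : r ∈ L := (List.mem_cons.1 hr).resolve_left hrs
    obtain ⟨h1, h2, h3⟩ := mem_Lv.1 (hL s List.mem_cons_self)
    obtain ⟨g1, g2, g3⟩ := mem_Lv.1 (hL r hr)
    obtain ⟨n, hn, he⟩ := ih hnd' (fun z hz => hL z (List.mem_cons_of_mem _ hz)) r hrL a t
    have hneg : s ≠ chevE6.neg r := by
      intro e
      have := (show ∀ r < chevE6.nroots, chevE6.nroots / 2 ≤ r →
        chevE6.neg r < chevE6.nroots / 2 by decide +kernel) r g1 g2
      omega
    have hcw : ∀ b, H52.wordRt chevE6 (chevE6.commWord K r s a b) ∈ Nh (m + 1) K := by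
      intro b
      refine H52.Checked.wordRt_mem _ _ fun p hp => ?_
      obtain ⟨c, hc, rfl⟩ := List.mem_map.1 hp
      obtain ⟨hi, hj, hco⟩ := H52.checkedE6.commTerms_co g1 h1 c hc
      have hlt := H52.checkedE6.commTerms_lt (r := r) (s := s) c hc
      have e := hgt_add (u := c.1) (r := r) (s := s) hco
      rw [g3, h3] at e
      have hi' : (1 : ℤ) ≤ (c.2.2.1 : ℤ) := by exact_mod_cast hi
      have hj' : (1 : ℤ) ≤ (c.2.2.2 : ℤ) := by exact_mod_cast hj
      have e1 : (m : ℤ) ≤ (c.2.2.1 : ℤ) * m := le_mul_of_one_le_left (by omega) hi'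
      have e2 : (m : ℤ) ≤ (c.2.2.2 : ℤ) * m := le_mul_of_one_le_left (by omega) hj'
      exact H52.rt_mem_genBy ⟨hlt, ((hgt_table _ hlt).2.2.1).2 (by omega), by push_cast; omega⟩ _
    have hswap := H52.checkedE6.comm_rt g1 h1 (Ne.symm hrs) hneg a (t s)
    set w := H52.wordRt chevE6 (chevE6.commWord K r s a (t s))
    have hnorm : ∀ g ∈ Nh (m + 1) K, ∀ v, (lw L v)⁻¹ * g * lw L v ∈ Nh (m + 1) K := by
      intro g hg v
      have key : ∀ L' : List ℕ, (∀ z ∈ L', z ∈ Lv m) → (lw L' v)⁻¹ * g * lw L' v ∈ Nh (m + 1) K := by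
        intro L'
        induction L' generalizing g with
        | nil => intro _; simpa [lw] using hg
        | cons z L' ih' =>
          intro hz
          obtain ⟨z1, z2, -⟩ := mem_Lv.1 (hz z List.mem_cons_self)
          rw [lw_cons, show (x z (v z) * lw L' v)⁻¹ * g * (x z (v z) * lw L' v) =
            (lw L' v)⁻¹ * ((x z (v z))⁻¹ * g * (x z (v z))⁻¹⁻¹) * lw L' v by group,
            H52.checkedE6.rt_inv]
          exact ih' _ (Nh_normal z1 z2 _ hg) fun y hy => hz y (List.mem_cons_of_mem _ hy)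
      exact key L fun z hz => hL z (List.mem_cons_of_mem _ hz)
    refine ⟨n * ((lw L t)⁻¹ * w⁻¹ * lw L t), mul_mem hn (hnorm _ (inv_mem (hcw (t s))) t), ?_⟩
    rw [lw_cons, lw_cons, Function.update_of_ne (Ne.symm hrs) _ _,
      show x r a * (x s (t s) * lw L t) = x r a * x s (t s) * lw L t from (mul_assoc _ _ _).symm,
      show x r a * x s (t s) = x s (t s) * x r a * w⁻¹ by rw [hswap]; group]
    calc x s (t s) * x r a * w⁻¹ * lw L t
        = x s (t s) * (x r a * lw L t) * ((lw L t)⁻¹ * w⁻¹ * lw L t) := by group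
      _ = _ := by rw [he]; group

theorem Lv_nodup : (Lv m).Nodup := List.nodup_range.filter _

theorem lw_update_zero (L : List ℕ) : lw L (fun _ => (0 : K)) = 1 :=
  List.prod_eq_one fun z hz => by
    obtain ⟨r, -, rfl⟩ := List.mem_map.1 hz; exact H52.checkedE6.rt_zero _

theorem lw_mem (hm : 1 ≤ m) {L : List ℕ} (hL : ∀ r ∈ L, r ∈ Lv m) (t : ℕ → K) : lw L t ∈ Nh m K :=
  list_prod_mem fun z hz => by
    obtain ⟨r, hr, rfl⟩ := List.mem_map.1 hz
    obtain ⟨h1, h2, h3⟩ := mem_Lv.1 (hL r hr)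
    exact H52.rt_mem_genBy ⟨h1, h2, h3.ge⟩ _

theorem phi_lw (hm : 1 ≤ m) {s : ℕ} (hs : hgt s = m) (hs' : s < chevE6.nroots) (t : ℕ → K) :
    ∀ L : List ℕ, L.Nodup → (∀ r ∈ L, r ∈ Lv m) → phi s (lw L t) = if s ∈ L then t s else 0 := by
  intro L
  induction L with
  | nil => intro _ _; simp [lw, phi_one]
  | cons r L ih =>
    intro hnd hL
    obtain ⟨h1, h2⟩ := List.nodup_cons.1 hnd
    obtain ⟨a1, a2, a3⟩ := mem_Lv.1 (hL r List.mem_cons_self)
    rw [lw_cons, phi_mul hs hm (rt_mem_uni a1 a3.ge hm _)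
      (Nh_uni hm (lw_mem hm (fun z hz => hL z (List.mem_cons_of_mem _ hz)) t)),
      phi_rt hs' a1, ih h2 fun z hz => hL z (List.mem_cons_of_mem _ hz)]
    by_cases e : s = r
    · subst e; simp [h1]
    · simp [e]

/-- Decomposition of an element of the filtration by its leading coefficients. -/
theorem decomp (hm : 1 ≤ m) {g : GL chevE6.Idx K} (hg : g ∈ Nh m K) :
    ∃ n ∈ Nh (m + 1) K, g = lw (Lv m) (fun r => phi r g) * n := by
  classical
  suffices h : ∃ t : ℕ → K, ∃ n ∈ Nh (m + 1) K, g = lw (Lv m) t * n by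
    obtain ⟨t, n, hn, he⟩ := h
    refine ⟨n, hn, ?_⟩
    conv_lhs => rw [he]
    congr 1
    simp only [lw]
    refine congrArg List.prod (List.map_congr_left fun r hr => ?_)
    obtain ⟨a1, a2, a3⟩ := mem_Lv.1 hr
    congr 1
    rw [he, phi_mul a3 hm (Nh_uni hm (lw_mem hm (fun z hz => hz) t)) (Nh_uni hm (Nh_mono (Nat.le_succ m) hn)),
      phi_eq_zero a3 (Nat.lt_succ_self m) (Nh_uni (by omega) hn), add_zero,
      phi_lw hm a3 a1 t _ Lv_nodup fun z hz => hz, if_pos hr]
  have step : ∀ r a, NP m r → ∀ g : GL chevE6.Idx K, (∃ t : ℕ → K, ∃ n ∈ Nh (m + 1) K, g = lw (Lv m) t * n) →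
      ∃ t : ℕ → K, ∃ n ∈ Nh (m + 1) K, x r a * g = lw (Lv m) t * n := by
    intro r a ⟨h1, h2, h3⟩ g ⟨t, n, hn, he⟩
    subst he
    by_cases hrm : hgt r = m
    · obtain ⟨n', hn', he'⟩ := absorb hm (Lv m) Lv_nodup (fun z hz => hz) r (mem_Lv.2 ⟨h1, h2, hrm⟩) a t
      exact ⟨_, n' * n, mul_mem hn' hn, by rw [← mul_assoc, he', mul_assoc]⟩
    · have hrN : x r a ∈ Nh (m + 1) K := H52.rt_mem_genBy ⟨h1, h2, by push_cast; omega⟩ _
      have key : ∀ L' : List ℕ, (∀ z ∈ L', z ∈ Lv m) → ∀ w ∈ Nh (m + 1) K,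
          (lw L' t)⁻¹ * w * lw L' t ∈ Nh (m + 1) K := by
        intro L'
        induction L' with
        | nil => intro _ w hw; simpa [lw] using hw
        | cons z L' ih' =>
          intro hz w hw
          obtain ⟨z1, z2, -⟩ := mem_Lv.1 (hz z List.mem_cons_self)
          rw [lw_cons, show (x z (t z) * lw L' t)⁻¹ * w * (x z (t z) * lw L' t) =
            (lw L' t)⁻¹ * ((x z (t z))⁻¹ * w * (x z (t z))⁻¹⁻¹) * lw L' t by group,
            H52.checkedE6.rt_inv]
          exact ih' (fun y hy => hz y (List.mem_cons_of_mem _ hy)) _ (Nh_normal z1 z2 _ hw)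
      exact ⟨t, (lw (Lv m) t)⁻¹ * x r a * lw (Lv m) t * n, mul_mem (key _ (fun z hz => hz) _ hrN) hn, by group⟩
  unfold Nh H52.genBy at hg
  induction hg using Subgroup.closure_induction_left with
  | one => exact ⟨fun _ => 0, 1, one_mem _, by rw [lw_update_zero, one_mul]⟩
  | mul_left z hz g' _ ih => obtain ⟨r, a, hr, rfl⟩ := hz; exact step r a hr g' ih
  | inv_mul_cancel z hz g' _ ih =>
    obtain ⟨r, a, hr, rfl⟩ := hz
    rw [H52.checkedE6.rt_inv]
    exact step r (-a) hr g' ih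

/-- An element with zero leading coefficients lies in the next term. -/
theorem mem_succ (hm : 1 ≤ m) {g : GL chevE6.Idx K} (hg : g ∈ Nh m K)
    (h : ∀ r ∈ Lv m, phi r g = 0) : g ∈ Nh (m + 1) K := by
  obtain ⟨n, hn, he⟩ := decomp hm hg
  rw [he, show lw (Lv m) (fun r => phi r g) = lw (Lv m) (fun _ => (0 : K)) from
    congrArg List.prod (List.map_congr_left fun r hr => congrArg (x r) (h r hr)), lw_update_zero, one_mul]
  exact hn

theorem Nh_top (h : 12 ≤ m) : Nh m K = ⊥ := by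
  rw [Nh, H52.genBy, Subgroup.closure_eq_bot_iff]
  rintro g ⟨r, t, ⟨h1, -, h3⟩, rfl⟩
  have := (hgt_table r h1).2.1
  omega

/-- The coefficient of a commutator with a root element. -/
def cm (r b s : ℕ) : ℤ :=
  match chevE6.commTerms r b with
  | [(k, c, 1, 1)] => if k = s then c else 0
  | _ => 0

/-- The shape of the commutator of two positive root elements. -/
def commShape (r b : ℕ) : Bool :=
  match chevE6.commTerms r b with
  | [] => true
  | [(k, c, 1, 1)] => decide (b ≠ r ∧ k < chevE6.nroots ∧ (c = 1 ∨ c = -1) ∧ hgt k = hgt r + hgt b)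
  | _ => false

theorem comm_table : ∀ r < chevE6.nroots, ∀ b < chevE6.nroots, chevE6.nroots / 2 ≤ r → chevE6.nroots / 2 ≤ b →
    b ≠ chevE6.neg r ∧ commShape r b = true := by
  decide +kernel

theorem phi_comm_single {r b s j : ℕ} (hr : r ∈ Lv m) (hb : b ∈ Lv j) (hm : 1 ≤ m) (hj : 1 ≤ j)
    (hs : hgt s = ((m + j : ℕ) : ℤ)) (hs' : s < chevE6.nroots) (a c : K) :
    phi s (x r a * x b c * (x r a)⁻¹ * (x b c)⁻¹) = (cm r b s : K) * (a * c) := by
  obtain ⟨r1, r2, r3⟩ := mem_Lv.1 hr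
  obtain ⟨b1, b2, b3⟩ := mem_Lv.1 hb
  obtain ⟨hneg, hshape⟩ := comm_table r r1 b b1 r2 b2
  have h : chevE6.commTerms r b = [] ∨ ∃ k, b ≠ r ∧ k < chevE6.nroots ∧ ∃ c : ℤ, chevE6.commTerms r b = [(k, c, 1, 1)] ∧
      hgt k = hgt r + hgt b := by
    unfold commShape at hshape
    split at hshape
    · next heq => exact Or.inl heq
    · next k v heq =>
      simp only [decide_eq_true_eq] at hshape
      exact Or.inr ⟨k, hshape.1, hshape.2.1, v, heq, hshape.2.2.2⟩
    · exact absurd hshape (by decide)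
  by_cases hne : b = r
  · subst hne
    replace h := h.resolve_right fun ⟨k, h', _⟩ => h' rfl
    rw [H52.checkedE6.rt_mul, add_comm, ← H52.checkedE6.rt_mul, mul_inv_cancel_right, mul_inv_cancel, phi_one]
    simp [cm, h]
  have hsw := H52.checkedE6.comm_rt r1 b1 hne hneg a c
  rcases h with h | ⟨k, -, hk, v, h, hkh⟩
  · simp only [H52.wordRt, ChevalleyDatum.commWord, h, List.map_nil, List.prod_nil, mul_one] at hsw
    rw [← hsw, mul_inv_cancel_right, mul_inv_cancel, phi_one]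
    simp [cm, h]
  · simp only [H52.wordRt, ChevalleyDatum.commWord, h, List.map_cons, List.map_nil, List.prod_cons,
      List.prod_nil, mul_one, pow_one] at hsw
    have e : x r a * x b c * (x r a)⁻¹ * (x b c)⁻¹ =
        (x b c * x r a) * (x k ((v : K) * -a * c))⁻¹ * (x b c * x r a)⁻¹ := by
      rw [show x r a * x b c = x b c * x r a * (x k ((v : K) * -a * c))⁻¹ by rw [hsw, mul_inv_cancel_right]]
      group
    rw [r3, b3] at hkh
    have hk' : x k ((v : K) * -a * c) ∈ H52.uniGroup hl K (m + j) :=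
      rt_mem_uni hk (by push_cast; omega) (by omega) _
    rw [e, (phi_conj hs (by omega) (mul_mem (rt_mem_uni b1 (by omega) le_rfl _)
      (rt_mem_uni r1 (by omega) le_rfl _)) (inv_mem hk')).1, phi_inv hs (by omega) hk', phi_rt hs' hk]
    simp only [cm, h]
    by_cases hks : s = k
    · subst hks; simp; ring
    · rw [if_neg hks, if_neg (Ne.symm hks)]; simp

/-- The leading coefficient of a commutator is bilinear. -/
theorem phi_comm {b s j : ℕ} (hb : b ∈ Lv j) (hm : 1 ≤ m) (hj : 1 ≤ j)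
    (hs : hgt s = ((m + j : ℕ) : ℤ)) (hs' : s < chevE6.nroots) {g : GL chevE6.Idx K}
    (hg : g ∈ Nh m K) (c : K) :
    phi s (g * x b c * g⁻¹ * (x b c)⁻¹) = ((Lv m).map fun r => (cm r b s : K) * (phi r g * c)).sum := by
  obtain ⟨b1, b2, b3⟩ := mem_Lv.1 hb
  have hxb : x b c ∈ H52.uniGroup hl K j := rt_mem_uni b1 b3.ge hj _
  have hadd : ∀ g h : GL chevE6.Idx K, g ∈ H52.uniGroup hl K m → h ∈ H52.uniGroup hl K m →
      phi s (g * h * x b c * (g * h)⁻¹ * (x b c)⁻¹) =
        phi s (g * x b c * g⁻¹ * (x b c)⁻¹) + phi s (h * x b c * h⁻¹ * (x b c)⁻¹) := by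
    intro g h hg hh
    have hch : h * x b c * h⁻¹ * (x b c)⁻¹ ∈ H52.uniGroup hl K (m + j) :=
      H52.commutator_uniGroup hl m j (Subgroup.commutator_mem_commutator hh hxb)
    have hcg : g * x b c * g⁻¹ * (x b c)⁻¹ ∈ H52.uniGroup hl K (m + j) :=
      H52.commutator_uniGroup hl m j (Subgroup.commutator_mem_commutator hg hxb)
    obtain ⟨e, he⟩ := phi_conj hs (by omega) ⟨hg.1.mono hm, hg.2.mono hm⟩ hch
    rw [show g * h * x b c * (g * h)⁻¹ * (x b c)⁻¹ =
      g * (h * x b c * h⁻¹ * (x b c)⁻¹) * g⁻¹ * (g * x b c * g⁻¹ * (x b c)⁻¹) by group,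
      phi_mul hs (by omega) he hcg, e, add_comm]
  obtain ⟨n, hn, he⟩ := decomp hm hg
  have hnu : n ∈ H52.uniGroup hl K (m + 1) := Nh_uni (by omega) hn
  have hn0 : phi s (n * x b c * n⁻¹ * (x b c)⁻¹) = 0 :=
    phi_eq_zero hs (by omega : m + j < m + 1 + j)
      (H52.commutator_uniGroup hl (m + 1) j (Subgroup.commutator_mem_commutator hnu hxb))
  have hlist : ∀ L : List ℕ, (∀ r ∈ L, r ∈ Lv m) → ∀ t : ℕ → K,
      phi s (lw L t * x b c * (lw L t)⁻¹ * (x b c)⁻¹) = (L.map fun r => (cm r b s : K) * (t r * c)).sum := by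
    intro L
    induction L with
    | nil => intro _ t; simp [lw, phi_one]
    | cons r L ih =>
      intro hL t
      obtain ⟨r1, r2, r3⟩ := mem_Lv.1 (hL r List.mem_cons_self)
      have hL' : ∀ z ∈ L, z ∈ Lv m := fun z hz => hL z (List.mem_cons_of_mem _ hz)
      rw [lw_cons, hadd _ _ (rt_mem_uni r1 r3.ge hm _) (Nh_uni hm (lw_mem hm hL' t)),
        phi_comm_single (hL r List.mem_cons_self) hb hm hj hs hs', ih hL', List.map_cons, List.sum_cons]
  conv_lhs => rw [he]
  rw [hadd _ _ (Nh_uni hm (lw_mem hm (fun z hz => hz) _)) (Nh_uni hm (Nh_mono (Nat.le_succ m) hn)), hn0,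
    add_zero, hlist _ fun z hz => hz]

end H58.E6Sub
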