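import Cfsg.Agent.H58.E6SubElts

/-!
An overgroup of F₄(q) in ²E₆(q) containing a long root element outside F₄(q) contains an irrational
short root element.
-/

set_option autoImplicit false
set_option linter.unusedSectionVars false

open Cfsg.Lie
open scoped MatrixGroups

namespace H58.E6Sub

variable {K : Type*} [Field K]

local notation "x" => H52.rt chevE6
local notation "qn" => H53.BasisSym.qn H53.e6Sym
local notation "sn" => H53.BasisSym.sn H53.e6Sym
local notation "pk" => H53.E6T.pk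

theorem sum_map_single {F : ℕ → K} {r : ℕ} : ∀ L : List ℕ, L.Nodup → r ∈ L →
    (∀ z ∈ L, z ≠ r → F z = 0) → (L.map F).sum = F r := by
  intro L
  induction L with
  | nil => intro _ h; simp at h
  | cons a L ih =>
    intro hnd hr hz
    obtain ⟨h1, h2⟩ := List.nodup_cons.1 hnd
    rw [List.map_cons, List.sum_cons]
    by_cases e : a = r
    · subst e
      rw [List.sum_eq_zero (fun y hy => ?_), add_zero]
      obtain ⟨z, hz', rfl⟩ := List.mem_map.1 hy
      exact hz z (List.mem_cons_of_mem _ hz') fun e => h1 (e ▸ hz')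
    · rw [hz a List.mem_cons_self e, zero_add,
        ih h2 ((List.mem_cons.1 hr).resolve_left (Ne.symm e)) fun z hz' => hz z (List.mem_cons_of_mem _ hz')]

theorem simple_table : ∀ k : Fin 4, ∀ a ∈ pk k, a ∈ Lv 1 ∧ qn a ∈ pk k ∧
    (∀ b ∈ pk k, b = a ∨ b = qn a) ∧ sn a = 1 ∧ (qn a = a ↔ k.val < 2) := by
  decide +kernel

set_option synthInstance.maxSize 4000 in
set_option synthInstance.maxHeartbeats 200000 in
theorem push_table : ∀ r < chevE6.nroots, chevE6.nroots / 2 ≤ r → qn r ≠ r → r ∉ [66, 68] →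
    ∃ k : Fin 4, ∃ a ∈ pk k, ∃ s < chevE6.nroots, chevE6.nroots / 2 ≤ s ∧ qn s ≠ s ∧ hgt s = hgt r + 1 ∧
      (cm r a s = 1 ∨ cm r a s = -1) ∧
      ∀ r' < chevE6.nroots, chevE6.nroots / 2 ≤ r' → hgt r' = hgt r → ∀ b ∈ pk k,
        ¬(r' = r ∧ b = a) → cm r' b s = 0 := by
  decide +kernel

theorem top_table : ∀ r < chevE6.nroots, chevE6.nroots / 2 ≤ r → 9 ≤ hgt r → qn r = r := by
  decide +kernel

theorem lv8 : (66 : ℕ) ∈ Lv 8 ∧ qn 66 = 68 ∧ qn 68 = 66 ∧ sn 66 = 1 ∧ sn 68 = 1 ∧
    ∀ r ∈ Lv 8, r = 66 ∨ r = 68 := by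
  decide +kernel

/-- `U` normalises each term of the filtration. -/
theorem conj_Nh {m : ℕ} {u w : GL chevE6.Idx K} (hu : u ∈ Nh 1 K) (hw : w ∈ Nh m K) :
    u * w * u⁻¹ ∈ Nh m K := by
  unfold Nh H52.genBy at hu
  induction hu using Subgroup.closure_induction_left generalizing w with
  | one => simpa using hw
  | mul_left y hy y' _ ih =>
    obtain ⟨r, t, hr, rfl⟩ := hy
    rw [show x r t * y' * w * (x r t * y')⁻¹ = x r t * (y' * w * y'⁻¹) * (x r t)⁻¹ by group]
    exact Nh_normal hr.1 hr.2.1 t (ih hw)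
  | inv_mul_cancel y hy y' _ ih =>
    obtain ⟨r, t, hr, rfl⟩ := hy
    rw [H52.checkedE6.rt_inv,
      show x r (-t) * y' * w * (x r (-t) * y')⁻¹ = x r (-t) * (y' * w * y'⁻¹) * (x r (-t))⁻¹ by group]
    exact Nh_normal hr.1 hr.2.1 _ (ih hw)

variable {f : K ≃+* K}

local notation "σ" => H54.glF chevE6 (RingHomClass.toRingHom f)

/-- Conjugation of a fixed element keeps the fixed-point question. -/
theorem σ_conj {m y : GL chevE6.Idx K} (hm : σ m = m) :
    σ (m * y * m⁻¹) = m * y * m⁻¹ ↔ σ y = y := by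
  rw [map_mul, map_mul, map_inv, hm, mul_left_inj, mul_right_inj]

/-- An irrational element of the highest short root group in `H`. -/
def Irr (f : K ≃+* K) (H : Subgroup (GL chevE6.Idx K)) : Prop := ∃ c, f c ≠ c ∧ O f 66 c ∈ H

theorem comm2 {s m j b b' : ℕ} (hb : b ∈ Lv j) (hb' : b' ∈ Lv j) (hm : 1 ≤ m) (hj : 1 ≤ j)
    (hs : hgt s = ((m + j : ℕ) : ℤ)) (hs' : s < chevE6.nroots) {g : GL chevE6.Idx K}
    (hg : g ∈ Nh m K) (c c' : K) :
    phi s (g * (x b c * x b' c') * g⁻¹ * (x b c * x b' c')⁻¹) =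
      ((Lv m).map fun r => (cm r b s : K) * (phi r g * c)).sum +
        ((Lv m).map fun r => (cm r b' s : K) * (phi r g * c')).sum := by
  obtain ⟨b1, -, b3⟩ := mem_Lv.1 hb
  obtain ⟨b1', -, b3'⟩ := mem_Lv.1 hb'
  have hgu := Nh_uni hm hg
  have h1 : g * x b c * g⁻¹ * (x b c)⁻¹ ∈ H52.uniGroup hl K (m + j) :=
    H52.commutator_uniGroup hl m j (Subgroup.commutator_mem_commutator hgu (rt_mem_uni b1 b3.ge hj _))
  have h2 : g * x b' c' * g⁻¹ * (x b' c')⁻¹ ∈ H52.uniGroup hl K (m + j) :=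
    H52.commutator_uniGroup hl m j (Subgroup.commutator_mem_commutator hgu (rt_mem_uni b1' b3'.ge hj _))
  obtain ⟨e, he⟩ := phi_conj hs (by omega) (rt_mem_uni (m := 1) b1 (by omega) le_rfl c) h2
  rw [show g * (x b c * x b' c') * g⁻¹ * (x b c * x b' c')⁻¹ =
    (g * x b c * g⁻¹ * (x b c)⁻¹) * (x b c * (g * x b' c' * g⁻¹ * (x b' c')⁻¹) * (x b c)⁻¹) by group,
    phi_mul hs (by omega) h1 he, e, phi_comm hb hm hj hs hs' hg, phi_comm hb' hm hj hs hs' hg]

variable {q : ℕ} (hf : Frob q f) [Fintype K] (hq : IsPrimePow q) (hK : Fintype.card K = q ^ 2)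
include hf hq hK

theorem fixed_coef {m : ℕ} (hm : 1 ≤ m) {r : ℕ} (hr : r ∈ Lv m) (hrr : qn r = r) {g : GL chevE6.Idx K}
    (hg : g ∈ Nh m K) (hgt' : g ∈ twistedE6 K q) : f (phi r g) = phi r g := by
  have h := tau_phi hf hq hK hm hr hg hgt'
  obtain ⟨r1, -, -⟩ := mem_Lv.1 hr
  rw [hrr, (qn_pos r r1).2.2.2.2.1 hrr, Int.cast_one, one_mul] at h
  exact h.symm

/-- Rational leading coefficients are removed by a fixed element. -/
theorem strip {m : ℕ} (hm : 1 ≤ m) {g : GL chevE6.Idx K} (hg : g ∈ Nh m K) (hgt' : g ∈ twistedE6 K q)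
    (hrat : ∀ r ∈ Lv m, f (phi r g) = phi r g) :
    ∃ P ∈ Fxd q f, P * g ∈ Nh (m + 1) K ∧ P * g ∈ twistedE6 K q := by
  classical
  induction hn : ((Lv m).toFinset.filter fun r => phi r g ≠ 0).card using Nat.strong_induction_on
    generalizing g with
  | _ n ih =>
  by_cases hall : ∀ r ∈ Lv m, phi r g = 0
  · exact ⟨1, one_mem _, by rw [one_mul]; exact mem_succ hm hg hall, by rwa [one_mul]⟩
  push Not at hall
  obtain ⟨r, hr, hne⟩ := hall
  obtain ⟨r1, r2, r3⟩ := mem_Lv.1 hr
  set c := phi r g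
  have hc : f c = c := hrat r hr
  have hO := O_fx hf hq hK hr (c := -c) (by rw [map_neg, hc])
  have hON := O_mem_Nh hf hq hK hr (-c)
  set g' := O f r (-c) * g
  have hg' : g' ∈ Nh m K := mul_mem hON hg
  have hphi : ∀ s ∈ Lv m, phi s g' = (if s = r then -c else if s = qn r then (sn r : K) * f (-c) else 0) +
      phi s g := by
    intro s hs
    rw [phi_mul (mem_Lv.1 hs).2.2 hm (Nh_uni hm hON) (Nh_uni hm hg), phi_O hf hq hK hm hr hs]
  have hzero : ∀ s ∈ Lv m, phi s g = 0 → phi s g' = 0 := by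
    intro s hs h0
    rw [hphi s hs, h0, add_zero, if_neg (fun e : s = r => hne (show phi r g = 0 by rw [← e]; exact h0)), if_neg]
    intro e
    have h := tau_phi hf hq hK hm hr hg hgt'
    rw [← e, h0, hc] at h
    rcases mul_eq_zero.1 h.symm with h' | h'
    · have := (qn_pos r r1).2.2.2.1
      have h'' : ((sn r * sn (qn r) : ℤ) : K) = 1 := by rw [this, Int.cast_one]
      rw [Int.cast_mul, h', zero_mul] at h''
      exact zero_ne_one h''
    · exact hne h'
  have hr0 : phi r g' = 0 := by rw [hphi r hr, if_pos rfl, neg_add_cancel]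
  have hlt : ((Lv m).toFinset.filter fun r => phi r g' ≠ 0).card < n := by
    rw [← hn]
    apply Finset.card_lt_card
    rw [Finset.ssubset_iff_of_subset]
    · exact ⟨r, Finset.mem_filter.2 ⟨List.mem_toFinset.2 hr, hne⟩, fun h => (Finset.mem_filter.1 h).2 hr0⟩
    · intro s hs
      simp only [Finset.mem_filter, List.mem_toFinset] at hs ⊢
      exact ⟨hs.1, fun h0 => hs.2 (hzero s hs.1 h0)⟩
  have hrat' : ∀ s ∈ Lv m, f (phi s g') = phi s g' := by
    intro s hs
    rw [hphi s hs, map_add, hrat s hs]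
    congr 1
    split
    · rw [map_neg, hc]
    · split
      · rw [map_mul, map_intCast, hf.two, map_neg, hc]
      · exact map_zero f
  obtain ⟨P, hP, h1, h2⟩ := ih _ hlt hg' (mul_mem hO.1 hgt') hrat' rfl
  exact ⟨P * O f r (-c), mul_mem hP hO, by rwa [mul_assoc], by rwa [mul_assoc]⟩

/-- Elements of the top of the filtration are fixed. -/
theorem high_fixed : ∀ (d m : ℕ), 12 - m = d → 9 ≤ m → ∀ g ∈ Nh m K, g ∈ twistedE6 K q → g ∈ Fxd q f := by
  intro d
  induction d with
  | zero => intro m hd _ g hg _; rw [Nh_top (by omega), Subgroup.mem_bot] at hg; rw [hg]; exact one_mem _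
  | succ d ih =>
    intro m hd hm g hg hgt'
    obtain ⟨P, hP, h1, h2⟩ := strip hf hq hK (by omega) hg hgt' fun r hr => by
      obtain ⟨r1, r2, r3⟩ := mem_Lv.1 hr
      exact fixed_coef hf hq hK (by omega) hr (top_table r r1 r2 (by rw [r3]; exact_mod_cast hm)) hg hgt'
    exact (Subgroup.mul_mem_cancel_left _ hP).1 (ih (m + 1) (by omega) (by omega) _ h1 h2)

variable {H : Subgroup (GL chevE6.Idx K)} (hH : Fxd q f ≤ H)
include hH

theorem Nh_cases : ∀ (d m : ℕ), 12 - m = d → 1 ≤ m → ∀ g ∈ Nh m K, g ∈ twistedE6 K q → g ∈ H →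
    σ g = g ∨ Irr f H := by
  intro d
  induction d with
  | zero => intro m hd _ g hg _ _; rw [Nh_top (by omega), Subgroup.mem_bot] at hg; left; rw [hg, map_one]
  | succ d ih =>
    intro m hd hm g hg hgt' hgH
    by_cases hrat : ∀ r ∈ Lv m, f (phi r g) = phi r g
    · obtain ⟨P, hP, h1, h2⟩ := strip hf hq hK hm hg hgt' hrat
      refine (ih (m + 1) (by omega) (by omega) _ h1 h2 (mul_mem (hH hP) hgH)).imp_left fun e => ?_
      rwa [map_mul, ((mem_Fxd f).1 hP).2, mul_right_inj] at e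
    push Not at hrat
    obtain ⟨r, hr, hne⟩ := hrat
    right
    obtain ⟨r1, r2, r3⟩ := mem_Lv.1 hr
    have hnfix : qn r ≠ r := fun e => hne (fixed_coef hf hq hK hm hr e hg hgt')
    by_cases htop : r ∈ [66, 68]
    · obtain ⟨l1, l2, l3, l4, l5, l6⟩ := lv8
      have hm8 : m = 8 := by
        have : hgt r = 8 := by
          simp only [List.mem_cons, List.not_mem_nil, or_false] at htop
          rcases htop with rfl | rfl <;> decide +kernel
        rw [r3] at this; exact_mod_cast this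
      subst hm8
      set c := phi 66 g
      have h68 : phi 68 g = f c := by
        have h := tau_phi hf hq hK hm l1 hg hgt'
        rwa [l2, l4, Int.cast_one, one_mul] at h
      have hc : f c ≠ c := by
        rcases l6 r hr with rfl | rfl
        · exact hne
        · rw [h68, hf.two] at hne; exact Ne.symm hne
      refine ⟨c, hc, ?_⟩
      have hO := O_mem_pos hf hq hK (r := 66) (by decide +kernel) (by decide +kernel) (c := -c)
        (fun e => absurd (l2 ▸ e) (by decide))
      have hg' : O f 66 (-c) * g ∈ Nh 9 K := by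
        refine mem_succ hm (mul_mem (O_mem_Nh hf hq hK l1 _) hg) fun s hs => ?_
        rw [phi_mul (mem_Lv.1 hs).2.2 hm (Nh_uni hm (O_mem_Nh hf hq hK l1 _)) (Nh_uni hm hg),
          phi_O hf hq hK hm l1 hs]
        rcases l6 s hs with rfl | rfl
        · rw [if_pos rfl]; exact neg_add_cancel _
        · rw [if_neg (by decide), if_pos l2.symm, l4, Int.cast_one, one_mul, map_neg, h68, neg_add_cancel]
      have hfix := high_fixed hf hq hK _ 9 rfl le_rfl _ hg' (mul_mem hO.1 hgt')
      have : O f 66 (-c) ∈ H := (Subgroup.mul_mem_cancel_right H hgH).1 (hH hfix)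
      rw [← O_inv f (by decide +kernel)] at this
      exact (Subgroup.inv_mem_iff H).1 this
    · obtain ⟨k, a, ha, s, s1, s2, s4, s3, hcm, huniq⟩ := push_table r r1 r2 hnfix htop
      obtain ⟨ha1, hqa, -, hsa, -⟩ := simple_table k a ha
      have hO1 := O_fx hf hq hK ha1 (c := (1 : K)) (map_one f)
      have hs : hgt s = ((m + 1 : ℕ) : ℤ) := by rw [s3, r3]; push_cast; ring
      have hcH : g * O f a 1 * g⁻¹ * (O f a 1)⁻¹ ∈ H :=
        mul_mem (mul_mem (mul_mem hgH (hH hO1)) (inv_mem hgH)) (inv_mem (hH hO1))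
      have hcG : g * O f a 1 * g⁻¹ * (O f a 1)⁻¹ ∈ twistedE6 K q :=
        mul_mem (mul_mem (mul_mem hgt' hO1.1) (inv_mem hgt')) (inv_mem hO1.1)
      have hOa : O f a 1 = if qn a = a then x a 1 else x a 1 * x (qn a) 1 := by
        unfold O
        rw [hsa, Int.cast_one, one_mul, map_one]
      have hval : phi s (g * O f a 1 * g⁻¹ * (O f a 1)⁻¹) = (cm r a s : K) * phi r g := by
        have hz : ∀ b ∈ pk k, ∀ z ∈ Lv m, ¬(z = r ∧ b = a) → (cm z b s : K) * (phi z g * 1) = 0 := by
          intro b hb z hz hne'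
          obtain ⟨z1, z2, z3⟩ := mem_Lv.1 hz
          rw [huniq z z1 z2 (z3.trans r3.symm) b hb hne', Int.cast_zero, zero_mul]
        have h1 : ((Lv m).map fun z => (cm z a s : K) * (phi z g * 1)).sum = (cm r a s : K) * phi r g := by
          rw [sum_map_single _ Lv_nodup hr fun z hz' hzr => hz a ha z hz' fun h => hzr h.1, mul_one]
        rw [hOa]
        by_cases e : qn a = a
        · rw [if_pos e, phi_comm ha1 hm le_rfl hs s1 hg, h1]
        · rw [if_neg e, comm2 ha1 (simple_table k _ hqa).1 hm le_rfl hs s1 hg, h1,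
            List.sum_eq_zero (fun y hy => ?_), add_zero]
          obtain ⟨z, hz', rfl⟩ := List.mem_map.1 hy
          exact hz _ hqa z hz' fun h => e h.2
      have hcN : g * O f a 1 * g⁻¹ * (O f a 1)⁻¹ ∈ Nh (m + 1) K := by
        refine mem_succ hm ?_ fun z hz => ?_
        · have hOp := (O_mem_pos hf hq hK (mem_Lv.1 ha1).1 (mem_Lv.1 ha1).2.1 (c := (1 : K))
            fun _ => map_one f).2
          rw [show g * O f a 1 * g⁻¹ * (O f a 1)⁻¹ = g * (O f a 1 * g⁻¹ * (O f a 1)⁻¹) by group]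
          refine mul_mem hg ?_
          rw [pos_eq] at hOp
          exact conj_Nh hOp (inv_mem hg)
        · have hc := H52.commutator_uniGroup hl m 1 (Subgroup.commutator_mem_commutator (Nh_uni hm hg)
            (Nh_uni le_rfl (O_mem_Nh hf hq hK ha1 (1 : K))))
          exact phi_eq_zero (mem_Lv.1 hz).2.2 (Nat.lt_succ_self m) hc
      rcases ih (m + 1) (by omega) (by omega) _ hcN hcG hcH with h | h
      · exfalso
        have h' := congrArg (phi s) h
        rw [phi_σ, hval] at h'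
        rcases hcm with hv | hv <;> rw [hv] at h' <;> simp at h' <;> exact hne h'
      · exact h

theorem pos_cases {g : GL chevE6.Idx K} (hg : g ∈ chevE6.posUnipotent K) (hgt' : g ∈ twistedE6 K q)
    (hgH : g ∈ H) : σ g = g ∨ Irr f H :=
  Nh_cases hf hq hK hH _ 1 rfl le_rfl g (pos_eq (K := K) ▸ hg) hgt' hgH

end H58.E6Sub
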