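import Cfsg.Agent.H58.E6SubCases
import Cfsg.Agent.H56.BNParabolic
import Cfsg.Agent.H53.NormalForm
import Cfsg.Agent.H58.ChevMixed

/-!
F₄(q) is maximal in ²E₆(q): long root elements and their centraliser.
-/

set_option autoImplicit false
set_option linter.unusedSectionVars false

open Cfsg.Lie
open scoped MatrixGroups

namespace H58.E6Sub

variable {K : Type*} [Field K]

local notation "x" => H52.rt chevE6
local notation "qn" => H53.BasisSym.qn H53.e6Sym
local notation "sn" => H53.BasisSym.sn H53.e6Sym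
local notation "nw" => H54.Ctx.nw chevE6

theorem nGL_eq (r : ℕ) (t : K) : H53.nGL chevE6 r t = H52.nElt chevE6 r t := by
  rw [H52.Checked.nElt_eq]; rfl

theorem nw_append (L L' : List (Fin chevE6.rank)) : nw K (L ++ L') = nw K L * nw K L' := by
  simp [H54.Ctx.nw]

/-- The nodes of a word of the longest element. -/
def NL0 : List (Fin 4) := (List.replicate 6 ([0, 1, 3, 2] : List (Fin 4))).flatten

/-- The word of the longest element. -/
def L0 : List (Fin chevE6.rank) := NL0.flatMap H53.E6T.spec.word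

theorem L0_neg : ∀ r < chevE6.nroots,
    (chevE6.nroots / 2 ≤ L0.foldr (fun i s => chevE6.reflectRoot i.val s) r ↔ r < chevE6.nroots / 2) := by
  decide +kernel

theorem wperm_L0 (r : Fin chevE6.nroots) :
    (ctx.wperm L0 r).val = L0.foldr (fun i s => chevE6.reflectRoot i.val s) r.val := by
  generalize L0 = L
  induction L with
  | nil => rfl
  | cons i L ih => rw [ctx.wperm_cons, Equiv.Perm.mul_apply, ctx.sigma_val, ih]; rfl

theorem w0_pos {r : Fin chevE6.nroots} :
    chevE6.nroots / 2 ≤ (ctx.wperm L0 r).val ↔ r.val < chevE6.nroots / 2 := by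
  rw [wperm_L0]; exact L0_neg r.val r.isLt

theorem nw_nodes (L : List (Fin 4)) :
    nw K (L.flatMap H53.E6T.spec.word) = (L.map (nd K)).prod := by
  induction L with
  | nil => rfl
  | cons k L ih =>
    rw [List.flatMap_cons, nw_append, ih, List.map_cons, List.prod_cons]
    congr 1
    simp only [H54.Ctx.nw, nd, nGL_eq]

/-- The longest element maps `U` into `U⁻`. -/
theorem w0_conj {u : GL chevE6.Idx K} (hu : u ∈ chevE6.posUnipotent K) :
    nw K L0 * u * (nw K L0)⁻¹ ∈ chevE6.negUnipotent K := by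
  rw [pos_eq] at hu
  have : Nh 1 K ≤ (chevE6.negUnipotent K).comap (MulAut.conj (nw K L0)).toMonoidHom := by
    refine (Subgroup.closure_le _).2 ?_
    rintro g ⟨r, t, hr, rfl⟩
    show nw K L0 * x r t * (nw K L0)⁻¹ ∈ chevE6.negUnipotent K
    obtain ⟨e, -, he⟩ := ctx.nw_conj_rt L0 ⟨r, hr.1⟩ t
    rw [he]
    refine H52.checkedE6.rt_mem_neg ?_ _
    have := (w0_pos (r := ⟨r, hr.1⟩)).not.2 (not_lt.2 hr.2.1)
    exact not_le.1 this
  exact this hu

/-- An element of `U` mapped into `U` by a Weyl element has no coefficient at a simple root that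
the Weyl element makes negative. -/
theorem coef_zero (L : List (Fin chevE6.rank)) {Y : GL chevE6.Idx K} (hY : Y ∈ chevE6.posUnipotent K)
    (hLY : nw K L * Y * (nw K L)⁻¹ ∈ chevE6.posUnipotent K) {a : Fin chevE6.nroots} (ha : a.val ∈ Lv 1)
    (hneg : (ctx.wperm L a).val < chevE6.nroots / 2) : phi a.val Y = 0 := by
  have hYg := H52.checkedE6.posUnipotent_le_group hY
  obtain ⟨p, hp, s, hs, hps, hwp⟩ := H53.RootGroupSys.Uplus_factor (ctx.axioms (F := K))
    (ctx.nwG_acts (F := K) (L0 ++ L)) (u := ⟨Y, hYg⟩) ((H53.mem_pos_iff H52.checkedE6 H53.weylForE6 _).1 hY)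
  have hs' : (s : GL chevE6.Idx K) ∈ H54.Ctx.uinv chevE6 K (ctx.wperm (L0 ++ L)) := by
    rw [← ctx.map_Uinv]
    exact Subgroup.mem_map_of_mem (H53.grpInc chevE6 K) hs
  have hW := nw_append (K := K) L0 L
  have hp' : (nw K (L0 ++ L)) * p * (nw K (L0 ++ L))⁻¹ ∈ chevE6.posUnipotent K := by
    have := (H53.mem_pos_iff H52.checkedE6 H53.weylForE6 _).2 hwp
    simpa [ctx.coe_nwG] using this
  have hYps : Y = p * (s : GL chevE6.Idx K) := congrArg Subtype.val hps
  have hWs : (nw K (L0 ++ L)) * s * (nw K (L0 ++ L))⁻¹ ∈ chevE6.negUnipotent K := by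
    have : H54.Ctx.uinv chevE6 K (ctx.wperm (L0 ++ L)) ≤
        (chevE6.negUnipotent K).comap (MulAut.conj (nw K (L0 ++ L))).toMonoidHom := by
      refine (Subgroup.closure_le _).2 ?_
      rintro g ⟨r, t, -, hr, rfl⟩
      show nw K (L0 ++ L) * x r.val t * (nw K (L0 ++ L))⁻¹ ∈ chevE6.negUnipotent K
      obtain ⟨e, -, he⟩ := ctx.nw_conj_rt (L0 ++ L) r t
      rw [he]
      exact H52.checkedE6.rt_mem_neg hr _
    exact this hs'
  have hWY : (nw K (L0 ++ L)) * Y * (nw K (L0 ++ L))⁻¹ ∈ chevE6.negUnipotent K := by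
    have := w0_conj hLY
    rwa [hW, show ∀ a b : GL chevE6.Idx K, a * b * Y * (a * b)⁻¹ = a * (b * Y * b⁻¹) * a⁻¹ from
      fun a b => by group]
  have hp1 : (p : GL chevE6.Idx K) = 1 := by
    have h : (nw K (L0 ++ L)) * p * (nw K (L0 ++ L))⁻¹ ∈ chevE6.borelSubgroup K ⊓ chevE6.negUnipotent K := by
      refine ⟨Subgroup.mem_sup_left hp', ?_⟩
      have e : (nw K (L0 ++ L)) * p * (nw K (L0 ++ L))⁻¹ = (nw K (L0 ++ L)) * Y * (nw K (L0 ++ L))⁻¹ *
          ((nw K (L0 ++ L)) * s * (nw K (L0 ++ L))⁻¹)⁻¹ := by rw [hYps]; group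
      rw [e]
      show _ ∈ chevE6.negUnipotent K
      exact mul_mem hWY (inv_mem hWs)
    rwa [H52.checkedE6.borel_inf_neg, Subgroup.mem_bot, conj_eq_one_iff] at h
  rw [hYps, hp1, one_mul]
  obtain ⟨a1, a2, a3⟩ := mem_Lv.1 ha
  have hle : H54.Ctx.uinv chevE6 K (ctx.wperm (L0 ++ L)) ≤ Nh 1 K := by
    rw [← pos_eq]; exact ctx.uinv_le _
  clear hWs hYps
  generalize (s : GL chevE6.Idx K) = s' at hs' ⊢
  induction hs' using Subgroup.closure_induction with
  | mem g hg =>
    obtain ⟨r, t, -, hr, rfl⟩ := hg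
    rw [phi_rt a1 r.isLt, if_neg]
    intro e
    obtain rfl : a = r := Fin.ext e
    rw [ctx.wperm_append, Equiv.Perm.mul_apply] at hr
    exact absurd hr (not_lt.2 (w0_pos.2 hneg))
  | one => exact phi_one _
  | mul g g' hg hg' h h' =>
    rw [phi_mul a3 le_rfl (Nh_uni le_rfl (hle hg)) (Nh_uni le_rfl (hle hg')), h, h', add_zero]
  | inv g hg h => rw [phi_inv a3 le_rfl (Nh_uni le_rfl (hle hg)), h, neg_zero]

/-- A monomial element permutes the root elements. -/
theorem mono_conj {n : GL chevE6.Idx K} (hn : n ∈ chevE6.monomialSubgroup K) (r : Fin chevE6.nroots) (t : K) :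
    ∃ s : Fin chevE6.nroots, ∃ t' : K, n * x r.val t * n⁻¹ = x s.val t' := by
  lift n to ↥(chevE6.group K) using H53.monomial_le_group H52.checkedE6 H53.weylForE6 H53.E6T.ok hn
  rw [H53.mem_monomial_iff H52.checkedE6 H53.weylForE6 H53.E6T.ok] at hn
  obtain ⟨π, hπ⟩ := H53.RootGroupSys.exists_acts (H53.grp_axioms H52.checkedE6 H53.weylForE6 H53.E6T.ok) hn
  have h := H53.RootGroupSys.acts_conj_mem hπ (r := r) (g := (H53.matSys chevE6 K).x r t)
    (Subgroup.subset_closure ⟨t, rfl⟩)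
  obtain ⟨t', ht'⟩ := (H53.ChevSys.mem_Usub
    (H53.chainOK_checked H52.checkedE6 H53.weylForE6 H53.E6T.ok)).1 h
  exact ⟨π r, t', congrArg Subtype.val ht'⟩

/-- The long root elements. -/
def Lng (q : ℕ) (f : K ≃+* K) (y : GL chevE6.Idx K) : Prop :=
  ∃ g ∈ twistedE6 K q, ∃ t : K, f t = t ∧ y = g * x 71 t * g⁻¹

/-- The group of the fixed long root elements. -/
noncomputable def N0 (q : ℕ) (f : K ≃+* K) : Subgroup (GL chevE6.Idx K) :=
  Subgroup.closure {y | Lng q f y ∧ H54.glF chevE6 (f : K →+* K) y = y}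

variable {f : K ≃+* K}

local notation "σ" => H54.glF chevE6 (RingHomClass.toRingHom f)

variable {q : ℕ}

theorem Lng_conj {g y : GL chevE6.Idx K} (hg : g ∈ twistedE6 K q) (h : Lng q f y) :
    Lng q f (g * y * g⁻¹) := by
  obtain ⟨g', hg', t, ht, rfl⟩ := h
  exact ⟨g * g', mul_mem hg hg', t, ht, by group⟩

theorem N0_conj {m y : GL chevE6.Idx K} (hm : m ∈ Fxd q f) (hy : y ∈ N0 q f) : m * y * m⁻¹ ∈ N0 q f := by
  have : N0 q f ≤ (N0 q f).comap (MulAut.conj m).toMonoidHom := by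
    refine (Subgroup.closure_le _).2 ?_
    rintro g ⟨hg, hσ⟩
    exact Subgroup.subset_closure ⟨Lng_conj ((mem_Fxd f).1 hm).1 hg, (σ_conj ((mem_Fxd f).1 hm).2).2 hσ⟩
  exact this hy

variable (hf : Frob q f) [Fintype K] (hq : IsPrimePow q) (hK : Fintype.card K = q ^ 2)
include hf hq hK

theorem Lng_word (L : List (Fin 4)) : ∀ r < chevE6.nroots, (∀ t, f t = t → Lng q f (x r t)) →
    L.foldl (fun r k => act k r) r < chevE6.nroots ∧
      ∀ t, f t = t → Lng q f (x (L.foldl (fun r k => act k r) r) t) := by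
  induction L with
  | nil => exact fun r hr h => ⟨hr, h⟩
  | cons k L ih =>
    intro r hr h
    refine ih (act k r) (node_table k r hr).1 fun t ht => ?_
    have e : x (act k r) t = nd K k * x r ((ew k r : K) * t) * (nd K k)⁻¹ := by
      rw [nd_conj k hr, ← mul_assoc, ← Int.cast_mul]
      rcases (node_table k r hr).2.2.2.2.1 with e | e <;> simp [e]
    rw [e]
    exact Lng_conj ((mem_Fxd f).1 (nd_fx hf hq hK k)).1 (h _ (by rw [map_mul, map_intCast, ht]))

omit hK in
theorem single_fx {r : ℕ} (hr : r ∈ [46, 25, 39, 32]) {t : K} (ht : f t = t) : x r t ∈ Fxd q f :=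
  ⟨H53.E6T.single_mem hr (by rw [← hf.eq, ht]), show σ (x r t) = x r t by rw [σ_rt, ht]⟩

theorem single_N0 {r : ℕ} (hr : r = 46 ∨ r = 39) {t : K} (ht : f t = t) : x r t ∈ N0 q f := by
  have h71 : (71 : ℕ) < chevE6.nroots := by decide +kernel
  have h : Lng q f (x r t) := by
    have key := fun L => (Lng_word hf hq hK L 71 h71 fun t ht => ⟨1, one_mem _, t, ht, by simp⟩).2 t ht
    rcases hr with rfl | rfl
    · rw [show 46 = ([0, 1, 3, 1, 2, 3, 1] : List (Fin 4)).foldl (fun r k => act k r) 71 by decide +kernel]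
      exact key _
    · rw [show 39 = ([0, 1, 3, 1, 0, 2, 3] : List (Fin 4)).foldl (fun r k => act k r) 71 by decide +kernel]
      exact key _
  exact Subgroup.subset_closure ⟨h, show σ (x r t) = x r t by rw [σ_rt, ht]⟩

/-- The group of the fixed long root elements meets every simple orbit. -/
theorem node_N0 : ∀ a ∈ [46, 39, 42, 56], O f a 1 ∈ N0 q f := by
  have h1 : f (1 : K) = 1 := map_one f
  have hm1 : f (-1 : K) = -1 := by rw [map_neg, map_one]
  have hO : ∀ a, qn a = a → O f a (1 : K) = x a 1 := fun a e => if_pos e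
  have hL : (42 : ℕ) ∈ Lv 1 := by decide +kernel
  have h39 := single_N0 hf hq hK (r := 39) (Or.inr rfl) h1
  have hy := N0_conj (O_fx hf hq hK hL h1) h39
  have h44 : x 44 (-1 : K) ∈ N0 q f := by
    have := N0_conj (nd_fx hf hq hK 3) h39
    rw [nd_conj 3 (by decide +kernel), show act 3 39 = 44 by decide +kernel,
      show ew 3 39 = -1 by decide +kernel] at this
    simpa using this
  have h43 : O f 43 (-1) ∈ N0 q f := by
    have e37 := H52.checkedE6.comm_rt (r := 39) (s := 37) (by decide +kernel) (by decide +kernel)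
      (by decide +kernel) (by decide +kernel) (1 : K) 1
    have e39 := H52.checkedE6.comm_rt (r := 39) (s := 42) (by decide +kernel) (by decide +kernel)
      (by decide +kernel) (by decide +kernel) (1 : K) 1
    have e40 := H52.checkedE6.comm_rt (r := 40) (s := 42) (by decide +kernel) (by decide +kernel)
      (by decide +kernel) (by decide +kernel) (1 : K) 1
    simp only [H52.wordRt, ChevalleyDatum.commWord,
      show chevE6.commTerms 39 37 = [(40, -1, 1, 1)] by decide +kernel,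
      show chevE6.commTerms 39 42 = [(43, 1, 1, 1)] by decide +kernel,
      show chevE6.commTerms 40 42 = [(44, 1, 1, 1)] by decide +kernel,
      List.map_cons, List.map_nil, List.prod_cons, List.prod_nil, mul_one, pow_one, Int.cast_neg,
      Int.cast_one, neg_mul, one_mul, neg_neg] at e37 e39 e40
    have co : ∀ {r s : ℕ}, (r < chevE6.nroots ∧ s < chevE6.nroots ∧ s ≠ r ∧ s ≠ chevE6.neg r ∧
        chevE6.commTerms r s = []) → ∀ a b : K, Commute (x r a) (x s b) :=
      fun h a b => H53.rt_commute H52.checkedE6 h.1 h.2.1 h.2.2.1 h.2.2.2.1 h.2.2.2.2 a b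
    have c3740 : Commute (x 37 (1 : K)) (x 40 1) := co (by decide +kernel) _ _
    have c4244 : Commute (x 42 (1 : K)) (x 44 (-1)) := co (by decide +kernel) _ _
    have c4243 : Commute (x 42 (1 : K)) (x 43 (-1)) := co (by decide +kernel) _ _
    have c4340 : Commute (x 43 (-1 : K)) (x 40 1) := co (by decide +kernel) _ _
    have eO : O f 42 (1 : K) = x 42 1 * x 37 1 := by
      rw [O, if_neg (by decide +kernel), show qn 42 = 37 by decide +kernel,
        show sn 42 = 1 by decide +kernel, map_one, Int.cast_one, one_mul]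
    have e43 : O f 43 (-1 : K) = x 43 (-1) * x 40 1 := by
      rw [O, if_neg (by decide +kernel), show qn 43 = 40 by decide +kernel,
        show sn 43 = -1 by decide +kernel, hm1, Int.cast_neg, Int.cast_one, neg_mul, one_mul, neg_neg]
    have ey : O f 42 (1 : K) * x 39 1 * (O f 42 1)⁻¹ = x 39 1 * (O f 43 (-1) * x 44 (-1)) := by
      rw [mul_inv_eq_iff_eq_mul, eO, e43]
      calc x 42 (1 : K) * x 37 1 * x 39 1 = x 42 1 * (x 37 1 * x 39 1) := mul_assoc _ _ _
        _ = x 42 1 * (x 39 1 * x 37 1 * x 40 1) := by rw [e37]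
        _ = x 42 1 * x 39 1 * x 40 1 * x 37 1 := by
          rw [mul_assoc (x 39 1), c3740.eq]; group
        _ = x 39 1 * x 42 1 * x 43 (-1) * x 40 1 * x 37 1 := by rw [e39]
        _ = x 39 1 * x 43 (-1) * (x 42 1 * x 40 1) * x 37 1 := by
          rw [mul_assoc (x 39 (1 : K)), c4243.eq]; group
        _ = x 39 1 * x 43 (-1) * (x 40 1 * (x 42 1 * x 44 (-1))) * x 37 1 := by rw [e40]; group
        _ = _ := by rw [c4244.eq]; group
    rw [ey, Subgroup.mul_mem_cancel_left _ h39, Subgroup.mul_mem_cancel_right _ h44] at hy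
    exact hy
  have step : ∀ {k : Fin 4} {r s : ℕ} {c : K} (e : ℤ), (r < chevE6.nroots ∧ act k r = s ∧ ew k r = e) →
      O f r c ∈ N0 q f → O f s ((e : K) * c) ∈ N0 q f := by
    rintro k r s c e ⟨h, rfl, rfl⟩ hc
    rw [← nd_O f k h]
    exact N0_conj (nd_fx hf hq hK k) hc
  have h42 := step (k := 1) (s := 42) (-1) (by decide +kernel) h43
  have h56 := step (k := 3) (s := 56) (-1) (by decide +kernel)
    (step (k := 2) (s := 57) (-1) (by decide +kernel) h42)
  simp only [Int.cast_neg, Int.cast_one, neg_mul, one_mul, neg_neg] at h42 h56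
  intro a ha
  simp only [List.mem_cons, List.not_mem_nil, or_false] at ha
  rcases ha with rfl | rfl | rfl | rfl
  · rw [hO 46 (by decide +kernel)]; exact single_N0 hf hq hK (Or.inl rfl) h1
  · rw [hO 39 (by decide +kernel)]; exact h39
  · exact h42
  · exact h56

theorem simple_orbit : ∀ i : Fin chevE6.rank, ∃ a ∈ [46, 39, 42, 56], a ∈ Lv 1 ∧ chevE6.simple i.val ∈ Lv 1 ∧
    (chevE6.simple i.val = a ∨ (qn a ≠ a ∧ chevE6.simple i.val = qn a)) ∧ sn a = 1 := by
  decide +kernel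

theorem phi_node (i : Fin chevE6.rank) : ∃ a ∈ [46, 39, 42, 56], a ∈ Lv 1 ∧
    phi (chevE6.simple i.val) (O f a (1 : K)) = 1 := by
  obtain ⟨a, ha, ha1, hi1, hcase, hsn⟩ := simple_orbit hf hq hK i
  refine ⟨a, ha, ha1, ?_⟩
  rw [phi_O hf hq hK le_rfl ha1 hi1]
  rcases hcase with e | ⟨hne, e⟩
  · rw [if_pos e]
  · rw [if_neg (by rw [e]; exact hne), if_pos e, hsn, map_one, Int.cast_one, one_mul]

/-- An element of the twisted group centralising the fixed long root elements lies in `B`. -/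
theorem mem_borel {z : GL chevE6.Idx K} (hz : z ∈ twistedE6 K q) (hcom : ∀ y ∈ N0 q f, Commute z y) :
    z ∈ chevE6.borelSubgroup K := by
  obtain ⟨u, hu, d, hd, L, v, hv, rfl⟩ := ctx.exists_nf (H53.E6T.twisted_le q hz)
  have hvp := ctx.uinv_le _ hv
  have hsimple : ∀ i, chevE6.nroots / 2 ≤ (ctx.wperm L (H53.weylForE6.data.simple i)).val := by
    intro i
    by_contra hneg
    obtain ⟨a, ha, ha1, hphi⟩ := phi_node hf hq hK i
    set y := O f a (1 : K)
    have hyN : y ∈ Nh 1 K := O_mem_Nh hf hq hK ha1 _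
    have hyU : y ∈ chevE6.posUnipotent K := pos_eq (K := K) ▸ hyN
    have hc := hcom y (node_N0 hf hq hK a ha)
    have hLY : nw K L * (v * y * v⁻¹) * (nw K L)⁻¹ ∈ chevE6.posUnipotent K := by
      have e : nw K L * (v * y * v⁻¹) * (nw K L)⁻¹ = d⁻¹ * (u⁻¹ * y * u) * d := by
        calc _ = d⁻¹ * u⁻¹ * ((u * d * nw K L * v) * y * (u * d * nw K L * v)⁻¹) * u * d := by group
          _ = _ := by rw [hc.eq, mul_inv_cancel_right]; group
      rw [e]
      have hn := H52.checkedE6.borel_inf_neg (F := K)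
      rw [H52.checkedE6.diagonalSubgroup_eq] at hd
      obtain ⟨cc, rfl⟩ := hd
      rw [← map_inv]
      have : chevE6.posUnipotent K ≤
          (chevE6.posUnipotent K).comap (MulAut.conj (H52.torus chevE6 cc⁻¹)).toMonoidHom := by
        conv_lhs => rw [pos_eq]
        refine (Subgroup.closure_le _).2 ?_
        rintro g ⟨r, t, hr, rfl⟩
        show H52.torus chevE6 cc⁻¹ * x r t * (H52.torus chevE6 cc⁻¹)⁻¹ ∈ chevE6.posUnipotent K
        rw [H52.checkedE6.torus_conj_rt _ hr.1]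
        exact H52.checkedE6.rt_mem_pos hr.2.1 hr.1 _
      have h' := this (mul_mem (mul_mem (inv_mem hu) hyU) hu)
      simpa using h'
    have hval : (H53.weylForE6.data.simple i).val = chevE6.simple i.val := H53.weylForE6.simple_eq i
    have h0 := coef_zero L (mul_mem (mul_mem hvp hyU) (inv_mem hvp)) hLY
      (a := H53.weylForE6.data.simple i)
      (by rw [hval]; exact (simple_orbit hf hq hK i).choose_spec.2.2.1) (not_le.1 hneg)
    rw [hval] at h0
    have hs1 := (simple_orbit hf hq hK i).choose_spec.2.2.1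
    obtain ⟨s1, -, s3⟩ := mem_Lv.1 hs1
    have hvN : v ∈ Nh 1 K := pos_eq (K := K) ▸ hvp
    rw [phi_mul s3 le_rfl (Nh_uni le_rfl (mul_mem hvN hyN)) (inv_mem (Nh_uni le_rfl hvN)),
      phi_mul s3 le_rfl (Nh_uni le_rfl hvN) (Nh_uni le_rfl hyN), phi_inv s3 le_rfl (Nh_uni le_rfl hvN),
      hphi] at h0
    exact one_ne_zero (α := K) (by linear_combination h0)
  have hπW := ctx.wperm_mem (F := K) L
  obtain ⟨w, hw⟩ := H53.weylForE6.perm_linear (π := ctx.wperm L) hπW
  have hpos : ∀ r : Fin chevE6.nroots, chevE6.nroots / 2 ≤ r.val → chevE6.nroots / 2 ≤ (ctx.wperm L r).val := by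
    intro r hr
    rw [← H53.weylForE6.pos_eq, ← hw, H53.weylForE6.v_decomp r, map_sum]
    intro c
    rw [Finset.sum_apply]
    refine Finset.sum_nonneg fun i _ => ?_
    rw [map_smul, hw, Pi.smul_apply, smul_eq_mul]
    exact mul_nonneg ((H53.weylForE6.pos_eq r).2 hr i) ((H53.weylForE6.pos_eq _).2 (hsimple i) c)
  have hπ1 : ctx.wperm L = 1 := (ctx.sep (F := K)).fix _ hπW hpos
  have hnw : nw K L ∈ chevE6.diagonalSubgroup K := by
    rw [← ctx.coe_nwG]
    refine (H53.mem_diag_iff H52.checkedE6 H53.weylForE6 _).2 ?_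
    have := ctx.nwG_acts (F := K) L
    rw [hπ1] at this
    exact H53.RootGroupSys.mem_H_of_acts_one (ctx.axioms (F := K)) (ctx.sep (F := K)) (ctx.nwG_mem_N L) this
  exact mul_mem (mul_mem (mul_mem (Subgroup.mem_sup_left hu) (Subgroup.mem_sup_right hd))
    (Subgroup.mem_sup_right hnw)) (Subgroup.mem_sup_left hvp)

theorem w0_fx : nw K L0 ∈ Fxd q f := by
  rw [L0, nw_nodes]
  refine list_prod_mem fun g hg => ?_
  obtain ⟨k, -, rfl⟩ := List.mem_map.1 hg
  exact nd_fx hf hq hK k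

/-- The twisted group has no nontrivial element centralising all fixed long root elements. -/
theorem eq_one_of_comm {z : GL chevE6.Idx K} (hz : z ∈ twistedE6 K q)
    (hcom : ∀ y ∈ N0 q f, Commute z y) : z = 1 := by
  set w0 := nw K L0
  have hw0 := w0_fx hf hq hK
  have hB := mem_borel hf hq hK hz hcom
  have hB' : w0 * z * w0⁻¹ ∈ chevE6.borelSubgroup K := by
    refine mem_borel hf hq hK (mul_mem (mul_mem ((mem_Fxd f).1 hw0).1 hz) (inv_mem ((mem_Fxd f).1 hw0).1))
      fun y hy => ?_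
    have h := hcom (w0⁻¹ * y * w0⁻¹⁻¹) (N0_conj (inv_mem hw0) hy)
    show w0 * z * w0⁻¹ * y = y * (w0 * z * w0⁻¹)
    calc w0 * z * w0⁻¹ * y = w0 * (z * (w0⁻¹ * y * w0⁻¹⁻¹)) * w0⁻¹ := by group
      _ = _ := by rw [h.eq]; group
  obtain ⟨u, hu, cc, rfl⟩ := H52.checkedE6.mem_borel_iff.1 hB
  have hw0N : w0 ∈ chevE6.monomialSubgroup K := by
    show nw K L0 ∈ _
    rw [← ctx.coe_nwG]
    exact (H53.mem_monomial_iff H52.checkedE6 H53.weylForE6 H53.E6T.ok _).2 (ctx.nwG_mem_N L0)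
  have htor : w0 * H52.torus chevE6 cc * w0⁻¹ ∈ chevE6.diagonalSubgroup K :=
    (Subgroup.mem_normalizer_iff.1 (H52.checkedE6.monomial_le_normalizer hw0N) _).1
      (by rw [H52.checkedE6.diagonalSubgroup_eq]; exact ⟨cc, rfl⟩)
  have hu1 : u = 1 := by
    have h : w0 * u * w0⁻¹ ∈ chevE6.borelSubgroup K ⊓ chevE6.negUnipotent K := by
      refine ⟨?_, w0_conj hu⟩
      have := mul_mem hB' (inv_mem (Subgroup.mem_sup_right htor : _ ∈ chevE6.borelSubgroup K))
      rwa [show w0 * (u * H52.torus chevE6 cc) * w0⁻¹ * (w0 * H52.torus chevE6 cc * w0⁻¹)⁻¹ =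
        w0 * u * w0⁻¹ by group] at this
    rw [H52.checkedE6.borel_inf_neg, Subgroup.mem_bot, conj_eq_one_iff] at h
    exact h
  subst hu1
  rw [one_mul] at hcom ⊢
  refine H53.torus_eq_one H52.checkedE6 fun j => ?_
  obtain ⟨a, ha, ha1, hphi⟩ := phi_node hf hq hK j
  set χ : ℕ → Kˣ := fun r => ∏ i : Fin chevE6.rank, cc i ^ chevE6.cartan i.val r
  show χ (chevE6.simple j.val) = 1
  obtain ⟨-, -, hj1, -⟩ := (simple_orbit hf hq hK j).choose_spec
  obtain ⟨j1, -, j3⟩ := mem_Lv.1 (show chevE6.simple j.val ∈ Lv 1 from hj1)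
  have key : ∀ g, g ∈ Nh 1 K → phi (chevE6.simple j.val) (H52.torus chevE6 cc * g * (H52.torus chevE6 cc)⁻¹) =
      (χ (chevE6.simple j.val) : K) * phi (chevE6.simple j.val) g ∧
      H52.torus chevE6 cc * g * (H52.torus chevE6 cc)⁻¹ ∈ Nh 1 K := by
    intro g hg
    induction hg using Subgroup.closure_induction with
    | mem g hg =>
      obtain ⟨r, t, hr, rfl⟩ := hg
      rw [H52.checkedE6.torus_conj_rt cc hr.1, phi_rt j1 hr.1, phi_rt j1 hr.1]
      refine ⟨?_, H52.rt_mem_genBy hr _⟩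
      by_cases e : chevE6.simple j.val = r
      · simp [e, χ]
      · simp [e]
    | one => simp [phi_one, one_mem]
    | mul g g' hg hg' h h' =>
      rw [show H52.torus chevE6 cc * (g * g') * (H52.torus chevE6 cc)⁻¹ =
        (H52.torus chevE6 cc * g * (H52.torus chevE6 cc)⁻¹) *
          (H52.torus chevE6 cc * g' * (H52.torus chevE6 cc)⁻¹) by group]
      refine ⟨?_, mul_mem h.2 h'.2⟩
      rw [phi_mul j3 le_rfl (Nh_uni le_rfl h.2) (Nh_uni le_rfl h'.2), h.1, h'.1,
        phi_mul j3 le_rfl (Nh_uni le_rfl hg) (Nh_uni le_rfl hg'), mul_add]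
    | inv g hg h =>
      rw [show H52.torus chevE6 cc * g⁻¹ * (H52.torus chevE6 cc)⁻¹ =
        (H52.torus chevE6 cc * g * (H52.torus chevE6 cc)⁻¹)⁻¹ by group]
      refine ⟨?_, inv_mem h.2⟩
      rw [phi_inv j3 le_rfl (Nh_uni le_rfl h.2), h.1, phi_inv j3 le_rfl (Nh_uni le_rfl hg), mul_neg]
  have h := (key _ (O_mem_Nh hf hq hK ha1 (1 : K))).1
  rw [(hcom _ (node_N0 hf hq hK a ha)).eq, mul_inv_cancel_right, hphi, mul_one] at h
  exact Units.ext h.symm

theorem Lng_form {y : GL chevE6.Idx K} (hy : Lng q f y) :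
    ∃ v ∈ Nh 1 K, v ∈ twistedE6 K q ∧ ∃ r, r < chevE6.nroots ∧ qn r = r ∧
      ∃ t : K, f t = t ∧ y = v * x r t * v⁻¹ := by
  obtain ⟨g, hg, t, ht, rfl⟩ := hy
  have h71 : (71 : ℕ) < chevE6.nroots := by decide +kernel
  by_cases ht0 : t = 0
  · exact ⟨1, one_mem _, one_mem _, 71, h71, by decide +kernel, t, ht, by simp [ht0, H52.checkedE6.rt_zero]⟩
  obtain ⟨P, hPB, hPN⟩ := H53.E6T.exists_pair hq hK
  obtain ⟨n, hn, hgn⟩ := H56.exists_cell_N P ⟨g, hg⟩
  obtain ⟨b, hb, c, hc, he⟩ := (H56.mem_cell P).1 hgn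
  rw [hPB, Subgroup.mem_subgroupOf, Subgroup.mem_inf] at hb hc
  rw [hPN, Subgroup.mem_subgroupOf, Subgroup.mem_inf] at hn
  replace he : g = (b : GL chevE6.Idx K) * n * c := congrArg Subtype.val he
  obtain ⟨u', hu', cc, hcc⟩ := H52.checkedE6.mem_borel_iff.1 hc.1
  set χ : K := ((∏ i : Fin chevE6.rank, cc i ^ chevE6.cartan i.val 71 : Kˣ) : K)
  have h1 : (c : GL chevE6.Idx K) * x 71 t * (c : GL chevE6.Idx K)⁻¹ = x 71 (χ * t) := by
    rw [hcc, show ∀ a d : GL chevE6.Idx K, a * d * x 71 t * (a * d)⁻¹ = a * (d * x 71 t * d⁻¹) * a⁻¹ from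
      fun a d => by group, H52.checkedE6.torus_conj_rt cc h71,
      (comm_top (pos_eq (K := K) ▸ hu') _).eq, mul_inv_cancel_right]
  obtain ⟨s, t', h2⟩ := mono_conj hn.1 ⟨71, h71⟩ (χ * t)
  let b0 : ↥(chevE6.group K) := ⟨b, H53.E6T.twisted_le q hb.2⟩
  obtain ⟨u0, hu0, hu0G, h0, hh0, hh0G, hb0⟩ := H53.TwistData.split_B (hyp hf hq hK) (b := b0)
    ((H53.mem_borel_iff H52.checkedE6 H53.weylForE6 b0).1 hb.1) hb.2
  have hh0d : (h0 : GL chevE6.Idx K) ∈ chevE6.diagonalSubgroup K :=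
    (H53.mem_diag_iff H52.checkedE6 H53.weylForE6 h0).2 hh0
  rw [H52.checkedE6.diagonalSubgroup_eq] at hh0d
  obtain ⟨c0, hc0⟩ := hh0d
  set t'' : K := ((∏ i : Fin chevE6.rank, c0 i ^ chevE6.cartan i.val s.val : Kˣ) : K) * t'
  have hu0p : (u0 : GL chevE6.Idx K) ∈ chevE6.posUnipotent K :=
    (H53.mem_pos_iff H52.checkedE6 H53.weylForE6 u0).2 hu0
  have hb0' : (b : GL chevE6.Idx K) = u0 * H52.torus chevE6 c0 := by
    rw [hc0]; exact congrArg Subtype.val hb0
  have hy : g * x 71 t * g⁻¹ = u0 * x s.val t'' * (u0 : GL chevE6.Idx K)⁻¹ := by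
    rw [he, show ∀ a d e z : GL chevE6.Idx K, a * d * e * z * (a * d * e)⁻¹ = a * (d * (e * z * e⁻¹) * d⁻¹) * a⁻¹
      from fun a d e z => by group, h1, h2, hb0',
      show ∀ a d z : GL chevE6.Idx K, a * d * z * (a * d)⁻¹ = a * (d * z * d⁻¹) * a⁻¹ from fun a d z => by group,
      H52.checkedE6.torus_conj_rt c0 s.isLt]
  have h71fx : x 71 t ∈ twistedE6 K q := by
    have := (O_fx hf hq hK (m := 11) (r := 71) (by decide +kernel) ht).1
    rwa [O, if_pos (by decide +kernel)] at this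
  have hxs : x s.val t'' ∈ twistedE6 K q := by
    have e : x s.val t'' = (u0 : GL chevE6.Idx K)⁻¹ * (g * x 71 t * g⁻¹) * u0 := by rw [hy]; group
    rw [e]
    exact mul_mem (mul_mem (inv_mem hu0G) (mul_mem (mul_mem hg h71fx) (inv_mem hg))) hu0G
  have ht'' : t'' ≠ 0 := by
    intro h
    rw [h, H52.checkedE6.rt_zero, mul_one, mul_inv_cancel, conj_eq_one_iff] at hy
    exact ht0 (H52.checkedE6.rt_injective h71 (hy.trans (H52.checkedE6.rt_zero _).symm))
  have hfix := congrArg (fun z : ↥(chevE6.group K) => (z : GL chevE6.Idx K))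
    (fix_of_mem hf hq hK (g := ⟨x s.val t'', H53.E6T.twisted_le q hxs⟩) hxs)
  simp only at hfix
  rw [tau_rt hf s.isLt (g := ⟨x s.val t'', H53.E6T.twisted_le q hxs⟩) rfl] at hfix
  obtain ⟨hlt, -, -, -, hsn, -⟩ := qn_pos s.val s.isLt
  obtain ⟨hqs, heq⟩ := ctx.rt_eq_rt s.isLt hlt ht'' hfix.symm
  refine ⟨u0, pos_eq (K := K) ▸ hu0p, hu0G, s.val, s.isLt, hqs.symm, t'', ?_, hy⟩
  rw [hsn hqs.symm, Int.cast_one, one_mul] at heq
  exact heq.symm

end H58.E6Sub
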