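import Cfsg.Agent.H58.E6SubMax

/-!
An overgroup of F₄(q) in ²E₆(q) with an irrational short root element is everything.
-/

set_option autoImplicit false
set_option linter.unusedSectionVars false

open Cfsg.Lie
open scoped MatrixGroups

namespace H58.E6Sub

variable {K : Type*} [Field K] {f : K ≃+* K}

local notation "x" => H52.rt chevE6
local notation "qn" => H53.BasisSym.qn H53.e6Sym
local notation "sn" => H53.BasisSym.sn H53.e6Sym
local notation "σ" => H54.glF chevE6 (RingHomClass.toRingHom f)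

variable {q : ℕ} (hf : Frob q f) [Fintype K] (hq : IsPrimePow q) (hK : Fintype.card K = q ^ 2)
include hf hq hK

variable {H : Subgroup (GL chevE6.Idx K)} (hH : Fxd q f ≤ H)
include hH

/-- The nodes move orbit elements inside `H`. -/
theorem move (k : Fin 4) {r : ℕ} (hr : r < chevE6.nroots) {c : K} (h : O f r c ∈ H) :
    O f (act k r) ((ew k r : K) * c) ∈ H := by
  rw [← nd_O f k hr]
  exact mul_mem (mul_mem (hH (nd_fx hf hq hK k)) h) (inv_mem (hH (nd_fx hf hq hK k)))

/-- An irrational element reaches the short simple root. -/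
theorem irr_42 (hirr : Irr f H) : ∃ c, f c ≠ c ∧ O f 42 c ∈ H := by
  obtain ⟨c, hc, h⟩ := hirr
  have key : ∀ L : List (Fin 4), ∀ r < chevE6.nroots, ∀ c, f c ≠ c → O f r c ∈ H →
      ∃ c', f c' ≠ c' ∧ O f (L.foldl (fun r k => act k r) r) c' ∈ H := by
    intro L
    induction L with
    | nil => exact fun r _ c hc h => ⟨c, hc, h⟩
    | cons k L ih =>
      intro r hr c hc h
      refine ih (act k r) (node_table k r hr).1 _ ?_ (move hf hq hK hH k hr h)
      rw [map_mul, map_intCast]
      intro e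
      rcases (node_table k r hr).2.2.2.2.1 with e' | e' <;> rw [e'] at e <;> simp at e <;> exact hc e
  obtain ⟨c', hc', h'⟩ := key [2, 3, 1, 0, 2, 3, 1, 2] 66 (by decide +kernel) c hc h
  exact ⟨c', hc', by rwa [show ([2, 3, 1, 0, 2, 3, 1, 2] : List (Fin 4)).foldl (fun r k => act k r) 66 = 42 by
    decide +kernel] at h'⟩

/-- The torus of `F₄(q)` scales the short simple root by any rational number. -/
theorem scale {k c : K} (hk : f k = k) (h : O f 42 c ∈ H) : O f 42 (k * c) ∈ H := by
  by_cases hk0 : k = 0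
  · rw [hk0, zero_mul, O_zero]; exact one_mem _
  set u : Kˣ := (Units.mk0 k hk0)⁻¹
  have hu : f (u : K) = u := by simp [u, map_inv₀, hk]
  have hnfx : ∀ {t : K}, f t = t → H52.nElt chevE6 39 t ∈ Fxd q f := by
    intro t ht
    have h1 := single_fx hf hq (r := 39) (by decide) ht
    have h2 := single_fx hf hq (r := 32) (by decide) (t := -t⁻¹) (by rw [map_neg, map_inv₀, ht])
    rw [H52.Checked.nElt_eq, show chevE6.neg 39 = 32 by decide +kernel]
    exact mul_mem (mul_mem h1 h2) h1
  have hh : H52.hElt chevE6 39 (u : K) ∈ Fxd q f := by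
    rw [H52.Checked.hElt_eq]
    exact mul_mem (hnfx hu) (hnfx (by rw [map_neg, map_one]))
  have h39 : (39 : ℕ) < chevE6.nroots := by decide +kernel
  have hχ : ∀ r : ℕ, chevE6.cartan 3 r = -1 →
      (∏ i : Fin chevE6.rank, (u ^ H52.crt chevE6 39 i.val) ^ chevE6.cartan i.val r) = u⁻¹ := by
    intro r hr
    have hc : ∀ i : Fin chevE6.rank, H52.crt chevE6 39 i.val = if i.val = 3 then 1 else 0 := by
      intro i
      rw [← H52.checkedE6.crt_simple (i := 3) (by decide) i.isLt,
        show chevE6.simple 3 = 39 by decide +kernel]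
    rw [Finset.prod_eq_single (⟨3, by decide⟩ : Fin chevE6.rank)]
    · rw [hc, if_pos rfl, zpow_one]
      show u ^ chevE6.cartan 3 r = u⁻¹
      rw [hr, zpow_neg, zpow_one]
    · intro b _ hb
      rw [hc, if_neg fun e => hb (Fin.ext e), zpow_zero, one_zpow]
    · simp
  have hconj : ∀ {r : ℕ}, r < chevE6.nroots → chevE6.cartan 3 r = -1 → ∀ t : K,
      H52.hElt chevE6 39 (u : K) * x r t * (H52.hElt chevE6 39 (u : K))⁻¹ = x r (k * t) := by
    intro r hr hr' t
    rw [H52.checkedE6.hElt_eq_torus h39, H52.checkedE6.torus_conj_rt _ hr, hχ r hr']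
    simp [u]
  have e : H52.hElt chevE6 39 (u : K) * O f 42 c * (H52.hElt chevE6 39 (u : K))⁻¹ = O f 42 (k * c) := by
    rw [O, O, if_neg (by decide +kernel), if_neg (by decide +kernel),
      show qn 42 = 37 by decide +kernel,
      show ∀ n a b : GL chevE6.Idx K, n * (a * b) * n⁻¹ = (n * a * n⁻¹) * (n * b * n⁻¹) from
        fun n a b => by group, hconj (by decide +kernel) (by decide +kernel),
      hconj (by decide +kernel) (by decide +kernel), map_mul, hk, mul_left_comm]
  rw [← e]
  exact mul_mem (mul_mem (hH hh) h) (inv_mem (hH hh))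

theorem twisted_le_of_irr (hirr : Irr f H) : twistedE6 K q ≤ H := by
  classical
  obtain ⟨c, hc, h42⟩ := irr_42 hf hq hK hH hirr
  let R := {t : K // f t = t}
  let Φ : R × R → K := fun z => z.1.1 + z.2.1 * c
  have hinj : Function.Injective Φ := by
    rintro ⟨⟨a, ha⟩, ⟨b, hb⟩⟩ ⟨⟨a', ha'⟩, ⟨b', hb'⟩⟩ h
    replace h : a + b * c = a' + b' * c := h
    have h' : a + b * f c = a' + b' * f c := by
      have := congrArg f h
      simpa [map_add, map_mul, ha, hb, ha', hb'] using this
    have hbb : (b - b') * (f c - c) = 0 := by linear_combination h' - h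
    obtain rfl := sub_eq_zero.1 ((mul_eq_zero.1 hbb).resolve_right (sub_ne_zero.2 hc))
    obtain rfl := add_right_cancel h
    rfl
  have hR : Fintype.card R = q := by
    rw [← Nat.card_eq_fintype_card, Nat.card_congr (Equiv.subtypeEquivRight fun t => by rw [hf.eq])]
    exact H53.card_pow_fixed hq.one_lt hK
  have hbij : Function.Bijective Φ := (Fintype.bijective_iff_injective_and_card Φ).2
    ⟨hinj, by simp only [Fintype.card_prod, hR, hK]; ring⟩
  have h42r : (42 : ℕ) < chevE6.nroots := by decide +kernel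
  have hall : ∀ t, O f 42 t ∈ H := by
    intro t
    obtain ⟨⟨⟨a, ha⟩, ⟨b, hb⟩⟩, rfl⟩ := hbij.2 t
    show O f 42 (a + b * c) ∈ H
    rw [← O_mul f h42r]
    exact mul_mem (hH (O_fx hf hq hK (m := 1) (by decide +kernel) ha)) (scale hf hq hK hH hb h42)
  have mv : ∀ {k : Fin 4} {r s : ℕ}, r < chevE6.nroots → act k r = s → (∀ t, O f r t ∈ H) →
      ∀ t, O f s t ∈ H := by
    intro k r s hr hs h t
    subst hs
    have := move hf hq hK hH k hr (h ((ew k r : K) * t))
    rcases (node_table k r hr).2.2.2.2.1 with e | e <;> simpa [e] using this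
  have h57 := mv (k := 2) (s := 57) h42r (by decide +kernel) hall
  have h56 := mv (k := 3) (s := 56) (by decide +kernel) (by decide +kernel) h57
  have h15 := mv (k := 2) (s := 15) (by decide +kernel) (by decide +kernel) h56
  have h29 := mv (k := 3) (s := 29) h42r (by decide +kernel) hall
  refine (Subgroup.closure_le _).2 fun g hg => ?_
  rcases H53.E6T.gen_eq hg with ⟨r, hr, t, ht, rfl⟩ | ⟨ab, hab, t, rfl⟩
  · exact hH (single_fx hf hq hr (by rw [hf.eq, ht]))
  · obtain ⟨hq1, hq2, hq3⟩ := (show ∀ ab ∈ [((56 : ℕ), (36 : ℕ)), (15, 35), (42, 37), (29, 34)],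
      qn ab.1 = ab.2 ∧ sn ab.1 = 1 ∧ ab.1 ≠ ab.2 by decide +kernel) ab hab
    have e : x ab.1 t * x ab.2 (t ^ q) = O f ab.1 t := by
      rw [O, if_neg (by rw [hq1]; exact hq3.symm), hq1, hq2, Int.cast_one, one_mul, hf.eq]
    rw [SetLike.mem_coe, e]
    simp only [List.mem_cons, List.not_mem_nil, or_false] at hab
    rcases hab with rfl | rfl | rfl | rfl
    · exact h56 t
    · exact h15 t
    · exact hall t
    · exact h29 t

omit hH in
theorem σ_mem {g : GL chevE6.Idx K} (hg : g ∈ twistedE6 K q) : σ g ∈ twistedE6 K q := by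
  refine (show twistedE6 K q ≤ (twistedE6 K q).comap (H54.glF chevE6 (f : K →+* K)) from
    (Subgroup.closure_le _).2 fun z hz => ?_) hg
  show σ z ∈ twistedE6 K q
  rcases H53.E6T.gen_eq hz with ⟨r, hr, t, ht, rfl⟩ | ⟨⟨a, b⟩, hab, t, rfl⟩
  · rw [σ_rt]
    exact H53.E6T.single_mem hr (by rw [← map_pow, ht])
  · rw [map_mul, σ_rt, σ_rt, map_pow]
    exact H53.E6T.pair_mem (qq hf) hab (f t)

/-- F₄(q) is maximal. -/
theorem maximal (hle : H ≤ twistedE6 K q) : H = Fxd q f ∨ H = twistedE6 K q := by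
  by_cases hall : ∀ y ∈ H, Lng q f y → σ y = y
  · left
    refine le_antisymm (fun h hh => (mem_Fxd f).2 ⟨hle hh, ?_⟩) hH
    have hz : h⁻¹ * σ h = 1 := by
      refine eq_one_of_comm hf hq hK (mul_mem (inv_mem (hle hh)) (σ_mem hf hq hK (hle hh))) fun y hy => ?_
      suffices hs : N0 q f ≤ Subgroup.centralizer {h⁻¹ * σ h} from
        (Subgroup.mem_centralizer_singleton_iff.1 (hs hy)).symm
      refine (Subgroup.closure_le _).2 ?_
      rintro y ⟨hy, hσ⟩
      have hσ' : σ y = y := hσ
      have hyG : y ∈ twistedE6 K q := by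
        obtain ⟨g, hg, t, ht, rfl⟩ := hy
        have h71 := (O_fx hf hq hK (m := 11) (r := 71) (by decide +kernel) ht).1
        rw [O, if_pos (by decide +kernel)] at h71
        exact mul_mem (mul_mem hg h71) (inv_mem hg)
      have hyH : y ∈ H := hH ⟨hyG, hσ⟩
      have h1 := hall _ (mul_mem (mul_mem hh hyH) (inv_mem hh)) (Lng_conj (hle hh) hy)
      rw [map_mul, map_mul, map_inv, hσ'] at h1
      rw [SetLike.mem_coe, Subgroup.mem_centralizer_singleton_iff]
      symm
      calc h⁻¹ * σ h * y = h⁻¹ * (σ h * y * (σ h)⁻¹) * σ h := by group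
        _ = _ := by rw [h1]; group
    exact (inv_mul_eq_one.1 hz).symm
  · right
    push Not at hall
    obtain ⟨y, hy, hl, hne⟩ := hall
    obtain ⟨v, hv, hvt, r, hr, hrr, t, ht, rfl⟩ := Lng_form hf hq hK hl
    exact le_antisymm hle (twisted_le_of_irr hf hq hK hH
      ((long_cases hf hq hK hH _ r hr hrr rfl v hv hvt t ht hy).resolve_left hne))

omit hH in
theorem fxd_ne : Fxd q f ≠ twistedE6 K q := by
  intro h
  have h42 : (42 : ℕ) ∈ Lv 1 := by decide +kernel
  have hall : ∀ t : K, t ^ q = t := by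
    intro t
    have h0 := (O_mem_pos hf hq hK (r := 42) (by decide +kernel) (by decide +kernel) (c := t)
      (fun e => absurd e (by decide +kernel))).1
    rw [← h, mem_Fxd, σ_O] at h0
    have := congrArg (phi 42) h0.2
    rw [phi_O hf hq hK le_rfl h42 h42, phi_O hf hq hK le_rfl h42 h42, if_pos rfl, if_pos rfl] at this
    rwa [← hf.eq]
  have hc := H53.card_pow_fixed hq.one_lt hK
  rw [Nat.card_congr (Equiv.subtypeUnivEquiv hall), Nat.card_eq_fintype_card, hK] at hc
  exact absurd hc (Nat.ne_of_gt (by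
    calc q = q ^ 1 := (pow_one q).symm
      _ < q ^ 2 := Nat.pow_lt_pow_right hq.one_lt (by norm_num)))

end H58.E6Sub
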