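import Cfsg.Agent.H58.ChevMixed
import Cfsg.Agent.H54.CentralG2

/-!
Centralisers in `F₄` over a field of characteristic two of the involutions
`x_47(1) x_44(1)` and `x_39(1) x_45(1)`.
-/

set_option autoImplicit false
set_option linter.unusedSectionVars false

open Cfsg.Lie
open scoped MatrixGroups

namespace H58

namespace F4Mixed

open H54 H54.Ctx ChevMixed

variable (C : H54.Ctx chevF4) {F : Type*} [Field F]

/-- The six roots whose elements occur in the orbit of `x_39(1) x_45(1)` under `U`. -/
def sixList : List ℕ := [39, 40, 44, 45, 46, 47]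

/-- The product of root elements for the six roots. -/
noncomputable def six (p a b o c d : F) : GL chevF4.Idx F :=
  H52.rt chevF4 39 p * (H52.rt chevF4 40 a * (H52.rt chevF4 44 b *
    (H52.rt chevF4 45 o * (H52.rt chevF4 46 c * H52.rt chevF4 47 d))))

/-- The coefficients of `six`. -/
def sixFun (p a b o c d : F) (r : ℕ) : F :=
  if r = 39 then p else if r = 40 then a else if r = 44 then b else if r = 45 then o
  else if r = 46 then c else if r = 47 then d else 0

theorem sixFun_mem {p a b o c d : F} {r : ℕ} (h : sixFun p a b o c d r ≠ 0) : r ∈ sixList := by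
  simp only [sixFun] at h
  simp only [sixList, List.mem_cons, List.not_mem_nil, or_false]
  split_ifs at h <;> first | omega | exact absurd rfl h

include C in
theorem six_eq (p a b o c d : F) :
    six p a b o c d = H52.upProd chevF4 24 (sixFun p a b o c d) := by
  simp [six, H52.upProd, H52.wordRt, sixFun, show chevF4.nroots = 48 from rfl, List.range'_succ,
    C.hC.rt_zero]

include C in
theorem six_inj {p a b o c d p' a' b' o' c' d' : F} (h : six p a b o c d = six p' a' b' o' c' d') :
    p = p' ∧ a = a' ∧ b = b' ∧ o = o' ∧ c = c' ∧ d = d' := by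
  rw [six_eq C, six_eq C] at h
  have h2 := C.hC.upProd_injective (by decide) h
  exact ⟨by simpa [sixFun] using h2 39 (by norm_num) (by decide),
    by simpa [sixFun] using h2 40 (by norm_num) (by decide),
    by simpa [sixFun] using h2 44 (by norm_num) (by decide),
    by simpa [sixFun] using h2 45 (by norm_num) (by decide),
    by simpa [sixFun] using h2 46 (by norm_num) (by decide),
    by simpa [sixFun] using h2 47 (by norm_num) (by decide)⟩

theorem six_comm_check :
    ∀ r ∈ sixList, ∀ s ∈ sixList, evenComm chevF4 r s = true := by decide +kernel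

variable [CharP F 2]

include C in
theorem six_commute {r s : ℕ} (hr : r ∈ sixList) (hs : s ∈ sixList) (t u : F) :
    Commute (H52.rt chevF4 r t) (H52.rt chevF4 s u) := by
  have hlt : ∀ q ∈ sixList, q < chevF4.nroots := by decide
  exact C.commute_of_evenComm (hlt r hr) (hlt s hs) (six_comm_check r hr s hs) t u

include C in
/-- A monomial conjugate of `six` which is again `six` sends support into support. -/
theorem six_support (c : Fin chevF4.rank → Fˣ) (L : List (Fin chevF4.rank))
    {p a b o c₁ d p' a' b' o' c' d' : F}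
    (he : H52.torus chevF4 c * nw chevF4 F L * six p a b o c₁ d *
      (H52.torus chevF4 c * nw chevF4 F L)⁻¹ = six p' a' b' o' c' d') :
    ∀ r : Fin chevF4.nroots, sixFun p a b o c₁ d r.val ≠ 0 →
      sixFun p' a' b' o' c' d' (C.wperm L r).val ≠ 0 := by
  classical
  intro r hr
  set s : Finset (Fin chevF4.nroots) := Finset.univ.filter fun q => q.val ∈ sixList with hs
  have hmem : ∀ q ∈ s, q.val ∈ sixList := fun q hq => (Finset.mem_filter.1 hq).2
  have h24 : ∀ q ∈ sixList, chevF4.nroots / 2 ≤ q := by decide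
  set f : Fin chevF4.nroots → F := fun q => sixFun p a b o c₁ d q.val with hf
  have hcm : (s : Set (Fin chevF4.nroots)).Pairwise
      (Function.onFun Commute fun q => H52.rt chevF4 q.val (f q)) :=
    fun x hx y hy _ => six_commute C (hmem x hx) (hmem y hy) _ _
  have hprod : s.noncommProd (fun q => H52.rt chevF4 q.val (f q)) hcm = six p a b o c₁ d := by
    rw [noncommProd_eq_upProd C (fun q : Fin chevF4.nroots => q.val) f 24 s
      (fun q hq => ⟨h24 _ (hmem q hq), q.isLt⟩) (fun x _ y _ h => Fin.ext h) hcm, six_eq C]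
    refine H52.Checked.upProd_congr fun q _ hq2 => ?_
    by_cases hq : q ∈ sixList
    · rw [Finset.sum_eq_single ⟨q, hq2⟩
        (fun x hx hne => absurd (Fin.ext (Finset.mem_filter.1 hx).2) hne)
        (fun h => (h (Finset.mem_filter.2
          ⟨Finset.mem_filter.2 ⟨Finset.mem_univ _, hq⟩, rfl⟩)).elim)]
    · rw [Finset.sum_eq_zero fun x hx => ?_]
      · by_contra hne
        exact hq (sixFun_mem (Ne.symm hne))
      · exact absurd ((Finset.mem_filter.1 hx).2 ▸ hmem x (Finset.mem_filter.1 hx).1) hq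
  have h := image_support C (n := H52.torus chevF4 c * nw chevF4 F L) (π := C.wperm L) (s := s)
    (fun q hq => h24 _ (hmem q hq)) f hcm (fun q z => conj_monomial C c L q z)
    (sixFun p' a' b' o' c' d') (by rw [hprod, he, six_eq C]; rfl) r
    (Finset.mem_filter.2 ⟨Finset.mem_univ _, sixFun_mem hr⟩) hr
  exact h.2

/-- The positive roots moving some root of `sixList`, with the root they move. -/
def moved (r : ℕ) : ℕ :=
  if r = 25 ∨ r = 26 then 45 else if r = 27 ∨ r = 34 then 39 else if r = 24 then 46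
  else if r = 33 then 40 else 0

theorem conj_check : ∀ r ∈ List.range' 24 24, ∀ s ∈ sixList,
    s = moved r ∨ evenComm chevF4 r s = true := by decide +kernel

include C in
theorem conj_fix {r s : ℕ} (hr : r ∈ List.range' 24 24) (hs : s ∈ sixList) (hne : s ≠ moved r)
    (t u : F) :
    H52.rt chevF4 r t * H52.rt chevF4 s u * (H52.rt chevF4 r t)⁻¹ = H52.rt chevF4 s u := by
  refine C.conj_even ?_ ?_ ((conj_check r hr s hs).resolve_left hne) t u
  · rw [List.mem_range'_1] at hr; exact hr.2
  · have : ∀ q ∈ sixList, q < chevF4.nroots := by decide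
    exact this s hs

omit [CharP F 2] in
theorem conj_six (g : GL chevF4.Idx F) (p a b o c d : F) :
    g * six p a b o c d * g⁻¹ = (g * H52.rt chevF4 39 p * g⁻¹) * ((g * H52.rt chevF4 40 a * g⁻¹) *
      ((g * H52.rt chevF4 44 b * g⁻¹) * ((g * H52.rt chevF4 45 o * g⁻¹) *
      ((g * H52.rt chevF4 46 c * g⁻¹) * (g * H52.rt chevF4 47 d * g⁻¹))))) := by
  rw [six]; group

include C in
/-- A positive root element fixes the six roots other than the one it moves. -/
theorem conj_other {r : ℕ} (hr : r ∈ List.range' 24 24) (h0 : moved r = 0) (t p a b o c d : F) :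
    H52.rt chevF4 r t * six p a b o c d * (H52.rt chevF4 r t)⁻¹ = six p a b o c d := by
  have h6 : ∀ s ∈ sixList, s ≠ moved r := by rw [h0]; decide
  rw [conj_six, conj_fix C hr (by decide) (h6 39 (by decide)),
    conj_fix C hr (by decide) (h6 40 (by decide)), conj_fix C hr (by decide) (h6 44 (by decide)),
    conj_fix C hr (by decide) (h6 45 (by decide)), conj_fix C hr (by decide) (h6 46 (by decide)),
    conj_fix C hr (by decide) (h6 47 (by decide))]
  rfl

include C in
theorem conj_24 (t p a b o c d : F) :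
    H52.rt chevF4 24 t * six p a b o c d * (H52.rt chevF4 24 t)⁻¹ =
      six p a b o c (d + t * c) := by
  have h := fun s hs hne u => conj_fix C (r := 24) (s := s) (by decide) hs hne t u
  rw [conj_six, h 39 (by decide) (by decide), h 40 (by decide) (by decide),
    h 44 (by decide) (by decide), h 45 (by decide) (by decide), h 47 (by decide) (by decide),
    C.conj_single (r := 24) (s := 46) (k := 47) (m := 1) (by decide) (by decide) (by decide)
      (by decide +kernel) (by decide) (by decide +kernel) (by decide) (by decide +kernel),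
    mul_assoc (H52.rt chevF4 46 c), C.hC.rt_mul, add_comm (t * c), six]

include C in
theorem conj_25 (t p a b o c d : F) :
    H52.rt chevF4 25 t * six p a b o c d * (H52.rt chevF4 25 t)⁻¹ =
      six p a b o (c + t * o) d := by
  have h := fun s hs hne u => conj_fix C (r := 25) (s := s) (by decide) hs hne t u
  rw [conj_six, h 39 (by decide) (by decide), h 40 (by decide) (by decide),
    h 44 (by decide) (by decide), h 46 (by decide) (by decide), h 47 (by decide) (by decide),
    C.conj_single (r := 25) (s := 45) (k := 46) (m := 1) (by decide) (by decide) (by decide)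
      (by decide +kernel) (by decide) (by decide +kernel) (by decide) (by decide +kernel),
    mul_assoc (H52.rt chevF4 45 o), ← mul_assoc (H52.rt chevF4 46 (t * o)), C.hC.rt_mul,
    add_comm (t * o), six]

include C in
theorem conj_26 (t p a b o c d : F) :
    H52.rt chevF4 26 t * six p a b o c d * (H52.rt chevF4 26 t)⁻¹ =
      six p a b o c (d + t * o) := by
  have h := fun s hs hne u => conj_fix C (r := 26) (s := s) (by decide) hs hne t u
  rw [conj_six, h 39 (by decide) (by decide), h 40 (by decide) (by decide),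
    h 44 (by decide) (by decide), h 46 (by decide) (by decide), h 47 (by decide) (by decide),
    C.conj_single (r := 26) (s := 45) (k := 47) (m := 1) (by decide) (by decide) (by decide)
      (by decide +kernel) (by decide) (by decide +kernel) (by decide) (by decide +kernel),
    mul_assoc (H52.rt chevF4 45 o),
    (six_commute C (r := 47) (s := 46) (by decide) (by decide) (t * o) c).left_comm,
    C.hC.rt_mul, add_comm (t * o), six]

include C in
theorem conj_27 (t p a b o c d : F) :
    H52.rt chevF4 27 t * six p a b o c d * (H52.rt chevF4 27 t)⁻¹ =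
      six p (a + t * p) b o c d := by
  have h := fun s hs hne u => conj_fix C (r := 27) (s := s) (by decide) hs hne t u
  rw [conj_six, h 45 (by decide) (by decide), h 40 (by decide) (by decide),
    h 44 (by decide) (by decide), h 46 (by decide) (by decide), h 47 (by decide) (by decide),
    C.conj_single (r := 27) (s := 39) (k := 40) (m := 1) (by decide) (by decide) (by decide)
      (by decide +kernel) (by decide) (by decide +kernel) (by decide) (by decide +kernel),
    mul_assoc (H52.rt chevF4 39 p), ← mul_assoc (H52.rt chevF4 40 (t * p)), C.hC.rt_mul,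
    add_comm (t * p), six]

include C in
theorem conj_33 (t p a b o c d : F) :
    H52.rt chevF4 33 t * six p a b o c d * (H52.rt chevF4 33 t)⁻¹ =
      six p a (b + t * a) o c d := by
  have h := fun s hs hne u => conj_fix C (r := 33) (s := s) (by decide) hs hne t u
  rw [conj_six, h 39 (by decide) (by decide), h 45 (by decide) (by decide),
    h 44 (by decide) (by decide), h 46 (by decide) (by decide), h 47 (by decide) (by decide),
    C.conj_single (r := 33) (s := 40) (k := 44) (m := 1) (by decide) (by decide) (by decide)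
      (by decide +kernel) (by decide) (by decide +kernel) (by decide) (by decide +kernel),
    mul_assoc (H52.rt chevF4 40 a), ← mul_assoc (H52.rt chevF4 44 (t * a)), C.hC.rt_mul,
    add_comm (t * a), six]

include C in
theorem conj_34 (t p a b o c d : F) :
    H52.rt chevF4 34 t * six p a b o c d * (H52.rt chevF4 34 t)⁻¹ =
      six p a (b + t * p) o c d := by
  have h := fun s hs hne u => conj_fix C (r := 34) (s := s) (by decide) hs hne t u
  rw [conj_six, h 45 (by decide) (by decide), h 40 (by decide) (by decide),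
    h 44 (by decide) (by decide), h 46 (by decide) (by decide), h 47 (by decide) (by decide),
    C.conj_single (r := 34) (s := 39) (k := 44) (m := 1) (by decide) (by decide) (by decide)
      (by decide +kernel) (by decide) (by decide +kernel) (by decide) (by decide +kernel),
    mul_assoc (H52.rt chevF4 39 p),
    (six_commute C (r := 44) (s := 40) (by decide) (by decide) (t * p) a).left_comm,
    ← mul_assoc (H52.rt chevF4 44 (t * p)), C.hC.rt_mul, add_comm (t * p), six]

theorem moved_cases : ∀ r ∈ List.range' 24 24,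
    r ∈ [24, 25, 26, 27, 33, 34] ∨ moved r = 0 := by decide

include C in
/-- The orbit of `six 1 0 0 1 0 0` under `U` keeps the coefficients at `39` and `45`. -/
theorem pos_conj_six {g : GL chevF4.Idx F} (hg : g ∈ chevF4.posUnipotent F) :
    ∀ p a b o c d : F, ∃ a' b' c' d' : F,
      g * six p a b o c d * g⁻¹ = six p a' b' o c' d' := by
  have hstep : ∀ r, 24 ≤ r → r < 48 → ∀ t p a b o c d : F, ∃ a' b' c' d' : F,
      H52.rt chevF4 r t * six p a b o c d * (H52.rt chevF4 r t)⁻¹ = six p a' b' o c' d' := by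
    intro r h1 h2 t p a b o c d
    have hr : r ∈ List.range' 24 24 := by rw [List.mem_range'_1]; omega
    rcases moved_cases r hr with h | h
    · simp only [List.mem_cons, List.not_mem_nil, or_false] at h
      rcases h with rfl | rfl | rfl | rfl | rfl | rfl
      · exact ⟨_, _, _, _, conj_24 C t p a b o c d⟩
      · exact ⟨_, _, _, _, conj_25 C t p a b o c d⟩
      · exact ⟨_, _, _, _, conj_26 C t p a b o c d⟩
      · exact ⟨_, _, _, _, conj_27 C t p a b o c d⟩
      · exact ⟨_, _, _, _, conj_33 C t p a b o c d⟩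
      · exact ⟨_, _, _, _, conj_34 C t p a b o c d⟩
    · exact ⟨_, _, _, _, conj_other C hr h t p a b o c d⟩
  rw [C.hC.posUnipotent_eq, H52.upper] at hg
  induction hg using Subgroup.closure_induction'' with
  | mem x hx =>
    obtain ⟨r, t, h1, h2, rfl⟩ := hx
    exact hstep r h1 h2 t
  | inv_mem x hx =>
    obtain ⟨r, t, h1, h2, rfl⟩ := hx
    rw [C.hC.rt_inv]
    exact hstep r h1 h2 _
  | one =>
    intro p a b o c d
    exact ⟨a, b, c, d, by rw [one_mul, inv_one, mul_one]⟩
  | mul x y _ _ hx hy =>
    intro p a b o c d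
    obtain ⟨a₁, b₁, c₁, d₁, e₁⟩ := hy p a b o c d
    obtain ⟨a₂, b₂, c₂, d₂, e₂⟩ := hx p a₁ b₁ o c₁ d₁
    refine ⟨a₂, b₂, c₂, d₂, ?_⟩
    rw [← e₂, ← e₁]; group

theorem pos_centralises_check : ∀ r ∈ List.range' 24 24,
    evenComm chevF4 r 44 = true ∧ evenComm chevF4 r 47 = true := by decide +kernel

theorem neg_centralises_check :
    evenComm chevF4 20 44 = true ∧ evenComm chevF4 20 47 = true ∧
    evenComm chevF4 22 44 = true ∧ evenComm chevF4 22 47 = true ∧
    evenComm chevF4 14 39 = true ∧ evenComm chevF4 14 45 = true ∧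
    evenComm chevF4 23 39 = true ∧ evenComm chevF4 23 45 = true := by decide +kernel

theorem simple_F4 : chevF4.simple 0 = 33 ∧ chevF4.simple 1 = 27 ∧ chevF4.simple 2 = 25 ∧
    chevF4.simple 3 = 24 ∧ chevF4.neg 33 = 14 ∧ chevF4.neg 27 = 20 ∧ chevF4.neg 25 = 22 ∧
    chevF4.neg 24 = 23 := by decide +kernel

theorem cartan_F4 :
    (∀ i < chevF4.rank, 0 ≤ (1 : ℤ) * chevF4.cartan i 47 + 1 * chevF4.cartan i 44) ∧
    (∀ i < chevF4.rank, (1 : ℤ) * chevF4.cartan i 47 + 1 * chevF4.cartan i 44 = 0 →
      i = 1 ∨ i = 2) ∧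
    (∀ i < chevF4.rank, 0 ≤ (3 : ℤ) * chevF4.cartan i 39 + 2 * chevF4.cartan i 45) ∧
    (∀ i < chevF4.rank, (3 : ℤ) * chevF4.cartan i 39 + 2 * chevF4.cartan i 45 = 0 →
      i = 0 ∨ i = 3) := by decide +kernel

theorem cartan_rows :
    (List.range 4).map (fun i => chevF4.cartan i 39) = [0, -1, 1, 0] ∧
    (List.range 4).map (fun i => chevF4.cartan i 45) = [0, 2, -1, 0] ∧
    (List.range 4).map (fun i => chevF4.cartan i 44) = [1, 0, 0, 0] ∧
    (List.range 4).map (fun i => chevF4.cartan i 47) = [0, 0, 0, 1] := by decide +kernel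

/-- The positive roots outside the root system of `p₂, p₃`. -/
def out23 (r : ℕ) : Bool := decide (24 ≤ r) && !([25, 27, 28, 30].contains r)

/-- The positive roots outside the root system of `p₁, p₄`. -/
def out14 (r : ℕ) : Bool := decide (24 ≤ r) && !([24, 33].contains r)

theorem out_check : ∀ r < chevF4.nroots,
    (out23 r = true → out23 (chevF4.reflectRoot 1 r) = true ∧ out23 (chevF4.reflectRoot 2 r) = true) ∧
    (out14 r = true → out14 (chevF4.reflectRoot 0 r) = true ∧ out14 (chevF4.reflectRoot 3 r) = true) := by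
  decide +kernel

/-- The claimed centraliser of `x_47(1) x_44(1)`. -/
noncomputable def centW (F : Type*) [Field F] : Subgroup (GL chevF4.Idx F) :=
  chevF4.posUnipotent F ⊔ chevF4.rootSubgroup F 20 ⊔ chevF4.rootSubgroup F 22

/-- The claimed centraliser of `x_39(1) x_45(1)`. -/
noncomputable def centV (F : Type*) [Field F] : Subgroup (GL chevF4.Idx F) :=
  chevF4.rootSubgroup F 33 ⊔ chevF4.rootSubgroup F 14 ⊔ chevF4.rootSubgroup F 24 ⊔
    chevF4.rootSubgroup F 23 ⊔ Subgroup.closure {g : GL chevF4.Idx F | ∃ (r : ℕ) (c : F),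
      chevF4.IsPosRoot r ∧ r ∉ [27, 25, 34, 26] ∧
        (g : Matrix chevF4.Idx chevF4.Idx F) = chevF4.x F r c}

omit [CharP F 2] in
include C in
theorem rt_mem_root (r : ℕ) (t : F) : H52.rt chevF4 r t ∈ chevF4.rootSubgroup F r :=
  Subgroup.subset_closure ⟨t, C.hC.coe_rt r t⟩

omit [CharP F 2] in
include C in
theorem rt_mem_centW {r : ℕ} (hr : r < chevF4.nroots) (h : 24 ≤ r ∨ r = 20 ∨ r = 22) (t : F) :
    H52.rt chevF4 r t ∈ centW F := by
  rcases h with h | rfl | rfl
  · exact Subgroup.mem_sup_left (Subgroup.mem_sup_left (C.hC.rt_mem_pos h hr t))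
  · exact Subgroup.mem_sup_left (Subgroup.mem_sup_right (rt_mem_root C 20 t))
  · exact Subgroup.mem_sup_right (rt_mem_root C 22 t)

omit [CharP F 2] in
include C in
theorem rt_mem_centV {r : ℕ} (hr : r < chevF4.nroots)
    (h : (24 ≤ r ∧ r ∉ [27, 25, 34, 26]) ∨ r = 14 ∨ r = 23) (t : F) :
    H52.rt chevF4 r t ∈ centV F := by
  rcases h with ⟨h, h'⟩ | rfl | rfl
  · exact Subgroup.mem_sup_right (Subgroup.subset_closure
      ⟨r, t, (C.hC.isPosRoot_iff r).2 ⟨h, hr⟩, h', C.hC.coe_rt r t⟩)
  · exact Subgroup.mem_sup_left (Subgroup.mem_sup_left (Subgroup.mem_sup_left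
      (Subgroup.mem_sup_right (rt_mem_root C 14 t))))
  · exact Subgroup.mem_sup_left (Subgroup.mem_sup_right (rt_mem_root C 23 t))

include C in
theorem rt_fix_six {r : ℕ} (hr : r < chevF4.nroots) (p a b o c d : F) (t : F)
    (h : ∀ q ∈ sixList, sixFun p a b o c d q ≠ 0 → evenComm chevF4 r q = true) :
    Commute (H52.rt chevF4 r t) (six p a b o c d) := by
  have key : ∀ q ∈ sixList, Commute (H52.rt chevF4 r t)
      (H52.rt chevF4 q (sixFun p a b o c d q)) := by
    intro q hq
    have hq' : ∀ q ∈ sixList, q < chevF4.nroots := by decide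
    by_cases h0 : sixFun p a b o c d q = 0
    · rw [h0, C.hC.rt_zero]; exact Commute.one_right _
    · exact C.commute_of_evenComm hr (hq' q hq) (h q hq h0) t _
  simpa [six, sixFun] using (key 39 (by decide)).mul_right ((key 40 (by decide)).mul_right
    ((key 44 (by decide)).mul_right ((key 45 (by decide)).mul_right
      ((key 46 (by decide)).mul_right (key 47 (by decide))))))

include C in
theorem centW_le : centW F ≤
    chevF4.group F ⊓ Subgroup.centralizer {six (0 : F) 0 1 0 0 1} := by
  have h : ∀ r, r < chevF4.nroots → (24 ≤ r ∨ r = 20 ∨ r = 22) → ∀ t : F,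
      H52.rt chevF4 r t ∈ chevF4.group F ⊓ Subgroup.centralizer {six (0 : F) 0 1 0 0 1} := by
    intro r hr hr' t
    refine Subgroup.mem_inf.2 ⟨C.rt_mem_group r t, ?_⟩
    rw [Subgroup.mem_centralizer_singleton_iff]
    refine (rt_fix_six C hr _ _ _ _ _ _ t fun q hq hne => ?_).eq
    have hq : q = 44 ∨ q = 47 := by
      simp only [sixFun] at hne
      split_ifs at hne <;> first | omega | simp_all
    obtain ⟨n1, n2, n3, n4, -⟩ := neg_centralises_check
    rcases hr' with h | rfl | rfl
    · have hr2 : r ∈ List.range' 24 24 := by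
        rw [List.mem_range'_1]
        exact ⟨h, hr⟩
      rcases hq with rfl | rfl
      · exact (pos_centralises_check r hr2).1
      · exact (pos_centralises_check r hr2).2
    · rcases hq with rfl | rfl <;> assumption
    · rcases hq with rfl | rfl <;> assumption
  rw [centW, C.hC.posUnipotent_eq, H52.upper, ChevalleyDatum.rootSubgroup,
    ChevalleyDatum.rootSubgroup]
  refine sup_le (sup_le ((Subgroup.closure_le _).2 ?_) ((Subgroup.closure_le _).2 ?_))
    ((Subgroup.closure_le _).2 ?_)
  · rintro g ⟨r, t, h1, h2, rfl⟩; exact h r h2 (Or.inl h1) t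
  · rintro g ⟨t, hg⟩; rw [C.hC.eq_rt hg]; exact h 20 (by decide) (by simp) t
  · rintro g ⟨t, hg⟩; rw [C.hC.eq_rt hg]; exact h 22 (by decide) (by simp) t

theorem centV_check : ∀ r ∈ List.range' 24 24, r ∉ [27, 25, 34, 26] →
    evenComm chevF4 r 39 = true ∧ evenComm chevF4 r 45 = true := by decide +kernel

include C in
theorem centV_le : centV F ≤
    chevF4.group F ⊓ Subgroup.centralizer {six (1 : F) 0 0 1 0 0} := by
  have h : ∀ r, r < chevF4.nroots → ((24 ≤ r ∧ r ∉ [27, 25, 34, 26]) ∨ r = 14 ∨ r = 23) →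
      ∀ t : F,
      H52.rt chevF4 r t ∈ chevF4.group F ⊓ Subgroup.centralizer {six (1 : F) 0 0 1 0 0} := by
    intro r hr hr' t
    refine Subgroup.mem_inf.2 ⟨C.rt_mem_group r t, ?_⟩
    rw [Subgroup.mem_centralizer_singleton_iff]
    refine (rt_fix_six C hr _ _ _ _ _ _ t fun q hq hne => ?_).eq
    have hq : q = 39 ∨ q = 45 := by
      simp only [sixFun] at hne
      split_ifs at hne <;> first | omega | simp_all
    obtain ⟨-, -, -, -, n1, n2, n3, n4⟩ := neg_centralises_check
    rcases hr' with ⟨h, h'⟩ | rfl | rfl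
    · have hr2 : r ∈ List.range' 24 24 := by
        rw [List.mem_range'_1]
        exact ⟨h, hr⟩
      rcases hq with rfl | rfl
      · exact (centV_check r hr2 h').1
      · exact (centV_check r hr2 h').2
    · rcases hq with rfl | rfl <;> assumption
    · rcases hq with rfl | rfl <;> assumption
  simp only [centV, ChevalleyDatum.rootSubgroup]
  refine sup_le (sup_le (sup_le (sup_le ((Subgroup.closure_le _).2 ?_)
    ((Subgroup.closure_le _).2 ?_)) ((Subgroup.closure_le _).2 ?_))
    ((Subgroup.closure_le _).2 ?_)) ((Subgroup.closure_le _).2 ?_)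
  · rintro g ⟨t, hg⟩; rw [C.hC.eq_rt hg]; exact h 33 (by decide) (by decide) t
  · rintro g ⟨t, hg⟩; rw [C.hC.eq_rt hg]; exact h 14 (by decide) (by decide) t
  · rintro g ⟨t, hg⟩; rw [C.hC.eq_rt hg]; exact h 24 (by decide) (by decide) t
  · rintro g ⟨t, hg⟩; rw [C.hC.eq_rt hg]; exact h 23 (by decide) (by decide) t
  · rintro g ⟨r, t, hpos, hr, hg⟩
    rw [C.hC.eq_rt hg]
    obtain ⟨h1, h2⟩ := (C.hC.isPosRoot_iff r).1 hpos
    exact h r h2 (Or.inl ⟨h1, hr⟩) t

include C in
theorem torus_conj_six (c : Fin chevF4.rank → Fˣ) (p a b o c₁ d : F) :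
    H52.torus chevF4 c * six p a b o c₁ d * (H52.torus chevF4 c)⁻¹ =
      six (((∏ i : Fin chevF4.rank, c i ^ chevF4.cartan i.val 39 : Fˣ) : F) * p)
        (((∏ i : Fin chevF4.rank, c i ^ chevF4.cartan i.val 40 : Fˣ) : F) * a)
        (((∏ i : Fin chevF4.rank, c i ^ chevF4.cartan i.val 44 : Fˣ) : F) * b)
        (((∏ i : Fin chevF4.rank, c i ^ chevF4.cartan i.val 45 : Fˣ) : F) * o)
        (((∏ i : Fin chevF4.rank, c i ^ chevF4.cartan i.val 46 : Fˣ) : F) * c₁)
        (((∏ i : Fin chevF4.rank, c i ^ chevF4.cartan i.val 47 : Fˣ) : F) * d) := by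
  rw [conj_six, C.hC.torus_conj_rt c (by decide), C.hC.torus_conj_rt c (by decide),
    C.hC.torus_conj_rt c (by decide), C.hC.torus_conj_rt c (by decide),
    C.hC.torus_conj_rt c (by decide), C.hC.torus_conj_rt c (by decide)]
  rfl

omit [CharP F 2] in
theorem cartan_at (q : ℕ) (l : List ℤ) (h : (List.range 4).map (fun i => chevF4.cartan i q) = l)
    (c : Fin chevF4.rank → Fˣ) :
    (∏ i : Fin chevF4.rank, c i ^ chevF4.cartan i.val q) =
      c ⟨0, by decide⟩ ^ (l.getD 0 0) * c ⟨1, by decide⟩ ^ (l.getD 1 0) *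
        c ⟨2, by decide⟩ ^ (l.getD 2 0) * c ⟨3, by decide⟩ ^ (l.getD 3 0) := by
  subst h
  exact Fin.prod_univ_four (fun i : Fin 4 => c i ^ chevF4.cartan i.val q)

include C in
theorem centralizer_w :
    chevF4.group F ⊓ Subgroup.centralizer {six (0 : F) 0 1 0 0 1} = centW F := by
  refine le_antisymm ?_ (centW_le C)
  intro g hg
  obtain ⟨hgG, hgc⟩ := Subgroup.mem_inf.1 hg
  have hK := fun {z : GL chevF4.Idx F} (hz : z ∈ centW F) =>
    (Subgroup.mem_inf.1 (centW_le C hz)).2
  have hUK : chevF4.posUnipotent F ≤ centW F := le_sup_left.trans le_sup_left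
  obtain ⟨u, hu, t, ht, L, v, hv, rfl⟩ := C.exists_nf hgG
  have hvU := hUK (C.uinv_le _ hv)
  obtain ⟨c, rfl⟩ : ∃ c, H52.torus chevF4 c = t := by
    rw [C.hC.diagonalSubgroup_eq] at ht; exact ht
  set x := six (0 : F) 0 1 0 0 1 with hx
  have hmid : H52.torus chevF4 c * nw chevF4 F L ∈ Subgroup.centralizer {x} := by
    have h1 := mul_mem (mul_mem (inv_mem (hK (hUK hu))) hgc) (inv_mem (hK hvU))
    simpa [mul_assoc] using h1
  rw [Subgroup.mem_centralizer_singleton_iff] at hmid
  have hsupp := six_support C c L (p := 0) (a := 0) (b := 1) (o := 0) (c₁ := 0) (d := 1)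
    (p' := 0) (a' := 0) (b' := 1) (o' := 0) (c' := 0) (d' := 1)
    (by rw [← hx, hmid, mul_inv_cancel_right])
  have himg : ∀ r : Fin chevF4.nroots, r.val = 44 ∨ r.val = 47 →
      (C.wperm L r).val = 44 ∨ (C.wperm L r).val = 47 := by
    intro r hr
    have h2 := hsupp r (by rcases hr with h | h <;> simp [sixFun, h])
    simp only [sixFun] at h2
    split_ifs at h2 <;> first | omega | simp_all
  have hkw : kw C L ⟨47, by decide⟩ ⟨44, by decide⟩ 1 1 =
      kw C [] ⟨47, by decide⟩ ⟨44, by decide⟩ 1 1 := by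
    have h1 := himg ⟨47, by decide⟩ (Or.inr rfl)
    have h2 := himg ⟨44, by decide⟩ (Or.inl rfl)
    have hne : (C.wperm L ⟨47, by decide⟩).val ≠ (C.wperm L ⟨44, by decide⟩).val := fun e =>
      absurd ((C.wperm L).injective (Fin.ext e)) (by decide)
    simp only [kw, C.wperm_nil, Equiv.Perm.one_apply]
    rcases h1 with h1 | h1 <;> rcases h2 with h2 | h2 <;> rw [h1, h2] <;> omega
  obtain ⟨L', hL', hz⟩ := (kw_le C (a := ⟨47, by decide⟩) (b := ⟨44, by decide⟩)
    cartan_F4.1 L).2 hkw
  have hi : ∀ i ∈ L', i.val = 1 ∨ i.val = 2 := fun i hi =>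
    cartan_F4.2.1 i.val i.isLt (hz i hi)
  obtain ⟨e0, e1, e2, e3, f0, f1, f2, f3⟩ := simple_F4
  have hgen : ∀ (j : ℕ) (s : F), j = 1 ∨ j = 2 →
      H52.rt chevF4 (chevF4.simple j) s ∈ centW F ∧
      H52.rt chevF4 (chevF4.neg (chevF4.simple j)) s ∈ centW F := by
    rintro j s (rfl | rfl)
    · rw [e1, f1]; exact ⟨rt_mem_centW C (by decide) (by simp) s, rt_mem_centW C (by decide) (by simp) s⟩
    · rw [e2, f2]; exact ⟨rt_mem_centW C (by decide) (by simp) s, rt_mem_centW C (by decide) (by simp) s⟩
  have hL'K : nw chevF4 F L' ∈ centW F := nw_mem_of C fun i hi' s => hgen _ s (hi i hi')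
  set d := H52.torus chevF4 c * (nw chevF4 F L * (nw chevF4 F L')⁻¹) with hd
  obtain ⟨c', hc'⟩ : ∃ c', H52.torus chevF4 c' = d := by
    have := mul_mem ht (nw_div_mem (F := F) C hL')
    rw [C.hC.diagonalSubgroup_eq] at this; exact this
  have hdc : d * x = x * d := by
    have h1 : H52.torus chevF4 c * nw chevF4 F L ∈ Subgroup.centralizer {x} := by
      rw [Subgroup.mem_centralizer_singleton_iff]; exact hmid
    have h2 := mul_mem h1 (inv_mem (hK hL'K))
    rw [mul_assoc, ← hd, Subgroup.mem_centralizer_singleton_iff] at h2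
    exact h2
  have hc0 : H52.torus chevF4 c' ∈ centW F := by
    refine torus_mem C (fun j => j = 1 ∨ j = 2) (fun j s _ hj => hgen j s hj) fun i hi' => ?_
    have h2 : H52.torus chevF4 c' * x * (H52.torus chevF4 c')⁻¹ = x := by
      rw [hc', hdc, mul_inv_cancel_right]
    rw [hx, torus_conj_six C] at h2
    obtain ⟨-, -, h44, -, -, h47⟩ := six_inj C h2
    obtain ⟨-, -, r44, r47⟩ := cartan_rows
    rw [mul_one, cartan_at 44 _ r44 c'] at h44
    rw [mul_one, cartan_at 47 _ r47 c'] at h47
    simp at h44 h47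
    have : i.val = 0 ∨ i.val = 3 := by
      have := i.isLt
      change i.val < 4 at this
      omega
    rcases this with h | h
    · rw [show i = ⟨0, by decide⟩ from Fin.ext h]; exact h44
    · rw [show i = ⟨3, by decide⟩ from Fin.ext h]; exact h47
  have hfin : u * H52.torus chevF4 c * nw chevF4 F L * v = u * (d * nw chevF4 F L') * v := by
    rw [hd]; group
  rw [hfin, ← hc']
  exact mul_mem (mul_mem (hUK hu) (mul_mem hc0 hL'K)) hvU

include C in
theorem centralizer_v :
    chevF4.group F ⊓ Subgroup.centralizer {six (1 : F) 0 0 1 0 0} = centV F := by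
  refine le_antisymm ?_ (centV_le C)
  intro g hg
  obtain ⟨hgG, hgc⟩ := Subgroup.mem_inf.1 hg
  have hK := fun {z : GL chevF4.Idx F} (hz : z ∈ centV F) =>
    (Subgroup.mem_inf.1 (centV_le C hz)).2
  obtain ⟨u, hu, t, ht, L, v, hv, rfl⟩ := C.exists_nf hgG
  obtain ⟨c, rfl⟩ : ∃ c, H52.torus chevF4 c = t := by
    rw [C.hC.diagonalSubgroup_eq] at ht; exact ht
  set x := six (1 : F) 0 0 1 0 0 with hx
  obtain ⟨a, b, c₁, d₁, hvx⟩ := pos_conj_six C (C.uinv_le _ hv) 1 0 0 1 0 0
  obtain ⟨a', b', c₁', d₁', hux⟩ := pos_conj_six C (inv_mem hu) 1 0 0 1 0 0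
  have hgc' := hgc
  rw [Subgroup.mem_centralizer_singleton_iff] at hgc
  set n := H52.torus chevF4 c * nw chevF4 F L with hn
  have hmain : n * (v * x * v⁻¹) * n⁻¹ = u⁻¹ * x * u⁻¹⁻¹ := by
    have h1 : u * n * v * x = x * (u * n * v) := by rw [hn, ← mul_assoc u]; exact hgc
    calc n * (v * x * v⁻¹) * n⁻¹ = u⁻¹ * (u * n * v * x) * v⁻¹ * n⁻¹ := by group
      _ = u⁻¹ * x * u⁻¹⁻¹ := by rw [h1]; group
  rw [hvx, hux] at hmain
  have hsupp := six_support C c L hmain
  have h39 : 39 ≤ (C.wperm L ⟨39, by decide⟩).val := by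
    have : ∀ q ∈ sixList, 39 ≤ q := by decide
    exact this _ (sixFun_mem (hsupp ⟨39, by decide⟩ (by simp [sixFun])))
  have h45 : 45 ≤ (C.wperm L ⟨45, by decide⟩).val := by
    have hlong : (!shortF4 (C.wperm L ⟨45, by decide⟩).val) = true :=
      C.wperm_inv_pred (P := fun r => !shortF4 r) (by decide +kernel) L (r := ⟨45, by decide⟩)
        (by decide)
    have : ∀ q ∈ sixList, (!shortF4 q) = true → 45 ≤ q := by decide
    exact this _ (sixFun_mem (hsupp ⟨45, by decide⟩ (by simp [sixFun]))) hlong
  have hmono : ∀ (r : Fin chevF4.nroots) (k : ℕ), k ≤ r.val →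
      H52.keyOf chevF4.rank (C.T.co k) ≤ H52.keyOf chevF4.rank (C.T.co r.val) := by
    intro r k hk
    rcases hk.eq_or_lt with he | hlt
    · rw [he]
    · exact (C.hC.key_lt hlt r.isLt).le
  have hkl := kw_le C (a := ⟨39, by decide⟩) (b := ⟨45, by decide⟩) cartan_F4.2.2.1 L
  have hkw : kw C L ⟨39, by decide⟩ ⟨45, by decide⟩ 3 2 =
      kw C [] ⟨39, by decide⟩ ⟨45, by decide⟩ 3 2 := by
    refine le_antisymm hkl.1 ?_
    have h1 := hmono _ 39 h39
    have h2 := hmono _ 45 h45
    simp only [kw, C.wperm_nil, Equiv.Perm.one_apply]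
    linarith
  obtain ⟨L', hL', hz⟩ := hkl.2 hkw
  have hi : ∀ i ∈ L', i.val = 0 ∨ i.val = 3 := fun i hi =>
    cartan_F4.2.2.2 i.val i.isLt (hz i hi)
  obtain ⟨e0, e1, e2, e3, f0, f1, f2, f3⟩ := simple_F4
  have hgen : ∀ (j : ℕ) (s : F), j = 0 ∨ j = 3 →
      H52.rt chevF4 (chevF4.simple j) s ∈ centV F ∧
      H52.rt chevF4 (chevF4.neg (chevF4.simple j)) s ∈ centV F := by
    rintro j s (rfl | rfl)
    · rw [e0, f0]; exact ⟨rt_mem_centV C (by decide) (by decide) s, rt_mem_centV C (by decide) (by decide) s⟩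
    · rw [e3, f3]; exact ⟨rt_mem_centV C (by decide) (by decide) s, rt_mem_centV C (by decide) (by decide) s⟩
  have hL'K : nw chevF4 F L' ∈ centV F := nw_mem_of C fun i hi' s => hgen _ s (hi i hi')
  have hvK : v ∈ centV F := by
    rw [← hL'] at hv
    refine uinv_le_of C (P := out14) ?_ (centV F) ?_ hv
    · intro r hr hP
      refine ⟨?_, fun i hi' => ?_⟩
      · simp only [out14, Bool.and_eq_true, decide_eq_true_eq] at hP
        exact hP.1
      · rcases hi i hi' with h | h <;> rw [h]
        · exact ((out_check r hr).2 hP).1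
        · exact ((out_check r hr).2 hP).2
    · intro r s h1 h2 hP
      have : r = 24 ∨ r = 33 := by
        change 24 ≤ r at h1
        simp [out14, h1] at hP
        tauto
      rcases this with rfl | rfl <;> exact rt_mem_centV C h2 (by decide) s
  set d := H52.torus chevF4 c * (nw chevF4 F L * (nw chevF4 F L')⁻¹) with hd
  obtain ⟨c', hc'⟩ : ∃ c', H52.torus chevF4 c' = d := by
    have := mul_mem ht (nw_div_mem (F := F) C hL')
    rw [C.hC.diagonalSubgroup_eq] at this; exact this
  have hud : u * d * x = x * (u * d) := by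
    have h1 : u * d ∈ Subgroup.centralizer {x} := by
      have := mul_mem (mul_mem hgc' (inv_mem (hK hvK))) (inv_mem (hK hL'K))
      rw [mul_inv_cancel_right] at this
      rw [hd]
      simpa [mul_assoc] using this
    rwa [Subgroup.mem_centralizer_singleton_iff] at h1
  have h2 : H52.torus chevF4 c' * x * (H52.torus chevF4 c')⁻¹ = u⁻¹ * x * u⁻¹⁻¹ := by
    rw [hc']
    calc d * x * d⁻¹ = u⁻¹ * (u * d * x) * d⁻¹ := by group
      _ = u⁻¹ * x * u⁻¹⁻¹ := by rw [hud]; group
  rw [hux, hx, torus_conj_six C, mul_one, mul_one, mul_zero, mul_zero, mul_zero, mul_zero] at h2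
  obtain ⟨hz39, ha', hb', hz45, hc₁', hd₁'⟩ := six_inj C h2
  have hux' : u * x * u⁻¹ = x := by
    have h3 : u⁻¹ * x * u⁻¹⁻¹ = x := by rw [hux, ← ha', ← hb', ← hc₁', ← hd₁']
    calc u * x * u⁻¹ = u * (u⁻¹ * x * u⁻¹⁻¹) * u⁻¹ := by rw [h3]
      _ = x := by group
  have huK : u ∈ centV F := by
    rw [C.hC.posUnipotent_eq, show chevF4.nroots / 2 = 24 from rfl] at hu
    obtain ⟨f, rfl⟩ := C.hC.exists_upProd (k := 24) (by decide) hu
    rw [H52.Checked.upProd_step (k := 24) (by decide), H52.Checked.upProd_step (k := 25) (by decide),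
      H52.Checked.upProd_step (k := 26) (by decide), H52.Checked.upProd_step (k := 27) (by decide),
      H52.Checked.upProd_step (k := 28) (by decide), H52.Checked.upProd_step (k := 29) (by decide),
      H52.Checked.upProd_step (k := 30) (by decide), H52.Checked.upProd_step (k := 31) (by decide),
      H52.Checked.upProd_step (k := 32) (by decide), H52.Checked.upProd_step (k := 33) (by decide),
      H52.Checked.upProd_step (k := 34) (by decide)] at hux' ⊢
    have hR : H52.upProd chevF4 35 f ∈ centV F := by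
      have hle : H52.upper chevF4 F 35 ≤ centV F := by
        refine (Subgroup.closure_le _).2 ?_
        rintro z ⟨r, s, h1, h2, rfl⟩
        refine rt_mem_centV C h2 (Or.inl ⟨by omega, ?_⟩) s
        simp only [List.mem_cons, List.not_mem_nil, or_false]
        omega
      exact hle (H52.Checked.upProd_mem 35 f)
    generalize H52.upProd chevF4 35 f = R at hR hux'
    have hRx : R * x * R⁻¹ = x := by
      rw [(Subgroup.mem_centralizer_singleton_iff.1 (hK hR)), mul_inv_cancel_right]
    have cj : ∀ g h y : GL chevF4.Idx F, (g * h) * y * (g * h)⁻¹ = g * (h * y * h⁻¹) * g⁻¹ :=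
      fun g h y => by group
    simp only [cj, hRx] at hux'
    rw [hx, conj_34 C, conj_33 C, conj_other C (r := 32) (by decide) (by decide),
      conj_other C (r := 31) (by decide) (by decide), conj_other C (r := 30) (by decide) (by decide),
      conj_other C (r := 29) (by decide) (by decide), conj_other C (r := 28) (by decide) (by decide),
      conj_27 C, conj_26 C, conj_25 C, conj_24 C] at hux'
    obtain ⟨-, ga, gb, -, gc, gd⟩ := six_inj C hux'
    simp only [mul_one, mul_zero, zero_add, add_zero] at ga gb gc gd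
    rw [gc, mul_zero, add_zero] at gd
    rw [ga, gb, gc, gd, C.hC.rt_zero, C.hC.rt_zero, C.hC.rt_zero, C.hC.rt_zero]
    simp only [one_mul]
    have hm : ∀ r, r < chevF4.nroots → (24 ≤ r ∧ r ∉ [27, 25, 34, 26]) → ∀ s : F,
        H52.rt chevF4 r s ∈ centV F := fun r h1 h2 s => rt_mem_centV C h1 (Or.inl h2) s
    exact mul_mem (hm 24 (by decide) (by decide) _) (mul_mem (hm 28 (by decide) (by decide) _)
      (mul_mem (hm 29 (by decide) (by decide) _) (mul_mem (hm 30 (by decide) (by decide) _)
      (mul_mem (hm 31 (by decide) (by decide) _) (mul_mem (hm 32 (by decide) (by decide) _)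
      (mul_mem (hm 33 (by decide) (by decide) _) hR))))))
  have hdK : H52.torus chevF4 c' ∈ centV F := by
    refine torus_mem C (fun j => j = 0 ∨ j = 3) (fun j s _ hj => hgen j s hj) fun i hi' => ?_
    obtain ⟨r39, r45, -, -⟩ := cartan_rows
    rw [cartan_at 39 _ r39 c'] at hz39
    rw [cartan_at 45 _ r45 c'] at hz45
    simp only [List.getD_cons_zero, List.getD_cons_succ, zpow_zero, one_mul, mul_one,
      zpow_one] at hz39 hz45
    have k1 := Units.val_eq_one.1 hz39
    have k2 := Units.val_eq_one.1 hz45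
    rw [zpow_neg_one, inv_mul_eq_one] at k1
    rw [zpow_neg_one, ← k1, show ((2 : ℤ)) = ((2 : ℕ) : ℤ) from rfl, zpow_natCast, pow_two,
      mul_inv_cancel_right] at k2
    have : i.val = 1 ∨ i.val = 2 := by
      have := i.isLt
      change i.val < 4 at this
      omega
    rcases this with h | h
    · rw [show i = ⟨1, by decide⟩ from Fin.ext h]; exact k2
    · rw [show i = ⟨2, by decide⟩ from Fin.ext h, ← k1]; exact k2
  have hfin : u * H52.torus chevF4 c * nw chevF4 F L * v = u * d * nw chevF4 F L' * v := by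
    rw [hd]; group
  rw [hfin, ← hc']
  exact mul_mem (mul_mem (mul_mem huK hdK) hL'K) hvK

end F4Mixed

end H58
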