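import Cfsg.Agent.H12.Orth
import Cfsg.Agent.H59.A5Char

/-!
A perfect finite group with a faithful irreducible real character of degree three has order sixty.
-/

set_option autoImplicit false
set_option linter.unusedSectionVars false

open Cfsg Module
open scoped ComplexConjugate

namespace H58.Rot

universe u

section Frame

variable {G : Type u} [Group G] [Finite G] {V : Type*} [AddCommGroup V] [Module ℂ V]
  [FiniteDimensional ℂ V] (ρ : Representation ℂ G V)

/-- A determinant-one real element of a three-dimensional representation has eigenvalues `1, l, l⁻¹`. -/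
theorem exists_frame (h3 : finrank ℂ V = 3) (hdet : ∀ g, LinearMap.det (ρ g) = 1)
    (hreal : ∀ g, conj (ρ.character g) = ρ.character g) (x : G) :
    ∃ (b : Basis (Fin 3) ℂ V) (l : ℂ), l ≠ 0 ∧ ‖l‖ = 1 ∧ ρ x (b 0) = b 0 ∧ ρ x (b 1) = l • b 1 ∧
      ρ x (b 2) = l⁻¹ • b 2 ∧ ρ.character x = 1 + l + l⁻¹ := by
  classical
  obtain ⟨b₀, μ₀, hb₀⟩ := H12.exists_eigenbasis (orderOf_pos x).ne' (H12.rep_pow_orderOf ρ x)
  let b := b₀.reindex (finCongr h3)
  let μ : Fin 3 → ℂ := fun i => μ₀ ((finCongr h3).symm i)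
  have hb : ∀ i, ρ x (b i) = μ i • b i := fun i => by
    simp only [b, μ, Basis.reindex_apply]
    exact (hb₀ _).1
  have hn : ∀ i, ‖μ i‖ = 1 := fun i => H12.norm_eq_one_of_pow_eq_one (orderOf_pos x).ne' (hb₀ _).2
  have hne : ∀ i, μ i ≠ 0 := fun i h => by simpa [h] using hn i
  have hM : LinearMap.toMatrix b b (ρ x) = Matrix.diagonal μ := by
    ext i j
    rw [LinearMap.toMatrix_apply, hb, map_smul, Basis.repr_self]
    by_cases h : i = j
    · subst h; simp
    · simp [Matrix.diagonal_apply_ne _ h, Finsupp.single_eq_of_ne h]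
  have hprod : μ 0 * μ 1 * μ 2 = 1 := by
    rw [← hdet x, ← LinearMap.det_toMatrix b, hM, Matrix.det_diagonal, Fin.prod_univ_three]
  have htr : ρ.character x = μ 0 + μ 1 + μ 2 := by
    show LinearMap.trace ℂ V (ρ x) = _
    rw [LinearMap.trace_eq_matrix_trace ℂ b, hM, Matrix.trace_diagonal, Fin.sum_univ_three]
  have hconj : ∀ i, conj (μ i) = (μ i)⁻¹ := fun i =>
    H12.conj_eq_inv_of_pow_eq_one (orderOf_pos x).ne' (hb₀ _).2
  have hinv : μ 0 + μ 1 + μ 2 = (μ 0)⁻¹ + (μ 1)⁻¹ + (μ 2)⁻¹ := by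
    rw [← hconj, ← hconj, ← hconj, ← map_add, ← map_add, ← htr, hreal, htr]
  have hz : (1 - μ 0) * (1 - μ 1) * (1 - μ 2) = 0 := by
    have e : (μ 0)⁻¹ + (μ 1)⁻¹ + (μ 2)⁻¹ = μ 1 * μ 2 + μ 0 * μ 2 + μ 0 * μ 1 := by
      have h0 := hne 0; have h1 := hne 1; have h2 := hne 2
      field_simp
      linear_combination (-(μ 1 * μ 2) - (μ 0 * μ 2) - (μ 0 * μ 1)) * hprod
    linear_combination -hprod - hinv - e
  obtain ⟨i, hi⟩ : ∃ i, μ i = 1 := by
    rcases mul_eq_zero.mp hz with h | h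
    · rcases mul_eq_zero.mp h with h | h
      exacts [⟨0, (sub_eq_zero.mp h).symm⟩, ⟨1, (sub_eq_zero.mp h).symm⟩]
    · exact ⟨2, (sub_eq_zero.mp h).symm⟩
  let σ : Equiv.Perm (Fin 3) := Equiv.swap 0 i
  let b' := b.reindex σ
  have hb' : ∀ j, ρ x (b' j) = μ (σ j) • b' j := fun j => by
    simp only [b', Basis.reindex_apply, σ, Equiv.symm_swap]
    exact hb _
  have h0 : μ (σ 0) = 1 := by simp [σ, hi]
  have hp : μ (σ 0) * μ (σ 1) * μ (σ 2) = 1 := by
    rw [← Fin.prod_univ_three (fun j => μ (σ j)), Equiv.prod_comp σ μ, Fin.prod_univ_three]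
    exact hprod
  have hs : μ (σ 0) + μ (σ 1) + μ (σ 2) = μ 0 + μ 1 + μ 2 := by
    rw [← Fin.sum_univ_three (fun j => μ (σ j)), Equiv.sum_comp σ μ, Fin.sum_univ_three]
  rw [h0, one_mul] at hp
  have e2 : μ (σ 2) = (μ (σ 1))⁻¹ := eq_inv_of_mul_eq_one_right hp
  refine ⟨b', μ (σ 1), hne _, hn _, ?_, hb' 1, e2 ▸ hb' 2, ?_⟩
  · rw [hb' 0, h0, one_smul]
  · rw [htr, ← hs, h0, e2]

theorem apply_eq_id {x : G} (b : Basis (Fin 3) ℂ V) {l : ℂ} (hl : l = 1) (h0 : ρ x (b 0) = b 0)
    (h1 : ρ x (b 1) = l • b 1) (h2 : ρ x (b 2) = l⁻¹ • b 2) : ρ x = LinearMap.id := by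
  subst hl
  refine b.ext fun i => ?_
  fin_cases i <;> simp_all

theorem apply_repr {x : G} (b : Basis (Fin 3) ℂ V) {l : ℂ} (h0 : ρ x (b 0) = b 0)
    (h1 : ρ x (b 1) = l • b 1) (h2 : ρ x (b 2) = l⁻¹ • b 2) (v : V) :
    b.repr (ρ x v) 0 = b.repr v 0 ∧ b.repr (ρ x v) 1 = l * b.repr v 1 ∧
      b.repr (ρ x v) 2 = l⁻¹ * b.repr v 2 := by
  have e : ρ x v = b.repr v 0 • b 0 + (b.repr v 1 * l) • b 1 + (b.repr v 2 * l⁻¹) • b 2 := by
    conv_lhs => rw [← b.sum_repr v]
    rw [Fin.sum_univ_three, map_add, map_add, map_smul, map_smul, map_smul, h0, h1, h2, smul_smul,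
      smul_smul]
  rw [e]
  simp [Finsupp.single_apply, mul_comm]

/-- A nonidentity element fixes exactly a line. -/
theorem fixed_line (h3 : finrank ℂ V = 3) (hdet : ∀ g, LinearMap.det (ρ g) = 1)
    (hreal : ∀ g, conj (ρ.character g) = ρ.character g) {x : G} (hx : ρ x ≠ LinearMap.id) :
    ∃ v : V, v ≠ 0 ∧ ρ x v = v ∧ ∀ w : V, ρ x w = w → ∃ c : ℂ, w = c • v := by
  obtain ⟨b, l, hl0, -, h0, h1, h2, -⟩ := exists_frame ρ h3 hdet hreal x
  have hl : l ≠ 1 := fun h => hx (apply_eq_id ρ b h h0 h1 h2)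
  refine ⟨b 0, b.ne_zero 0, h0, fun w hw => ⟨b.repr w 0, ?_⟩⟩
  obtain ⟨-, e1, e2⟩ := apply_repr ρ b h0 h1 h2 w
  rw [hw] at e1 e2
  have z1 : b.repr w 1 = 0 := by
    by_contra hne
    exact hl ((mul_eq_right₀ hne).mp e1.symm)
  have z2 : b.repr w 2 = 0 := by
    by_contra hne
    exact hl (inv_eq_one.mp ((mul_eq_right₀ hne).mp e2.symm))
  conv_lhs => rw [← b.sum_repr w]
  rw [Fin.sum_univ_three, z1, z2, zero_smul, zero_smul, add_zero, add_zero]

theorem trace_eq_of_maps_into {T A : V →ₗ[ℂ] V} (h : A ∘ₗ T = T) :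
    LinearMap.trace ℂ V (A ∘ₗ T) = LinearMap.trace ℂ V T := by rw [h]

/-- An element with a nontrivial eigenvalue has the corresponding trace. -/
theorem frame_of_eigen (h3 : finrank ℂ V = 3) (hdet : ∀ g, LinearMap.det (ρ g) = 1)
    (hreal : ∀ g, conj (ρ.character g) = ρ.character g) {x : G} {c : ℂ} {v : V} (hv : v ≠ 0)
    (hxv : ρ x v = c • v) (hc : c ≠ 1) :
    ∃ b : Basis (Fin 3) ℂ V, ρ x (b 0) = b 0 ∧ ρ x (b 1) = c • b 1 ∧ ρ x (b 2) = c⁻¹ • b 2 ∧
      ρ.character x = 1 + c + c⁻¹ := by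
  obtain ⟨b, l, hl0, -, h0, h1, h2, hch⟩ := exists_frame ρ h3 hdet hreal x
  obtain ⟨e0, e1, e2⟩ := apply_repr ρ b h0 h1 h2 v
  simp only [hxv, map_smul, Finsupp.smul_apply, smul_eq_mul] at e0 e1 e2
  have z0 : b.repr v 0 = 0 := by
    by_contra hne
    exact hc ((mul_eq_right₀ hne).mp e0)
  by_cases z1 : b.repr v 1 = 0
  · have z2 : b.repr v 2 ≠ 0 := fun z2 => hv (by
      rw [← b.sum_repr v, Fin.sum_univ_three, z0, z1, z2]
      simp)
    have hcl : c = l⁻¹ := mul_right_cancel₀ z2 e2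
    refine ⟨b.reindex (Equiv.swap 1 2), ?_, ?_, ?_, ?_⟩
    · simp [Equiv.swap_apply_of_ne_of_ne, h0]
    · simp [hcl, h2]
    · simp [hcl, h1]
    · rw [hch, hcl, inv_inv]; ring
  · have hcl : c = l := mul_right_cancel₀ z1 e1
    subst hcl
    exact ⟨b, h0, h1, h2, hch⟩

/-- Whatever maps a fixed line of a nontrivial element to itself acts on it by a sign. -/
theorem sign_on_line (h3 : finrank ℂ V = 3) (hdet : ∀ g, LinearMap.det (ρ g) = 1)
    (hreal : ∀ g, conj (ρ.character g) = ρ.character g) {a h : G} (ha : ρ.character a ≠ 3)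
    {v : V} (hv : v ≠ 0) (hav : ρ a v = v) {c : ℂ} (hhv : ρ h v = c • v) : c = 1 ∨ c = -1 := by
  by_contra hcon
  rw [not_or] at hcon
  obtain ⟨hc1, hcm⟩ := hcon
  have hc0 : c ≠ 0 := fun h0 => hv (by
    have h' : ρ h⁻¹ (ρ h v) = v := by
      rw [← Module.End.mul_apply, ← map_mul, inv_mul_cancel, map_one, Module.End.one_apply]
    rw [hhv, h0, zero_smul, map_zero] at h'
    exact h'.symm)
  have hc2 : c * c ≠ 1 := fun hcc => (mul_self_eq_one_iff.mp hcc).elim hc1 hcm
  obtain ⟨b, h0, h1, h2, hch⟩ := frame_of_eigen ρ h3 hdet hreal hv hhv hc1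
  have hahv : ρ (a * h) v = c • v := by
    rw [map_mul, Module.End.mul_apply, hhv, map_smul, hav]
  have hh2v : ρ (h * h) v = (c * c) • v := by
    rw [map_mul, Module.End.mul_apply, hhv, map_smul, hhv, smul_smul]
  have hah2v : ρ (a * (h * h)) v = (c * c) • v := by
    rw [map_mul, Module.End.mul_apply, hh2v, map_smul, hav]
  obtain ⟨-, -, -, -, k1⟩ := frame_of_eigen ρ h3 hdet hreal hv hahv hc1
  obtain ⟨-, -, -, -, k2⟩ := frame_of_eigen ρ h3 hdet hreal hv hh2v hc2
  obtain ⟨-, -, -, -, k3⟩ := frame_of_eigen ρ h3 hdet hreal hv hah2v hc2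
  let P : V →ₗ[ℂ] V := ρ (h * h) - (1 + c⁻¹) • ρ h + c⁻¹ • LinearMap.id
  have hP : ∀ w, P w = (b.repr w 1 * (c * c - (1 + c⁻¹) * c + c⁻¹)) • b 1 := by
    intro w
    apply b.repr.injective
    obtain ⟨e0, e1, e2⟩ := apply_repr ρ b h0 h1 h2 w
    obtain ⟨f0, f1, f2⟩ := apply_repr ρ b h0 h1 h2 (ρ h w)
    have ehh : ρ (h * h) w = ρ h (ρ h w) := by rw [map_mul, Module.End.mul_apply]
    ext i
    fin_cases i <;> simp [P, ehh, e0, e1, e2, f0, f1, f2, Finsupp.single_apply]
    · ring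
    · ring
    · field_simp
      ring
  have hbv : ∃ r : ℂ, b 1 = r • v := by
    obtain ⟨e0, e1, e2⟩ := apply_repr ρ b h0 h1 h2 v
    simp only [hhv, map_smul, Finsupp.smul_apply, smul_eq_mul] at e0 e1 e2
    have z0 : b.repr v 0 = 0 := by
      by_contra hne
      exact hc1 ((mul_eq_right₀ hne).mp e0)
    have z2 : b.repr v 2 = 0 := by
      by_contra hne
      have := mul_right_cancel₀ hne e2
      exact hc2 (by rw [show c * c = c * c⁻¹ from congrArg (c * ·) this, mul_inv_cancel₀ hc0])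
    have hv1 : v = b.repr v 1 • b 1 := by
      conv_lhs => rw [← b.sum_repr v]
      rw [Fin.sum_univ_three, z0, z2]
      simp
    have z1 : b.repr v 1 ≠ 0 := fun z1 => hv (by rw [hv1, z1, zero_smul])
    exact ⟨(b.repr v 1)⁻¹, by rw [hv1]; simp [smul_smul, z1]⟩
  obtain ⟨r, hr⟩ := hbv
  have hfix : ρ a ∘ₗ P = P := by
    refine LinearMap.ext fun w => ?_
    rw [LinearMap.comp_apply, hP, hr, map_smul, map_smul, hav]
  have htr := congrArg (LinearMap.trace ℂ V) hfix
  simp only [P, LinearMap.comp_add, LinearMap.comp_sub, LinearMap.comp_smul, LinearMap.comp_id, map_add,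
    map_sub, map_smul, smul_eq_mul] at htr
  simp only [← Module.End.mul_eq_comp, ← map_mul] at htr
  have hid : LinearMap.trace ℂ V LinearMap.id = 3 := by
    rw [LinearMap.trace_id, h3]; norm_num
  have e1 : LinearMap.trace ℂ V (ρ (a * (h * h))) = 1 + c * c + (c * c)⁻¹ := k3
  have e2 : LinearMap.trace ℂ V (ρ (h * h)) = 1 + c * c + (c * c)⁻¹ := k2
  have e3 : LinearMap.trace ℂ V (ρ (a * h)) = 1 + c + c⁻¹ := k1
  have e4 : LinearMap.trace ℂ V (ρ h) = 1 + c + c⁻¹ := hch
  rw [e1, e2, e3, e4, hid] at htr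
  have h5 : c⁻¹ * (LinearMap.trace ℂ V (ρ a) - 3) = 0 := by linear_combination htr
  rcases mul_eq_zero.mp h5 with h | h
  · exact inv_ne_zero hc0 h
  · exact ha (sub_eq_zero.mp h)

end Frame

theorem orbit_arith₁ {n e a s : ℕ} (ha : 2 ≤ a) (hs : 5 ≤ s) (he : e = 1 ∨ e = 2)
    (hn : e * a * s = n) (h : s * (a - 1) + 1 = n) : False := by
  obtain ⟨a, rfl⟩ : ∃ k, a = k + 1 := ⟨a - 1, by omega⟩
  rw [Nat.add_sub_cancel] at h
  rcases he with rfl | rfl <;> nlinarith

theorem orbit_arith₂ {n e a s f b t : ℕ} (ha : 2 ≤ a) (hb : 2 ≤ b) (hs : 5 ≤ s) (ht : 5 ≤ t)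
    (he : e = 1 ∨ e = 2) (hf : f = 1 ∨ f = 2) (hn : e * a * s = n) (hn' : f * b * t = n)
    (h : s * (a - 1) + t * (b - 1) + 1 = n) : n = 12 ∨ n = 24 ∨ n = 60 := by
  obtain ⟨a, rfl⟩ : ∃ k, a = k + 1 := ⟨a - 1, by omega⟩
  obtain ⟨b, rfl⟩ : ∃ k, b = k + 1 := ⟨b - 1, by omega⟩
  rw [Nat.add_sub_cancel, Nat.add_sub_cancel] at h
  have key : ∀ a b s t : ℕ, 1 ≤ a → 1 ≤ b → 5 ≤ s → 5 ≤ t → (a + 1) * s = n → 2 * (b + 1) * t = n →
      s * a + t * b + 1 = n → n = 12 := by
    intro a b s t ha hb hs ht h1 h2 h3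
    rcases (show a = 1 ∨ a = 2 ∨ 3 ≤ a by omega) with rfl | rfl | ha3
    · nlinarith
    · rcases (show b = 1 ∨ 2 ≤ b by omega) with rfl | hb2
      · omega
      · nlinarith
    · nlinarith
  rcases he with rfl | rfl <;> rcases hf with rfl | rfl
  · nlinarith
  · exact Or.inl (key a b s t (by omega) (by omega) hs ht (by linarith) hn' h)
  · exact Or.inl (key b a t s (by omega) (by omega) ht hs (by linarith) hn (by linarith))
  · nlinarith

theorem orbit_arith₃ {n e a s f b t g c r : ℕ} (ha : 2 ≤ a) (hb : 2 ≤ b) (hc : 2 ≤ c) (hs : 5 ≤ s)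
    (ht : 5 ≤ t) (hr : 5 ≤ r) (he : e = 1 ∨ e = 2) (hf : f = 1 ∨ f = 2) (hg : g = 1 ∨ g = 2)
    (hn : e * a * s = n) (hn' : f * b * t = n) (hn'' : g * c * r = n)
    (h : s * (a - 1) + t * (b - 1) + r * (c - 1) + 1 = n) : n = 12 ∨ n = 24 ∨ n = 60 := by
  obtain ⟨a, rfl⟩ : ∃ k, a = k + 1 := ⟨a - 1, by omega⟩
  obtain ⟨b, rfl⟩ : ∃ k, b = k + 1 := ⟨b - 1, by omega⟩
  obtain ⟨c, rfl⟩ : ∃ k, c = k + 1 := ⟨c - 1, by omega⟩
  simp only [Nat.add_sub_cancel] at h
  rcases he with rfl | rfl <;> rcases hf with rfl | rfl <;> rcases hg with rfl | rfl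
  iterate 7 nlinarith
  rcases (show a = 1 ∨ a = 2 ∨ 3 ≤ a by omega) with rfl | rfl | ha3 <;>
    rcases (show b = 1 ∨ b = 2 ∨ 3 ≤ b by omega) with rfl | rfl | hb3 <;>
    rcases (show c = 1 ∨ c = 2 ∨ c = 3 ∨ c = 4 ∨ 5 ≤ c by omega) with rfl | rfl | rfl | rfl | hc5 <;>
    first
      | omega
      | nlinarith
      | (rcases (show a = 3 ∨ a = 4 ∨ 5 ≤ a by omega) with rfl | rfl | ha5 <;>
          first | omega | nlinarith)
      | (rcases (show b = 3 ∨ b = 4 ∨ 5 ≤ b by omega) with rfl | rfl | hb5 <;>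
          first | omega | nlinarith)

/-- Subgroups of a nontrivial perfect group have index one or at least five. -/
theorem five_le_index {Q : Type u} [Group Q] [Finite Q] (hperf : commutator Q = ⊤) (H : Subgroup Q)
    (h : H ≠ ⊤) : 5 ≤ H.index := by
  by_contra hlt
  rw [not_le] at hlt
  classical
  haveI : Fintype (Q ⧸ H) := Fintype.ofFinite _
  have hcard : Nat.card (Q ⧸ H) ≤ 4 := by
    show H.index ≤ 4
    omega
  haveI hsol : Group.IsSolvable (Equiv.Perm (Q ⧸ H)) := by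
    refine H59.solvable_of_card ?_ ?_
    · rw [Nat.card_perm]
      exact lt_of_le_of_lt (Nat.factorial_le hcard) (by decide)
    · rw [Nat.card_perm]
      exact (Nat.factorial_dvd_factorial hcard).trans (by decide)
  let φ := MulAction.toPermHom Q (Q ⧸ H)
  have hle : ∀ k : ℕ, φ.range ≤ derivedSeries (Equiv.Perm (Q ⧸ H)) k := by
    intro k
    induction k with
    | zero => exact le_top
    | succ k ih =>
      rw [derivedSeries_succ]
      refine le_trans ?_ (Subgroup.commutator_mono ih ih)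
      rw [MonoidHom.range_eq_map, ← Subgroup.map_commutator, ← _root_.commutator_def, hperf]
  obtain ⟨k, hk⟩ := hsol.solvable
  refine h (top_unique fun q _ => ?_)
  have h1 : φ q ∈ (⊥ : Subgroup (Equiv.Perm (Q ⧸ H))) := hk ▸ hle k ⟨q, rfl⟩
  have h2 := Equiv.congr_fun (Subgroup.mem_bot.mp h1) ((1 : Q) : Q ⧸ H)
  change ((q * 1 : Q) : Q ⧸ H) = ((1 : Q) : Q ⧸ H) at h2
  rw [mul_one] at h2
  simpa using QuotientGroup.eq.mp h2.symm

/-- The order of a perfect rotation group. -/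
theorem card_eq_sixty {Q : Type u} [Group Q] [Finite Q] {V : Type*} [AddCommGroup V] [Module ℂ V]
    [FiniteDimensional ℂ V] (ρ : Representation ℂ Q V) [ρ.IsIrreducible] (h3 : finrank ℂ V = 3)
    (hperf : commutator Q = ⊤) [Nontrivial Q] (hfaith : ∀ q, ρ q = LinearMap.id → q = 1)
    (hdet : ∀ g, LinearMap.det (ρ g) = 1) (hreal : ∀ g, conj (ρ.character g) = ρ.character g) :
    Nat.card Q = 60 := by
  classical
  haveI := Fintype.ofFinite Q
  let Fx : Q → Submodule ℂ V := fun x => LinearMap.ker (ρ x - LinearMap.id)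
  have memFx : ∀ x v, v ∈ Fx x ↔ ρ x v = v := fun x v => by
    simp [Fx, LinearMap.mem_ker, sub_eq_zero]
  have hline : ∀ x : Q, x ≠ 1 → ∃ v, v ≠ 0 ∧ v ∈ Fx x ∧ ∀ w ∈ Fx x, ∃ c : ℂ, w = c • v := by
    intro x hx
    obtain ⟨v, hv, hxv, hw⟩ := fixed_line ρ h3 hdet hreal (fun h => hx (hfaith x h))
    exact ⟨v, hv, (memFx _ _).mpr hxv, fun w hw' => hw w ((memFx _ _).mp hw')⟩
  have hdim : ∀ x : Q, x ≠ 1 → ∀ y : Q, y ≠ 1 → (∀ v ∈ Fx x, ρ y v = v) → Fx y = Fx x := by
    intro x hx y hy h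
    obtain ⟨v, hv, hvx, -⟩ := hline x hx
    obtain ⟨v', hv', hvy, hw'⟩ := hline y hy
    refine le_antisymm (fun w hw => ?_) (fun w hw => (memFx _ _).mpr (h w hw))
    obtain ⟨c, rfl⟩ := hw' w hw
    obtain ⟨d, hd⟩ := hw' v ((memFx _ _).mpr (h v hvx))
    have hd0 : d ≠ 0 := fun h0 => hv (by rw [hd, h0, zero_smul])
    rw [show c • v' = (c * d⁻¹) • v by rw [hd, smul_smul, mul_assoc, inv_mul_cancel₀ hd0, mul_one]]
    exact (Fx x).smul_mem _ hvx
  letI actS : MulAction Q (Submodule ℂ V) :=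
    { smul := fun g L => L.map (ρ g)
      one_smul := fun L => by
        show L.map (ρ 1) = L
        rw [map_one]; exact Submodule.map_id L
      mul_smul := fun g h L => by
        show L.map (ρ (g * h)) = (L.map (ρ h)).map (ρ g)
        rw [map_mul, ← Submodule.map_comp]; rfl }
  have hsmul : ∀ (g : Q) (L : Submodule ℂ V), g • L = L.map (ρ g) := fun g L => rfl
  have hconjFx : ∀ g x : Q, g • Fx x = Fx (g * x * g⁻¹) := by
    intro g x
    rw [hsmul]
    ext w
    rw [Submodule.mem_map, memFx]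
    constructor
    · rintro ⟨v, hv, rfl⟩
      rw [memFx] at hv
      rw [← Module.End.mul_apply, ← map_mul, show g * x * g⁻¹ * g = g * x by group, map_mul,
        Module.End.mul_apply, hv]
    · intro hw
      refine ⟨ρ g⁻¹ w, (memFx _ _).mpr ?_, ?_⟩
      · rw [← Module.End.mul_apply, ← map_mul, show x * g⁻¹ = g⁻¹ * (g * x * g⁻¹) by group, map_mul,
          Module.End.mul_apply, hw]
      · rw [← Module.End.mul_apply, ← map_mul, mul_inv_cancel, map_one, Module.End.one_apply]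
  let Ωs : SubMulAction Q (Submodule ℂ V) :=
    { carrier := {L | ∃ x : Q, x ≠ 1 ∧ Fx x = L}
      smul_mem' := fun g L ⟨x, hx, hL⟩ => ⟨g * x * g⁻¹, fun h => hx (conj_eq_one_iff.mp h),
        by rw [← hconjFx, hL]⟩ }
  haveI : Finite Ωs := Finite.of_surjective
    (fun x : {x : Q // x ≠ 1} => (⟨Fx x.1, x.1, x.2, rfl⟩ : Ωs))
    (fun ⟨L, x, hx, hL⟩ => ⟨⟨x, hx⟩, Subtype.ext hL⟩)
  haveI : Fintype Ωs := Fintype.ofFinite _
  let A : Submodule ℂ V → Subgroup Q := fun L =>
    { carrier := {g | ∀ v ∈ L, ρ g v = v}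
      one_mem' := fun v _ => by rw [map_one, Module.End.one_apply]
      mul_mem' := fun {g h} hg hh v hv => by rw [map_mul, Module.End.mul_apply, hh v hv, hg v hv]
      inv_mem' := fun {g} hg v hv => by
        conv_lhs => rw [← hg v hv]
        rw [← Module.End.mul_apply, ← map_mul, inv_mul_cancel, map_one, Module.End.one_apply] }
  have memA : ∀ L g, g ∈ A L ↔ ∀ v ∈ L, ρ g v = v := fun L g => Iff.rfl
  -- the partition
  have hpart : ∑ L : Ωs, (Nat.card (A (L : Submodule ℂ V)) - 1) + 1 = Nat.card Q := by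
    let f : (Σ L : Ωs, {g : A (L : Submodule ℂ V) // g ≠ 1}) → {g : Q // g ≠ 1} :=
      fun p => ⟨p.2.1.1, fun h => p.2.2 (Subtype.ext h)⟩
    have hbij : Function.Bijective f := by
      constructor
      · rintro ⟨⟨L, hL⟩, ⟨⟨g, hg⟩, hg1⟩⟩ ⟨⟨L', hL'⟩, ⟨⟨g', hg'⟩, hg1'⟩⟩ h
        have hgg : g = g' := congrArg Subtype.val h
        subst hgg
        have e : L = L' := by
          obtain ⟨x, hx, rfl⟩ := hL
          obtain ⟨x', hx', rfl⟩ := hL'
          have hg0 : g ≠ 1 := fun h => hg1 (Subtype.ext h)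
          rw [← hdim x hx g hg0 hg, hdim x' hx' g hg0 hg']
        subst e
        rfl
      · rintro ⟨g, hg⟩
        exact ⟨⟨⟨Fx g, g, hg, rfl⟩, ⟨g, fun v hv => (memFx _ _).mp hv⟩, fun h => hg (congrArg Subtype.val h)⟩, rfl⟩
    have hcard : ∀ (T : Type u) [Group T] [Finite T], Nat.card {g : T // g ≠ 1} = Nat.card T - 1 := by
      intro T _ _
      haveI := Fintype.ofFinite T
      rw [Nat.card_eq_fintype_card, Fintype.card_subtype_compl, Fintype.card_subtype_eq,
        Nat.card_eq_fintype_card]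
    have := Nat.card_congr (Equiv.ofBijective f hbij)
    rw [Nat.card_sigma, hcard] at this
    have e := Finset.sum_congr (rfl : (Finset.univ : Finset Ωs) = Finset.univ)
      fun L _ => (hcard (A (L : Submodule ℂ V))).symm
    have h1 : 0 < Nat.card Q := Nat.card_pos
    omega
  -- data of an orbit
  let N : Ωs → Subgroup Q := fun L => MulAction.stabilizer Q L
  have memN : ∀ (L : Ωs) g, g ∈ N L ↔ (L : Submodule ℂ V).map (ρ g) = L := fun L g => by
    show g • L = L ↔ _
    rw [← hsmul, Subtype.ext_iff, SetLike.val_smul]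
  have hdata : ∀ L : Ωs, 2 ≤ Nat.card (A (L : Submodule ℂ V)) ∧ 5 ≤ (N L).index ∧
      ∃ e, (e = 1 ∨ e = 2) ∧ e * Nat.card (A (L : Submodule ℂ V)) * (N L).index = Nat.card Q := by
    rintro ⟨L, x, hx, rfl⟩
    obtain ⟨v, hv, hvx, hspan⟩ := hline x hx
    have hxA : x ∈ A (Fx x) := fun w hw => (memFx _ _).mp hw
    have h2 : 2 ≤ Nat.card (A (Fx x)) :=
      (Subgroup.one_lt_card_iff_ne_bot _).mpr fun h => hx (Subgroup.mem_bot.mp (h ▸ hxA))
    have hN : N ⟨Fx x, x, hx, rfl⟩ ≠ ⊤ := by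
      intro htop
      let S : Subrepresentation ρ := ⟨Fx x, fun g w hw => by
        have := (memN ⟨Fx x, x, hx, rfl⟩ g).mp (htop ▸ Subgroup.mem_top g)
        change (Fx x).map (ρ g) = Fx x at this
        exact this.le (Submodule.mem_map_of_mem hw)⟩
      rcases eq_bot_or_eq_top S with hS | hS
      · have e : S.toSubmodule = (⊥ : Submodule ℂ V) := congrArg Subrepresentation.toSubmodule hS
        have : v ∈ (⊥ : Submodule ℂ V) := e ▸ hvx
        exact hv ((Submodule.mem_bot ℂ).mp this)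
      · refine hx (hfaith x (LinearMap.ext fun w => (memFx x w).mp ?_))
        have : Fx x = ⊤ := congrArg Subrepresentation.toSubmodule hS
        rw [this]; trivial
    refine ⟨h2, five_le_index hperf _ hN, ?_⟩
    have hle : A (Fx x) ≤ N ⟨Fx x, x, hx, rfl⟩ := fun g hg => (memN _ g).mpr (by
      ext w
      rw [Submodule.mem_map]
      exact ⟨fun ⟨w', hw', e⟩ => by rw [← e, hg w' hw']; exact hw', fun hw => ⟨w, hw, hg w hw⟩⟩)
    have hchi : ρ.character x ≠ 3 := fun h => hx (hfaith x ((H12.character_eq_finrank_iff ρ x).mp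
      (by rw [h, h3]; norm_num)))
    let Nx := N ⟨Fx x, x, hx, rfl⟩
    let sgn : Nx → Bool := fun g => decide (ρ (g : Q) v = v)
    have hneg : ∀ g : Nx, ρ (g : Q) v = v ∨ ρ (g : Q) v = -v := by
      intro g
      have h1 : ρ (g : Q) v ∈ Fx x := by
        exact ((memN _ _).mp g.2).le (Submodule.mem_map_of_mem (f := ρ (g : Q)) hvx)
      obtain ⟨c, hc⟩ := hspan _ h1
      rcases sign_on_line ρ h3 hdet hreal hchi hv ((memFx _ _).mp hvx) hc with rfl | rfl
      · exact Or.inl (by rw [hc, one_smul])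
      · exact Or.inr (by rw [hc, neg_one_smul])
    have hind : ((A (Fx x)).subgroupOf Nx).index ≤ 2 := by
      let f : Nx ⧸ (A (Fx x)).subgroupOf Nx → Bool := Quotient.lift sgn (by
        intro g g' h
        have h' : (g : Q)⁻¹ * g' ∈ A (Fx x) := by
          have h0 := (QuotientGroup.leftRel_apply (s := (A (Fx x)).subgroupOf Nx)).mp h
          rwa [Subgroup.mem_subgroupOf, Subgroup.coe_mul, Subgroup.coe_inv] at h0
        have e := h' v hvx
        have e' : ρ (g' : Q) v = ρ (g : Q) v := by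
          conv_rhs => rw [← e, ← Module.End.mul_apply, ← map_mul, mul_inv_cancel_left]
        show decide _ = decide _
        rw [e'])
      have hf : Function.Injective f := by
        intro p q
        induction p using QuotientGroup.induction_on with
        | H g =>
          induction q using QuotientGroup.induction_on with
          | H g' =>
            intro h
            change decide (ρ (g : Q) v = v) = decide (ρ (g' : Q) v = v) at h
            rw [decide_eq_decide] at h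
            apply QuotientGroup.eq.mpr
            rw [Subgroup.mem_subgroupOf, Subgroup.coe_mul, Subgroup.coe_inv]
            have e : ρ (g' : Q) v = ρ (g : Q) v := by
              rcases hneg g with h1 | h1
              · rw [h1, h.mp h1]
              · rcases hneg g' with h2 | h2
                · rw [h2, h.mpr h2]
                · rw [h1, h2]
            intro w hw
            obtain ⟨c, rfl⟩ := hspan w hw
            rw [map_smul, map_mul, Module.End.mul_apply, e, ← Module.End.mul_apply, ← map_mul,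
              inv_mul_cancel, map_one, Module.End.one_apply]
      calc ((A (Fx x)).subgroupOf Nx).index ≤ Nat.card Bool := Nat.card_le_card_of_injective f hf
        _ = 2 := by simp
    have hpos : 0 < ((A (Fx x)).subgroupOf Nx).index := Nat.pos_of_ne_zero Subgroup.index_ne_zero_of_finite
    refine ⟨((A (Fx x)).subgroupOf Nx).index, by omega, ?_⟩
    rw [mul_comm _ (Nat.card _), ← Nat.card_congr (Subgroup.subgroupOfEquivOfLe hle).toEquiv,
      Subgroup.card_mul_index, Subgroup.card_mul_index]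
  -- orbit sums
  have hconst : ∀ (g : Q) (L : Ωs), Nat.card (A ((g • L : Ωs) : Submodule ℂ V)) = Nat.card (A (L : Submodule ℂ V)) := by
    intro g L
    have e : A ((g • L : Ωs) : Submodule ℂ V) = (A (L : Submodule ℂ V)).map (MulAut.conj g).toMonoidHom := by
      ext k
      rw [Subgroup.mem_map_equiv, memA, memA, SetLike.val_smul, hsmul]
      simp only [MulAut.conj_symm_apply, map_mul, Module.End.mul_apply]
      constructor
      · intro hk v hv
        rw [hk _ (Submodule.mem_map_of_mem hv), ← Module.End.mul_apply, ← map_mul, inv_mul_cancel,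
          map_one, Module.End.one_apply]
      · rintro hk _ ⟨v, hv, rfl⟩
        have h1 := congrArg (ρ g) (hk v hv)
        rw [← Module.End.mul_apply (ρ g) (ρ g⁻¹), ← map_mul, mul_inv_cancel, map_one,
          Module.End.one_apply] at h1
        exact h1
    rw [e, Subgroup.card_map_of_injective (MulAut.conj g).injective]
  let O := MulAction.orbitRel.Quotient Q Ωs
  haveI : Fintype O := Fintype.ofFinite _
  have hsum : ∑ L : Ωs, (Nat.card (A (L : Submodule ℂ V)) - 1) =
      ∑ o : O, (N o.out).index * (Nat.card (A (o.out : Submodule ℂ V)) - 1) := by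
    rw [← (MulAction.selfEquivSigmaOrbits Q Ωs).symm.sum_comp, Fintype.sum_sigma]
    refine Finset.sum_congr rfl fun o _ => ?_
    have : ∀ z : MulAction.orbit Q o.out,
        Nat.card (A ((MulAction.selfEquivSigmaOrbits Q Ωs).symm ⟨o, z⟩ : Submodule ℂ V)) - 1 =
          Nat.card (A (o.out : Submodule ℂ V)) - 1 := by
      rintro ⟨z, g, rfl⟩
      rw [← hconst g o.out]
      rfl
    rw [Finset.sum_congr rfl fun z _ => this z, Finset.sum_const, smul_eq_mul, Finset.card_univ,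
      ← Nat.card_eq_fintype_card, Nat.card_coe_set_eq, ← MulAction.index_stabilizer]
  rw [hsum] at hpart
  have hfour : ∀ o : O, Nat.card Q ≤ 4 * ((N o.out).index * (Nat.card (A (o.out : Submodule ℂ V)) - 1)) := by
    intro o
    obtain ⟨ha, -, e, he, hn⟩ := hdata o.out
    obtain ⟨k, hk⟩ : ∃ k, Nat.card (A (o.out : Submodule ℂ V)) = k + 2 := ⟨_, (Nat.sub_add_cancel ha).symm⟩
    rw [hk] at hn ⊢
    rcases he with rfl | rfl <;> rw [show k + 2 - 1 = k + 1 by omega] <;> nlinarith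
  have hle3 : Fintype.card O ≤ 3 := by
    have h1 := Finset.sum_le_sum (s := Finset.univ) fun o (_ : o ∈ Finset.univ) => hfour o
    rw [Finset.sum_const, smul_eq_mul, Finset.card_univ, ← Finset.mul_sum] at h1
    have : 0 < Nat.card Q := Nat.card_pos
    nlinarith
  suffices h : Nat.card Q = 12 ∨ Nat.card Q = 24 ∨ Nat.card Q = 60 by
    rcases h with h | h | h
    iterate 2
      exfalso
      haveI := H59.solvable_of_card (G := Q) (by omega) (by rw [h]; norm_num)
      exact absurd hperf (Group.IsSolvable.commutator_lt_top_of_nontrivial Q).ne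
    exact h
  interval_cases hO : Fintype.card O
  · rw [show (Finset.univ : Finset O) = ∅ from Finset.card_eq_zero.mp hO, Finset.sum_empty] at hpart
    exact absurd hpart.symm (Finite.one_lt_card (α := Q)).ne'
  · obtain ⟨o, ho⟩ := Finset.card_eq_one.mp (show (Finset.univ : Finset O).card = 1 from hO)
    rw [ho, Finset.sum_singleton] at hpart
    obtain ⟨ha, hs, e, he, hn⟩ := hdata o.out
    exact (orbit_arith₁ ha hs he hn hpart).elim
  · obtain ⟨o, o', hne, ho⟩ := Finset.card_eq_two.mp (show (Finset.univ : Finset O).card = 2 from hO)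
    rw [ho, Finset.sum_pair hne] at hpart
    obtain ⟨ha, hs, e, he, hn⟩ := hdata o.out
    obtain ⟨hb, ht, f, hf, hn'⟩ := hdata o'.out
    exact orbit_arith₂ ha hb hs ht he hf hn hn' hpart
  · obtain ⟨o, o', o'', h1, h2, h3', ho⟩ :=
      Finset.card_eq_three.mp (show (Finset.univ : Finset O).card = 3 from hO)
    rw [ho, Finset.sum_insert (by simp [h1, h2]), Finset.sum_pair h3', ← add_assoc] at hpart
    obtain ⟨ha, hs, e, he, hn⟩ := hdata o.out
    obtain ⟨hb, ht, f, hf, hn'⟩ := hdata o'.out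
    obtain ⟨hc, hr, g, hg, hn''⟩ := hdata o''.out
    exact orbit_arith₃ ha hb hc hs ht hr he hf hg hn hn' hn'' hpart

end H58.Rot
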