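import Cfsg.Agent.H18.WedgeChar
import Cfsg.Agent.H12.Transport
import Cfsg.Agent.H12.Linear
import Cfsg.Agent.H58.RotationOrder

/-!
Groups in which every nonprincipal irreducible character `χ` has `χ(1) - χ(u) = 4` or `χ(u) = 0`.
-/

set_option autoImplicit false
set_option linter.unusedSectionVars false

open Cfsg Module
open scoped ComplexConjugate

namespace H58.FourDeg

universe u

variable {G : Type u} [Group G] [Fintype G]

/-- The hypothesis. -/
def Hyp (x : G) : Prop :=
  ∀ χ : IrrCharacter G, χ ≠ H12.oneIrr G →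
    (χ : G → ℂ) 1 - (χ : G → ℂ) x = 4 ∨ (χ : G → ℂ) x = 0

theorem classInner_mul_mul (a b c d : G → ℂ) :
    classInner (a * b) (c * d) = classInner (fun g => a g * conj (c g)) (fun g => conj (b g) * d g) := by
  rw [H12.classInner_def, H12.classInner_def]
  congr 1
  refine Finset.sum_congr rfl fun g _ => ?_
  simp only [Pi.mul_apply, map_mul, Complex.conj_conj]
  ring

theorem classInner_mult (m : IrrCharacter G → ℕ) (ξ : IrrCharacter G) :
    classInner (∑ χ, (m χ : ℂ) • (χ : G → ℂ)) (ξ : G → ℂ) = (m ξ : ℂ) :=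
  H12.classInner_sum_smul_irr _ _

/-- Multiplicities of the constituents of a character. -/
theorem exists_data {ψ : G → ℂ} (hψ : IsCharacter G ψ) :
    ∃ m : IrrCharacter G → ℕ, ψ = ∑ χ, (m χ : ℂ) • (χ : G → ℂ) ∧
      (∀ ξ : IrrCharacter G, classInner ψ (ξ : G → ℂ) = (m ξ : ℂ)) ∧
      (∀ g, ψ g = ∑ χ, (m χ : ℂ) * (χ : G → ℂ) g) ∧
      classInner ψ ψ = ((∑ χ, m χ * m χ : ℕ) : ℂ) := by
  obtain ⟨m, hm⟩ := H12.IsCharacter.exists_mult hψ
  refine ⟨m, hm, fun ξ => by rw [hm, classInner_mult], fun g => ?_, ?_⟩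
  · conv_lhs => rw [hm]
    simp [Finset.sum_apply]
  · conv_lhs => arg 2; rw [hm]
    rw [H12.classInner_sum_right]
    push_cast
    refine Finset.sum_congr rfl fun χ _ => ?_
    rw [H12.classInner_smul_right, Complex.conj_natCast]
    conv_lhs => rw [hm, classInner_mult]

variable {x : G}

theorem degree_ne_one (hx : Hyp x) {χ : IrrCharacter G} (hχ : χ ≠ H12.oneIrr G) :
    H12.degree (χ : G → ℂ) ≠ 1 := by
  intro h1
  obtain ⟨f, hf⟩ := H12.exists_monoidHom_of_apply_one_eq_one (H12.isCharacter_irr χ)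
    (by rw [H12.irr_apply_one, h1, Nat.cast_one])
  have hn : ‖(χ : G → ℂ) x‖ ≤ 1 := by
    simpa [H12.irr_apply_one, h1] using H12.IsCharacter.norm_le (H12.isCharacter_irr χ) x
  rcases hx χ hχ with h | h
  · rw [H12.irr_apply_one, h1, Nat.cast_one] at h
    have e : (χ : G → ℂ) x = -3 := by linear_combination -h
    rw [e] at hn
    norm_num at hn
  · rw [← hf] at h
    exact (f x).ne_zero h

theorem two_le_degree (hx : Hyp x) {χ : IrrCharacter G} (hχ : χ ≠ H12.oneIrr G) :
    2 ≤ H12.degree (χ : G → ℂ) := by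
  have := H12.irr_degree_pos χ
  have := degree_ne_one hx hχ
  omega

theorem perfect (hx : Hyp x) : commutator G = ⊤ := by
  rw [← Subgroup.index_eq_one, ← H12.card_monoidHom_units]
  refine Nat.card_eq_one_iff_unique.mpr ⟨⟨fun f f' => ?_⟩, ⟨1⟩⟩
  have key : ∀ f : G →* ℂˣ, H12.linIrr f = H12.oneIrr G := fun f => by
    by_contra h
    refine degree_ne_one hx h ?_
    have := H12.irr_apply_one (H12.linIrr f)
    rw [H12.linIrr_apply, map_one, Units.val_one] at this
    exact_mod_cast this.symm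
  exact H12.linIrr_injective ((key f).trans (key f').symm)

/-- The value at `x`. -/
theorem apply_eq (hx : Hyp x) {χ : IrrCharacter G} (hχ : χ ≠ H12.oneIrr G)
    (h0 : (χ : G → ℂ) x ≠ 0) : (χ : G → ℂ) x = (H12.degree (χ : G → ℂ) : ℂ) - 4 := by
  rcases hx χ hχ with h | h
  · rw [H12.irr_apply_one] at h
    linear_combination -h
  · exact absurd h h0

theorem conj_apply_eq (hx : Hyp x) (χ : IrrCharacter G) :
    conj ((χ : G → ℂ) x) = (χ : G → ℂ) x := by
  by_cases hχ : χ = H12.oneIrr G
  · rw [hχ, H12.oneIrr_apply, map_one]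
  by_cases h0 : (χ : G → ℂ) x = 0
  · rw [h0, map_zero]
  rw [apply_eq hx hχ h0, map_sub, Complex.conj_natCast, map_ofNat]

theorem classInner_one (χ ψ : IrrCharacter G) :
    classInner (fun g => (χ : G → ℂ) g * conj ((ψ : G → ℂ) g)) (H12.oneIrr G : G → ℂ) =
      if χ = ψ then 1 else 0 := by
  rw [← H12.classInner_irr χ ψ, H12.classInner_def, H12.classInner_def]
  congr 1
  refine Finset.sum_congr rfl fun g _ => ?_
  rw [H12.oneIrr_apply, map_one, mul_one]

theorem degree_two_apply (hx : Hyp x) (hne : x ≠ 1) {χ : IrrCharacter G} (hχ : χ ≠ H12.oneIrr G)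
    (h2 : H12.degree (χ : G → ℂ) = 2) : (χ : G → ℂ) x = 0 := by
  by_contra h0
  have hv : (χ : G → ℂ) x = -2 := by rw [apply_eq hx hχ h0, h2]; norm_num
  have hψ : IsCharacter G ((χ : G → ℂ) * (χ : G → ℂ)) :=
    H12.IsCharacter.mul (H12.isCharacter_irr χ) (H12.isCharacter_irr χ)
  obtain ⟨m, -, hm, hg, -⟩ := exists_data hψ
  have hdeg := hg 1
  have hval := hg x
  simp only [Pi.mul_apply, H12.irr_apply_one, h2, hv] at hdeg hval
  have hone : (m (H12.oneIrr G) : ℕ) ≤ 1 := by
    have h := hm (H12.oneIrr G)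
    have e : (χ : G → ℂ) * (χ : G → ℂ) =
        fun g => (χ : G → ℂ) g * conj ((H12.conjIrr χ : G → ℂ) g) := by
      funext g
      rw [H12.conjIrr_apply, Complex.conj_conj]
      rfl
    rw [e, classInner_one] at h
    split_ifs at h with hc
    · exact le_of_eq (by exact_mod_cast h.symm)
    · have : m (H12.oneIrr G) = 0 := by exact_mod_cast h.symm
      omega
  have hdiff : ∑ θ : IrrCharacter G, (m θ : ℂ) * ((H12.degree (θ : G → ℂ) : ℂ) - (θ : G → ℂ) x) = 0 := by
    simp only [mul_sub, Finset.sum_sub_distrib, ← hdeg, ← hval]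
    norm_num
  have hnn : ∀ θ : IrrCharacter G, 0 ≤ (m θ : ℝ) * ((H12.degree (θ : G → ℂ) : ℝ) - ((θ : G → ℂ) x).re) := by
    intro θ
    refine mul_nonneg (Nat.cast_nonneg _) (sub_nonneg.mpr ?_)
    refine (Complex.re_le_norm _).trans ?_
    simpa [H12.irr_apply_one] using H12.IsCharacter.norm_le (H12.isCharacter_irr θ) x
  have hre := congrArg Complex.re hdiff
  simp only [Complex.re_sum, Complex.mul_re, Complex.natCast_re, Complex.natCast_im, zero_mul, sub_zero,
    Complex.sub_re, Complex.zero_re] at hre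
  have hall : ∀ θ : IrrCharacter G, θ ≠ H12.oneIrr G → m θ = 0 := by
    intro θ hθ
    have h1 := (Finset.sum_eq_zero_iff_of_nonneg fun θ _ => hnn θ).mp hre θ (Finset.mem_univ _)
    by_contra hm0
    rcases mul_eq_zero.mp h1 with h | h
    · exact hm0 (by exact_mod_cast h)
    · have hd := two_le_degree hx hθ
      have hdR : (2 : ℝ) ≤ (H12.degree (θ : G → ℂ) : ℝ) := by exact_mod_cast hd
      by_cases hz : (θ : G → ℂ) x = 0
      · rw [hz, Complex.zero_re] at h
        linarith
      · rw [apply_eq hx hθ hz] at h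
        simp at h
  rw [Finset.sum_eq_single (H12.oneIrr G) (fun θ _ h => by rw [hall θ h]; simp)
    (fun h => absurd (Finset.mem_univ _) h)] at hdeg
  have hd1 : H12.degree ((H12.oneIrr G : IrrCharacter G) : G → ℂ) = 1 := by
    have := H12.irr_apply_one (H12.oneIrr G)
    rw [H12.oneIrr_apply] at this
    exact_mod_cast this.symm
  rw [hd1, Nat.cast_one, mul_one] at hdeg
  have h4 : m (H12.oneIrr G) = 4 := by
    have e : ((2 : ℕ) : ℂ) * ((2 : ℕ) : ℂ) = (m (H12.oneIrr G) : ℂ) := hdeg
    exact_mod_cast (by linear_combination -e : (m (H12.oneIrr G) : ℂ) = ((4 : ℕ) : ℂ))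
  omega

theorem degree_dichotomy (hx : Hyp x) (hne : x ≠ 1) {χ : IrrCharacter G} (hχ : χ ≠ H12.oneIrr G)
    (h0 : (χ : G → ℂ) x ≠ 0) :
    H12.degree (χ : G → ℂ) = 3 ∨ 5 ≤ H12.degree (χ : G → ℂ) := by
  have h2 := two_le_degree hx hχ
  have h2' : H12.degree (χ : G → ℂ) ≠ 2 := fun h => h0 (degree_two_apply hx hne hχ h)
  have h4 : H12.degree (χ : G → ℂ) ≠ 4 := fun h => h0 (by rw [apply_eq hx hχ h0, h]; norm_num)
  omega

/-- The characters of degree three not vanishing at `x`. -/
def IsThree (x : G) (χ : IrrCharacter G) : Prop :=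
  H12.degree (χ : G → ℂ) = 3 ∧ (χ : G → ℂ) x ≠ 0

/-- The characters of degree at least five not vanishing at `x`. -/
def IsPos (x : G) (χ : IrrCharacter G) : Prop :=
  5 ≤ H12.degree (χ : G → ℂ) ∧ (χ : G → ℂ) x ≠ 0

theorem ne_one_of_degree {χ : IrrCharacter G} (h : 2 ≤ H12.degree (χ : G → ℂ)) : χ ≠ H12.oneIrr G := by
  intro e
  have := H12.irr_apply_one χ
  rw [e, H12.oneIrr_apply] at this
  have h1 : H12.degree ((H12.oneIrr G : IrrCharacter G) : G → ℂ) = 1 := by exact_mod_cast this.symm
  rw [e, h1] at h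
  omega

theorem IsThree.apply (hx : Hyp x) {χ : IrrCharacter G} (h : IsThree x χ) : (χ : G → ℂ) x = -1 := by
  rw [apply_eq hx (ne_one_of_degree (by rw [h.1]; norm_num)) h.2, h.1]; norm_num

theorem IsThree.conjIrr {χ : IrrCharacter G} (h : IsThree x χ) : IsThree x (H12.conjIrr χ) := by
  refine ⟨?_, ?_⟩
  · have e := H12.irr_apply_one (H12.conjIrr χ)
    rw [H12.conjIrr_apply, H12.irr_apply_one, Complex.conj_natCast, h.1] at e
    exact_mod_cast e.symm
  · rw [H12.conjIrr_apply]
    exact fun e => h.2 ((map_eq_zero _).mp e)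

/-- A combination without principal part, of degree `D ≤ 6` and value `D - 4 ≥ 1`. -/
theorem rest_single (hx : Hyp x) (hne : x ≠ 1) (m : IrrCharacter G → ℕ)
    (h1 : m (H12.oneIrr G) = 0) (D : ℕ) (hD : D ≤ 6) (hD5 : 5 ≤ D)
    (hdeg : ∑ χ, (m χ : ℂ) * (H12.degree (χ : G → ℂ) : ℂ) = (D : ℂ))
    (hval : ∑ χ, (m χ : ℂ) * (χ : G → ℂ) x = (D : ℂ) - 4) :
    ∃ π, IsPos x π ∧ H12.degree (π : G → ℂ) = D ∧ m π = 1 ∧ ∀ χ, χ ≠ π → m χ = 0 := by
  classical
  have hdegN : ∑ χ, m χ * H12.degree (χ : G → ℂ) = D := by exact_mod_cast hdeg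
  obtain ⟨π, hπP, hπ⟩ : ∃ π, IsPos x π ∧ 0 < m π := by
    by_contra hno
    push Not at hno
    have hle : ∀ χ : IrrCharacter G, ((m χ : ℂ) * (χ : G → ℂ) x).re ≤ 0 := by
      intro χ
      by_cases hm : m χ = 0
      · simp [hm]
      have hχ : χ ≠ H12.oneIrr G := fun e => hm (e ▸ h1)
      by_cases h0 : (χ : G → ℂ) x = 0
      · simp [h0]
      rcases degree_dichotomy hx hne hχ h0 with h3 | h5
      · rw [IsThree.apply hx ⟨h3, h0⟩]
        simp
      · exact absurd (hno χ ⟨h5, h0⟩) (by omega)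
    have hre := congrArg Complex.re hval
    rw [Complex.re_sum] at hre
    have h := Finset.sum_nonpos (s := Finset.univ) fun χ (_ : χ ∈ Finset.univ) => hle χ
    rw [hre] at h
    simp at h
    have : (5 : ℝ) ≤ (D : ℝ) := by exact_mod_cast hD5
    linarith
  have hs := Finset.add_sum_erase Finset.univ (fun χ => m χ * H12.degree (χ : G → ℂ)) (Finset.mem_univ π)
  simp only [hdegN] at hs
  have hrest : ∀ χ, χ ≠ π → m χ = 0 := by
    intro χ hχ
    by_contra hm
    have h2 := two_le_degree hx (fun e => hm (e ▸ h1) : χ ≠ H12.oneIrr G)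
    have hsingle := Finset.single_le_sum (f := fun χ => m χ * H12.degree (χ : G → ℂ))
      (fun _ _ => Nat.zero_le _) (Finset.mem_erase.mpr ⟨hχ, Finset.mem_univ χ⟩)
    have := hπP.1
    have e1 := h2.trans (Nat.le_mul_of_pos_left (H12.degree (χ : G → ℂ)) (Nat.pos_of_ne_zero hm))
    have e2 := this.trans (Nat.le_mul_of_pos_left (H12.degree (π : G → ℂ)) hπ)
    omega
  have hz : ∑ χ ∈ Finset.univ.erase π, m χ * H12.degree (χ : G → ℂ) = 0 :=
    Finset.sum_eq_zero fun χ hχ => by rw [hrest χ (Finset.ne_of_mem_erase hχ), zero_mul]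
  rw [hz, add_zero] at hs
  have hm1 : m π = 1 := by
    have := hπP.1
    by_contra h
    have : 2 ≤ m π := by omega
    nlinarith
  exact ⟨π, hπP, by rw [hm1, one_mul] at hs; exact hs, hm1, hrest⟩

/-- The determinant is trivial. -/
theorem det_eq_one (hperf : commutator G = ⊤) {V : Type*} [AddCommGroup V] [Module ℂ V]
    [FiniteDimensional ℂ V] (ρ : Representation ℂ G V) (g : G) : LinearMap.det (ρ g) = 1 := by
  let f : G →* ℂˣ := ((LinearMap.det : (V →ₗ[ℂ] V) →* ℂ).comp ρ).toHomUnits
  have hk : g ∈ f.ker := Abelianization.commutator_subset_ker f (hperf ▸ Subgroup.mem_top g)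
  exact congrArg Units.val (MonoidHom.mem_ker.mp hk)

/-- For a character of degree three of a perfect group, `χ(g)² - χ(g²) = 2 conj χ(g)`. -/
theorem sq_sub_eq (hperf : commutator G = ⊤) {χ : IrrCharacter G}
    (h3 : H12.degree (χ : G → ℂ) = 3) (g : G) :
    (χ : G → ℂ) g * (χ : G → ℂ) g - (χ : G → ℂ) (g * g) = 2 * conj ((χ : G → ℂ) g) := by
  classical
  obtain ⟨n, ρ, hirr, hρ⟩ := χ.2
  rw [← hρ]
  have hn : finrank ℂ (Fin n → ℂ) = 3 := by rw [← H12.degree_character ρ, hρ, h3]
  obtain ⟨b₀, μ₀, hb₀⟩ := H12.exists_eigenbasis (orderOf_pos g).ne' (H12.rep_pow_orderOf ρ g)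
  let b := b₀.reindex (finCongr hn)
  let μ : Fin 3 → ℂ := fun i => μ₀ ((finCongr hn).symm i)
  have hb : ∀ i, ρ g (b i) = μ i • b i := fun i => by
    simp only [b, μ, Basis.reindex_apply]
    exact (hb₀ _).1
  have hb2 : ∀ i, ρ (g * g) (b i) = (μ i * μ i) • b i := fun i => by
    rw [map_mul, Module.End.mul_apply, hb, map_smul, hb, smul_smul]
  have hconj : ∀ i, conj (μ i) = (μ i)⁻¹ := fun i =>
    H12.conj_eq_inv_of_pow_eq_one (orderOf_pos g).ne' (hb₀ _).2
  have hne : ∀ i, μ i ≠ 0 := fun i h => by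
    have := H12.norm_eq_one_of_pow_eq_one (orderOf_pos g).ne' (hb₀ ((finCongr hn).symm i)).2
    rw [show μ₀ ((finCongr hn).symm i) = 0 from h, norm_zero] at this
    exact zero_ne_one this
  have hdiag : ∀ (T : (Fin n → ℂ) →ₗ[ℂ] (Fin n → ℂ)) (ν : Fin 3 → ℂ), (∀ i, T (b i) = ν i • b i) →
      LinearMap.toMatrix b b T = Matrix.diagonal ν := by
    intro T ν hT
    ext i j
    rw [LinearMap.toMatrix_apply, hT, map_smul, Basis.repr_self]
    by_cases h : i = j
    · subst h; simp
    · simp [Matrix.diagonal_apply_ne _ h, Finsupp.single_eq_of_ne h]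
  have hdet : μ 0 * μ 1 * μ 2 = 1 := by
    rw [← det_eq_one hperf ρ g, ← LinearMap.det_toMatrix b, hdiag _ μ hb, Matrix.det_diagonal,
      Fin.prod_univ_three]
  show LinearMap.trace ℂ _ (ρ g) * LinearMap.trace ℂ _ (ρ g) - LinearMap.trace ℂ _ (ρ (g * g)) =
    2 * conj (LinearMap.trace ℂ _ (ρ g))
  rw [LinearMap.trace_eq_matrix_trace ℂ b, LinearMap.trace_eq_matrix_trace ℂ b, hdiag _ μ hb,
    hdiag _ (fun i => μ i * μ i) hb2, Matrix.trace_diagonal, Matrix.trace_diagonal, Fin.sum_univ_three,
    Fin.sum_univ_three, map_add, map_add, hconj, hconj, hconj]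
  have h0 := hne 0; have h1 := hne 1; have h2 := hne 2
  field_simp
  linear_combination 2 * (μ 1 * μ 2 + μ 0 * μ 2 + μ 0 * μ 1) * hdet

theorem isCharacter_symm {χ : G → ℂ} (h : IsCharacter G χ) :
    IsCharacter G (fun g => (χ g * χ g + χ (g * g)) / 2) := by
  obtain ⟨n, ρ, rfl⟩ := h
  set X := H17.rmat ρ with hX
  let W : Submodule ℂ (Matrix (Fin n) (Fin n) ℂ) :=
    LinearMap.ker (H17.transL - LinearMap.id)
  have hW : ∀ M, M ∈ W ↔ M.transpose = M := fun M => by
    simp [W, H17.transL_apply, sub_eq_zero]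
  have hmaps : ∀ g, ∀ M ∈ W, H17.sandwich (X g) (X g).transpose M ∈ W := by
    intro g M hM
    rw [hW] at hM ⊢
    rw [H17.sandwich_apply, Matrix.transpose_mul, Matrix.transpose_mul, Matrix.transpose_transpose, hM]
    simp [mul_assoc]
  let σ : Representation ℂ G W :=
    { toFun := fun g => (H17.sandwich (X g) (X g).transpose).restrict (hmaps g)
      map_one' := LinearMap.ext fun M => Subtype.ext (by
        simp [LinearMap.restrict_apply, H17.sandwich_apply])
      map_mul' := fun a b => LinearMap.ext fun M => Subtype.ext (by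
        simp [LinearMap.restrict_apply, H17.sandwich_apply, mul_assoc]) }
  have hσ : σ.character = fun g =>
      (ρ.character g * ρ.character g + ρ.character (g * g)) / 2 := by
    funext g
    let f : Matrix (Fin n) (Fin n) ℂ →ₗ[ℂ] Matrix (Fin n) (Fin n) ℂ :=
      (2 : ℂ)⁻¹ • (H17.sandwich (X g) (X g).transpose +
        H17.transL ∘ₗ H17.sandwich (X g) (X g).transpose)
    have hf : ∀ M, f M ∈ W := fun M => by
      rw [hW]
      simp only [f, LinearMap.smul_apply, LinearMap.add_apply, LinearMap.comp_apply,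
        H17.transL_apply, Matrix.transpose_smul, Matrix.transpose_add, Matrix.transpose_transpose,
        add_comm]
    have e : σ g = f.restrict (fun M (_ : M ∈ W) => hf M) := by
      refine LinearMap.ext fun M => Subtype.ext ?_
      show H17.sandwich (X g) (X g).transpose (M : Matrix (Fin n) (Fin n) ℂ) = f M
      have h1 := (hW _).mp (hmaps g M M.2)
      simp only [f, LinearMap.smul_apply, LinearMap.add_apply, LinearMap.comp_apply,
        H17.transL_apply, h1, ← two_smul ℂ, smul_smul,
        inv_mul_cancel₀ (two_ne_zero : (2 : ℂ) ≠ 0), one_smul]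
    show LinearMap.trace ℂ W (σ g) = _
    rw [e, LinearMap.trace_restrict_eq_of_forall_mem W f hf, map_smul, map_add,
      H17.trace_sandwich, H17.trace_transL_sandwich, ← Matrix.transpose_mul, Matrix.trace_transpose,
      Matrix.trace_transpose, ← map_mul, smul_eq_mul, hX, H17.trace_rmat, H17.trace_rmat]
    ring
  rw [← hσ]
  exact H12.isCharacter_character σ

/-- `conj χ` is a constituent of `χ²`. -/
theorem sq_split (hperf : commutator G = ⊤) {χ : IrrCharacter G}
    (h3 : H12.degree (χ : G → ℂ) = 3) :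
    ∃ S : G → ℂ, IsCharacter G S ∧
      (χ : G → ℂ) * (χ : G → ℂ) = (H12.conjIrr χ : G → ℂ) + S := by
  refine ⟨_, isCharacter_symm (H12.isCharacter_irr χ), funext fun g => ?_⟩
  rw [Pi.mul_apply, Pi.add_apply, H12.conjIrr_apply]
  linear_combination (1 / 2 : ℂ) * sq_sub_eq hperf h3 g

/-- A nonreal three gives a constituent of degree six and an irreducible adjoint. -/
theorem nonreal_three (hx : Hyp x) (hne : x ≠ 1) {χ : IrrCharacter G} (h : IsThree x χ)
    (hnr : H12.conjIrr χ ≠ χ) :
    (∃ π, IsPos x π ∧ H12.degree (π : G → ℂ) = 6) ∧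
      ∃ η : IrrCharacter G, H12.degree (η : G → ℂ) = 8 ∧
        (fun g => (χ : G → ℂ) g * conj ((χ : G → ℂ) g)) = (H12.oneIrr G : G → ℂ) + (η : G → ℂ) := by
  classical
  obtain ⟨S, hS, he⟩ := sq_split (perfect hx) h.1
  obtain ⟨m, hms, hm, hg, -⟩ := exists_data hS
  have hS1 : classInner S (H12.oneIrr G : G → ℂ) = 0 := by
    have e : (χ : G → ℂ) * (χ : G → ℂ) = fun g => (χ : G → ℂ) g * conj ((H12.conjIrr χ : G → ℂ) g) := by
      funext g
      rw [H12.conjIrr_apply, Complex.conj_conj]; rfl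
    have h2 := classInner_one χ (H12.conjIrr χ)
    rw [← e, he, H12.classInner_add_left, H12.classInner_irr,
      if_neg (ne_one_of_degree (by rw [h.conjIrr.1]; norm_num)), zero_add, if_neg (fun e => hnr e.symm)] at h2
    exact h2
  have hdeg := congrFun he 1
  have hval := congrFun he x
  simp only [Pi.mul_apply, Pi.add_apply, H12.irr_apply_one, h.1, h.conjIrr.1, IsThree.apply hx h,
    IsThree.apply hx h.conjIrr] at hdeg hval
  obtain ⟨π, hπ, hπd, hπm, hrest⟩ := rest_single hx hne m
    (by have := hm (H12.oneIrr G); rw [hS1] at this; exact_mod_cast this.symm) 6 le_rfl (by norm_num)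
    (by
      have h' := hg 1
      simp only [H12.irr_apply_one] at h'
      rw [← h']
      push_cast at hdeg ⊢
      linear_combination -hdeg)
    (by
      rw [← hg x]
      push_cast
      linear_combination -hval)
  refine ⟨⟨π, hπ, hπd⟩, ?_⟩
  have hSπ : S = (π : G → ℂ) := by
    rw [hms, Finset.sum_eq_single π (fun χ _ hne' => by rw [hrest χ hne']; simp)
      (fun h => absurd (Finset.mem_univ _) h), hπm, Nat.cast_one, one_smul]
  set A : G → ℂ := fun g => (χ : G → ℂ) g * conj ((χ : G → ℂ) g) with hA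
  have hnorm : classInner A A = 2 := by
    have e1 : classInner A A = classInner ((χ : G → ℂ) * (χ : G → ℂ)) ((χ : G → ℂ) * (χ : G → ℂ)) := by
      rw [H12.classInner_def, H12.classInner_def]
      congr 1
      refine Finset.sum_congr rfl fun g _ => ?_
      simp only [hA, Pi.mul_apply, map_mul, Complex.conj_conj]
      ring
    have hne' : H12.conjIrr χ ≠ π := fun e => by
      have := h.conjIrr.1
      rw [e, hπd] at this
      omega
    rw [e1, he, hSπ, H12.classInner_add_left, H12.classInner_add_right, H12.classInner_add_right,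
      H12.classInner_irr, H12.classInner_irr, H12.classInner_irr, H12.classInner_irr, if_pos rfl,
      if_pos rfl, if_neg hne', if_neg hne'.symm]
    norm_num
  have hAc : IsCharacter G A :=
    H12.IsCharacter.mul (H12.isCharacter_irr χ) (H12.IsCharacter.star (H12.isCharacter_irr χ))
  obtain ⟨k, hks, hk, hkg, hkn⟩ := exists_data hAc
  have hk1 : k (H12.oneIrr G) = 1 := by
    have := hk (H12.oneIrr G)
    rw [hA, classInner_one, if_pos rfl] at this
    exact_mod_cast this.symm
  rw [hnorm] at hkn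
  have hN : ∑ θ, k θ * k θ = 2 := by exact_mod_cast hkn.symm
  rw [← Finset.add_sum_erase _ _ (Finset.mem_univ (H12.oneIrr G)), hk1] at hN
  have hN1 : ∑ θ ∈ Finset.univ.erase (H12.oneIrr G), k θ * k θ = 1 := by omega
  obtain ⟨η, hη, hη0⟩ := Finset.exists_ne_zero_of_sum_ne_zero (hN1.trans_ne one_ne_zero)
  rw [← Finset.add_sum_erase _ _ hη] at hN1
  have hηpos : 0 < k η * k η := Nat.pos_of_ne_zero hη0
  have hkη : k η = 1 := Nat.eq_one_of_mul_eq_one_left (show k η * k η = 1 by omega)
  have hη1 := Finset.ne_of_mem_erase hη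
  have hzero : ∀ θ, θ ≠ H12.oneIrr G → θ ≠ η → k θ = 0 := by
    intro θ h1 h2
    have := Finset.single_le_sum (f := fun θ => k θ * k θ) (fun _ _ => Nat.zero_le _)
      (Finset.mem_erase.mpr ⟨h2, Finset.mem_erase.mpr ⟨h1, Finset.mem_univ θ⟩⟩)
    by_contra hk0
    have : 0 < k θ * k θ := Nat.mul_pos (Nat.pos_of_ne_zero hk0) (Nat.pos_of_ne_zero hk0)
    omega
  have hsum : A = (H12.oneIrr G : G → ℂ) + (η : G → ℂ) := by
    rw [hks, Fintype.sum_eq_add (H12.oneIrr G) η hη1.symm (fun θ hθ => by rw [hzero θ hθ.1 hθ.2]; simp),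
      hk1, hkη, Nat.cast_one, one_smul, one_smul]
  refine ⟨η, ?_, hsum⟩
  have h1 := congrFun hsum 1
  simp only [hA, Pi.add_apply, H12.oneIrr_apply, H12.irr_apply_one, h.1, Complex.conj_natCast] at h1
  have : (H12.degree (η : G → ℂ) : ℂ) = ((8 : ℕ) : ℂ) := by push_cast; push_cast at h1; linear_combination -h1
  exact_mod_cast this

/-- The positive constituent of the product of two different threes. -/
theorem exists_pos_constituent (hx : Hyp x) (hne : x ≠ 1) {χ ψ : IrrCharacter G} (h : IsThree x χ)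
    (h' : IsThree x ψ) (hχψ : χ ≠ ψ) :
    ∃ π, IsPos x π ∧ classInner (fun g => (χ : G → ℂ) g * conj ((ψ : G → ℂ) g)) (π : G → ℂ) ≠ 0 := by
  classical
  have hc : IsCharacter G (fun g => (χ : G → ℂ) g * conj ((ψ : G → ℂ) g)) :=
    H12.IsCharacter.mul (H12.isCharacter_irr χ) (H12.IsCharacter.star (H12.isCharacter_irr ψ))
  obtain ⟨m, -, hm, hg, -⟩ := exists_data hc
  by_contra hno
  push Not at hno
  have h1 : m (H12.oneIrr G) = 0 := by
    have := hm (H12.oneIrr G)
    rw [classInner_one, if_neg hχψ] at this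
    exact_mod_cast this.symm
  have hle : ∀ θ : IrrCharacter G, ((m θ : ℂ) * (θ : G → ℂ) x).re ≤ 0 := by
    intro θ
    by_cases hm0 : m θ = 0
    · simp [hm0]
    have hθ : θ ≠ H12.oneIrr G := fun e => hm0 (e ▸ h1)
    by_cases h0 : (θ : G → ℂ) x = 0
    · simp [h0]
    rcases degree_dichotomy hx hne hθ h0 with h3 | h5
    · rw [IsThree.apply hx ⟨h3, h0⟩]
      simp
    · refine absurd ?_ hm0
      have := hm θ
      rw [hno θ ⟨h5, h0⟩] at this
      exact_mod_cast this.symm
  have hv := hg x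
  rw [IsThree.apply hx h, IsThree.apply hx h'] at hv
  have hre := congrArg Complex.re hv
  rw [Complex.re_sum] at hre
  have := Finset.sum_nonpos (s := Finset.univ) fun θ (_ : θ ∈ Finset.univ) => hle θ
  rw [← hre] at this
  norm_num at this

/-- Orthogonality of the columns of `1` and `x`. -/
theorem count_eq (hx : Hyp x) (hne : x ≠ 1) [DecidablePred (IsThree x)] [DecidablePred (IsPos x)] :
    ∑ π ∈ Finset.univ.filter (IsPos x), H12.degree (π : G → ℂ) * (H12.degree (π : G → ℂ) - 4) + 1 =
      3 * (Finset.univ.filter (IsThree x)).card := by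
  classical
  have hcol := H12.column_orthogonality x (1 : G)
  rw [if_neg (fun h => hne (isConj_one_left.mp h))] at hcol
  let w : IrrCharacter G → ℤ := fun χ =>
    if IsThree x χ then -3 else if IsPos x χ then
      ((H12.degree (χ : G → ℂ) * (H12.degree (χ : G → ℂ) - 4) : ℕ) : ℤ)
    else if χ = H12.oneIrr G then 1 else 0
  have hw : ∀ χ : IrrCharacter G, (χ : G → ℂ) x * conj ((χ : G → ℂ) 1) = (w χ : ℂ) := by
    intro χ
    rw [H12.irr_apply_one, Complex.conj_natCast]
    by_cases h3 : IsThree x χ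
    · simp only [w, if_pos h3, h3.1, IsThree.apply hx h3]; norm_num
    by_cases h5 : IsPos x χ
    · simp only [w, if_neg h3, if_pos h5,
        apply_eq hx (ne_one_of_degree (le_trans (by norm_num) h5.1)) h5.2]
      rw [Int.cast_natCast, Nat.cast_mul, Nat.cast_sub (show 4 ≤ H12.degree (χ : G → ℂ) by
        have := h5.1; omega)]
      push_cast
      ring
    by_cases h1 : χ = H12.oneIrr G
    · simp only [w, if_neg h3, if_neg h5, if_pos h1]
      subst h1
      have := H12.irr_apply_one (H12.oneIrr G)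
      rw [H12.oneIrr_apply] at this ⊢
      rw [← this]; simp
    · simp only [w, if_neg h3, if_neg h5, if_neg h1, Int.cast_zero]
      by_cases h0 : (χ : G → ℂ) x = 0
      · rw [h0, zero_mul]
      · rcases degree_dichotomy hx hne h1 h0 with h | h
        · exact absurd ⟨h, h0⟩ h3
        · exact absurd ⟨h, h0⟩ h5
  rw [Finset.sum_congr rfl fun χ _ => hw χ, ← Int.cast_sum] at hcol
  have hz : ∑ χ, w χ = 0 := by exact_mod_cast hcol
  have hsplit : ∀ χ, w χ = (if IsThree x χ then (-3 : ℤ) else 0) +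
      (if IsPos x χ then ((H12.degree (χ : G → ℂ) * (H12.degree (χ : G → ℂ) - 4) : ℕ) : ℤ) else 0) +
      (if χ = H12.oneIrr G then 1 else 0) := by
    intro χ
    by_cases h3 : IsThree x χ
    · have h5 : ¬ IsPos x χ := fun h => by have := h.1; have := h3.1; omega
      have h1 : χ ≠ H12.oneIrr G := ne_one_of_degree (by rw [h3.1]; norm_num)
      simp [w, h3, h5, h1]
    by_cases h5 : IsPos x χ
    · have h1 : χ ≠ H12.oneIrr G := ne_one_of_degree (le_trans (by norm_num) h5.1)
      simp [w, h3, h5, h1]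
    simp [w, h3, h5]
  rw [Finset.sum_congr rfl fun χ _ => hsplit χ, Finset.sum_add_distrib, Finset.sum_add_distrib,
    ← Finset.sum_filter, ← Finset.sum_filter, Finset.sum_ite_eq', if_pos (Finset.mem_univ _),
    Finset.sum_const, nsmul_eq_mul, ← Nat.cast_sum] at hz
  have : ((∑ π ∈ Finset.univ.filter (IsPos x),
      H12.degree (π : G → ℂ) * (H12.degree (π : G → ℂ) - 4) + 1 : ℕ) : ℤ) =
      ((3 * (Finset.univ.filter (IsThree x)).card : ℕ) : ℤ) := by
    push_cast at hz ⊢
    linarith
  exact_mod_cast this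

/-- All threes are real. -/
theorem three_real (hx : Hyp x) (hne : x ≠ 1) {χ : IrrCharacter G} (h : IsThree x χ) :
    H12.conjIrr χ = χ := by
  classical
  by_contra hnr
  obtain ⟨⟨σ, hσ, hσd⟩, η, hηd, hη⟩ := nonreal_three hx hne h hnr
  set R := Finset.univ.filter (IsThree x) with hR
  set P := Finset.univ.filter (IsPos x) with hP
  have hmemR : χ ∈ R := by simp [hR, h]
  have hsel : ∀ ψ ∈ R.erase χ, ∃ π ∈ P,
      classInner (fun g => (ψ : G → ℂ) g * conj ((χ : G → ℂ) g)) (π : G → ℂ) ≠ 0 := by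
    intro ψ hψ
    obtain ⟨π, hπ, hc⟩ := exists_pos_constituent hx hne
      (Finset.mem_filter.mp (Finset.mem_of_mem_erase hψ)).2 h (Finset.ne_of_mem_erase hψ)
    exact ⟨π, by simp [hP, hπ], hc⟩
  choose! f hfP hfc using hsel
  have hinj : Set.InjOn f (R.erase χ : Set (IrrCharacter G)) := by
    intro i hi j hj hij
    by_contra hne'
    have hiR := (Finset.mem_filter.mp (Finset.mem_of_mem_erase hi)).2
    have hjR := (Finset.mem_filter.mp (Finset.mem_of_mem_erase hj)).2
    set A : G → ℂ := fun g => (i : G → ℂ) g * conj ((χ : G → ℂ) g) with hA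
    set B : G → ℂ := fun g => (j : G → ℂ) g * conj ((χ : G → ℂ) g) with hB
    have hAc : IsCharacter G A :=
      H12.IsCharacter.mul (H12.isCharacter_irr i) (H12.IsCharacter.star (H12.isCharacter_irr χ))
    have hBc : IsCharacter G B :=
      H12.IsCharacter.mul (H12.isCharacter_irr j) (H12.IsCharacter.star (H12.isCharacter_irr χ))
    obtain ⟨a, has, ha, -, -⟩ := exists_data hAc
    obtain ⟨b, hbs, hb, -, -⟩ := exists_data hBc
    set C : G → ℂ := fun g => (i : G → ℂ) g * conj ((j : G → ℂ) g) with hC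
    have hAB : classInner A B = classInner C (η : G → ℂ) := by
      have e : classInner A B = classInner C (fun g => (χ : G → ℂ) g * conj ((χ : G → ℂ) g)) := by
        rw [H12.classInner_def, H12.classInner_def]
        congr 1
        refine Finset.sum_congr rfl fun g _ => ?_
        simp only [hA, hB, hC, map_mul, Complex.conj_conj]
        ring
      rw [e, hη, H12.classInner_add_right, hC, classInner_one, if_neg hne', zero_add]
    have hAB0 : classInner A B ≠ 0 := by
      have e : classInner A B = ((∑ θ, b θ * a θ : ℕ) : ℂ) := by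
        conv_lhs => arg 2; rw [hbs]
        rw [H12.classInner_sum_right]
        push_cast
        refine Finset.sum_congr rfl fun θ _ => ?_
        rw [H12.classInner_smul_right, Complex.conj_natCast, ha θ]
      rw [e, Nat.cast_ne_zero]
      have h1 : 0 < a (f i) := Nat.pos_of_ne_zero fun h0 => hfc i hi (by rw [← hA, ha, h0, Nat.cast_zero])
      have h2 : 0 < b (f i) := Nat.pos_of_ne_zero fun h0 => hfc j hj (by
        rw [← hij, ← hB, hb, h0, Nat.cast_zero])
      have := Finset.single_le_sum (f := fun θ => b θ * a θ) (fun _ _ => Nat.zero_le _) (Finset.mem_univ (f i))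
      have := Nat.mul_pos h2 h1
      omega
    have hCc : IsCharacter G C :=
      H12.IsCharacter.mul (H12.isCharacter_irr i) (H12.IsCharacter.star (H12.isCharacter_irr j))
    obtain ⟨c, -, hc, hcg, -⟩ := exists_data hCc
    have hcη : 0 < c η := Nat.pos_of_ne_zero fun h0 => hAB0 (by rw [hAB, hc, h0, Nat.cast_zero])
    have hc1 : c (H12.oneIrr G) = 0 := by
      have := hc (H12.oneIrr G)
      rw [hC, classInner_one, if_neg hne'] at this
      exact_mod_cast this.symm
    have hd := hcg 1
    simp only [hC, H12.irr_apply_one, hiR.1, hjR.1, Complex.conj_natCast] at hd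
    have hd' : ∑ θ, c θ * H12.degree (θ : G → ℂ) = 9 := by
      have : ((∑ θ, c θ * H12.degree (θ : G → ℂ) : ℕ) : ℂ) = ((3 * 3 : ℕ) : ℂ) := by
        push_cast
        push_cast at hd
        linear_combination -hd
      exact_mod_cast this
    rw [← Finset.add_sum_erase _ _ (Finset.mem_univ η), hηd] at hd'
    have hcη1 : c η = 1 := by omega
    have hrest : ∑ θ ∈ Finset.univ.erase η, c θ * H12.degree (θ : G → ℂ) = 1 := by omega
    obtain ⟨θ, hθ, hθ0⟩ := Finset.exists_ne_zero_of_sum_ne_zero (hrest.trans_ne one_ne_zero)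
    have hle := Finset.single_le_sum (f := fun θ => c θ * H12.degree (θ : G → ℂ))
      (fun _ _ => Nat.zero_le _) hθ
    have hθ1 : θ ≠ H12.oneIrr G := fun e => hθ0 (by rw [e, hc1, zero_mul])
    have := two_le_degree hx hθ1
    have : 0 < c θ := Nat.pos_of_ne_zero fun h0 => hθ0 (by rw [h0, zero_mul])
    nlinarith
  have hcard : R.card - 1 ≤ P.card := by
    rw [← Finset.card_erase_of_mem hmemR]
    exact Finset.card_le_card_of_injOn f (fun i hi => hfP i hi) hinj
  have hsum : 5 * P.card + 7 ≤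
      ∑ π ∈ P, H12.degree (π : G → ℂ) * (H12.degree (π : G → ℂ) - 4) := by
    have hσP : σ ∈ P := by simp [hP, hσ]
    rw [← Finset.add_sum_erase _ _ hσP, hσd]
    have h5 : ∀ π ∈ P.erase σ, 5 ≤ H12.degree (π : G → ℂ) * (H12.degree (π : G → ℂ) - 4) := by
      intro π hπ
      have := (Finset.mem_filter.mp (Finset.mem_of_mem_erase hπ)).2.1
      exact this.trans (Nat.le_mul_of_pos_right _ (by omega))
    have := Finset.card_nsmul_le_sum _ _ 5 h5
    rw [smul_eq_mul, Finset.card_erase_of_mem hσP] at this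
    have : 0 < P.card := Finset.card_pos.mpr ⟨σ, hσP⟩
    omega
  have := count_eq hx hne
  rw [← hR, ← hP] at this
  have : 0 < P.card := Finset.card_pos.mpr ⟨σ, by simp [hP, hσ]⟩
  omega

/-- The square of a three. -/
theorem three_sq (hx : Hyp x) (hne : x ≠ 1) {χ : IrrCharacter G} (h : IsThree x χ) :
    ∃ π, IsPos x π ∧ H12.degree (π : G → ℂ) = 5 ∧
      (χ : G → ℂ) * (χ : G → ℂ) = (H12.oneIrr G : G → ℂ) + (χ : G → ℂ) + (π : G → ℂ) := by
  classical
  have hr := three_real hx hne h
  obtain ⟨S, hS, he⟩ := sq_split (perfect hx) h.1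
  rw [hr] at he
  obtain ⟨m, hms, hm, hg, -⟩ := exists_data hS
  have hm1 : m (H12.oneIrr G) = 1 := by
    have h2 := classInner_one χ χ
    have e : (fun g => (χ : G → ℂ) g * conj ((χ : G → ℂ) g)) = (χ : G → ℂ) + S := by
      rw [← he]
      funext g
      rw [← H12.conjIrr_apply, hr, Pi.mul_apply]
    rw [e, H12.classInner_add_left, H12.classInner_irr,
      if_neg (ne_one_of_degree (by rw [h.1]; norm_num)), zero_add, if_pos rfl, hm] at h2
    exact_mod_cast h2
  let m' : IrrCharacter G → ℕ := Function.update m (H12.oneIrr G) 0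
  have hsplit : ∀ F : IrrCharacter G → ℂ, ∑ θ, (m θ : ℂ) * F θ = F (H12.oneIrr G) + ∑ θ, (m' θ : ℂ) * F θ := by
    intro F
    rw [← Finset.add_sum_erase _ _ (Finset.mem_univ (H12.oneIrr G)),
      ← Finset.add_sum_erase _ (fun θ => (m' θ : ℂ) * F θ) (Finset.mem_univ (H12.oneIrr G)), hm1,
      Finset.sum_congr rfl (fun θ hθ => by
        rw [show m θ = m' θ from (Function.update_of_ne (Finset.ne_of_mem_erase hθ) _ _).symm])]
    simp [m']
  have hdeg := congrFun he 1
  have hval := congrFun he x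
  simp only [Pi.mul_apply, Pi.add_apply, H12.irr_apply_one, h.1, IsThree.apply hx h] at hdeg hval
  have hone : (H12.degree ((H12.oneIrr G : IrrCharacter G) : G → ℂ) : ℂ) = 1 := by
    have := H12.irr_apply_one (H12.oneIrr G)
    rw [H12.oneIrr_apply] at this
    exact this.symm
  obtain ⟨π, hπ, hπd, hπm, hrest⟩ := rest_single hx hne m' (Function.update_self _ _ _) 5 (by norm_num) le_rfl
    (by
      have h' := hg 1
      simp only [H12.irr_apply_one] at h'
      rw [hsplit fun θ => (H12.degree (θ : G → ℂ) : ℂ), hone] at h'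
      push_cast at hdeg ⊢
      linear_combination -h' - hdeg)
    (by
      have h' := hg x
      rw [hsplit fun θ => (θ : G → ℂ) x, H12.oneIrr_apply] at h'
      push_cast
      linear_combination -h' - hval)
  refine ⟨π, hπ, hπd, ?_⟩
  rw [he]
  have : S = (H12.oneIrr G : G → ℂ) + (π : G → ℂ) := by
    funext g
    rw [hg g, hsplit fun θ => (θ : G → ℂ) g, Pi.add_apply,
      Finset.sum_eq_single π (fun θ _ hθ => by rw [hrest θ hθ]; simp)
        (fun h => absurd (Finset.mem_univ _) h), hπm, Nat.cast_one, one_mul]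
  rw [this]
  abel

/-- All threes have the same positive constituent in their squares. -/
theorem sq_unique (hx : Hyp x) (hne : x ≠ 1) {χ ψ π τ : IrrCharacter G} (h : IsThree x χ)
    (h' : IsThree x ψ) (hπ : H12.degree (π : G → ℂ) = 5) (hτ : H12.degree (τ : G → ℂ) = 5)
    (e : (χ : G → ℂ) * (χ : G → ℂ) = (H12.oneIrr G : G → ℂ) + (χ : G → ℂ) + (π : G → ℂ))
    (e' : (ψ : G → ℂ) * (ψ : G → ℂ) = (H12.oneIrr G : G → ℂ) + (ψ : G → ℂ) + (τ : G → ℂ)) :
    π = τ := by
  classical
  by_cases hχψ : χ = ψ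
  · subst hχψ
    exact Subtype.ext (add_left_cancel (e.symm.trans e'))
  by_contra hne'
  have hc : IsCharacter G ((χ : G → ℂ) * (ψ : G → ℂ)) :=
    H12.IsCharacter.mul (H12.isCharacter_irr χ) (H12.isCharacter_irr ψ)
  have hn : classInner ((χ : G → ℂ) * (ψ : G → ℂ)) ((χ : G → ℂ) * (ψ : G → ℂ)) = 1 := by
    have hc1 : ∀ g, conj ((χ : G → ℂ) g) = (χ : G → ℂ) g := fun g => by
      rw [← H12.conjIrr_apply, three_real hx hne h]
    have hc2 : ∀ g, conj ((ψ : G → ℂ) g) = (ψ : G → ℂ) g := fun g => by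
      rw [← H12.conjIrr_apply, three_real hx hne h']
    have e1 : classInner ((χ : G → ℂ) * (ψ : G → ℂ)) ((χ : G → ℂ) * (ψ : G → ℂ)) =
        classInner ((χ : G → ℂ) * (χ : G → ℂ)) ((ψ : G → ℂ) * (ψ : G → ℂ)) := by
      rw [H12.classInner_def, H12.classInner_def]
      congr 1
      refine Finset.sum_congr rfl fun g _ => ?_
      simp only [Pi.mul_apply, map_mul, hc1, hc2]
      ring
    have hne1 : ∀ θ : IrrCharacter G, 2 ≤ H12.degree (θ : G → ℂ) → H12.oneIrr G ≠ θ :=
      fun θ hθ => (ne_one_of_degree hθ).symm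
    have d1 : χ ≠ τ := fun h0 => by have := h.1; rw [h0, hτ] at this; omega
    have d2 : π ≠ ψ := fun h0 => by have := h'.1; rw [← h0, hπ] at this; omega
    have g1 := hne1 ψ (by rw [h'.1]; norm_num)
    have g2 := hne1 τ (by rw [hτ]; norm_num)
    have g3 := hne1 χ (by rw [h.1]; norm_num)
    have g4 := hne1 π (by rw [hπ]; norm_num)
    rw [e1, e, e']
    simp only [H12.classInner_add_left, H12.classInner_add_right, H12.classInner_irr, if_neg g1,
      if_neg g2, if_neg g3.symm, if_neg g4.symm, if_neg hχψ, if_neg d1, if_neg d2, if_neg hne', if_pos]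
    norm_num
  obtain ⟨n, ρ, hρi, hρ⟩ := H12.isIrrCharacter_of_classInner_self_eq_one hc hn
  let θ : IrrCharacter G := ⟨_, n, ρ, hρi, hρ⟩
  have hθ1 := H12.irr_apply_one θ
  simp only [θ, Pi.mul_apply, H12.irr_apply_one, h.1, h'.1] at hθ1
  have hθd : H12.degree (θ : G → ℂ) = 9 := by
    have : ((H12.degree (θ : G → ℂ) : ℕ) : ℂ) = ((3 * 3 : ℕ) : ℂ) := by rw [Nat.cast_mul]; exact hθ1.symm
    exact_mod_cast this
  have hθx : (θ : G → ℂ) x = 1 := by
    simp [θ, IsThree.apply hx h, IsThree.apply hx h']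
  have := apply_eq hx (ne_one_of_degree (χ := θ) (by rw [hθd]; norm_num)) (by rw [hθx]; norm_num)
  rw [hθx, hθd] at this
  norm_num at this

/-- The structure at `x`. -/
theorem structure_at (hx : Hyp x) (hne : x ≠ 1) :
    ∃ K : Subgroup G, K.Normal ∧ K.index = 60 ∧ x ∉ K ∧ x * x ∈ K ∧
      Nat.card (Subgroup.centralizer ({x} : Set G)) = 4 ∧
      ∀ g : G, g ∉ K → g * g ∈ K → IsConj g x := by
  classical
  set R := Finset.univ.filter (IsThree x) with hR
  set P := Finset.univ.filter (IsPos x) with hP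
  have hcount := count_eq hx hne
  rw [← hR, ← hP] at hcount
  obtain ⟨χ, hχR⟩ : R.Nonempty := Finset.card_pos.mp (by omega)
  have hχ : IsThree x χ := (Finset.mem_filter.mp hχR).2
  obtain ⟨π, hπ, hπd, hsq⟩ := three_sq hx hne hχ
  have hperf := perfect hx
  obtain ⟨n, ρ, hρi, hρ⟩ := χ.2
  have hn3 : finrank ℂ (Fin n → ℂ) = 3 := by rw [← H12.degree_character ρ, hρ, hχ.1]
  have hreal : ∀ ψ : IrrCharacter G, IsThree x ψ → ∀ g, conj ((ψ : G → ℂ) g) = (ψ : G → ℂ) g :=
    fun ψ hψ g => by rw [← H12.conjIrr_apply, three_real hx hne hψ]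
  -- the squares
  have hsqR : ∀ ψ : IrrCharacter G, IsThree x ψ → ∀ g,
      (ψ : G → ℂ) g * (ψ : G → ℂ) g = 1 + (ψ : G → ℂ) g + (π : G → ℂ) g := by
    intro ψ hψ g
    obtain ⟨τ, hτ, hτd, hsq'⟩ := three_sq hx hne hψ
    rw [← sq_unique hx hne hχ hψ hπd hτd hsq hsq'] at hsq'
    have := congrFun hsq' g
    simpa [H12.oneIrr_apply] using this
  -- frames
  have hframe : ∀ ψ : IrrCharacter G, IsThree x ψ → ∀ g, ∃ l : ℂ, l ≠ 0 ∧ ‖l‖ = 1 ∧
      (ψ : G → ℂ) g = 1 + l + l⁻¹ ∧ (ψ : G → ℂ) (g * g) = 1 + l * l + (l * l)⁻¹ := by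
    intro ψ hψ g
    obtain ⟨k, σ, hσi, hσ⟩ := ψ.2
    have hk3 : finrank ℂ (Fin k → ℂ) = 3 := by rw [← H12.degree_character σ, hσ, hψ.1]
    obtain ⟨b, l, hl0, hl1, -, -, -, hch⟩ := Rot.exists_frame σ hk3 (det_eq_one hperf σ)
      (fun g => by rw [hσ]; exact hreal ψ hψ g) g
    rw [hσ] at hch
    refine ⟨l, hl0, hl1, hch, ?_⟩
    have := sq_sub_eq hperf hψ.1 g
    rw [hreal ψ hψ, hch] at this
    have hl : l * l⁻¹ = 1 := mul_inv_cancel₀ hl0
    rw [mul_inv]
    linear_combination -this + 2 * hl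
  set K := H12.charKer (χ : G → ℂ) (H12.isCharacter_irr χ) with hK
  haveI hKn : K.Normal := H12.charKer_normal _
  have memK : ∀ g, g ∈ K ↔ (χ : G → ℂ) g = 3 := by
    intro g
    rw [hK, H12.mem_charKer, H12.irr_apply_one, hχ.1]
    norm_num
  have hallK : ∀ g ∈ K, (π : G → ℂ) g = 5 ∧ ∀ ψ : IrrCharacter G, IsThree x ψ → (ψ : G → ℂ) g = 3 := by
    intro g hg
    have hπg : (π : G → ℂ) g = 5 := by
      have := hsqR χ hχ g
      rw [(memK g).mp hg] at this
      linear_combination -this
    refine ⟨hπg, fun ψ hψ => ?_⟩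
    obtain ⟨l, hl0, hl1, hv, -⟩ := hframe ψ hψ g
    have h2 := hsqR ψ hψ g
    rw [hπg] at h2
    have h3 : ((ψ : G → ℂ) g - 3) * ((ψ : G → ℂ) g + 2) = 0 := by linear_combination h2
    rcases mul_eq_zero.mp h3 with h | h
    · exact sub_eq_zero.mp h
    · exfalso
      have e : l + l⁻¹ = -3 := by linear_combination h - hv
      have hle := norm_add_le l l⁻¹
      rw [e, norm_inv, hl1] at hle
      norm_num at hle
  have hxK : x ∉ K := fun h => by
    have := (memK x).mp h
    rw [IsThree.apply hx hχ] at this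
    norm_num at this
  have hsqv : ∀ g : G, g ∉ K → g * g ∈ K → ∀ ψ : IrrCharacter G, IsThree x ψ →
      (ψ : G → ℂ) g = -1 ∨ (ψ : G → ℂ) g = 3 := by
    intro g _ hgg ψ hψ
    obtain ⟨l, hl0, -, hv, hv2⟩ := hframe ψ hψ g
    rw [(hallK _ hgg).2 ψ hψ] at hv2
    have e : (l * l - 1) * (l * l - 1) = 0 := by
      have hll : l * l ≠ 0 := mul_ne_zero hl0 hl0
      field_simp at hv2
      linear_combination -hv2
    rcases mul_self_eq_one_iff.mp (sub_eq_zero.mp (mul_self_eq_zero.mp e)) with rfl | rfl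
    · exact Or.inr (by rw [hv]; norm_num)
    · exact Or.inl (by rw [hv]; norm_num)
  -- the quotient
  haveI hQn : Nontrivial (G ⧸ K) := QuotientGroup.nontrivial_iff.mpr fun e => hxK (e ▸ Subgroup.mem_top x)
  obtain ⟨χ', hχ'⟩ := H12.exists_inflate_eq K χ (fun k hk => by
    rw [(memK k).mp hk, H12.irr_apply_one, hχ.1]; norm_num)
  obtain ⟨k, σ, hσi, hσ⟩ := χ'.2
  have hval : ∀ g : G, σ.character (g : G ⧸ K) = (χ : G → ℂ) g := fun g => by
    rw [hσ, ← hχ', H12.inflate_apply]
  have hk3 : finrank ℂ (Fin k → ℂ) = 3 := by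
    have h1 := hval 1
    rw [QuotientGroup.mk_one, H12.irr_apply_one, hχ.1, Representation.char_one] at h1
    exact_mod_cast h1
  have hperfQ : commutator (G ⧸ K) = ⊤ := by
    rw [_root_.commutator_def, ← Subgroup.map_top_of_surjective (QuotientGroup.mk' K) (QuotientGroup.mk'_surjective K),
      ← Subgroup.map_commutator, ← _root_.commutator_def, hperf]
  haveI := hσi
  haveI : Fintype (G ⧸ K) := Fintype.ofFinite _
  have h60 : Nat.card (G ⧸ K) = 60 := by
    refine Rot.card_eq_sixty σ hk3 hperfQ (fun q hq => ?_) (det_eq_one hperfQ σ) ?_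
    · induction q using QuotientGroup.induction_on with
      | H g =>
        refine (QuotientGroup.eq_one_iff g).mpr ((memK g).mpr ?_)
        rw [← hval, (H12.character_eq_finrank_iff σ _).mpr hq, hk3]
        norm_num
    · intro q
      induction q using QuotientGroup.induction_on with
      | H g => rw [hval, hreal χ hχ]
  -- at most two threes
  have hr : R.card = 2 ∧ P = {π} := by
    have hπP : π ∈ P := by simp [hP, hπ]
    have hge : 2 ≤ R.card := by
      have := Finset.single_le_sum (f := fun τ : IrrCharacter G => H12.degree (τ : G → ℂ) * (H12.degree (τ : G → ℂ) - 4))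
        (fun _ _ => Nat.zero_le _) hπP
      simp only [hπd] at this
      omega
    have hle : R.card ≤ 2 := by
      let S : Finset (IrrCharacter G) := insert (H12.oneIrr G) (insert π R)
      have hπR : π ∉ R := fun h => by
        have := ((Finset.mem_filter.mp h).2).1
        omega
      have h1S : H12.oneIrr G ∉ insert π R := by
        intro h
        rcases Finset.mem_insert.mp h with h | h
        · exact ne_one_of_degree (χ := π) (by rw [hπd]; norm_num) h.symm
        · exact ne_one_of_degree (χ := H12.oneIrr G) (by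
            rw [((Finset.mem_filter.mp h).2).1]; norm_num) rfl
      have hker : ∀ τ ∈ S, ∀ n ∈ K, (τ : G → ℂ) n = (τ : G → ℂ) 1 := by
        intro τ hτ n hn
        rcases Finset.mem_insert.mp hτ with rfl | hτ
        · rfl
        rcases Finset.mem_insert.mp hτ with rfl | hτ
        · rw [(hallK n hn).1, H12.irr_apply_one, hπd]; norm_num
        · have h3 := (Finset.mem_filter.mp hτ).2
          rw [(hallK n hn).2 τ h3, H12.irr_apply_one, h3.1]; norm_num
      choose! g hg using fun τ hτ => H12.exists_inflate_eq K τ (hker τ hτ)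
      have hgd : ∀ τ ∈ S, H12.degree (g τ : G ⧸ K → ℂ) = H12.degree (τ : G → ℂ) := by
        intro τ hτ
        have h1 := congrFun (congrArg Subtype.val (hg τ hτ)) 1
        rw [H12.inflate_apply, QuotientGroup.mk_one, H12.irr_apply_one, H12.irr_apply_one] at h1
        exact_mod_cast h1
      have hginj : Set.InjOn g (S : Set (IrrCharacter G)) := fun a ha b hb hab => by
        rw [← hg a ha, ← hg b hb, hab]
      have hsq60 := H12.sum_degree_sq_nat (G := G ⧸ K)
      rw [h60] at hsq60
      have hsub : ∑ τ ∈ S.image g, H12.degree (τ : G ⧸ K → ℂ) ^ 2 = 26 + 9 * R.card := by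
        rw [Finset.sum_image hginj, Finset.sum_congr rfl (fun τ hτ => by rw [hgd τ hτ]),
          Finset.sum_insert h1S, Finset.sum_insert hπR, hπd,
          Finset.sum_congr rfl (g := fun _ => 9) (fun τ hτ => by rw [((Finset.mem_filter.mp hτ).2).1]; norm_num),
          Finset.sum_const, smul_eq_mul]
        have : H12.degree ((H12.oneIrr G : IrrCharacter G) : G → ℂ) = 1 := by
          have := H12.irr_apply_one (H12.oneIrr G)
          rw [H12.oneIrr_apply] at this
          exact_mod_cast this.symm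
        rw [this]; ring
      have hsplit := Finset.sum_sdiff (Finset.subset_univ (S.image g))
        (f := fun τ : IrrCharacter (G ⧸ K) => H12.degree (τ : G ⧸ K → ℂ) ^ 2)
      rw [hsub] at hsplit
      by_contra hlt
      have hr3 : R.card = 3 := by omega
      have h7 : ∑ τ ∈ Finset.univ \ S.image g, H12.degree (τ : G ⧸ K → ℂ) ^ 2 = 7 := by omega
      have hrest : ∀ τ ∈ Finset.univ \ S.image g, H12.degree (τ : G ⧸ K → ℂ) ^ 2 = 4 := by
        intro τ hτ
        have h1 := Finset.single_le_sum (f := fun τ : IrrCharacter (G ⧸ K) => H12.degree (τ : G ⧸ K → ℂ) ^ 2)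
          (fun _ _ => Nat.zero_le _) hτ
        simp only [h7] at h1
        have hd : H12.degree (τ : G ⧸ K → ℂ) < 3 := by
          by_contra h
          have := Nat.pow_le_pow_left (not_lt.mp h) 2
          omega
        have hτ1 : τ ≠ H12.oneIrr (G ⧸ K) := fun e => (Finset.mem_sdiff.mp hτ).2 (Finset.mem_image.mpr
          ⟨H12.oneIrr G, Finset.mem_insert_self _ _, H12.inflate_injective K (by
            rw [hg _ (Finset.mem_insert_self _ _), e]
            exact Subtype.ext (funext fun _ => rfl))⟩)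
        have hne2 : H12.degree (τ : G ⧸ K → ℂ) ≠ 1 := by
          intro hd1
          apply hτ1
          have hd' : H12.degree ((H12.inflate K τ : IrrCharacter G) : G → ℂ) = 1 := by
            have h1 := H12.irr_apply_one (H12.inflate K τ)
            rw [H12.inflate_apply, QuotientGroup.mk_one, H12.irr_apply_one, hd1] at h1
            exact_mod_cast h1.symm
          have he : H12.inflate K τ = H12.oneIrr G := by
            by_contra hne'
            exact degree_ne_one hx hne' hd'
          exact H12.inflate_injective K (he.trans (Subtype.ext (funext fun _ => rfl)))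
        have := H12.irr_degree_pos τ
        rw [show H12.degree (τ : G ⧸ K → ℂ) = 2 by omega]
        norm_num
      rw [Finset.sum_congr rfl hrest, Finset.sum_const, smul_eq_mul] at h7
      omega
    refine ⟨by omega, ?_⟩
    rw [← Finset.add_sum_erase _ _ hπP, hπd] at hcount
    have hz : ∑ τ ∈ P.erase π, H12.degree (τ : G → ℂ) * (H12.degree (τ : G → ℂ) - 4) = 0 := by omega
    refine Finset.eq_singleton_iff_unique_mem.mpr ⟨hπP, fun τ hτ => ?_⟩
    by_contra hne'
    have h0 := Finset.sum_eq_zero_iff.mp hz τ (Finset.mem_erase.mpr ⟨hne', hτ⟩)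
    have := (Finset.mem_filter.mp hτ).2.1
    rcases mul_eq_zero.mp h0 with h | h <;> omega
  -- the column
  have hπx : (π : G → ℂ) x = 1 := by
    rw [apply_eq hx (ne_one_of_degree (by rw [hπd]; norm_num)) hπ.2, hπd]; norm_num
  have hcol : ∀ g : G, ∑ τ : IrrCharacter G, (τ : G → ℂ) g * conj ((τ : G → ℂ) x) =
      1 + (π : G → ℂ) g - ∑ τ ∈ R, (τ : G → ℂ) g := by
    intro g
    have hπR : π ∉ R := fun h => by have := ((Finset.mem_filter.mp h).2).1; omega
    rw [← Finset.sum_subset (Finset.subset_univ (insert (H12.oneIrr G) (insert π R)))]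
    · rw [Finset.sum_insert, Finset.sum_insert hπR, H12.oneIrr_apply, H12.oneIrr_apply, map_one,
        one_mul, hπx, map_one, mul_one,
        Finset.sum_congr rfl (g := fun τ : IrrCharacter G => -((τ : G → ℂ) g)) (fun τ hτ => by
          rw [IsThree.apply hx (Finset.mem_filter.mp hτ).2, map_neg, map_one, mul_neg, mul_one]),
        Finset.sum_neg_distrib]
      · ring
      · intro h
        rcases Finset.mem_insert.mp h with h | h
        · exact ne_one_of_degree (χ := π) (by rw [hπd]; norm_num) h.symm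
        · exact ne_one_of_degree (χ := H12.oneIrr G) (by
            rw [((Finset.mem_filter.mp h).2).1]; norm_num) rfl
    · intro τ _ hτ
      simp only [Finset.mem_insert, not_or] at hτ
      obtain ⟨h1, h2, h3⟩ := hτ
      by_cases h0 : (τ : G → ℂ) x = 0
      · rw [h0, map_zero, mul_zero]
      · rcases degree_dichotomy hx hne h1 h0 with h | h
        · exact absurd (Finset.mem_filter.mpr ⟨Finset.mem_univ _, h, h0⟩) h3
        · exact absurd (Finset.mem_singleton.mp (hr.2 ▸ Finset.mem_filter.mpr ⟨Finset.mem_univ τ, h, h0⟩)) h2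
  refine ⟨K, hKn, h60, hxK, ?_, ?_, ?_⟩
  · refine (memK _).mpr ?_
    obtain ⟨l, hl0, -, hv, hv2⟩ := hframe χ hχ x
    rw [IsThree.apply hx hχ] at hv
    have hl : l = -1 := by
      have e : (l + 1) * (l + 1) = 0 := by
        have h2 : l * l⁻¹ = 1 := mul_inv_cancel₀ hl0
        linear_combination -l * hv - h2
      exact eq_neg_of_add_eq_zero_left (mul_self_eq_zero.mp e)
    rw [hv2, hl]
    norm_num
  · have h := H12.column_orthogonality x x
    rw [if_pos (IsConj.refl x), hcol, hπx, Finset.sum_congr rfl (g := fun _ => (-1 : ℂ))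
      (fun τ hτ => IsThree.apply hx (Finset.mem_filter.mp hτ).2), Finset.sum_const, hr.1] at h
    have : ((Nat.card (Subgroup.centralizer ({x} : Set G)) : ℕ) : ℂ) = ((4 : ℕ) : ℂ) := by
      rw [← h]; norm_num
    exact_mod_cast this
  · intro g hg hgg
    have hv : ∀ τ ∈ R, (τ : G → ℂ) g = -1 := by
      intro τ hτ
      have h3 := (Finset.mem_filter.mp hτ).2
      rcases hsqv g hg hgg τ h3 with h | h
      · exact h
      · exfalso
        -- all threes have the same kernel
        have hπg : (π : G → ℂ) g = 5 := by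
          have := hsqR τ h3 g
          rw [h] at this
          linear_combination -this
        rcases hsqv g hg hgg χ hχ with h' | h'
        · have := hsqR χ hχ g
          rw [h', hπg] at this
          norm_num at this
        · exact hg ((memK g).mpr h')
    have hπg : (π : G → ℂ) g = 1 := by
      have := hsqR χ hχ g
      rw [hv χ hχR] at this
      linear_combination -this
    have h := H12.column_orthogonality g x
    rw [hcol, hπg, Finset.sum_congr rfl hv, Finset.sum_const, hr.1] at h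
    by_contra hc
    rw [if_neg hc] at h
    norm_num at h

end H58.FourDeg
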