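import Cfsg.Agent.H58.FourDegreeChars
import Cfsg.Agent.H59.A5Char
import Cfsg.Agent.H37.SmallIso
import Cfsg.Agent.H70.QuaternionQuot
import Cfsg.Agent.H3.CoresAbelian
import Cfsg.Agent.H1.Cores
import Cfsg.Agent.S3378

/-!
The structure of a group all of whose nonprincipal irreducible characters `χ` have
`χ(1) - χ(u) = 4` or `χ(u) = 0`.
-/

set_option autoImplicit false
set_option linter.unusedSectionVars false

open Cfsg Subgroup

namespace H58.FourDeg

universe u

theorem a5_pow_four : ∀ a : alternatingGroup (Fin 5), a ^ 4 = 1 → a * a = 1 := by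
  decide +kernel

theorem eq_one_of_sq_of_odd {G : Type u} [Group G] [Finite G] {N : Subgroup G}
    (hN : (Nat.card N).Coprime 2) {y : G} (hy : y ∈ N) (h : y * y = 1) : y = 1 := by
  have h1 : orderOf y ∣ 2 := orderOf_dvd_of_pow_eq_one (by rw [pow_two, h])
  have h2 : orderOf y ∣ Nat.card N := by
    rw [← Subgroup.orderOf_mk y hy]
    exact orderOf_dvd_natCard _
  exact orderOf_eq_one_iff.mp (Nat.eq_one_of_dvd_coprimes hN h2 h1)

variable {G : Type u} [Group G] [Finite G]

/-- The data extracted from the characters, with a suitable element of a Sylow 2-subgroup. -/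
structure Shape (x v : G) (K : Subgroup G) [K.Normal] (S : Sylow 2 G) : Prop where
  card : Nat.card (centralizer ({x} : Set G)) = 4
  conj : ∀ g : G, g ∉ K → g * g ∈ K → IsConj g x
  sq : ∀ s ∈ (S : Subgroup G), s * s ∈ K
  xS : x ∈ (S : Subgroup G)
  vS : v ∈ (S : Subgroup G)
  xK : x ∉ K
  vK : v ∉ K
  xvK : x * v ∉ K
  quot : Nat.card ((S : Subgroup G).map (QuotientGroup.mk' K)) = 4

theorem exists_shape {x : G} {K : Subgroup G} [K.Normal] (hperf : commutator G = ⊤)
    (h60 : K.index = 60) (hxK : x ∉ K)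
    (hcard : Nat.card (centralizer ({x} : Set G)) = 4)
    (hconj : ∀ g : G, g ∉ K → g * g ∈ K → IsConj g x) :
    IsSimpleGroup (G ⧸ K) ∧ Nonempty (G ⧸ K ≃* alternatingGroup (Fin 5)) ∧
      ∃ (S : Sylow 2 G) (v : G), Shape x v K S := by
  haveI : Fact (Nat.Prime 2) := ⟨Nat.prime_two⟩
  have hQ : Nat.card (G ⧸ K) = 60 := by rw [← Subgroup.index_eq_card, h60]
  haveI : Nontrivial (G ⧸ K) := Finite.one_lt_card_iff_nontrivial.mp (by omega)
  have hns : ¬ Group.IsSolvable (G ⧸ K) := by
    intro h
    refine (IsSolvable.commutator_lt_top_of_nontrivial (G := G ⧸ K)).ne ?_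
    rw [_root_.commutator_def, ← Subgroup.map_top_of_surjective (QuotientGroup.mk' K)
      (QuotientGroup.mk'_surjective K), ← Subgroup.map_commutator, ← _root_.commutator_def, hperf]
  haveI hsimple := H59.simple_of_nonsolvable_60 hQ hns
  obtain ⟨e⟩ := H59.simple60_iso (G := G ⧸ K) hQ
  refine ⟨hsimple, ⟨e⟩, ?_⟩
  have hx4 : orderOf x ∣ 4 := by
    rw [← hcard, ← Subgroup.orderOf_mk x (mem_centralizer_singleton_iff.mpr rfl)]
    exact orderOf_dvd_natCard _
  have hxp : IsPGroup 2 (zpowers x) := by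
    obtain ⟨k, -, hk⟩ := (Nat.dvd_prime_pow Nat.prime_two).mp (show orderOf x ∣ 2 ^ 2 from hx4)
    exact IsPGroup.of_card (n := k) (by rw [Nat.card_zpowers, hk])
  obtain ⟨S, hS⟩ := hxp.exists_le_sylow
  let π := QuotientGroup.mk' K
  let P := S.mapSurjective (QuotientGroup.mk'_surjective K)
  have hP : (P : Subgroup (G ⧸ K)) = (S : Subgroup G).map π := rfl
  have h4 : Nat.card ((S : Subgroup G).map π) = 4 := by
    rw [← hP]
    obtain ⟨k, hk⟩ := IsPGroup.iff_card.mp P.2
    have hdvd : 2 ^ k ∣ 60 := by rw [← hk, ← hQ]; exact card_subgroup_dvd_card _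
    have hodd : ¬ 2 ∣ (P : Subgroup (G ⧸ K)).index := P.not_dvd_index
    have hmul := (P : Subgroup (G ⧸ K)).card_mul_index
    rw [hk, hQ] at hmul
    have hk2 : k ≤ 2 := by
      by_contra hgt
      have : 8 ∣ 60 := (pow_dvd_pow 2 (not_le.mp hgt)).trans hdvd
      omega
    rw [hk]
    interval_cases k <;> omega
  have hsq : ∀ s ∈ (S : Subgroup G), s * s ∈ K := by
    intro s hs
    have h1 : (⟨π s, mem_map_of_mem _ hs⟩ : (S : Subgroup G).map π) ^ 4 = 1 := by
      rw [← h4]; exact pow_card_eq_one'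
    have h2 : (π s) ^ 4 = 1 := congrArg Subtype.val h1
    have h3 := a5_pow_four (e (π s)) (by rw [← map_pow, h2, map_one])
    rw [← map_mul, map_eq_one_iff e e.injective, ← map_mul] at h3
    exact (QuotientGroup.eq_one_iff _).mp h3
  obtain ⟨q, hq, hq1⟩ : ∃ q ∈ (S : Subgroup G).map π, q ∉ zpowers (π x) := by
    by_contra! h
    have h1 := Subgroup.card_le_of_le h
    rw [h4, Nat.card_zpowers] at h1
    have h2 : orderOf (π x) ∣ 2 := by
      refine orderOf_dvd_of_pow_eq_one ?_
      rw [← map_pow, pow_two]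
      exact (QuotientGroup.eq_one_iff _).mpr (hsq x (hS (mem_zpowers x)))
    have := Nat.le_of_dvd two_pos h2
    omega
  obtain ⟨v, hv, rfl⟩ := hq
  refine ⟨S, v, hcard, hconj, hsq, hS (mem_zpowers x), hv, hxK, fun hvK => hq1 ?_, fun hxv => hq1 ?_, h4⟩
  · rw [show π v = 1 from (QuotientGroup.eq_one_iff v).mpr hvK]
    exact one_mem _
  · have h1 : π (x * v) = 1 := (QuotientGroup.eq_one_iff _).mpr hxv
    rw [map_mul] at h1
    rw [eq_inv_of_mul_eq_one_right h1]
    exact inv_mem (mem_zpowers _)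

variable {x v : G} {K : Subgroup G}

theorem Shape.bot_of_involution [K.Normal] {S : Sylow 2 G} (h : Shape x v K S) (hx : x * x = 1) :
    K = ⊥ := by
  have hinv : ∀ g : G, g ∉ K → g * g ∈ K → g * g = 1 := by
    intro g hg hgg
    obtain ⟨c, hc⟩ := isConj_iff.mp (h.conj g hg hgg).symm
    rw [← hc]
    calc c * x * c⁻¹ * (c * x * c⁻¹) = c * (x * x) * c⁻¹ := by group
      _ = 1 := by rw [hx]; group
  have hxv : x * v ∈ (S : Subgroup G) := mul_mem h.xS h.vS
  have hinvert : ∀ g : G, g ∈ (S : Subgroup G) → g ∉ K → ∀ w ∈ K, g * w * g = w⁻¹ := by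
    intro g hgS hg w hw
    have h1 : g * w ∉ K := fun hm => hg ((Subgroup.mul_mem_cancel_right _ hw).mp hm)
    have h2 : (g * w) * (g * w) ∈ K := by
      rw [show (g * w) * (g * w) = (g * g) * (g⁻¹ * w * g⁻¹⁻¹) * w by group]
      exact mul_mem (mul_mem (h.sq g hgS) (Subgroup.Normal.conj_mem inferInstance w hw _)) hw
    refine eq_inv_of_mul_eq_one_left ?_
    rw [mul_assoc (g * w) g w]
    exact hinv _ h1 h2
  have hvv : v * v = 1 := hinv v h.vK (h.sq v h.vS)
  have hxvxv : x * v * (x * v) = 1 := hinv _ h.xvK (h.sq _ hxv)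
  have hvx : v * x = x * v := by
    calc v * x = x * (x * v * (x * v)) * v := by
          rw [show x * (x * v * (x * v)) * v = (x * x) * v * x * (v * v) by group, hx, hvv, one_mul, mul_one]
      _ = x * v := by rw [hxvxv, mul_one]
  have hsq : ∀ w ∈ K, x * w = w * x := by
    intro w hw
    have e1 := hinvert x h.xS h.xK w hw
    have e2 := hinvert v h.vS h.vK w hw
    have e3 := hinvert _ hxv h.xvK w hw
    have e4 : (x * v) * w * (x * v) = w := by
      calc (x * v) * w * (x * v) = x * (v * w * (x * v)) := by group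
        _ = x * (v * w * (v * x)) := by rw [hvx]
        _ = x * (v * w * v) * x := by group
        _ = w := by
          rw [e2]
          have := hinvert x h.xS h.xK w⁻¹ (inv_mem hw)
          rw [this, inv_inv]
    rw [e3] at e4
    rw [e4] at e1
    calc x * w = x * w * (x * x) := by rw [hx, mul_one]
      _ = (x * w * x) * x := by group
      _ = w * x := by rw [e1]
  rw [Subgroup.eq_bot_iff_forall]
  intro w hw
  by_contra hw1
  classical
  let s : Finset G := {1, x, v, x * v, w}
  have hsub : ∀ y ∈ s, y ∈ centralizer ({x} : Set G) := by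
    intro y hy
    simp only [s, Finset.mem_insert, Finset.mem_singleton] at hy
    rw [mem_centralizer_singleton_iff]
    rcases hy with rfl | rfl | rfl | rfl | rfl
    · rw [one_mul, mul_one]
    · rfl
    · exact hvx
    · rw [mul_assoc, hvx]
    · exact (hsq _ hw).symm
  have h5 : s.card = 5 := by
    have hx1 : x ≠ 1 := fun e => h.xK (e ▸ one_mem K)
    have hv1 : v ≠ 1 := fun e => h.vK (e ▸ one_mem K)
    have hxv1 : x * v ≠ 1 := fun e => h.xvK (e ▸ one_mem K)
    have hxnv : x ≠ v := fun e => hxv1 (by rw [← e, hx])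
    simp only [s]
    rw [Finset.card_insert_of_notMem, Finset.card_insert_of_notMem, Finset.card_insert_of_notMem,
      Finset.card_insert_of_notMem, Finset.card_singleton]
    · simp only [Finset.mem_singleton]
      exact fun e => h.xvK (e ▸ hw)
    · simp only [Finset.mem_insert, Finset.mem_singleton]
      rintro (e | e)
      · exact hx1 (mul_eq_right.mp e.symm)
      · exact h.vK (e ▸ hw)
    · simp only [Finset.mem_insert, Finset.mem_singleton]
      rintro (e | e | e)
      · exact hxnv e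
      · exact hv1 (mul_eq_left.mp e.symm)
      · exact h.xK (e ▸ hw)
    · simp only [Finset.mem_insert, Finset.mem_singleton]
      rintro (e | e | e | e)
      · exact hx1 e.symm
      · exact hv1 e.symm
      · exact hxv1 e.symm
      · exact hw1 e.symm
  let f : (↑s : Set G) → centralizer ({x} : Set G) := fun y => ⟨y.1, hsub y.1 y.2⟩
  have := Nat.card_le_card_of_injective f (fun a b e => Subtype.ext (congrArg Subtype.val e :))
  rw [h.card, Nat.card_coe_set_eq, Set.ncard_coe_finset, h5] at this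
  omega

theorem Shape.sylow_quaternion [K.Normal] {S : Sylow 2 G} (h : Shape x v K S)
    (hx : orderOf x = 4) :
    x * x ∈ K ∧ x * x ∈ centralizer ((S : Subgroup G) : Set G) ∧ v * v = x * x ∧
      Nat.card ((S : Subgroup G) ⊓ K : Subgroup G) = 2 ∧
      Nonempty ((S : Subgroup G) ≃* QuaternionGroup 2) := by
  classical
  set z := x * x with hz
  have hpow : ∀ k, k ≠ 0 → k < 4 → x ^ k ≠ 1 := fun k hk0 hk4 hk => by
    have := Nat.le_of_dvd (Nat.pos_of_ne_zero hk0) (orderOf_dvd_of_pow_eq_one hk)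
    omega
  have hx4 : x ^ 4 = 1 := hx ▸ pow_orderOf_eq_one x
  have hz1 : z ≠ 1 := by rw [hz, ← pow_two]; exact hpow 2 (by norm_num) (by norm_num)
  have hzz : z * z = 1 := by rw [hz, ← hx4]; simp [pow_succ, mul_assoc]
  have hC : centralizer ({x} : Set G) = zpowers x := by
    refine (Subgroup.eq_of_le_of_card_ge (zpowers_le.mpr (mem_centralizer_singleton_iff.mpr rfl)) ?_).symm
    rw [h.card, Nat.card_zpowers, hx]
  have hCmem : ∀ w : G, w * x = x * w → w = 1 ∨ w = x ∨ w = z ∨ w = x * z := by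
    intro w hw
    have hm : w ∈ zpowers x := hC ▸ mem_centralizer_singleton_iff.mpr hw
    obtain ⟨k, hk, rfl⟩ := Finset.mem_image.mp ((isOfFinOrder_of_finite x).mem_zpowers_iff_mem_range_orderOf.mp hm)
    rw [Finset.mem_range, hx] at hk
    rcases (show k = 0 ∨ k = 1 ∨ k = 2 ∨ k = 3 by omega) with rfl | rfl | rfl | rfl
    · exact Or.inl (pow_zero x)
    · exact Or.inr (Or.inl (pow_one x))
    · exact Or.inr (Or.inr (Or.inl (pow_two x)))
    · exact Or.inr (Or.inr (Or.inr (by simp [hz, pow_succ, mul_assoc])))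
  have hzK : z ∈ K := h.sq x h.xS
  have hxzK : x * z ∉ K := fun hm => h.xK ((Subgroup.mul_mem_cancel_right _ hzK).mp hm)
  have hxx : x * z * (x * z) ≠ 1 := by
    rw [show x * z * (x * z) = x ^ 4 * x ^ 2 by simp [hz, pow_succ, mul_assoc], hx4, one_mul]
    exact hpow 2 (by norm_num) (by norm_num)
  -- involutions centralising `x`
  have hinvol : ∀ w : G, w * x = x * w → w * w = 1 → w ≠ 1 → w = z := by
    intro w hw hww hw1
    rcases hCmem w hw with rfl | rfl | rfl | rfl
    · exact absurd rfl hw1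
    · exact absurd hww hz1
    · rfl
    · exact absurd hww hxx
  -- `z` is central in `S`
  haveI : Fact (Nat.Prime 2) := ⟨Nat.prime_two⟩
  have hSnt : Nontrivial (S : Subgroup G) :=
    ⟨⟨⟨z, mul_mem h.xS h.xS⟩, 1, fun e => hz1 (congrArg Subtype.val e)⟩⟩
  have hzS : z ∈ centralizer ((S : Subgroup G) : Set G) := by
    haveI := S.2.center_nontrivial
    obtain ⟨j, hj⟩ := IsPGroup.iff_card.mp (S.2.to_subgroup (center (S : Subgroup G)))
    have hj0 : j ≠ 0 := fun e => by
      have := Finite.one_lt_card_iff_nontrivial.mpr (inferInstance : Nontrivial (center (S : Subgroup G)))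
      rw [hj, e, pow_zero] at this
      exact lt_irrefl 1 this
    obtain ⟨k, hk⟩ := exists_prime_orderOf_dvd_card' (G := center (S : Subgroup G)) 2 (hj ▸ dvd_pow_self 2 hj0)
    have hkz : ((k : (S : Subgroup G)) : G) = z := by
      have hc := Subgroup.mem_center_iff.mp k.2 ⟨x, h.xS⟩
      refine hinvol _ (congrArg Subtype.val hc).symm ?_ ?_
      · have := pow_orderOf_eq_one k
        rw [hk, pow_two] at this
        exact congrArg (fun a : center (S : Subgroup G) => ((a : (S : Subgroup G)) : G)) this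
      · intro e
        have : k = 1 := Subtype.ext (Subtype.ext e)
        rw [this, orderOf_one] at hk
        omega
    rw [← hkz]
    exact mem_centralizer_iff.mpr fun s hs =>
      congrArg Subtype.val (Subgroup.mem_center_iff.mp k.2 ⟨s, hs⟩)
  -- squares outside `K`
  have hsq : ∀ s ∈ (S : Subgroup G), s ∉ K → s * s = z := by
    intro s hs hsK
    obtain ⟨c, hc⟩ := isConj_iff.mp (h.conj s hsK (h.sq s hs)).symm
    have hcs : c⁻¹ * z * c = z := by
      refine hinvol _ ?_ ?_ ?_
      · have e := mem_centralizer_iff.mp hzS s hs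
        rw [← hc] at e
        calc c⁻¹ * z * c * x = c⁻¹ * (z * (c * x * c⁻¹)) * c := by group
          _ = c⁻¹ * (c * x * c⁻¹ * z) * c := by rw [e]
          _ = x * (c⁻¹ * z * c) := by group
      · calc c⁻¹ * z * c * (c⁻¹ * z * c) = c⁻¹ * (z * z) * c := by group
          _ = 1 := by rw [hzz]; group
      · intro e
        refine hz1 ?_
        calc z = c * (c⁻¹ * z * c) * c⁻¹ := by group
          _ = 1 := by rw [e]; group
    calc s * s = c * z * c⁻¹ := by rw [← hc, hz]; group
      _ = c * (c⁻¹ * z * c) * c⁻¹ := by rw [hcs]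
      _ = z := by group
  -- elements of `S` outside `K` invert `S ⊓ K`
  have hinvert : ∀ s ∈ (S : Subgroup G), s ∉ K → ∀ t ∈ (S : Subgroup G), t ∈ K → s * t * s⁻¹ = t⁻¹ := by
    intro s hs hsK t ht htK
    have h1 : s * t ∉ K := fun hm => hsK ((Subgroup.mul_mem_cancel_right _ htK).mp hm)
    have h2 := hsq (s * t) (mul_mem hs ht) h1
    have hss := hsq s hs hsK
    have hzt : t * z = z * t := mem_centralizer_iff.mp hzS t ht
    have e : s * t * s = z * t⁻¹ := by
      rw [eq_mul_inv_iff_mul_eq, mul_assoc (s * t) s t]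
      exact h2
    calc s * t * s⁻¹ = s * t * s * (s * s)⁻¹ := by group
      _ = z * t⁻¹ * z⁻¹ := by rw [e, hss]
      _ = t⁻¹ := by
        have : z * t⁻¹ = t⁻¹ * z := by
          rw [eq_inv_mul_iff_mul_eq, ← mul_assoc, hzt]; group
        rw [this]; group
  have hxv : x * v ∈ (S : Subgroup G) := mul_mem h.xS h.vS
  have hTmem : ∀ t ∈ (S : Subgroup G), t ∈ K → t = 1 ∨ t = z := by
    intro t ht htK
    have e1 := hinvert x h.xS h.xK
    have e2 := hinvert v h.vS h.vK t ht htK
    have e3 := hinvert _ hxv h.xvK t ht htK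
    have e4 : x * v * t * (x * v)⁻¹ = t := by
      calc x * v * t * (x * v)⁻¹ = x * (v * t * v⁻¹) * x⁻¹ := by group
        _ = t := by rw [e2, e1 _ (inv_mem ht) (inv_mem htK), inv_inv]
    rw [e3] at e4
    have e5 := e1 t ht htK
    rw [e4, mul_inv_eq_iff_eq_mul] at e5
    rcases hCmem t e5.symm with rfl | rfl | rfl | rfl
    · exact Or.inl rfl
    · exact absurd htK h.xK
    · exact Or.inr rfl
    · exact absurd htK hxzK
  have hTcard : Nat.card ((S : Subgroup G) ⊓ K : Subgroup G) = 2 := by
    refine (Nat.card_eq_two_iff' ⟨1, one_mem _⟩).mpr ⟨⟨z, mul_mem h.xS h.xS, hzK⟩,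
      fun e => hz1 (congrArg Subtype.val e), fun t ht => ?_⟩
    rcases hTmem t.1 t.2.1 t.2.2 with e | e
    · exact absurd (Subtype.ext e) ht
    · exact Subtype.ext e
  have hvz : v * v = z := hsq v h.vS h.vK
  refine ⟨hzK, hzS, hvz, hTcard, ?_⟩
  let f := (QuotientGroup.mk' K).comp (S : Subgroup G).subtype
  have hker : Nat.card f.ker = 2 := by
    refine Eq.trans ?_ hTcard
    exact Nat.card_congr
      { toFun := fun a => ⟨a.1.1, a.1.2, (QuotientGroup.eq_one_iff _).mp a.2⟩
        invFun := fun a => ⟨⟨a.1, a.2.1⟩, (QuotientGroup.eq_one_iff _).mpr a.2.2⟩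
        left_inv := fun a => rfl
        right_inv := fun a => rfl }
  have hran : Nat.card f.range = 4 := by
    rw [show f.range = (S : Subgroup G).map (QuotientGroup.mk' K) by
      rw [MonoidHom.range_comp, Subgroup.range_subtype]]
    exact h.quot
  have hS8 : Nat.card (S : Subgroup G) = 8 := by
    have := f.ker.card_mul_index
    rw [hker, Subgroup.index_ker, hran] at this
    omega
  have huniq : ∃! a : (S : Subgroup G), orderOf a = 2 := by
    refine ⟨⟨z, mul_mem h.xS h.xS⟩, orderOf_eq_prime (Subtype.ext (by simpa [pow_two] using hzz))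
      (fun e => hz1 (congrArg Subtype.val e)), fun a ha => ?_⟩
    have hpa := pow_orderOf_eq_one a
    rw [ha, pow_two] at hpa
    have haa : (a : G) * (a : G) = 1 := congrArg Subtype.val hpa
    have haK : (a : G) ∈ K := by
      by_contra hK
      exact hz1 ((hsq _ a.2 hK).symm.trans haa)
    rcases hTmem _ a.2 haK with e | e
    · have h1 : a = 1 := Subtype.ext e
      rw [h1, orderOf_one] at ha
      omega
    · exact Subtype.ext e
  have hnc : ¬ IsMulCommutative (S : Subgroup G) := by
    intro hc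
    have hle : (S : Subgroup G) ≤ centralizer ({x} : Set G) := fun s hs =>
      mem_centralizer_singleton_iff.mpr (congrArg Subtype.val (mul_comm' (⟨s, hs⟩ : (S : Subgroup G)) ⟨x, h.xS⟩))
    have := Subgroup.card_le_of_le hle
    rw [hS8, h.card] at this
    omega
  obtain ⟨k, hk, ⟨e⟩⟩ := H70.quaternion_of_unique_involution S.2 hnc huniq
  haveI : NeZero (2 ^ k) := ⟨by positivity⟩
  have hk1 : k = 1 := by
    have := Nat.card_congr e.toEquiv
    rw [hS8, Nat.card_eq_fintype_card, QuaternionGroup.card] at this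
    exact Nat.pow_right_injective le_rfl (show 2 ^ k = 2 ^ 1 by omega)
  subst hk1
  exact ⟨e⟩

theorem Shape.eq_one_of_commute [K.Normal] {S : Sylow 2 G} (h : Shape x v K S) {O : Subgroup G}
    [O.Normal] (hO : (Nat.card O).Coprime 2) (hOK : O ≤ K) (hx4 : x ^ 4 = 1)
    (hzS : x * x ∈ centralizer ((S : Subgroup G) : Set G))
    (hsq : ∀ s ∈ (S : Subgroup G), s ∉ K → s * s = x * x) {w : G} (hw : w ∈ O)
    (hzw : x * x * w = w * (x * x)) : w = 1 := by
  set z := x * x with hz
  have key : ∀ s ∈ (S : Subgroup G), s ∉ K → ∀ a ∈ O, z * a = a * z → s⁻¹ * a * s = a⁻¹ := by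
    intro s hs hsK a ha hza
    have haK := hOK ha
    have h1 : s * a ∉ K := fun hm => hsK ((Subgroup.mul_mem_cancel_right _ haK).mp hm)
    have h2 : (s * a) * (s * a) ∈ K := by
      rw [show (s * a) * (s * a) = (s * s) * (s⁻¹ * a * s⁻¹⁻¹) * a by group]
      exact mul_mem (mul_mem (h.sq s hs) (Subgroup.Normal.conj_mem inferInstance a haK _)) haK
    obtain ⟨c, hc⟩ := isConj_iff.mp (h.conj _ h1 h2).symm
    have h4 : (s * a) ^ 4 = 1 := by rw [← hc, conj_pow, hx4, mul_one, mul_inv_cancel]
    set y := s⁻¹ * a * s * a with hy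
    have hyO : y ∈ O := mul_mem (by simpa using Subgroup.Normal.conj_mem inferInstance a ha s⁻¹) ha
    have hzs : s * z = z * s := mem_centralizer_iff.mp hzS s hs
    have hzy : Commute z y :=
      ((((show Commute z s from hzs.symm).inv_right).mul_right hza).mul_right hzs.symm).mul_right hza
    have e : (s * a) * (s * a) = z * y := by
      rw [← hsq s hs hsK, hy]; group
    have hzz : z * z = 1 := by rw [hz, ← hx4]; simp [pow_succ, mul_assoc]
    have hyy : y * y = 1 := by
      calc y * y = (z * z) * (y * y) := by rw [hzz, one_mul]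
        _ = (z * y) * (z * y) := (hzy.mul_mul_mul_comm z y)
        _ = (s * a) ^ 4 := by rw [← e]; simp [pow_succ, mul_assoc]
        _ = 1 := h4
    exact eq_inv_of_mul_eq_one_left (eq_one_of_sq_of_odd hO hyO hyy)
  have e1 := key x h.xS h.xK w hw hzw
  have e2 := key v h.vS h.vK w hw hzw
  have e3 := key _ (mul_mem h.xS h.vS) h.xvK w hw hzw
  have e4 : (x * v)⁻¹ * w * (x * v) = w := by
    calc (x * v)⁻¹ * w * (x * v) = v⁻¹ * (x⁻¹ * w * x) * v := by group
      _ = v⁻¹ * w⁻¹ * v := by rw [e1]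
      _ = (v⁻¹ * w * v)⁻¹ := by group
      _ = w := by rw [e2, inv_inv]
  rw [e3, inv_eq_iff_mul_eq_one] at e4
  exact eq_one_of_sq_of_odd hO hw e4

theorem structure_main {x : G} (hne : x ≠ 1) (hperf : commutator G = ⊤) {K : Subgroup G} [K.Normal]
    (h60 : K.index = 60) (hxK : x ∉ K) (hcard : Nat.card (centralizer ({x} : Set G)) = 4)
    (hconj : ∀ g : G, g ∉ K → g * g ∈ K → IsConj g x) :
    IsMulCommutative ↥(oddCore G) ∧
      ((Nonempty (G ⧸ oddCore G ≃* Matrix.ProjectiveSpecialLinearGroup (Fin 2) (ZMod 5)) ∧ orderOf x = 2) ∨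
        (Nonempty (G ⧸ oddCore G ≃* Matrix.SpecialLinearGroup (Fin 2) (ZMod 5)) ∧ orderOf x = 4)) := by
  haveI : Fact (Nat.Prime 2) := ⟨Nat.prime_two⟩
  haveI : Fact (Nat.Prime 5) := ⟨Nat.prime_five⟩
  haveI : (oddCore G).Normal := H1.pPrimeCore_normal' 2 G
  obtain ⟨hsimple, ⟨e⟩, S, v, h⟩ := exists_shape hperf h60 hxK hcard hconj
  have hO : (Nat.card ↥(oddCore G)).Coprime 2 := H1.card_pPrimeCore_coprime 2 G
  have hQ : Nat.card (G ⧸ K) = 60 := by rw [← Subgroup.index_eq_card, h60]
  have hQO : pPrimeCore 2 (G ⧸ K) = ⊥ := by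
    refine (IsSimpleGroup.eq_bot_or_eq_top_of_normal _ (H1.pPrimeCore_normal' 2 _)).resolve_right fun ht => ?_
    have := H1.card_pPrimeCore_coprime 2 (G ⧸ K)
    rw [ht, Subgroup.card_top, hQ] at this
    norm_num at this
  have hOK : oddCore G ≤ K := by
    have := (H1.map_pPrimeCore_le_of_surjective 2 _ (QuotientGroup.mk'_surjective K)).trans hQO.le
    rwa [le_bot_iff, Subgroup.map_eq_bot_iff, QuotientGroup.ker_mk'] at this
  have hx4 : orderOf x ∣ 4 := by
    rw [← hcard, ← Subgroup.orderOf_mk x (mem_centralizer_singleton_iff.mpr rfl)]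
    exact orderOf_dvd_natCard _
  rcases eq_or_ne (orderOf x) 2 with hx2 | hx2
  · have hxx : x * x = 1 := by rw [← pow_two, ← hx2, pow_orderOf_eq_one]
    have hK : K = ⊥ := h.bot_of_involution hxx
    have hOb : oddCore G = ⊥ := le_bot_iff.mp (hK ▸ hOK)
    refine ⟨⟨⟨fun a b => ?_⟩⟩, Or.inl ⟨?_, hx2⟩⟩
    · have : ∀ a : ↥(oddCore G), a = 1 := fun a => Subtype.ext (Subgroup.mem_bot.mp (hOb.le a.2))
      rw [this a, this b]
    · obtain ⟨e'⟩ := H37.PSL2_five_mulEquiv_alternating (F := ZMod 5) (ZMod.card 5)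
      exact ⟨((QuotientGroup.quotientMulEquivOfEq (hOb.trans hK.symm)).trans e).trans e'.symm⟩
  have hx : orderOf x = 4 := by
    have h1 : orderOf x ≠ 1 := fun e => hne (orderOf_eq_one_iff.mp e)
    have := Nat.le_of_dvd (by norm_num) hx4
    interval_cases orderOf x <;> omega
  obtain ⟨hzK, hzS, hvz, hT, ⟨eS⟩⟩ := h.sylow_quaternion hx
  have hz1 : x * x ≠ 1 := fun e => by
    have := Nat.le_of_dvd (by norm_num) (orderOf_dvd_of_pow_eq_one (show x ^ 2 = 1 by rw [pow_two, e]))
    omega
  have hsq : ∀ s ∈ (S : Subgroup G), s ∉ K → s * s = x * x := by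
    intro s hs hsK
    obtain ⟨c, hc⟩ := isConj_iff.mp (h.conj s hsK (h.sq s hs)).symm
    have hmem : s * s ∈ ((S : Subgroup G) ⊓ K : Subgroup G) := ⟨mul_mem hs hs, h.sq s hs⟩
    have hne1 : s * s ≠ 1 := fun e1 => hz1 (by
      calc x * x = c⁻¹ * (s * s) * c := by rw [← hc]; group
        _ = 1 := by rw [e1]; group)
    obtain ⟨t, -, ht⟩ := (Nat.card_eq_two_iff' (⟨1, one_mem _⟩ : ((S : Subgroup G) ⊓ K : Subgroup G))).mp hT
    exact congrArg Subtype.val ((ht ⟨_, hmem⟩ fun e1 => hne1 (congrArg Subtype.val e1)).trans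
      (ht ⟨_, mul_mem h.xS h.xS, hzK⟩ fun e1 => hz1 (congrArg Subtype.val e1)).symm)
  -- the order of `O(G)`
  have hKO : Nat.card K = 2 * Nat.card ↥(oddCore G) := by
    let T := (default : Sylow 2 K)
    have hT2 : Nat.card (T : Subgroup K) = 2 := by
      have hTS : Nat.card (((S : Subgroup G) ⊓ K).subgroupOf K) = 2 := by
        refine Eq.trans ?_ hT; exact Nat.card_congr (Subgroup.subgroupOfEquivOfLe inf_le_right).toEquiv
      rw [Sylow.card_eq_multiplicity]
      have hG : Nat.card G = Nat.card K * 60 := by rw [← h60, Subgroup.card_mul_index]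
      have hS8 : Nat.card (S : Subgroup G) = 8 := by
        rw [Nat.card_congr eS.toEquiv, Nat.card_eq_fintype_card, QuaternionGroup.card]
      rw [S.card_eq_multiplicity, hG, Nat.factorization_mul Nat.card_pos.ne' (by norm_num),
        Finsupp.add_apply] at hS8
      have h602 : (60 : ℕ).factorization 2 = 2 := by
        rw [show (60 : ℕ) = 2 ^ 2 * 15 by norm_num, Nat.factorization_mul (by norm_num) (by norm_num),
          Finsupp.add_apply, Nat.Prime.factorization_pow Nat.prime_two, Finsupp.single_eq_same,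
          Nat.factorization_eq_zero_of_not_dvd (by norm_num)]
      rw [h602, show (8 : ℕ) = 2 ^ 3 by norm_num] at hS8
      have := Nat.pow_right_injective le_rfl hS8
      rw [show (Nat.card K).factorization 2 = 1 by omega, pow_one]
    haveI : IsCyclic (T : Subgroup K) := isCyclic_of_prime_card hT2
    have hmin : (Nat.card K).minFac = 2 := by
      refine (Nat.minFac_eq_two_iff _).mpr ?_
      rw [← hT2]; exact Subgroup.card_subgroup_dvd_card _
    have hcompl := MonoidHom.ker_transferSylow_isComplement' T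
      (IsCyclic.normalizer_le_centralizer hmin inferInstance)
    have hmul := hcompl.card_mul
    rw [hT2] at hmul
    set N := (MonoidHom.transferSylow T (IsCyclic.normalizer_le_centralizer hmin inferInstance)).ker with hN
    have hNodd : (Nat.card N).Coprime 2 := by
      rw [Nat.coprime_comm, Nat.Prime.coprime_iff_not_dvd Nat.prime_two, ← hcompl.index_eq_card]
      exact T.not_dvd_index
    have hOcard : Nat.card (pPrimeCore 2 K) = Nat.card ↥(oddCore G) := by
      have := H1.pPrimeCore_subgroup_map_eq 2 K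
      rw [inf_eq_left.mpr hOK] at this
      rw [← this]
      exact Nat.card_congr ((pPrimeCore 2 K).equivMapOfInjective K.subtype K.subtype_injective).toEquiv
    rw [← hOcard, ← hmul, mul_comm]
    congr 1
    refine Nat.dvd_antisymm (Subgroup.card_dvd_of_le (H1.le_pPrimeCore hNodd)) ?_
    have hd : Nat.card (pPrimeCore 2 K) ∣ 2 * Nat.card N := by
      rw [mul_comm, hmul]; exact Subgroup.card_subgroup_dvd_card _
    exact (H1.card_pPrimeCore_coprime 2 K).dvd_of_dvd_mul_left hd
  refine ⟨⟨⟨fun a b => Subtype.ext ?_⟩⟩, Or.inr ⟨?_, hx⟩⟩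
  · refine (H3.CoresAbelian.fpf_inverts (oddCore G) (x * x) ?_ (fun a ha => Subgroup.Normal.conj_mem inferInstance a ha _)
      fun a ha hza => h.eq_one_of_commute hO hOK (hx ▸ pow_orderOf_eq_one x) hzS hsq ha hza).2 _ a.2 _ b.2
    rw [← pow_two, ← pow_two, ← pow_mul]
    rw [show 2 * 2 = orderOf x by rw [hx], pow_orderOf_eq_one]
  -- the quotient
  have h120 : Nat.card (G ⧸ oddCore G) = 120 := by
    have h1 := (oddCore G).card_mul_index
    rw [← K.card_mul_index, h60, hKO, ← Subgroup.index_eq_card] at *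
    have hpos : 0 < Nat.card ↥(oddCore G) := Nat.card_pos
    nlinarith
  have hns : ¬ Group.IsSolvable (G ⧸ oddCore G) := by
    intro hsol
    haveI : Nontrivial (G ⧸ oddCore G) := Finite.one_lt_card_iff_nontrivial.mp (by omega)
    refine (IsSolvable.commutator_lt_top_of_nontrivial (G := G ⧸ oddCore G)).ne ?_
    rw [_root_.commutator_def, ← Subgroup.map_top_of_surjective (QuotientGroup.mk' (oddCore G))
      (QuotientGroup.mk'_surjective _), ← Subgroup.map_commutator, ← _root_.commutator_def, hperf]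
  let π := QuotientGroup.mk' (oddCore G)
  let f := π.comp (S : Subgroup G).subtype
  have hinj : Function.Injective f := by
    refine (injective_iff_map_eq_one f).mpr fun a ha => Subtype.ext ?_
    have hm : (a : G) ∈ oddCore G := (QuotientGroup.eq_one_iff _).mp ha
    exact H3.CoresAbelian.eq_one_of_isPGroup (fun h2 => by
      have := (h2.trans (by rw [← Subgroup.orderOf_mk (a : G) hm]; exact orderOf_dvd_natCard _) :
        2 ∣ Nat.card ↥(oddCore G))
      exact (Nat.Prime.coprime_iff_not_dvd Nat.prime_two).mp hO.symm this) S.2 a.2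
  let P₀ := S.mapSurjective (QuotientGroup.mk'_surjective (oddCore G))
  have hrange : f.range = (P₀ : Subgroup (G ⧸ oddCore G)) := by
    rw [MonoidHom.range_comp, Subgroup.range_subtype]; rfl
  let e₀ : (P₀ : Subgroup (G ⧸ oddCore G)) ≃* (S : Subgroup G) :=
    (MulEquiv.subgroupCongr hrange.symm).trans (MonoidHom.ofInjective hinj).symm
  exact (Cfsg.Agent.S3378.result).1 _ h120 hns fun P => ⟨((Sylow.equiv P P₀).trans e₀).trans eS⟩

end H58.FourDeg
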