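import Mathlib

/-!
Generously transitive groups.
-/

set_option autoImplicit false
set_option linter.unusedSectionVars false

namespace H58

open MulAction

variable {α : Type*} [Fintype α] [DecidableEq α]

/-- `G` induces the whole symmetric group on every `(k+1)`-subset. -/
def Generous (G : Subgroup (Equiv.Perm α)) (k : ℕ) : Prop :=
  ∀ s : Finset α, s.card = k + 1 → ∀ σ : Equiv.Perm ↥s, ∃ g ∈ G, ∀ x : ↥s, g (x : α) = σ x

theorem Generous.ext_perm {G : Subgroup (Equiv.Perm α)} {k : ℕ} (hk : k < Fintype.card α)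
    (h : Generous G k) (T : Finset α) (hT : T.card ≤ k + 1) (π : Equiv.Perm α)
    (hπ : ∀ x ∈ T, π x ∈ T) : ∃ g ∈ G, ∀ x ∈ T, g x = π x := by
  obtain ⟨s, hTs, hs⟩ := Finset.exists_superset_card_eq hT (by omega)
  let σ₀ : Equiv.Perm ↥T := Equiv.ofBijective (fun x => ⟨π x, hπ x x.2⟩)
    (Finite.injective_iff_bijective.mp fun x y hxy =>
      Subtype.ext (π.injective (congrArg Subtype.val hxy)))
  let τ : Equiv.Perm {x : ↥s // (x : α) ∈ T} :=
    { toFun := fun x => ⟨⟨σ₀ ⟨x.1.1, x.2⟩, hTs (σ₀ _).2⟩, (σ₀ _).2⟩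
      invFun := fun x => ⟨⟨σ₀.symm ⟨x.1.1, x.2⟩, hTs (σ₀.symm _).2⟩, (σ₀.symm _).2⟩
      left_inv := fun x => by simp
      right_inv := fun x => by simp }
  obtain ⟨g, hg, hgx⟩ := h s hs (Equiv.Perm.ofSubtype τ)
  refine ⟨g, hg, fun x hx => ?_⟩
  rw [hgx ⟨x, hTs hx⟩, Equiv.Perm.ofSubtype_apply_of_mem (p := fun y : ↥s => (y : α) ∈ T) τ hx]
  rfl

theorem Generous.pretransitive {G : Subgroup (Equiv.Perm α)} {k : ℕ} (hk : k < Fintype.card α)
    (h : Generous G k) : MulAction.IsMultiplyPretransitive G α k := by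
  -- by induction on the number of already matched entries
  have key : ∀ j ≤ k, ∀ u v : Fin k ↪ α, ∃ g : G, ∀ i : Fin k, (i : ℕ) < j → g • u i = v i := by
    intro j
    induction j with
    | zero => exact fun _ u v => ⟨1, fun i hi => absurd hi (Nat.not_lt_zero _)⟩
    | succ j ih =>
      intro hj u v
      obtain ⟨g, hg⟩ := ih (by omega) u v
      set i₀ : Fin k := ⟨j, by omega⟩
      let S : Finset α := (Finset.univ.filter fun i : Fin k => (i : ℕ) < j).image v
      let T : Finset α := insert (g • u i₀) (insert (v i₀) S)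
      have hS : S.card ≤ j := Finset.card_image_le.trans (by
        rw [Fin.card_filter_val_lt]; exact min_le_right _ _)
      have hT : T.card ≤ k + 1 := (Finset.card_insert_le _ _).trans
        (by have := Finset.card_insert_le (v i₀) S; omega)
      obtain ⟨h', hh', hx⟩ := h.ext_perm hk T hT (Equiv.swap (g • u i₀) (v i₀)) (fun x hx => by
        rcases eq_or_ne x (g • u i₀) with rfl | h1
        · rw [Equiv.swap_apply_left]; simp [T]
        rcases eq_or_ne x (v i₀) with rfl | h2
        · rw [Equiv.swap_apply_right]; simp [T]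
        rwa [Equiv.swap_apply_of_ne_of_ne h1 h2])
      refine ⟨⟨h', hh'⟩ * g, fun i hi => ?_⟩
      rw [mul_smul]
      change h' (g • u i) = v i
      rcases eq_or_ne i i₀ with rfl | hne
      · rw [hx _ (Finset.mem_insert_self _ _), Equiv.swap_apply_left]
      · have hlt : (i : ℕ) < j := by
          have : (i : ℕ) ≠ j := fun e => hne (Fin.ext e)
          omega
        have hi' := hg i hlt
        rw [hi', hx _ (Finset.mem_insert_of_mem (Finset.mem_insert_of_mem
          (Finset.mem_image_of_mem v (Finset.mem_filter.mpr ⟨Finset.mem_univ _, hlt⟩)))),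
          Equiv.swap_apply_of_ne_of_ne]
        · exact fun e => hne (u.injective ((MulAction.injective g) (hi'.trans e)))
        · exact v.injective.ne hne
  refine ⟨fun u v => ?_⟩
  obtain ⟨g, hg⟩ := key k le_rfl u v
  exact ⟨g, DFunLike.ext _ _ fun i => hg i i.2⟩

theorem Generous.orbit_eq {G : Subgroup (Equiv.Perm α)} {k : ℕ} (hk : k < Fintype.card α)
    (h : Generous G k) (s : Finset α) (hs : s.card = k) {a b : α} (ha : a ∉ s) (hb : b ∉ s)
    {g : Equiv.Perm α} (hg : g ∈ G) (hgs : ∀ x ∈ s, g x ∈ s) (hab : g a = b) :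
    ∃ g' ∈ G, (∀ x ∈ s, g' x = x) ∧ g' a = b := by
  -- undo the action of `g` on `s` by an element fixing `a`
  let σ₀ : Equiv.Perm ↥s := Equiv.ofBijective (fun x => ⟨g x, hgs x x.2⟩)
    (Finite.injective_iff_bijective.mp fun x y hxy =>
      Subtype.ext (g.injective (congrArg Subtype.val hxy)))
  let π : Equiv.Perm α := Equiv.Perm.ofSubtype σ₀.symm
  have hπ : ∀ x ∈ s, π x ∈ s ∧ g (π x) = x := by
    intro x hx
    rw [show π x = σ₀.symm ⟨x, hx⟩ from Equiv.Perm.ofSubtype_apply_of_mem _ hx]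
    exact ⟨(σ₀.symm _).2, congrArg Subtype.val (σ₀.apply_symm_apply ⟨x, hx⟩)⟩
  have hπa : π a = a := Equiv.Perm.ofSubtype_apply_of_not_mem _ ha
  obtain ⟨u, hu, hux⟩ := h.ext_perm hk (insert a s)
    ((Finset.card_insert_le _ _).trans (by omega)) π (fun x hx => by
      rcases Finset.mem_insert.mp hx with rfl | hx'
      · rw [hπa]; exact Finset.mem_insert_self _ _
      · exact Finset.mem_insert_of_mem (hπ x hx').1)
  refine ⟨g * u, G.mul_mem hg hu, fun x hx => ?_, ?_⟩
  · rw [Equiv.Perm.mul_apply, hux x (Finset.mem_insert_of_mem hx), (hπ x hx).2]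
  · rw [Equiv.Perm.mul_apply, hux a (Finset.mem_insert_self _ _), hπa, hab]

end H58
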