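import Cfsg.Agent.H58.Generous

/-!
In a generously `k`-transitive group, among `p ≤ k` distinct orbits of the pointwise stabiliser
of a `k`-set one has size divisible by the prime `p`.
-/

set_option autoImplicit false
set_option linter.unusedSectionVars false

namespace H58

open MulAction
open scoped Pointwise

variable {α : Type*} [Fintype α] [DecidableEq α]

theorem card_fixingSubgroup_eq {G : Subgroup (Equiv.Perm α)} {k : ℕ}
    (htr : IsMultiplyPretransitive G α k) (Γ Γ' : Finset α) (hΓ : Γ.card = k) (hΓ' : Γ'.card = k) :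
    Nat.card (fixingSubgroup G (Γ : Set α)) = Nat.card (fixingSubgroup G (Γ' : Set α)) := by
  have key : ∀ Δ : Finset α, ∀ hΔ : Δ.card = k, fixingSubgroup G (Δ : Set α) =
      stabilizer G ((Δ.equivFinOfCardEq hΔ).symm.toEmbedding.trans (Function.Embedding.subtype _)) := by
    intro Δ hΔ
    ext g
    rw [mem_fixingSubgroup_iff, mem_stabilizer_iff]
    constructor
    · intro h
      exact DFunLike.ext _ _ fun i => h _ ((Δ.equivFinOfCardEq hΔ).symm i).2
    · intro h x hx
      have hh := DFunLike.congr_fun h (Δ.equivFinOfCardEq hΔ ⟨x, hx⟩)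
      change g • ((((Δ.equivFinOfCardEq hΔ).symm (Δ.equivFinOfCardEq hΔ ⟨x, hx⟩)) : Δ) : α) =
        ((((Δ.equivFinOfCardEq hΔ).symm (Δ.equivFinOfCardEq hΔ ⟨x, hx⟩)) : Δ) : α) at hh
      simpa using hh
  rw [key Γ hΓ, key Γ' hΓ']
  obtain ⟨g, hg⟩ := htr.exists_smul_eq
    ((Γ.equivFinOfCardEq hΓ).symm.toEmbedding.trans (Function.Embedding.subtype _))
    ((Γ'.equivFinOfCardEq hΓ').symm.toEmbedding.trans (Function.Embedding.subtype _))
  exact Nat.card_congr (stabilizerEquivStabilizer hg.symm).toEquiv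

theorem Generous.orbit_dvd {G : Subgroup (Equiv.Perm α)} {k : ℕ} (hk : k < Fintype.card α)
    (h : Generous G k) {p : ℕ} (hp : p.Prime) (hpk : p ≤ k) (Γ : Finset α) (hΓ : Γ.card = k)
    (f : Fin p → α) (hf : ∀ i, f i ∉ Γ)
    (hdist : ∀ i j, i ≠ j → f j ∉ MulAction.orbit (fixingSubgroup G (Γ : Set α)) (f i)) :
    ∃ i, p ∣ Nat.card (MulAction.orbit (fixingSubgroup G (Γ : Set α)) (f i)) := by
  classical
  by_contra! hnd
  haveI : Fact p.Prime := ⟨hp⟩
  obtain ⟨B, hBΓ, hB⟩ := Finset.exists_subset_card_eq (n := p) (s := Γ) (by omega)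
  let D := Γ \ B
  let eB := B.equivFinOfCardEq hB
  let π : Equiv.Perm α := Equiv.Perm.ofSubtype (p := fun x => x ∈ B) (eB.symm.permCongr (finRotate p))
  have hπB : ∀ x ∈ B, π x ∈ B := fun x hx => by
    rw [show π x = _ from Equiv.Perm.ofSubtype_apply_of_mem _ hx]
    exact Subtype.prop _
  have hπout : ∀ x, x ∉ B → π x = x := fun x hx => Equiv.Perm.ofSubtype_apply_of_not_mem _ hx
  have hπΓ : ∀ x ∈ Γ, π x ∈ Γ := fun x hx => by
    by_cases hxB : x ∈ B
    · exact hBΓ (hπB x hxB)
    · rwa [hπout x hxB]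
  obtain ⟨w₁, hw₁, hw₁x⟩ := h.ext_perm hk Γ (by omega) π hπΓ
  set H := fixingSubgroup G (Γ : Set α)
  obtain ⟨P⟩ := (inferInstance : Nonempty (Sylow p H))
  let P' : Subgroup G := (P : Subgroup H).map H.subtype
  let u : G := ⟨w₁, hw₁⟩
  have huΓ : ∀ x ∈ Γ, u⁻¹ • x ∈ Γ := by
    intro x hx
    have hsurj : Finset.image (fun y => π y) Γ = Γ := Finset.eq_of_subset_of_card_le
      (Finset.image_subset_iff.mpr hπΓ) (by rw [Finset.card_image_of_injective _ π.injective])
    rw [← hsurj] at hx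
    obtain ⟨y, hy, rfl⟩ := Finset.mem_image.mp hx
    rw [← hw₁x y hy]
    change u⁻¹ • u • y ∈ Γ
    rwa [inv_smul_smul]
  have huH : ∀ y ∈ H, u * y * u⁻¹ ∈ H := by
    intro y hy
    rw [mem_fixingSubgroup_iff] at hy ⊢
    intro x hx
    rw [mul_smul, mul_smul, hy _ (huΓ x hx), smul_inv_smul]
  let φ : H →* H :=
    ((MulAut.conj u).toMonoidHom.comp H.subtype).codRestrict H (fun y => huH y y.2)
  have hφ : Function.Injective φ := fun y z hyz =>
    Subtype.ext ((MulAut.conj u).injective (congrArg Subtype.val hyz))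
  let P₂ : Sylow p H := Sylow.ofCard ((P : Subgroup H).map φ) (by
    rw [Subgroup.card_map_of_injective hφ, Sylow.card_eq_multiplicity])
  obtain ⟨v, hv⟩ := MulAction.exists_smul_eq H P₂ P
  obtain ⟨w₀, hw₀def⟩ : ∃ w₀ : G, w₀ = (v : G) * u := ⟨_, rfl⟩
  have hw₀x : ∀ x ∈ Γ, w₀ • x = π x := by
    intro x hx
    rw [hw₀def, mul_smul, show u • x = π x from hw₁x x hx]
    exact (mem_fixingSubgroup_iff G).mp v.2 _ (hπΓ x hx)
  have hnorm₀ : ∀ y ∈ P', w₀ * y * w₀⁻¹ ∈ P' := by
    rintro _ ⟨y, hy, rfl⟩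
    have hmem : v * φ y * v⁻¹ ∈ (P : Subgroup H) := by
      rw [← hv]
      exact Subgroup.smul_mem_pointwise_smul (φ y) (MulAut.conj v) (P₂ : Subgroup H) ⟨y, hy, rfl⟩
    refine ⟨_, hmem, ?_⟩
    simp [φ, hw₀def, mul_assoc]
  have hw₀N : w₀ ∈ Subgroup.normalizer (P' : Set G) := by
    rw [Subgroup.mem_normalizer_iff]
    intro y
    refine ⟨hnorm₀ y, fun hy => ?_⟩
    have hmap : P'.map (MulAut.conj w₀).toMonoidHom = P' := by
      refine Subgroup.eq_of_le_of_card_ge ?_
        (Subgroup.card_map_of_injective (MulAut.conj w₀).injective).ge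
      rintro _ ⟨z, hz, rfl⟩
      exact hnorm₀ z hz
    rw [← hmap] at hy
    obtain ⟨z, hz, he⟩ := hy
    exact (MulAut.conj w₀).injective he ▸ hz
  obtain ⟨e, m, hm, hem⟩ := Nat.exists_eq_pow_mul_and_not_dvd (orderOf_pos w₀).ne' p hp.ne_one
  obtain ⟨w, hwdef⟩ : ∃ w : G, w = w₀ ^ e := ⟨_, rfl⟩
  clear hwdef w
  obtain ⟨w, hwdef⟩ : ∃ w : G, w = w₀ ^ m := ⟨_, rfl⟩
  have hwx : ∀ x ∈ Γ, w • x = (π ^ m) x ∧ (π ^ m) x ∈ Γ := by
    rw [hwdef]
    clear hem hwdef hm
    induction m with
    | zero => intro x hx; simp [hx]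
    | succ j ih =>
      intro x hx
      rw [pow_succ', pow_succ', mul_smul, (ih x hx).1, Equiv.Perm.mul_apply]
      exact ⟨hw₀x _ (ih x hx).2, hπΓ _ (ih x hx).2⟩
  have hwD : ∀ x ∈ D, w • x = x := by
    intro x hx
    obtain ⟨hxΓ, hxB⟩ := Finset.mem_sdiff.mp hx
    rw [(hwx x hxΓ).1]
    exact Equiv.Perm.pow_apply_eq_self_of_apply_eq_self (hπout x hxB) m
  have hwnot : w ∉ H := by
    intro hwH
    apply hm
    have h1 : (π ^ m : Equiv.Perm α) = 1 := by
      refine Equiv.ext fun x => ?_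
      by_cases hxB : x ∈ B
      · rw [← (hwx x (hBΓ hxB)).1]
        exact (mem_fixingSubgroup_iff G).mp hwH x (hBΓ hxB)
      · exact Equiv.Perm.pow_apply_eq_self_of_apply_eq_self (hπout x hxB) m
    have hord : orderOf π = p := by
      have e1 : orderOf π = orderOf (eB.symm.permCongr (finRotate p)) :=
        orderOf_injective _ Equiv.Perm.ofSubtype_injective _
      have e2 : eB.symm.permCongr (finRotate p) = (Equiv.permCongrHom eB.symm) (finRotate p) := rfl
      rw [e1, e2, MulEquiv.orderOf_eq]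
      obtain ⟨q, rfl⟩ : ∃ q, p = q + 2 := ⟨p - 2, by have := hp.two_le; omega⟩
      rw [(isCycle_finRotate (n := q)).orderOf, support_finRotate, Finset.card_univ,
        Fintype.card_fin]
    exact hord ▸ orderOf_dvd_of_pow_eq_one h1
  have hwN : w ∈ Subgroup.normalizer (P' : Set G) := hwdef ▸ pow_mem hw₀N m
  have hwp : IsPGroup p (Subgroup.zpowers w) := by
    refine IsPGroup.of_card (n := e) ?_
    rw [Nat.card_zpowers, hwdef, orderOf_pow_of_dvd (by rintro rfl; simp at hm)
      (hem ▸ dvd_mul_left m _), hem, Nat.mul_div_cancel _ (Nat.pos_of_ne_zero (by rintro rfl; simp at hm))]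
  let Q := Subgroup.zpowers w ⊔ P'
  have hQp : IsPGroup p Q :=
    hwp.to_sup_of_normal_right' (P.isPGroup'.map _) (Subgroup.zpowers_le.mpr hwN)
  have hPQ : P' < Q := by
    refine lt_of_le_of_ne le_sup_right fun he => hwnot ?_
    obtain ⟨y, -, hy⟩ := (he.symm ▸ Subgroup.mem_sup_left (Subgroup.mem_zpowers w) : w ∈ P')
    exact hy ▸ y.2
  have hQΓ : ∀ g ∈ Q, (∀ x ∈ D, g • x = x) := by
    intro g hg x hx
    have : Q ≤ stabilizer G x := sup_le (Subgroup.zpowers_le.mpr (hwD x hx)) (by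
      rintro _ ⟨y, -, rfl⟩
      exact (mem_fixingSubgroup_iff G).mp y.2 x (Finset.mem_sdiff.mp hx).1)
    exact this hg
  have hfixed : ∀ i, ∃ z ∈ orbit H (f i), ∀ g ∈ Q, g • z = z := by
    intro i
    have hout : ∀ z ∈ orbit H (f i), z ∉ Γ := by
      rintro _ ⟨y, rfl⟩ hmem
      apply hf i
      have h2 := (mem_fixingSubgroup_iff G).mp (y⁻¹).2 _ hmem
      change (y : G)⁻¹ • (y : G) • f i = (y : G) • f i at h2
      rw [inv_smul_smul] at h2
      exact h2 ▸ hmem
    have hinv : Q ≤ stabilizer G (orbit H (f i)) := by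
      have hmove : ∀ g : G, (∀ x ∈ Γ, g • x ∈ Γ) →
          ∀ z ∈ orbit H (f i), g • z ∈ orbit H (f i) := by
        intro g hgΓ z hz
        have hz' : g • z ∉ Γ := by
          intro hh
          have hsurj : Finset.image (fun y => g • y) Γ = Γ := Finset.eq_of_subset_of_card_le
            (Finset.image_subset_iff.mpr hgΓ)
            (by rw [Finset.card_image_of_injective _ (MulAction.injective g)])
          rw [← hsurj] at hh
          obtain ⟨y, hy, hye⟩ := Finset.mem_image.mp hh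
          exact hout z hz ((MulAction.injective g) hye ▸ hy)
        obtain ⟨g', hg', hg'x, hg'z⟩ := h.orbit_eq hk Γ hΓ (hout z hz) hz' g.2 hgΓ rfl
        have hg'H : (⟨g', hg'⟩ : G) ∈ H := (mem_fixingSubgroup_iff G).mpr hg'x
        rw [show g • z = (⟨⟨g', hg'⟩, hg'H⟩ : H) • z from hg'z.symm]
        exact MulAction.mem_orbit_of_mem_orbit _ hz
      intro g hg
      have hQΓ' : ∀ g ∈ Q, ∀ x ∈ Γ, g • x ∈ Γ := by
        intro g hg x hx
        have hb : Q ≤ stabilizer G (Γ : Set α) := sup_le (Subgroup.zpowers_le.mpr (by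
            rw [mem_stabilizer_set_iff_subset_smul_set Γ.finite_toSet]
            intro x hx
            obtain ⟨y, hy, hye⟩ : ∃ y ∈ Γ, (π ^ m) y = x := by
              have hsurj : Finset.image (fun y => (π ^ m) y) Γ = Γ :=
                Finset.eq_of_subset_of_card_le (Finset.image_subset_iff.mpr fun y hy => (hwx y hy).2)
                  (by rw [Finset.card_image_of_injective _ (π ^ m).injective])
              rw [Finset.mem_coe, ← hsurj] at hx
              exact Finset.mem_image.mp hx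
            exact ⟨y, hy, (hwx y hy).1.trans hye⟩)) (by
            rintro _ ⟨y, -, rfl⟩
            rw [mem_stabilizer_set_iff_subset_smul_set Γ.finite_toSet]
            exact fun x hx => ⟨x, hx, (mem_fixingSubgroup_iff G).mp y.2 x hx⟩)
        have := hb hg
        rw [mem_stabilizer_iff] at this
        have h2 := Set.smul_mem_smul_set (a := g) (Finset.mem_coe.mpr hx)
        rw [this] at h2
        exact h2
      rw [mem_stabilizer_set]
      intro z
      refine ⟨fun hz => ?_, hmove g (hQΓ' g hg) z⟩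
      have := hmove g⁻¹ (hQΓ' g⁻¹ (Q.inv_mem hg)) _ hz
      rwa [inv_smul_smul] at this
    letI : MulAction Q (orbit H (f i)) :=
      { smul := fun g z => ⟨(g : G) • (z : α),
          ((mem_stabilizer_set.mp (hinv g.2)) z).mpr z.2⟩
        one_smul := fun z => Subtype.ext (one_smul G (z : α))
        mul_smul := fun g g' z => Subtype.ext (mul_smul (g : G) (g' : G) (z : α)) }
    obtain ⟨z, hz⟩ := hQp.nonempty_fixed_point_of_prime_not_dvd_card (orbit H (f i)) (hnd i)
    exact ⟨z, z.2, fun g hg => congrArg Subtype.val (hz ⟨g, hg⟩)⟩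
  choose z hz hzfix using hfixed
  have hzinj : Function.Injective z := by
    intro i j hij
    by_contra hne
    refine hdist i j hne ?_
    rw [MulAction.orbit_eq_iff.mpr (hz i) |>.symm, hij, MulAction.orbit_eq_iff.mpr (hz j)]
    exact MulAction.mem_orbit_self _
  have hzout : ∀ i, z i ∉ Γ := fun i hmem => by
    obtain ⟨y, hy⟩ := hz i
    apply hf i
    have h2 := (mem_fixingSubgroup_iff G).mp (y⁻¹).2 _ hmem
    have h3 : f i = z i := by
      rw [← h2, ← hy]
      exact (inv_smul_smul (y : G) (f i)).symm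
    exact h3 ▸ hmem
  let Γ' : Finset α := D ∪ Finset.univ.image z
  have hΓ' : Γ'.card = k := by
    rw [Finset.card_union_of_disjoint, Finset.card_image_of_injective _ hzinj, Finset.card_univ,
      Fintype.card_fin, Finset.card_sdiff_of_subset hBΓ, hΓ, hB]
    · omega
    · rw [Finset.disjoint_left]
      intro x hx hx'
      obtain ⟨i, -, rfl⟩ := Finset.mem_image.mp hx'
      exact hzout i (Finset.mem_sdiff.mp hx).1
  have hQle : Q ≤ fixingSubgroup G (Γ' : Set α) := by
    intro g hg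
    rw [mem_fixingSubgroup_iff]
    intro x hx
    rcases Finset.mem_union.mp hx with hx | hx
    · exact hQΓ g hg x hx
    · obtain ⟨i, -, rfl⟩ := Finset.mem_image.mp hx
      exact hzfix i g hg
  obtain ⟨j, hj⟩ := IsPGroup.iff_card.mp hQp
  have hdvd : p ^ j ∣ Nat.card H :=
    (card_fixingSubgroup_eq (h.pretransitive hk) Γ Γ' hΓ hΓ').symm ▸ hj ▸ Subgroup.card_dvd_of_le hQle
  have hlt : Nat.card P' < Nat.card Q := lt_of_le_of_ne (Subgroup.card_le_of_le hPQ.le)
    (fun he => hPQ.ne (Subgroup.eq_of_le_of_card_ge hPQ.le he.ge))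
  rw [hj, Subgroup.card_map_of_injective H.subtype_injective, Sylow.card_eq_multiplicity] at hlt
  have := (hp.pow_dvd_iff_le_factorization Nat.card_pos.ne').mp hdvd
  exact absurd (Nat.pow_le_pow_right hp.pos this) (not_le.mpr hlt)

end H58
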