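import Cfsg.Agent.S3360
import Cfsg.Agent.H60.PrimFit
import Cfsg.Prelude.Def_Perm

/-!
Kantor: the 2-homogeneous groups that are not doubly transitive.
-/

set_option autoImplicit false
set_option linter.style.haveILetI false
set_option linter.unusedSectionVars false

namespace H58.Kantor

open MulAction
open scoped Pointwise

variable {α : Type*} [Fintype α] [DecidableEq α] {G : Subgroup (Equiv.Perm α)}

theorem exists_pair_map (h2 : IsPretransitive G (Set.powersetCard α 2)) {a b x y : α} (hab : a ≠ b)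
    (hxy : x ≠ y) : ∃ g : G, (g • a = x ∧ g • b = y) ∨ (g • a = y ∧ g • b = x) := by
  obtain ⟨g, hg⟩ := h2.exists_smul_eq
    (⟨{a, b}, by simp [Set.powersetCard, Finset.card_pair hab]⟩ : Set.powersetCard α 2)
    ⟨{x, y}, by simp [Set.powersetCard, Finset.card_pair hxy]⟩
  have h : g • ({a, b} : Finset α) = {x, y} :=
    Set.powersetCard.coe_smul.symm.trans (congrArg Subtype.val hg)
  refine ⟨g, ?_⟩
  have h1 : g • a ∈ ({x, y} : Finset α) := h ▸ Finset.smul_mem_smul_finset (by simp)
  have h2' : g • b ∈ ({x, y} : Finset α) := h ▸ Finset.smul_mem_smul_finset (by simp)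
  have hne : g • a ≠ g • b := fun e => hab (smul_left_cancel g e)
  simp only [Finset.mem_insert, Finset.mem_singleton] at h1 h2'
  rcases h1 with h1 | h1 <;> rcases h2' with h2' | h2'
  · exact absurd (h1.trans h2'.symm) hne
  · exact Or.inl ⟨h1, h2'⟩
  · exact Or.inr ⟨h1, h2'⟩
  · exact absurd (h1.trans h2'.symm) hne

theorem no_swap (h2 : IsPretransitive G (Set.powersetCard α 2))
    (hn2 : ¬ IsMultiplyPretransitive G α 2) {g : G} {a b : α} (hab : a ≠ b) (ha : g • a = b)
    (hb : g • b = a) : False := by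
  refine hn2 (is_two_pretransitive_iff.mpr fun {u v x y} huv hxy => ?_)
  obtain ⟨h, hh⟩ := exists_pair_map h2 hab huv
  obtain ⟨k, hk⟩ := exists_pair_map h2 hab hxy
  obtain ⟨h', hh'⟩ : ∃ h' : G, h' • a = u ∧ h' • b = v := by
    rcases hh with hh | ⟨h1, h2⟩
    · exact ⟨h, hh⟩
    · exact ⟨h * g, by rw [mul_smul, ha, h2], by rw [mul_smul, hb, h1]⟩
  obtain ⟨k', hk'⟩ : ∃ k' : G, k' • a = x ∧ k' • b = y := by
    rcases hk with hk | ⟨h1, h2⟩
    · exact ⟨k, hk⟩
    · exact ⟨k * g, by rw [mul_smul, ha, h2], by rw [mul_smul, hb, h1]⟩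
  exact ⟨k' * h'⁻¹, by rw [mul_smul, ← hh'.1, inv_smul_smul, hk'.1],
    by rw [mul_smul, ← hh'.2, inv_smul_smul, hk'.2]⟩

theorem odd_card (h2 : IsPretransitive G (Set.powersetCard α 2))
    (hn2 : ¬ IsMultiplyPretransitive G α 2) : Odd (Nat.card G) := by
  rw [← Nat.not_even_iff_odd, even_iff_two_dvd]
  intro h
  obtain ⟨t, ht⟩ := exists_prime_orderOf_dvd_card' (G := G) 2 h
  have ht2 : t * t = 1 := by rw [← pow_two, ← ht, pow_orderOf_eq_one]
  obtain ⟨a, ha⟩ : ∃ a : α, t • a ≠ a := by
    by_contra hall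
    push Not at hall
    have : t = 1 := eq_of_smul_eq_smul fun a : α => by rw [hall a, one_smul]
    rw [this, orderOf_one] at ht
    norm_num at ht
  exact no_swap h2 hn2 (Ne.symm ha) rfl (by rw [← mul_smul, ht2, one_smul])

theorem three_le (hne : G ≠ ⊥) (hn2 : ¬ IsMultiplyPretransitive G α 2) : 3 ≤ Fintype.card α := by
  by_contra hlt
  push Not at hlt
  obtain ⟨g, hg, hg1⟩ := (Subgroup.ne_bot_iff_exists_ne_one.mp hne |> fun ⟨g, hg⟩ =>
    (⟨(g : Equiv.Perm α), g.2, fun e => hg (Subtype.ext e)⟩ : ∃ g, g ∈ G ∧ g ≠ 1))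
  refine hn2 (is_two_pretransitive_iff.mpr fun {u v x y} huv hxy => ?_)
  have hall : ∀ w : α, w = u ∨ w = v := by
    intro w
    by_contra h
    push Not at h
    have h3 : ({u, v, w} : Finset α).card = 3 := by
      rw [Finset.card_insert_of_notMem (by simp [huv, h.1.symm]), Finset.card_pair h.2.symm]
    have := Finset.card_le_univ ({u, v, w} : Finset α)
    omega
  have hgu : g u = v := by
    rcases hall (g u) with h | h
    · exfalso
      refine hg1 (Equiv.ext fun w => ?_)
      rcases hall w with hw | hw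
      · rw [hw]; exact h
      · rw [hw]
        rcases hall (g v) with h' | h'
        · exact absurd (g.injective (h'.trans h.symm)) huv.symm
        · exact h'
    · exact h
  have hgv : g v = u := (hall (g v)).resolve_right fun h => huv (g.injective (hgu.trans h.symm))
  rcases hall x with rfl | rfl <;> rcases hall y with rfl | rfl
  · exact absurd rfl hxy
  · exact ⟨1, one_smul _ _, one_smul _ _⟩
  · exact ⟨⟨g, hg⟩, hgu, hgv⟩
  · exact absurd rfl hxy

theorem transitive (h2 : IsPretransitive G (Set.powersetCard α 2)) (h3 : 3 ≤ Fintype.card α) :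
    IsPretransitive G α := by
  refine ⟨fun x y => ?_⟩
  by_cases hxy : x = y
  · exact ⟨1, by rw [one_smul, hxy]⟩
  obtain ⟨z, hzx, hzy⟩ : ∃ z, z ≠ x ∧ z ≠ y := by
    by_contra h
    push Not at h
    have hs : (Finset.univ : Finset α) ⊆ {x, y} := fun w _ => by
      by_cases hw : w = x
      · simp [hw]
      · simp [h w hw]
    have := (Finset.card_le_card hs).trans Finset.card_le_two
    rw [Finset.card_univ] at this
    omega
  obtain ⟨g, hg⟩ := exists_pair_map h2 hzx.symm hxy
  rcases hg with ⟨-, hz⟩ | ⟨hx, -⟩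
  · obtain ⟨k, hk⟩ := exists_pair_map h2 hzy hxy
    rcases hk with ⟨hz', -⟩ | ⟨-, hy'⟩
    · exact ⟨g * k⁻¹, by rw [mul_smul, ← hz', inv_smul_smul, hz]⟩
    · exact ⟨k⁻¹, by rw [inv_smul_eq_iff, hy']⟩
  · exact ⟨g, hx⟩

theorem primitive (h2 : IsPretransitive G (Set.powersetCard α 2)) (h3 : 3 ≤ Fintype.card α) :
    IsPreprimitive G α := by
  haveI := transitive h2 h3
  refine IsPreprimitive.mk fun {B} hB => ?_
  by_contra hnt
  obtain ⟨a, ha, b, hb, hab⟩ : ∃ a ∈ B, ∃ b ∈ B, a ≠ b := by
    by_contra h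
    push Not at h
    exact hnt (Or.inl fun a ha b hb => h a ha b hb)
  obtain ⟨c, hc⟩ : ∃ c, c ∉ B := by
    by_contra h
    push Not at h
    exact hnt (Or.inr (Set.eq_univ_of_forall h))
  obtain ⟨g, hg⟩ := exists_pair_map h2 hab (fun e => hc (e ▸ ha) : a ≠ c)
  obtain ⟨w, hw, hwc⟩ : ∃ w ∈ B, g • w = c := by
    rcases hg with ⟨-, h⟩ | ⟨h, -⟩
    · exact ⟨b, hb, h⟩
    · exact ⟨a, ha, h⟩
  obtain ⟨v, hv, hva⟩ : ∃ v ∈ B, g • v = a := by
    rcases hg with ⟨h, -⟩ | ⟨-, h⟩
    · exact ⟨a, ha, h⟩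
    · exact ⟨b, hb, h⟩
  rcases isBlock_iff_smul_eq_or_disjoint.mp hB g with h | h
  · exact hc (h ▸ ⟨w, hw, hwc⟩)
  · exact Set.disjoint_left.mp h ⟨v, hv, hva⟩ ha

theorem card_mod_four (h2 : IsPretransitive G (Set.powersetCard α 2))
    (h3 : 3 ≤ Fintype.card α) (hodd : Odd (Nat.card G)) : Fintype.card α % 4 = 3 := by
  haveI := transitive h2 h3
  obtain ⟨a⟩ : Nonempty α := Fintype.card_pos_iff.mp (by omega)
  have h1 : Fintype.card α ∣ Nat.card G := by
    rw [← Nat.card_eq_fintype_card, ← index_stabilizer_of_transitive G a]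
    exact Subgroup.index_dvd_card _
  obtain ⟨b, hb⟩ : ∃ b, b ≠ a := Fintype.exists_ne_of_one_lt_card (by omega) a
  let s : Set.powersetCard α 2 := ⟨{a, b}, by simp [Set.powersetCard, Finset.card_pair hb.symm]⟩
  have h4 : (Fintype.card α).choose 2 ∣ Nat.card G := by
    rw [← Nat.card_eq_fintype_card (α := α), ← Set.powersetCard.card,
      ← index_stabilizer_of_transitive G s]
    exact Subgroup.index_dvd_card _
  have o1 : Fintype.card α % 2 = 1 := Nat.odd_iff.mp (hodd.of_dvd_nat h1)
  have o2 : (Fintype.card α).choose 2 % 2 = 1 := Nat.odd_iff.mp (hodd.of_dvd_nat h4)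
  rw [Nat.choose_two_right] at o2
  obtain ⟨m, hm | hm⟩ : ∃ m, Fintype.card α = 4 * m + 1 ∨ Fintype.card α = 4 * m + 3 :=
    ⟨Fintype.card α / 4, by omega⟩
  · exfalso
    rw [hm, show (4 * m + 1) * (4 * m + 1 - 1) = 2 * (2 * ((4 * m + 1) * m)) by
      rw [Nat.add_sub_cancel]; ring, Nat.mul_div_cancel_left _ (by norm_num : 0 < 2)] at o2
    omega
  · omega

/-- The conclusion, given coordinates in which the stabiliser of the origin is linear. -/
theorem affine (h2 : IsPretransitive G (Set.powersetCard α 2)) (hodd : Odd (Nat.card G))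
    (hsol : Group.IsSolvable G) {p : ℕ} [Fact p.Prime] (hp2 : p ≠ 2) {f : ℕ}
    (hcardα : Fintype.card α = p ^ f) (h4 : Fintype.card α % 4 = 3)
    {V : Type*} [AddCommGroup V] [Module (ZMod p) V] [Finite V] [Nontrivial V]
    (hVcard : Nat.card V = Fintype.card α) (τ : V → G) (pe : V ≃ α)
    (hτ : ∀ v w, τ v • pe w = pe (v + w))
    (c : stabilizer G (pe 0) → V →+ V) (hc : ∀ g v, pe (c g v) = (g : G) • pe v) :
    ∃ e : α ≃ GaloisField p f,
      (∀ g : G, e.symm.trans (((g : Equiv.Perm α)).trans e) ∈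
        Cfsg.semiaffineGroup (GaloisField p f)) ∧
      ∀ b : GaloisField p f, ∃ g : G, ∀ x : α, e ((g : Equiv.Perm α) x) = e x + b := by
  classical
  have hp := (Fact.out : p.Prime)
  haveI := hsol
  let a := pe 0
  have hadef : a = pe 0 := rfl
  let G0 := stabilizer G a
  have hc1 : ∀ g h v, c (g * h) v = c g (c h v) := fun g h v => pe.injective (by
    rw [hc, hc, hc, ← mul_smul, Subgroup.coe_mul])
  have hc0 : ∀ v, c 1 v = v := fun v => pe.injective (by rw [hc, OneMemClass.coe_one, one_smul])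
  let cL : G0 → (V ≃ₗ[ZMod p] V) := fun g =>
    { toFun := c g
      map_add' := map_add (c g)
      map_smul' := fun z v => ZMod.map_smul (c g) z v
      invFun := c g⁻¹
      left_inv := fun v => by rw [← hc1, inv_mul_cancel, hc0]
      right_inv := fun v => by rw [← hc1, mul_inv_cancel, hc0] }
  let ρ : G0 →* (V ≃ₗ[ZMod p] V) := MonoidHom.mk' cL fun g h => LinearEquiv.ext fun v => hc1 g h v
  have hρval : ∀ (g : G0) (v : V), pe (ρ g v) = (g : G) • pe v := fun g v => hc g v
  have hρ : Function.Injective ρ := by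
    refine (injective_iff_map_eq_one ρ).mpr fun g hg => ?_
    apply Subtype.ext
    refine eq_of_smul_eq_smul fun x : α => ?_
    obtain ⟨v, rfl⟩ := pe.surjective x
    rw [← hρval, hg, OneMemClass.coe_one, one_smul]
    rfl
  have hpm : ∀ v w : V, v ≠ 0 → w ≠ 0 → ∃ g : G0, ρ g v = w ∨ ρ g v = -w := by
    intro v w hv hw
    have hva : a ≠ pe v := fun e => hv (pe.injective e).symm
    have hwa : a ≠ pe w := fun e => hw (pe.injective e).symm
    obtain ⟨g, hg⟩ := exists_pair_map h2 hva hwa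
    rcases hg with ⟨ha, hv'⟩ | ⟨ha, hv'⟩
    · exact ⟨⟨g, ha⟩, Or.inl (pe.injective ((hρval _ v).trans hv'))⟩
    · have hmem : τ (-w) * g ∈ G0 := by
        show (τ (-w) * g) • a = a
        rw [mul_smul, ha, hτ, neg_add_cancel]
      refine ⟨⟨_, hmem⟩, Or.inr (pe.injective ((hρval _ v).trans ?_))⟩
      show (τ (-w) * g) • pe v = pe (-w)
      rw [mul_smul, hv', hadef, hτ, add_zero]
  -- adjoin the sign
  let ψ : ℤˣ →* (V ≃ₗ[ZMod p] V) := MonoidHom.mk'
    (fun u => LinearEquiv.smulOfUnit (Units.map (Int.castRingHom (ZMod p)).toMonoidHom u))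
    fun u u' => LinearEquiv.ext fun v => by
      show (((u * u' : ℤˣ) : ℤ) : ZMod p) • v = ((u : ℤ) : ZMod p) • ((u' : ℤ) : ZMod p) • v
      rw [smul_smul, Units.val_mul, Int.cast_mul]
  have hψ : ∀ (u : ℤˣ) (v : V), ψ u v = ((u : ℤ) : ZMod p) • v := fun _ _ => rfl
  have hψneg : ∀ v : V, ψ (-1) v = -v := fun v => by
    rw [hψ]
    simp
  let R : G0 × ℤˣ →* (V ≃ₗ[ZMod p] V) := MonoidHom.noncommCoprod ρ ψ fun g u =>
    LinearEquiv.ext fun v => show ρ g (ψ u v) = ψ u (ρ g v) by rw [hψ, hψ, map_smul]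
  have hRval : ∀ (x : G0 × ℤˣ) (v : V), R x v = ρ x.1 (ψ x.2 v) := fun _ _ => rfl
  have hG0odd : Odd (Nat.card G0) := hodd.of_dvd_nat (Subgroup.card_subgroup_dvd_card G0)
  have hR : Function.Injective R := by
    refine (injective_iff_map_eq_one R).mpr ?_
    rintro ⟨g, u⟩ hx
    have hu : u = 1 := by
      rcases Int.units_eq_one_or u with h | h
      · exact h
      exfalso
      subst h
      have h1 : ∀ v, ρ g v = -v := fun v => by
        have := LinearEquiv.congr_fun hx v
        rw [hRval, hψneg, map_neg] at this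
        exact neg_eq_iff_eq_neg.mp this
      have hg2 : g ^ 2 = 1 := hρ (LinearEquiv.ext fun v => by
        rw [pow_two, map_mul, map_one]
        show ρ g (ρ g v) = v
        rw [h1, h1, neg_neg])
      have hg1 : g = 1 := by
        rw [← orderOf_eq_one_iff]
        rcases (Nat.dvd_prime Nat.prime_two).mp (orderOf_dvd_of_pow_eq_one hg2) with h | h
        · exact h
        · have hd : 2 ∣ Nat.card G0 := h ▸ orderOf_dvd_natCard g
          exact absurd hd (by have := Nat.odd_iff.mp hG0odd; omega)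
      obtain ⟨v, hv⟩ := exists_ne (0 : V)
      have := h1 v
      rw [hg1, map_one] at this
      have h20 : (2 : ZMod p) • v = 0 := by
        rw [two_smul]; nth_rewrite 2 [show v = -v from this]; exact add_neg_cancel v
      rcases smul_eq_zero.mp h20 with h | h
      · have : ((2 : ℕ) : ZMod p) = 0 := by exact_mod_cast h
        rw [ZMod.natCast_eq_zero_iff] at this
        exact hp2 ((Nat.prime_dvd_prime_iff_eq hp Nat.prime_two).mp this)
      · exact hv h
    subst hu
    refine Prod.ext (hρ (LinearEquiv.ext fun v => ?_)) rfl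
    have := LinearEquiv.congr_fun hx v
    rw [hRval, map_one] at this
    show ρ g v = ρ 1 v
    rw [map_one]
    exact this
  have hsolR : Group.IsSolvable (G0 × ℤˣ) := inferInstance
  have htrans : ∀ v w : V, v ≠ 0 → w ≠ 0 → ∃ x, R x v = w := by
    intro v w hv hw
    obtain ⟨g, hg | hg⟩ := hpm v w hv hw
    · exact ⟨(g, 1), by rw [hRval, map_one]; exact hg⟩
    · exact ⟨(g, -1), by rw [hRval, hψneg, map_neg, hg, neg_neg]⟩
  rcases Cfsg.Agent.S3360.result p hsolR R hR htrans with ⟨K, iK, iKf, eK, hK⟩ | hbad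
  swap
  · exfalso
    rw [hVcard] at hbad
    simp only [Set.mem_insert_iff, Set.mem_singleton_iff] at hbad
    omega
  have hf : f ≠ 0 := by
    intro h
    rw [h, pow_zero] at hcardα
    omega
  haveI : Fintype (GaloisField p f) := Fintype.ofFinite _
  let iso : K ≃+* GaloisField p f := FiniteField.ringEquivOfCardEq (by
    rw [← Nat.card_eq_fintype_card, ← Nat.card_eq_fintype_card, GaloisField.card p f hf,
      ← Nat.card_congr eK.toEquiv, hVcard, hcardα])
  let T : V ≃+ GaloisField p f := eK.trans iso.toAddEquiv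
  refine ⟨pe.symm.trans T.toEquiv, fun g => ?_, fun b => ?_⟩
  · obtain ⟨m, hm⟩ := pe.surjective (g • a)
    have hm' : τ m • a = g • a := by rw [hadef, hτ, add_zero]; exact hm
    have hg0 : (τ m)⁻¹ * g ∈ G0 := by
      show ((τ m)⁻¹ * g) • a = a
      rw [mul_smul]
      exact inv_smul_eq_iff.mpr hm'.symm
    obtain ⟨x, σ, hx⟩ := hK (⟨_, hg0⟩, 1)
    have hx0 : iso x ≠ 0 := by
      intro h0
      obtain ⟨v, hv⟩ := exists_ne (0 : V)
      have h1 := hx v
      rw [iso.map_eq_zero_iff.mp h0, zero_mul, eK.map_eq_zero_iff, LinearEquiv.map_eq_zero_iff] at h1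
      exact hv h1
    refine ⟨Units.mk0 (iso x) hx0, T m, iso.symm.trans (σ.trans iso), fun y => ?_⟩
    obtain ⟨v, rfl⟩ := T.surjective y
    have key : g • pe v = pe (m + R (⟨_, hg0⟩, 1) v) := by
      rw [← hτ, hRval, map_one]
      show g • pe v = τ m • pe (ρ _ v)
      rw [hρval]
      show g • pe v = τ m • ((τ m)⁻¹ * g) • pe v
      rw [mul_smul, smul_inv_smul]
    show T (pe.symm ((g : Equiv.Perm α) (pe (T.symm (T v))))) = _
    rw [T.symm_apply_apply, show (g : Equiv.Perm α) (pe v) = pe (m + R (⟨_, hg0⟩, 1) v) from key,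
      Equiv.symm_apply_apply, map_add, add_comm (T m)]
    congr 1
    show iso (eK (R _ v)) = iso x * iso (σ (iso.symm (iso (eK v))))
    rw [hx, map_mul, iso.symm_apply_apply]
  · obtain ⟨m, rfl⟩ := T.surjective b
    refine ⟨τ m, fun y => ?_⟩
    obtain ⟨v, rfl⟩ := pe.surjective y
    show T (pe.symm (τ m • pe v)) = T (pe.symm (pe v)) + T m
    rw [hτ, Equiv.symm_apply_apply, Equiv.symm_apply_apply, map_add, add_comm]

theorem kantor (hne : G ≠ ⊥) (h2 : IsPretransitive G (Set.powersetCard α 2))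
    (hn2 : ¬ IsMultiplyPretransitive G α 2) (hsol : Group.IsSolvable G) :
    Odd (Nat.card G) ∧ ∃ (p f : ℕ) (_ : Fact p.Prime), p ≠ 2 ∧ Fintype.card α = p ^ f ∧
      p ^ f % 4 = 3 ∧ ∃ e : α ≃ GaloisField p f,
        (∀ g : G, e.symm.trans (((g : Equiv.Perm α)).trans e) ∈
          Cfsg.semiaffineGroup (GaloisField p f)) ∧
        ∀ b : GaloisField p f, ∃ g : G, ∀ x : α, e ((g : Equiv.Perm α) x) = e x + b := by
  classical
  have hodd := odd_card h2 hn2
  refine ⟨hodd, ?_⟩
  have h3 := three_le hne hn2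
  have h4 := card_mod_four h2 h3 hodd
  haveI := primitive h2 h3
  haveI : Nonempty α := Fintype.card_pos_iff.mp (by omega)
  haveI := hsol
  have hF : Cfsg.fittingSubgroup G ≠ ⊥ := by
    intro h
    have hc : Subgroup.centralizer (Cfsg.fittingSubgroup G : Set G) ≤ Cfsg.fittingSubgroup G :=
      H1.centralizer_fitting_le_of_isSolvable inferInstance
    rw [h] at hc
    refine hne ((Subgroup.eq_bot_iff_forall _).mpr fun g hg => ?_)
    have : (⟨g, hg⟩ : G) ∈ (⊥ : Subgroup G) := hc (Subgroup.mem_centralizer_iff.mpr fun b hb => by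
      rw [Subgroup.mem_bot.mp hb, one_mul, mul_one])
    exact congrArg Subtype.val (Subgroup.mem_bot.mp this)
  set F := Cfsg.fittingSubgroup G with hFdef
  haveI hFn : F.Normal := H1.fittingSubgroup_normal G
  obtain ⟨hab, hcent, p, f, hp, hcardF, hexp, hcardα⟩ := H60.fitting_of_primitive (X := α) hF
  rw [Nat.card_eq_fintype_card (α := α)] at hcardα
  haveI := Fact.mk hp
  have hp2 : p ≠ 2 := by
    rintro rfl
    rcases Nat.eq_zero_or_pos f with rfl | hf
    · rw [pow_zero] at hcardα; omega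
    · have : 2 ∣ Fintype.card α := hcardα ▸ dvd_pow_self 2 hf.ne'
      omega
  refine ⟨p, f, inferInstance, hp2, hcardα, hcardα ▸ h4, ?_⟩
  obtain ⟨a⟩ : Nonempty α := inferInstance
  haveI hFc : IsMulCommutative F := ⟨⟨fun x y => Subtype.ext (hab x x.2 y y.2)⟩⟩
  letI : CommGroup F := { (inferInstance : Group F) with mul_comm := hFc.is_comm.comm }
  let V := Additive F
  letI : Module (ZMod p) V := AddCommGroup.zmodModule fun v => by
    apply Additive.toMul.injective
    rw [toMul_nsmul, toMul_zero]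
    exact Subtype.ext (by simpa using hexp _ v.toMul.2)
  haveI : Finite V := Finite.of_equiv F Additive.ofMul
  have hVcard : Nat.card V = Fintype.card α := by
    rw [hcardα, ← hcardF]; exact (Nat.card_congr Additive.ofMul).symm
  haveI : Nontrivial V := Finite.one_lt_card_iff_nontrivial.mp (by rw [hVcard]; omega)
  -- the points
  let pt : V → α := fun v => ((v.toMul : F) : G) • a
  have hpt : Function.Bijective pt := by
    refine (Nat.bijective_iff_injective_and_card pt).mpr ⟨fun v w h => ?_, ?_⟩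
    · apply Additive.toMul.injective
      refine Subtype.ext (inv_mul_eq_one.mp (H60.regular_of_abelian_normal (X := α) hFn hF hab
        (F.mul_mem (F.inv_mem w.toMul.2) v.toMul.2) (x := a) ?_)).symm
      show ((((w.toMul : F) : G))⁻¹ * ((v.toMul : F) : G)) • a = a
      rw [mul_smul]
      exact inv_smul_eq_iff.mpr h
    · rw [hVcard, Nat.card_eq_fintype_card]
  have h0 : Equiv.ofBijective pt hpt 0 = a := one_smul G a
  refine affine h2 hodd hsol hp2 hcardα h4 hVcard (fun v => ((v.toMul : F) : G))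
    (Equiv.ofBijective pt hpt) (fun v w => ?_)
    (fun g => (MonoidHom.toAdditive (MulAut.conjNormal (H := F) (g : G)).toMonoidHom))
    fun g v => ?_
  · show ((v.toMul : F) : G) • ((w.toMul : F) : G) • a = (((v.toMul * w.toMul : F)) : G) • a
    rw [Subgroup.coe_mul, mul_smul]
  · show ((g : G) * ((v.toMul : F) : G) * (g : G)⁻¹) • a = (g : G) • ((v.toMul : F) : G) • a
    have hga : (g : G) • a = a := by
      exact (congrArg ((g : G) • ·) h0.symm).trans ((mem_stabilizer_iff.mp g.2).trans h0)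
    rw [mul_smul, mul_smul, show (g : G)⁻¹ • a = a from inv_smul_eq_iff.mpr hga.symm]

end H58.Kantor
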