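import Mathlib

/-!
A kernel-cheap check that a subgroup of `GL(2,p)` given by generators is a given product of a
group of scalars and a listed subgroup of determinant one, regular on non-zero vectors.
-/

set_option autoImplicit false
set_option linter.unusedSectionVars false

namespace H58

/-- A 2×2 matrix as four naturals. -/
abbrev Code := ℕ × ℕ × ℕ × ℕ

/-- The matrix of a code. -/
def toMat (p : ℕ) : Code → Matrix (Fin 2) (Fin 2) (ZMod p)
  | (a, b, c, d) => !![(a : ZMod p), b; c, d]

/-- Product of codes. -/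
def mulCode (p : ℕ) : Code → Code → Code
  | (a, b, c, d), (e, f, g, h) =>
    ((a * e + b * g) % p, (a * f + b * h) % p, (c * e + d * g) % p, (c * f + d * h) % p)

/-- Every entry after the first is an earlier entry times a generator. -/
def reachable (p : ℕ) (gens : List Code) : List Code → List Code → Bool
  | [], _ => true
  | x :: xs, seen => seen.any (fun y => gens.any fun g => mulCode p y g == x) &&
      reachable p gens xs (x :: seen)

/-- Powers of the scalar. -/
def scalars (p : ℕ) (s : ℕ) (m : ℕ) : List ℕ := (List.range m).map fun i => s ^ i % p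

/-- The whole check. -/
def regularCheck (p s m : ℕ) (gens tail : List Code) : Bool :=
  let L : List Code := (1, 0, 0, 1) :: tail
  let S := scalars p s m
  (L.all fun l => gens.all fun g => L.contains (mulCode p l g)) &&
  reachable p gens tail [(1, 0, 0, 1)] &&
  decide L.Nodup &&
  (L.all fun l => (l.1 * l.2.2.2 % p == (l.2.1 * l.2.2.1 + 1) % p)) &&
  decide (S.map fun x => x * x % p).Nodup &&
  (s ^ m % p == 1) &&
  (m * L.length + 1 == p * p) &&
  (S.all fun x => L.all fun l =>
    (x == 1 && l == (1, 0, 0, 1)) || !((x * x + 1) % p == x * (l.1 + l.2.2.2) % p))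

theorem toMat_mulCode (p : ℕ) (x y : Code) : toMat p (mulCode p x y) = toMat p x * toMat p y := by
  obtain ⟨a, b, c, d⟩ := x
  obtain ⟨e, f, g, h⟩ := y
  simp only [mulCode, toMat, ZMod.natCast_mod, Nat.cast_add, Nat.cast_mul]
  rw [Matrix.mul_fin_two]

theorem toMat_one (p : ℕ) : toMat p (1, 0, 0, 1) = 1 := by
  simp [toMat, Matrix.one_fin_two]

variable {p : ℕ} [Fact p.Prime]

theorem reachable_spec {gens : List Code} {K : Set (Matrix (Fin 2) (Fin 2) (ZMod p))}
    (hK : ∀ M ∈ K, ∀ g ∈ gens, M * toMat p g ∈ K) :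
    ∀ (xs seen : List Code), reachable p gens xs seen = true → (∀ y ∈ seen, toMat p y ∈ K) →
      ∀ x ∈ xs, toMat p x ∈ K := by
  intro xs
  induction xs with
  | nil => simp
  | cons a xs ih =>
    intro seen h hseen x hx
    simp only [reachable, Bool.and_eq_true, List.any_eq_true, beq_iff_eq] at h
    obtain ⟨⟨y, hy, g, hg, hyg⟩, hrest⟩ := h
    have ha : toMat p a ∈ K := by
      rw [← hyg, toMat_mulCode]
      exact hK _ (hseen y hy) g hg
    rcases List.mem_cons.mp hx with rfl | hx'
    · exact ha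
    · exact ih (a :: seen) hrest (fun z hz => by
        rcases List.mem_cons.mp hz with rfl | hz'
        · exact ha
        · exact hseen z hz') x hx'

/-- The main criterion: if the check succeeds then the closure of the generators together with
the scalar matrix is regular on non-zero vectors, of order `p² - 1`. -/
theorem regular_of_check {s m : ℕ} {gens tail : List Code}
    (hchk : regularCheck p s m gens tail = true) (T : Set (Matrix.GeneralLinearGroup (Fin 2) (ZMod p)))
    (hT : ∀ t ∈ T, (t : Matrix (Fin 2) (Fin 2) (ZMod p)) = (s : ZMod p) • 1 ∨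
      ∃ g ∈ gens, (t : Matrix (Fin 2) (Fin 2) (ZMod p)) = toMat p g)
    (hgen : ∀ g ∈ gens, ∃ t ∈ Subgroup.closure T,
      (t : Matrix (Fin 2) (Fin 2) (ZMod p)) = toMat p g)
    (hsc : ∃ t ∈ Subgroup.closure T, (t : Matrix (Fin 2) (Fin 2) (ZMod p)) = (s : ZMod p) • 1) :
    Nat.card (Subgroup.closure T) = p * p - 1 ∧
      ∀ v w : Fin 2 → ZMod p, v ≠ 0 → w ≠ 0 → ∃! h : Subgroup.closure T,
        Matrix.mulVec ((h : Matrix.GeneralLinearGroup (Fin 2) (ZMod p)) :
          Matrix (Fin 2) (Fin 2) (ZMod p)) v = w := by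
  classical
  simp only [regularCheck, scalars, List.map_map, Bool.and_eq_true, List.all_eq_true,
    List.contains_eq_mem, decide_eq_true_eq, beq_iff_eq, Bool.or_eq_true, List.forall_mem_map,
    List.mem_range, Bool.not_eq_eq_eq_not, Bool.not_true, beq_eq_false_iff_ne, ne_eq] at hchk
  obtain ⟨⟨⟨⟨⟨⟨⟨hclosed, hreach⟩, hnodup⟩, hdet⟩, hsq⟩, hord⟩, hlen⟩, hfree⟩ := hchk
  set L : List Code := (1, 0, 0, 1) :: tail
  have hm : 0 < m := by
    by_contra h0
    have h00 : m = 0 := by omega
    rw [h00, zero_mul] at hlen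
    have := (Fact.out : p.Prime).two_le
    nlinarith
  let elt : ℕ → Code → Matrix (Fin 2) (Fin 2) (ZMod p) := fun i l => (s : ZMod p) ^ i • toMat p l
  have hmod : ∀ i, (s : ZMod p) ^ i = (s : ZMod p) ^ (i % m) := by
    intro i
    have h1 : (s : ZMod p) ^ m = 1 := by
      rw [← Nat.cast_pow, ← ZMod.natCast_mod, hord, Nat.cast_one]
    conv_lhs => rw [← Nat.mod_add_div i m, pow_add, pow_mul, h1, one_pow, mul_one]
  have hmem : ∀ g ∈ Subgroup.closure T, ∃ i l, i < m ∧ l ∈ L ∧
      (g : Matrix (Fin 2) (Fin 2) (ZMod p)) = elt i l := by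
    intro g hg
    rw [← Subgroup.mem_toSubmonoid, Subgroup.closure_toSubmonoid_of_finite] at hg
    induction hg using Submonoid.closure_induction_right with
    | one => exact ⟨0, (1, 0, 0, 1), hm, List.mem_cons_self, by simp [elt, toMat_one]⟩
    | mul_right x hx y hy ih =>
      obtain ⟨i, l, hi, hl, hxe⟩ := ih
      rw [Units.val_mul, hxe]
      rcases hT y hy with h | ⟨g, hg, h⟩
      · refine ⟨(i + 1) % m, l, Nat.mod_lt _ hm, hl, ?_⟩
        simp only [elt, h, ← hmod (i + 1), pow_succ, Matrix.smul_mul, Matrix.mul_smul, mul_one,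
          smul_smul]
        rw [mul_comm]
      · refine ⟨i, mulCode p l g, hi, hclosed l hl g hg, ?_⟩
        simp only [elt, h, toMat_mulCode, Matrix.smul_mul]
  have hLK : ∀ l ∈ L, ∃ t ∈ Subgroup.closure T,
      (t : Matrix (Fin 2) (Fin 2) (ZMod p)) = toMat p l := by
    intro l hl
    let K : Set (Matrix (Fin 2) (Fin 2) (ZMod p)) :=
      {M | ∃ t ∈ Subgroup.closure T, (t : Matrix (Fin 2) (Fin 2) (ZMod p)) = M}
    have h1 : toMat p (1, 0, 0, 1) ∈ K := ⟨1, one_mem _, by simp [toMat_one]⟩
    rcases List.mem_cons.mp hl with rfl | hl'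
    · exact h1
    · refine reachable_spec (K := K) ?_ tail [(1, 0, 0, 1)] hreach
        (fun y hy => by rw [List.mem_singleton.mp hy]; exact h1) l hl'
      rintro M ⟨t, ht, rfl⟩ g hg
      obtain ⟨u, hu, hue⟩ := hgen g hg
      exact ⟨t * u, mul_mem ht hu, by rw [Units.val_mul, hue]⟩
  obtain ⟨σ, hσ, hσe⟩ := hsc
  have hsur : ∀ i l, l ∈ L → ∃ t ∈ Subgroup.closure T,
      (t : Matrix (Fin 2) (Fin 2) (ZMod p)) = elt i l := by
    intro i l hl
    obtain ⟨t, ht, hte⟩ := hLK l hl
    refine ⟨σ ^ i * t, mul_mem (pow_mem hσ i) ht, ?_⟩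
    simp [elt, Units.val_mul, hσe, hte, smul_pow]
  have hdet1 : ∀ l ∈ L, (toMat p l).det = 1 := by
    intro l hl
    obtain ⟨a, b, c, d⟩ := l
    have h := congrArg (fun x : ℕ => (x : ZMod p)) (hdet (a, b, c, d) hl)
    simp only [ZMod.natCast_mod, Nat.cast_mul, Nat.cast_add, Nat.cast_one] at h
    simp only [toMat, Matrix.det_fin_two_of]
    linear_combination h
  -- fixed-point-freeness
  have hfix : ∀ i l, i < m → l ∈ L → ∀ v : Fin 2 → ZMod p, v ≠ 0 →
      Matrix.mulVec (elt i l) v = v → elt i l = 1 := by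
    intro i l hi hl v hv hev
    rcases hfree i hi l hl with ⟨h1, h2⟩ | h
    · simp only [elt, h2, toMat_one]
      rw [← Nat.cast_pow, ← ZMod.natCast_mod, h1, Nat.cast_one, one_smul]
    · exfalso
      apply h
      obtain ⟨a, b, c, d⟩ := l
      set x : ℕ := s ^ i % p
      have hdz : (elt i (a, b, c, d) - 1).det = 0 :=
        Matrix.exists_mulVec_eq_zero_iff.mp ⟨v, hv, by rw [Matrix.sub_mulVec, hev, Matrix.one_mulVec, sub_self]⟩
      have hx : (s : ZMod p) ^ i = (x : ZMod p) := by simp [x]
      simp only [elt, hx, toMat, Matrix.det_fin_two, Matrix.sub_apply, Matrix.smul_apply,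
        Matrix.of_apply, Matrix.cons_val_zero, Matrix.cons_val_one, Matrix.one_apply,
        smul_eq_mul] at hdz
      simp only [if_true, Fin.zero_ne_one, Fin.one_eq_zero_iff, OfNat.ofNat_ne_one, if_false,
        sub_zero] at hdz
      have hd := hdet1 (a, b, c, d) hl
      simp only [toMat, Matrix.det_fin_two_of] at hd
      have : (((x * x + 1) % p : ℕ) : ZMod p) = ((x * (a + d) % p : ℕ) : ZMod p) := by
        push_cast [ZMod.natCast_mod]
        linear_combination hdz - (x : ZMod p) ^ 2 * hd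
      rw [ZMod.natCast_eq_natCast_iff', Nat.mod_mod, Nat.mod_mod] at this
      exact this
  -- counting
  let Φ : Fin m × Fin L.length → Subgroup.closure T := fun q =>
    ⟨(hsur q.1 _ (L.get_mem q.2)).choose, (hsur q.1 _ (L.get_mem q.2)).choose_spec.1⟩
  have hΦ : ∀ q, ((Φ q : Matrix.GeneralLinearGroup (Fin 2) (ZMod p)) :
      Matrix (Fin 2) (Fin 2) (ZMod p)) = elt q.1 (L.get q.2) := fun q =>
    (hsur q.1 _ (L.get_mem q.2)).choose_spec.2
  have hcode : ∀ l ∈ L, l.1 < p ∧ l.2.1 < p ∧ l.2.2.1 < p ∧ l.2.2.2 < p := by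
    intro l hl
    have hp := (Fact.out : p.Prime).two_le
    rcases List.mem_cons.mp hl with rfl | hl'
    · simp only; omega
    · have key : ∀ (xs seen : List Code), reachable p gens xs seen = true → ∀ x ∈ xs,
          ∃ y g, mulCode p y g = x := by
        intro xs
        induction xs with
        | nil => simp
        | cons a xs ih =>
          intro seen h x hx
          simp only [reachable, Bool.and_eq_true, List.any_eq_true, beq_iff_eq] at h
          obtain ⟨⟨y, -, g, -, hyg⟩, hrest⟩ := h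
          rcases List.mem_cons.mp hx with rfl | hx'
          · exact ⟨y, g, hyg⟩
          · exact ih _ hrest x hx'
      obtain ⟨⟨a, b, c, d⟩, ⟨e, f, g, h⟩, rfl⟩ := key _ _ hreach l hl'
      exact ⟨Nat.mod_lt _ (by omega), Nat.mod_lt _ (by omega), Nat.mod_lt _ (by omega),
        Nat.mod_lt _ (by omega)⟩
  have hΦbij : Function.Bijective Φ := by
    constructor
    · rintro ⟨i, j⟩ ⟨i', j'⟩ h
      have h1 : elt i (L.get j) = elt i' (L.get j') := by rw [← hΦ (i, j), h, hΦ]
      have h2 := congrArg Matrix.det h1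
      simp only [elt, Matrix.det_smul, Fintype.card_fin, hdet1 _ (L.get_mem j),
        hdet1 _ (L.get_mem j'), mul_one] at h2
      have hi : i = i' := by
        apply Fin.ext
        refine List.inj_on_of_nodup_map hsq (List.mem_range.mpr i.2) (List.mem_range.mpr i'.2) ?_
        simp only [Function.comp_apply]
        rw [← ZMod.natCast_eq_natCast_iff']
        push_cast [ZMod.natCast_mod]
        linear_combination h2
      subst hi
      have hs0 : (s : ZMod p) ^ (i : ℕ) ≠ 0 := by
        refine pow_ne_zero _ fun h0 => ?_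
        have h3 : ((s ^ m % p : ℕ) : ZMod p) = ((1 : ℕ) : ZMod p) := by rw [hord]
        rw [ZMod.natCast_mod, Nat.cast_pow, h0, zero_pow (by omega), Nat.cast_one] at h3
        exact zero_ne_one h3
      have h3 : toMat p (L.get j) = toMat p (L.get j') := smul_right_injective _ hs0 h1
      have hj : L.get j = L.get j' := by
        obtain ⟨⟨a, b, c, d⟩, hj0⟩ : ∃ x, L.get j = x := ⟨_, rfl⟩
        obtain ⟨⟨e, f, g, h⟩, hj1⟩ : ∃ x, L.get j' = x := ⟨_, rfl⟩
        have ha := hcode _ (hj0 ▸ L.get_mem j : (a, b, c, d) ∈ L)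
        have he := hcode _ (hj1 ▸ L.get_mem j' : (e, f, g, h) ∈ L)
        rw [hj0, hj1] at h3
        have key : ∀ u w : ℕ, u < p → w < p → (u : ZMod p) = w → u = w := fun u w hu hw h => by
          have := (ZMod.natCast_eq_natCast_iff' u w p).mp h
          rwa [Nat.mod_eq_of_lt hu, Nat.mod_eq_of_lt hw] at this
        rw [hj0, hj1, key a e ha.1 he.1 (congrFun₂ h3 0 0), key b f ha.2.1 he.2.1 (congrFun₂ h3 0 1),
          key c g ha.2.2.1 he.2.2.1 (congrFun₂ h3 1 0), key d h ha.2.2.2 he.2.2.2 (congrFun₂ h3 1 1)]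
      rw [hnodup.injective_get hj]
    · rintro ⟨g, hg⟩
      obtain ⟨i, l, hi, hl, he⟩ := hmem g hg
      obtain ⟨j, rfl⟩ := List.get_of_mem hl
      exact ⟨(⟨i, hi⟩, j), Subtype.ext (Units.ext (by rw [hΦ]; exact he.symm))⟩
  have hcard : Nat.card (Subgroup.closure T) = p * p - 1 := by
    rw [← Nat.card_congr (Equiv.ofBijective Φ hΦbij), Nat.card_prod, Nat.card_fin, Nat.card_fin]
    omega
  refine ⟨hcard, fun v w hv hw => ?_⟩
  haveI : Fintype (Subgroup.closure T) := Fintype.ofFinite _
  let f : Subgroup.closure T → {u : Fin 2 → ZMod p // u ≠ 0} := fun h =>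
    ⟨Matrix.mulVec ((h : Matrix.GeneralLinearGroup (Fin 2) (ZMod p)) :
        Matrix (Fin 2) (Fin 2) (ZMod p)) v, fun h0 => hv (by
      have h1 := congrArg (Matrix.mulVec
        (((h : Matrix.GeneralLinearGroup (Fin 2) (ZMod p))⁻¹ : Matrix.GeneralLinearGroup (Fin 2) (ZMod p)) :
          Matrix (Fin 2) (Fin 2) (ZMod p))) h0
      rwa [Matrix.mulVec_mulVec, Units.inv_mul, Matrix.one_mulVec, Matrix.mulVec_zero] at h1)⟩
  have hfinj : Function.Injective f := by
    intro h k hhk
    have h1 := congrArg Subtype.val hhk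
    simp only [f] at h1
    obtain ⟨i, l, hi, hl, he⟩ := hmem _ ((h⁻¹ * k).2)
    have h2 : Matrix.mulVec (elt i l) v = v := by
      rw [← he, Subgroup.coe_mul, Units.val_mul, ← Matrix.mulVec_mulVec, ← h1, Matrix.mulVec_mulVec,
        ← Units.val_mul, Subgroup.coe_inv, inv_mul_cancel, Units.val_one, Matrix.one_mulVec]
    have h4 : h⁻¹ * k = 1 := Subtype.ext (Units.ext (he.trans (hfix i l hi hl v hv h2)))
    exact inv_mul_eq_one.mp h4
  have hfbij : Function.Bijective f := by
    refine (Fintype.bijective_iff_injective_and_card f).mpr ⟨hfinj, ?_⟩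
    rw [← Nat.card_eq_fintype_card, hcard, Fintype.card_subtype_compl, Fintype.card_fun,
      ZMod.card, Fintype.card_fin, Fintype.card_subtype_eq, pow_two]
  obtain ⟨h, hh⟩ := hfbij.2 ⟨w, hw⟩
  exact ⟨h, congrArg Subtype.val hh, fun k hk => hfbij.1 (Subtype.ext (hk.trans (congrArg Subtype.val hh).symm))⟩

end H58
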