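import Cfsg.Agent.H99.Majorana

/-!
Two Majorana axes: the product of their symmetric parts and the resulting linear relation.
-/

set_option autoImplicit false

namespace H58.Maj

open Cfsg.Axial H99.Majorana

variable {V : Type*} [AddCommGroup V] [Module ℝ V]
variable {mul : V →ₗ[ℝ] V →ₗ[ℝ] V} {B : LinearMap.BilinForm ℝ V}

/-- The vector invariant under both involutions. -/
noncomputable def sg (mul : V →ₗ[ℝ] V →ₗ[ℝ] V) (a b : V) : V := mul a b - (1 / 32 : ℝ) • (a + b)

/-- The coefficient `y`. -/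
noncomputable def yc (l : ℝ) : ℝ := 256 * l - 5

/-- The coefficient `x`. -/
noncomputable def xc (l m : ℝ) : ℝ := (32768 * l * l - 512 * l + 128 * m - 2) / 7

theorem sg_comm (hV : IsMajoranaAmbient mul B) (a b : V) : sg mul a b = sg mul b a := by
  unfold sg; rw [hV.1 a b, add_comm a b]

theorem orth_eigen (hV : IsMajoranaAmbient mul B) {a u v : V} {c d : ℝ} (hu : mul a u = c • u)
    (hv : mul a v = d • v) (hcd : c ≠ d) : B u v = 0 := by
  have e := hV.2.2.2.1 u a v
  rw [hv, hV.1 u a, hu, map_smul, map_smul, LinearMap.smul_apply, smul_eq_mul, smul_eq_mul] at e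
  by_contra h0
  exact hcd (mul_right_cancel₀ h0 e).symm

/-- Eigen decomposition of an arbitrary vector with respect to an axis. -/
theorem decomp4 (hV : IsMajoranaAmbient mul B) {μ : V ≃ₗ[ℝ] V} {a : V}
    (h : IsMajoranaPair mul B μ a) (hn : B a a = 1) (b : V) :
    ∃ u v w, mul a u = 0 ∧ mul a v = (1 / 4 : ℝ) • v ∧ mul a w = (1 / 32 : ℝ) • w ∧
      b = B a b • a + u + v + w ∧ μ b = B a b • a + u + v - w := by
  obtain ⟨-, -, ⟨⟨-, hid, htop, -⟩, -⟩, hfix, hneg⟩ := id h
  have hb' : b ∈ eigenSum mul a majoranaSpectrum := htop ▸ Submodule.mem_top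
  rw [majoranaSpectrum, eigenSum_insert, eigenSum_insert, eigenSum_insert, eigenSum_singleton] at hb'
  obtain ⟨e₁, he₁, r, hr, rfl⟩ := Submodule.mem_sup.1 hb'
  obtain ⟨e₀, he₀, r', hr', rfl⟩ := Submodule.mem_sup.1 hr
  obtain ⟨e₄, he₄, e₃, he₃, rfl⟩ := Submodule.mem_sup.1 hr'
  have hplus : e₁ + e₀ + e₄ ∈ eigenSum mul a ({1, 0, 1 / 4} : Set ℝ) := by
    rw [eigenSum_insert, eigenSum_insert, eigenSum_singleton]
    exact add_mem (add_mem (Submodule.mem_sup_left he₁)
      (Submodule.mem_sup_right (Submodule.mem_sup_left he₀)))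
      (Submodule.mem_sup_right (Submodule.mem_sup_right he₄))
  have hf : μ (e₁ + e₀ + e₄) = e₁ + e₀ + e₄ := hfix _ hplus
  have hn3 : μ e₃ = -e₃ := hneg _ he₃
  obtain ⟨t, ht⟩ := eigen_one h (by rw [mem_eigen.1 he₁, one_smul])
  have h0 : mul a e₀ = 0 := by rw [mem_eigen.1 he₀, zero_smul]
  have o0 : B a e₀ = 0 := orth hV h (c := 0) (by rw [h0, zero_smul]) (by norm_num)
  have o4 : B a e₄ = 0 := orth hV h (mem_eigen.1 he₄) (by norm_num)
  have o3 : B a e₃ = 0 := orth hV h (mem_eigen.1 he₃) (by norm_num)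
  have hB : B a (e₁ + (e₀ + (e₄ + e₃))) = t := by
    rw [← ht, map_add, map_add, map_add, map_smul, hn, o0, o4, o3, smul_eq_mul]; ring
  refine ⟨e₀, e₄, e₃, h0, mem_eigen.1 he₄, mem_eigen.1 he₃, ?_, ?_⟩
  · rw [hB, ht]; abel
  · rw [hB, ht, show e₁ + (e₀ + (e₄ + e₃)) = (e₁ + e₀ + e₄) + e₃ by abel, map_add, hf, hn3]
    abel

theorem invol_sq (hV : IsMajoranaAmbient mul B) {μ : V ≃ₗ[ℝ] V} {a : V}
    (h : IsMajoranaPair mul B μ a) (hn : B a a = 1) (b : V) : μ (μ b) = b := by
  obtain ⟨u, v, w, hu, hv, hw, hb, hμb⟩ := decomp4 hV h hn b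
  obtain ⟨-, -, -, hfix, hneg⟩ := id h
  have hw' : μ w = -w := hneg _ (mem_eigen.2 hw)
  have h1 : μ (μ b + w) = μ b + w := by
    refine hfix _ ?_
    rw [hμb, sub_add_cancel, eigenSum_insert, eigenSum_insert, eigenSum_singleton]
    exact add_mem (add_mem (Submodule.mem_sup_left (Submodule.smul_mem _ _
        (mem_eigen.2 (by rw [one_smul, idem h]))))
      (Submodule.mem_sup_right (Submodule.mem_sup_left (mem_eigen.2 (by rw [hu, zero_smul])))))
      (Submodule.mem_sup_right (Submodule.mem_sup_right (mem_eigen.2 hv)))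
  rw [map_add, hw'] at h1
  have h2 : μ (μ b) = μ b + w + w := by rw [← h1]; abel
  rw [h2, hμb]
  calc B a b • a + u + v - w + w + w = B a b • a + u + v + w := by abel
    _ = b := hb.symm

theorem fix_self {μ : V ≃ₗ[ℝ] V} {a : V} (h : IsMajoranaPair mul B μ a) : μ a = a := by
  refine h.2.2.2.1 a ?_
  rw [eigenSum_insert]
  exact Submodule.mem_sup_left (mem_eigen.2 (by rw [one_smul, idem h]))

theorem self_inv (hV : IsMajoranaAmbient mul B) {μ : V ≃ₗ[ℝ] V} {a : V}
    (h : IsMajoranaPair mul B μ a) (hn : B a a = 1) : μ⁻¹ = μ :=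
  inv_eq_of_mul_eq_one_left (LinearEquiv.ext fun b => invol_sq hV h hn b)

/-- The inner product of two axes is not negative. -/
theorem inner_nonneg (hV : IsMajoranaAmbient mul B) {μ ν : V ≃ₗ[ℝ] V} {a b : V}
    (h : IsMajoranaPair mul B μ a) (h' : IsMajoranaPair mul B ν b) : 0 ≤ B a b := by
  have e := hV.2.2.2.2 a b
  rw [idem h, idem h'] at e
  by_cases h0 : mul a b = 0
  · rw [h0] at e; simpa using e
  · exact le_trans (hV.2.2.1 _ h0).le e

/-- Basic identities for the invariant vector. -/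
theorem sg_facts (hV : IsMajoranaAmbient mul B) {μ : V ≃ₗ[ℝ] V} {a : V}
    (h : IsMajoranaPair mul B μ a) (hn : B a a = 1) (b : V) (hbb : B b b = 1) (hbi : mul b b = b) :
    μ (sg mul a b) = sg mul a b ∧ B (sg mul a b) a = (31 * B a b - 1) / 32 ∧
    B (sg mul a b) b = (31 * B a b - 1) / 32 ∧
    mul a (sg mul a b) = ((768 * B a b - 25) / 1024) • a + (7 / 2048 : ℝ) • (b + μ b) +
      (7 / 32 : ℝ) • sg mul a b ∧
    mul a (μ b) = sg mul a b + (1 / 32 : ℝ) • (a + μ b) := by
  obtain ⟨hcm, hsymm, hpos, hassoc, -⟩ := id hV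
  have haa := idem h
  have hμa := fix_self h
  obtain ⟨u, v, w, hu, hv, hw, hb, hμb⟩ := decomp4 hV h hn b
  set l := B a b with hl
  have hab : mul a b = l • a + (1 / 4 : ℝ) • v + (1 / 32 : ℝ) • w := by
    rw [hb]; simp only [map_add, map_smul, haa, hu, hv, hw, add_zero]
  have hab' : mul a (μ b) = l • a + (1 / 4 : ℝ) • v - (1 / 32 : ℝ) • w := by
    rw [hμb]; simp only [map_add, map_sub, map_smul, haa, hu, hv, hw, add_zero]
  have e1 : B (mul a b) a = l := by rw [hsymm, hassoc, haa]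
  have e2 : B (mul a b) b = l := by rw [← hassoc, hbi]
  refine ⟨?_, ?_, ?_, ?_, ?_⟩
  · unfold sg
    rw [map_sub, map_smul, map_add, h.1, hμa, hab', hab]
    rw [hμb]
    linear_combination (norm := module) (1 / 32 : ℝ) • hb
  · unfold sg
    simp only [map_sub, map_smul, map_add, LinearMap.sub_apply, LinearMap.smul_apply,
      LinearMap.add_apply, e1, hn, hsymm b a, smul_eq_mul]
    ring
  · unfold sg
    simp only [map_sub, map_smul, map_add, LinearMap.sub_apply, LinearMap.smul_apply,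
      LinearMap.add_apply, e2, hbb, ← hl, smul_eq_mul]
    ring
  · unfold sg
    rw [map_sub, map_smul, map_add, haa, hab, map_add, map_add, map_smul, map_smul, map_smul, haa,
      hv, hw, hμb]
    linear_combination (norm := module) (7 / 2048 : ℝ) • hb
  · unfold sg
    rw [hab', hab, hμb]
    linear_combination (norm := module) (1 / 32 : ℝ) • hb

/-- The square of the invariant vector. -/
theorem sg_sq (hV : IsMajoranaAmbient mul B) {μ ν : V ≃ₗ[ℝ] V} {a b : V}
    (ha : IsMajoranaPair mul B μ a) (hb : IsMajoranaPair mul B ν b)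
    (hna : B a a = 1) (hnb : B b b = 1) :
    mul (sg mul a b) (sg mul a b) =
      (49 / 196608 : ℝ) • (xc (B a b) (B b (μ b)) • a + yc (B a b) • (b + μ b) + (ν a + μ (ν a))) +
      (-13 / 1536 - 5 * B a b / 12) • sg mul a b + (7 / 2048 : ℝ) • sg mul b (μ b) -
      (7 / 1536 : ℝ) • sg mul a (ν a) := by
  obtain ⟨hcm, hsymm, hpos, hassoc, -⟩ := id hV
  have haa := idem ha
  have hbb := idem hb
  obtain ⟨hfix, hBa, hBb, has, hab'⟩ := sg_facts hV ha hna b hnb hbb
  obtain ⟨-, -, -, hbs, -⟩ := sg_facts hV hb hnb a hna haa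
  rw [sg_comm hV b a, hsymm b a] at hbs
  have hνa : B (ν a) (ν a) = 1 := by rw [hb.2.1, hna]
  have hνi : mul (ν a) (ν a) = ν a := by rw [← hb.1, haa]
  obtain ⟨-, -, -, -, hat⟩ := sg_facts hV ha hna (ν a) hνa hνi
  have hb's : mul (μ b) (sg mul a b) = ((768 * B a b - 25) / 1024) • μ b +
      (7 / 2048 : ℝ) • (a + μ (ν a)) + (7 / 32 : ℝ) • sg mul a b := by
    conv_lhs => rw [← hfix]
    rw [← ha.1, hbs]
    simp only [map_add, map_smul, fix_self ha, hfix]
  have hab : mul a b = sg mul a b + (1 / 32 : ℝ) • (a + b) := by unfold sg; abel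
  have hat0 : mul a (ν a) = sg mul a (ν a) + (1 / 32 : ℝ) • (a + ν a) := by unfold sg; abel
  have hbb' : mul b (μ b) = sg mul b (μ b) + (1 / 32 : ℝ) • (b + μ b) := by unfold sg; abel
  have hb'b' : mul (μ b) (μ b) = μ b := by rw [← ha.1, hbb]
  obtain ⟨u, v, w, hu, hv, hw, hde, hde'⟩ := decomp4 hV ha hna b
  set l := B a b with hl
  set m := B b (μ b) with hm
  set s := sg mul a b with hs
  -- the components
  have hvv : v = (1 / 16 : ℝ) • (b + μ b) + (4 : ℝ) • s + (-(32 * l - 1) / 8) • a := by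
    have e : mul a b = l • a + (1 / 4 : ℝ) • v + (1 / 32 : ℝ) • w := by
      rw [hde]; simp only [map_add, map_smul, haa, hu, hv, hw, add_zero]
    rw [hs]; unfold sg
    rw [e, hde']
    linear_combination (norm := module) (1 / 16 : ℝ) • hde
  have huu : u = (7 / 16 : ℝ) • (b + μ b) + (-4 : ℝ) • s + ((24 * l - 1) / 8) • a := by
    have e2 : u + v = (1 / 2 : ℝ) • (b + μ b) - l • a := by
      rw [hde']
      linear_combination (norm := module) (-1 / 2 : ℝ) • hde
    calc u = (1 / 2 : ℝ) • (b + μ b) - l • a - v := by rw [← e2]; abel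
      _ = _ := by rw [hvv]; module
  -- fusion
  have hfus := ha.2.2.1.1.2.2.2
  have hsp0 : (0 : ℝ) ∈ majoranaSpectrum := by simp [majoranaSpectrum]
  have hsp4 : (1 / 4 : ℝ) ∈ majoranaSpectrum := by simp [majoranaSpectrum]
  have hu0 : u ∈ eigen mul a 0 := mem_eigen.2 (by rw [hu, zero_smul])
  have hv4 : v ∈ eigen mul a (1 / 4) := mem_eigen.2 hv
  have E0 : mul a (mul u u) = 0 := by
    have h := hfus 0 hsp0 0 hsp0 u hu0 u hu0
    rw [law_zero_zero, eigenSum_singleton, mem_eigen, zero_smul] at h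
    exact h
  have E4 : mul a (mul u v) = (1 / 4 : ℝ) • mul u v := by
    have h := hfus 0 hsp0 _ hsp4 u hu0 v hv4
    rw [law_zero_quarter, eigenSum_singleton, mem_eigen] at h
    exact h
  have E1 : mul a (mul v v) = (B v v / 4) • a := by
    have h := hfus _ hsp4 _ hsp4 v hv4 v hv4
    rw [law_quarter_quarter, eigenSum_insert, eigenSum_singleton] at h
    obtain ⟨e, he, p, hp, hep⟩ := Submodule.mem_sup.1 h
    rw [mem_eigen, one_smul] at he
    rw [mem_eigen, zero_smul] at hp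
    obtain ⟨c, hc⟩ := eigen_one ha he
    have h1 : B a (mul v v) = c := by
      rw [← hep, map_add, ← hc, map_smul, hna,
        orth hV ha (c := 0) (by rw [hp, zero_smul]) (by norm_num), smul_eq_mul, mul_one, add_zero]
    have h2 : B a (mul v v) = B v v / 4 := by
      rw [hassoc, hv, map_smul, LinearMap.smul_apply, smul_eq_mul]; ring
    rw [← hep, map_add, hp, he, add_zero, ← hc, ← h1, h2]
  have hS : 8 * B v v = m / 2 - 1 / 2 + 32 * l - 32 * (l * l) := by
    have o0 : B v a = 0 := by rw [hsymm, orth hV ha hv (by norm_num)]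
    have o1 : B v u = 0 := orth_eigen hV hv (d := 0) (by rw [hu, zero_smul]) (by norm_num)
    have o2 : B v w = 0 := orth_eigen hV hv hw (by norm_num)
    have h1 : B v b = B v v := by
      conv_lhs => rw [hde]
      simp only [map_add, map_smul, o0, o1, o2, smul_eq_mul, mul_zero, zero_add, add_zero]
    rw [← h1, hvv]
    simp only [map_add, map_smul, LinearMap.add_apply, LinearMap.smul_apply, hBb, hnb,
      hsymm (μ b) b, ← hm, ← hl, smul_eq_mul]
    ring
  rw [huu] at E0 E4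
  rw [hvv] at E4
  rw [show B v v / 4 = (m / 2 - 1 / 2 + 32 * l - 32 * (l * l)) / 32 by rw [← hS]; ring, hvv] at E1
  simp only [map_add, map_smul, LinearMap.add_apply, LinearMap.smul_apply, smul_add, smul_smul,
    haa, hab, hab', hat0, hat, hbb, hbb', hb'b', hcm (μ b) b, hcm b a, hcm (μ b) a, hcm s a,
    hcm s b, hcm s (μ b), has, hbs, hb's] at E0 E1 E4
  unfold xc yc
  linear_combination (norm := module) (-1 / 24 : ℝ) • E0 + (7 / 24 : ℝ) • E1 + (1 / 4 : ℝ) • E4

/-- Consequences of the symmetry of the square of the invariant vector. -/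
theorem pair_rel (hV : IsMajoranaAmbient mul B) {μ ν : V ≃ₗ[ℝ] V} {a b : V}
    (ha : IsMajoranaPair mul B μ a) (hb : IsMajoranaPair mul B ν b)
    (hna : B a a = 1) (hnb : B b b = 1) :
    B b (μ b) = B a (ν a) ∧
    (ν (μ b) - μ (ν (μ b))) + yc (B a b) • (ν a - μ (ν a)) +
      (xc (B a b) (B a (ν a)) - 1) • (b - μ b) = 0 ∧
    B a (ν (μ b)) = xc (B a b) (B a (ν a)) * (1 - B a b) +
      (2 * B a b - 1 - B a (ν a)) * yc (B a b) + 29 * B a b - 28 * B a (ν a) := by
  obtain ⟨hcm, hsymm, hpos, hassoc, -⟩ := id hV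
  have haa := idem ha
  have hbb := idem hb
  have hμa := fix_self ha
  have hνb := fix_self hb
  have hl0 := inner_nonneg hV ha hb
  have Q₁ := sg_sq hV ha hb hna hnb
  have Q₂ := sg_sq hV hb ha hnb hna
  rw [sg_comm hV b a, hsymm b a, Q₁] at Q₂
  set l := B a b with hl
  set m := B a (ν a) with hm
  set n := B b (μ b) with hn'
  set c₂ := μ b with hc₂
  set a₂ := ν a with ha₂
  have R2 : xc l n • a + yc l • (b + c₂) + (a₂ + μ a₂) + (32 : ℝ) • (sg mul b c₂ - sg mul a a₂) =
      xc l m • b + yc l • (a + a₂) + (c₂ + ν c₂) := by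
    linear_combination (norm := module) (196608 / 49 : ℝ) • Q₂
  -- inner products
  have hμμ : ∀ z, μ (μ z) = z := invol_sq hV ha hna
  have hνν : ∀ z, ν (ν z) = z := invol_sq hV hb hnb
  obtain ⟨hfix, hBa, hBb, -, -⟩ := sg_facts hV ha hna b hnb hbb
  obtain ⟨hfixν, -, -, -, -⟩ := sg_facts hV hb hnb a hna haa
  rw [sg_comm hV b a] at hfixν
  have hc₂i : mul c₂ c₂ = c₂ := by rw [hc₂, ← ha.1, hbb]
  have hc₂n : B c₂ c₂ = 1 := by rw [hc₂, ha.2.1, hnb]
  have ha₂i : mul a₂ a₂ = a₂ := by rw [ha₂, ← hb.1, haa]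
  have ha₂n : B a₂ a₂ = 1 := by rw [ha₂, hb.2.1, hna]
  have hac : B a c₂ = l := by
    conv_lhs => rw [← hμa]
    rw [hc₂, ha.2.1]
  have hba : B b a₂ = l := by
    conv_lhs => rw [← hνb]
    rw [ha₂, hb.2.1, hsymm]
  obtain ⟨-, -, hta₂, -, -⟩ := sg_facts hV ha hna a₂ ha₂n ha₂i
  obtain ⟨-, hta, -, -, -⟩ := sg_facts hV ha hna a₂ ha₂n ha₂i
  obtain ⟨-, hpb, -, -, -⟩ := sg_facts hV hb hnb c₂ hc₂n hc₂i
  have hsc : B (sg mul a b) c₂ = (31 * l - 1) / 32 := by
    rw [← hfix, hc₂, ha.2.1, hBb]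
  have hsa : B (sg mul a b) a₂ = (31 * l - 1) / 32 := by
    rw [← hfixν, ha₂, hb.2.1, hBa]
  have hpa : B (sg mul b c₂) a = (30 * l + n - 1) / 32 := by
    have e : B (mul b c₂) a = (31 * l - 1) / 32 + (l + n) / 32 := by
      rw [hsymm, hassoc, show mul a b = sg mul a b + (1 / 32 : ℝ) • (a + b) by unfold sg; abel]
      simp only [map_add, map_smul, LinearMap.add_apply, LinearMap.smul_apply, hsc, hac, ← hn',
        smul_eq_mul]
      ring
    unfold sg
    simp only [map_sub, map_add, map_smul, LinearMap.sub_apply, LinearMap.add_apply,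
      LinearMap.smul_apply, e, hsymm b a, hsymm c₂ a, hac, ← hl, smul_eq_mul]
    ring
  have htb : B (sg mul a a₂) b = (30 * l + m - 1) / 32 := by
    have e : B (mul a a₂) b = (31 * l - 1) / 32 + (l + m) / 32 := by
      rw [hsymm, hassoc, hcm b a,
        show mul a b = sg mul a b + (1 / 32 : ℝ) • (a + b) by unfold sg; abel]
      simp only [map_add, map_smul, LinearMap.add_apply, LinearMap.smul_apply, hsa, hba, ← hm,
        smul_eq_mul]
      ring
    unfold sg
    simp only [map_sub, map_add, map_smul, LinearMap.sub_apply, LinearMap.add_apply,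
      LinearMap.smul_apply, e, hsymm a₂ b, hba, ← hl, smul_eq_mul]
    ring
  have ea : B a (μ a₂) = m := by
    conv_lhs => rw [← hμa]
    rw [ha.2.1]
  have eb : B b (ν c₂) = n := by
    conv_lhs => rw [← hνb]
    rw [hb.2.1]
  have e3 : B b (μ a₂) = B a (ν c₂) := by
    rw [hc₂, ← ha.2.1 b (μ a₂), hμμ, ha₂, ← hb.2.1 (μ b) (ν a), hνν, hsymm]
  have S₁ := congrArg (B a) R2
  have S₂ := congrArg (B b) R2
  simp only [map_add, map_sub, map_smul, hna, hnb, ← hl, ← hm, ← hn', hsymm b a, hac, hba, ea, eb, e3,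
    hsymm a (sg mul b c₂), hsymm a (sg mul a a₂), hsymm b (sg mul b c₂), hsymm b (sg mul a a₂),
    hpa, htb, hta, hpb, smul_eq_mul] at S₁ S₂
  have hnm : n = m := by
    have hprod : (n - m) * (1920 * l + 303) = 0 := by
      unfold xc yc at S₁ S₂
      linear_combination 7 * S₁ + 7 * S₂
    rcases mul_eq_zero.1 hprod with h | h
    · exact sub_eq_zero.1 h
    · exfalso; linarith
  refine ⟨hnm, ?_, ?_⟩
  · have hμR := congrArg μ R2
    obtain ⟨hfp, -, -, -, -⟩ := sg_facts hV ha hna a₂ ha₂n ha₂i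
    have hfp' : μ (sg mul b c₂) = sg mul b c₂ := by
      unfold sg
      rw [map_sub, map_smul, map_add, ha.1, show μ b = c₂ from rfl,
        show μ c₂ = b from hμμ b, hcm c₂ b, add_comm c₂ b]
    simp only [map_add, map_sub, map_smul, hμa, hμμ, hfp, hfp', show μ b = c₂ from rfl,
      show μ c₂ = b from hμμ b] at hμR
    linear_combination (norm := module) hμR - R2
  · rw [hnm] at S₁
    linarith

end H58.Maj
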