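import Cfsg.Agent.H58.MajPair
import Cfsg.Agent.H58.MajPoly

/-!
The sequence of axes of two Majorana involutions: the product has order at most six.
-/

set_option autoImplicit false
set_option maxHeartbeats 1000000

namespace H58.Maj

open Cfsg.Axial H99.Majorana

variable {V : Type*} [AddCommGroup V] [Module ℝ V]
variable {mul : V →ₗ[ℝ] V →ₗ[ℝ] V} {B : LinearMap.BilinForm ℝ V}

/-- An axis determines its involution. -/
theorem pair_unique (hV : IsMajoranaAmbient mul B) {μ μ' : V ≃ₗ[ℝ] V} {a : V}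
    (h : IsMajoranaPair mul B μ a) (h' : IsMajoranaPair mul B μ' a) (hn : B a a = 1) : μ = μ' := by
  refine LinearEquiv.ext fun b => ?_
  obtain ⟨u, v, w, hu, hv, hw, hb, hμb⟩ := decomp4 hV h hn b
  rw [hμb]
  obtain ⟨-, -, -, hfix, hneg⟩ := h'
  have h1 : μ' (B a b • a + u + v) = B a b • a + u + v := by
    refine hfix _ ?_
    rw [eigenSum_insert, eigenSum_insert, eigenSum_singleton]
    exact add_mem (add_mem (Submodule.mem_sup_left (Submodule.smul_mem _ _
        (mem_eigen.2 (by rw [one_smul, idem h]))))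
      (Submodule.mem_sup_right (Submodule.mem_sup_left (mem_eigen.2 (by rw [hu, zero_smul])))))
      (Submodule.mem_sup_right (Submodule.mem_sup_right (mem_eigen.2 hv)))
  have h2 : μ' w = -w := hneg w (mem_eigen.2 hw)
  conv_rhs => rw [hb]
  rw [map_add, h1, h2]
  abel

/-- The data of two axes. -/
structure Two (mul : V →ₗ[ℝ] V →ₗ[ℝ] V) (B : LinearMap.BilinForm ℝ V) where
  amb : IsMajoranaAmbient mul B
  μ₀ : V ≃ₗ[ℝ] V
  μ₁ : V ≃ₗ[ℝ] V
  a₀ : V
  a₁ : V
  pair₀ : IsMajoranaPair mul B μ₀ a₀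
  pair₁ : IsMajoranaPair mul B μ₁ a₁
  norm₀ : B a₀ a₀ = 1
  norm₁ : B a₁ a₁ = 1

variable (D : Two mul B)

/-- The translation. -/
noncomputable def Two.R : V ≃ₗ[ℝ] V := D.μ₁ * D.μ₀

/-- The sequence of axes. -/
noncomputable def Two.ax (i : ℤ) : V := (D.R ^ (i / 2)) (if Even i then D.a₀ else D.a₁)

/-- The sequence of involutions. -/
noncomputable def Two.inv (i : ℤ) : V ≃ₗ[ℝ] V := D.R ^ i * D.μ₀

theorem Two.sq₀ : D.μ₀ * D.μ₀ = 1 :=
  LinearEquiv.ext fun b => invol_sq D.amb D.pair₀ D.norm₀ b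

theorem Two.sq₁ : D.μ₁ * D.μ₁ = 1 :=
  LinearEquiv.ext fun b => invol_sq D.amb D.pair₁ D.norm₁ b

theorem Two.conj (k : ℤ) : D.μ₀ * D.R ^ k = D.R ^ (-k) * D.μ₀ := by
  have h : SemiconjBy D.μ₀ D.R D.R⁻¹ := by
    unfold SemiconjBy Two.R
    rw [mul_inv_rev, inv_eq_of_mul_eq_one_left D.sq₀, inv_eq_of_mul_eq_one_left D.sq₁, mul_assoc]
  rw [(h.zpow_right k).eq, inv_zpow, ← zpow_neg]

theorem Two.mu1_eq : D.μ₁ = D.R * D.μ₀ := by
  rw [Two.R, mul_assoc, D.sq₀, mul_one]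

theorem Two.pres (k : ℤ) :
    (∀ u v, (D.R ^ k) (mul u v) = mul ((D.R ^ k) u) ((D.R ^ k) v)) ∧
    ∀ u v, B ((D.R ^ k) u) ((D.R ^ k) v) = B u v := by
  induction k using Int.induction_on with
  | zero => simp
  | succ i ih =>
    rw [zpow_add_one]
    have ap : ∀ w, D.R w = D.μ₁ (D.μ₀ w) := fun _ => rfl
    refine ⟨fun u v => ?_, fun u v => ?_⟩
    · simp only [LinearEquiv.mul_apply, ap, D.pair₀.1, D.pair₁.1, ih.1]
    · simp only [LinearEquiv.mul_apply, ap, D.pair₀.2.1, D.pair₁.2.1, ih.2]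
  | pred i ih =>
    have e : D.R⁻¹ = D.μ₀ * D.μ₁ := by
      rw [Two.R, mul_inv_rev, inv_eq_of_mul_eq_one_left D.sq₀, inv_eq_of_mul_eq_one_left D.sq₁]
    rw [zpow_sub_one, e]
    refine ⟨fun u v => ?_, fun u v => ?_⟩
    · simp only [LinearEquiv.mul_apply]
      rw [D.pair₁.1, D.pair₀.1, ih.1]
    · simp only [LinearEquiv.mul_apply]
      rw [ih.2, D.pair₀.2.1, D.pair₁.2.1]

theorem Two.ax_shift (i k : ℤ) : D.ax (i + 2 * k) = (D.R ^ k) (D.ax i) := by
  unfold Two.ax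
  rw [show (i + 2 * k) / 2 = k + i / 2 by omega, zpow_add, LinearEquiv.mul_apply]
  simp [Int.even_add]

theorem Two.ax_zero : D.ax 0 = D.a₀ := by simp [Two.ax]

theorem Two.ax_one : D.ax 1 = D.a₁ := by simp [Two.ax]

theorem Two.ax_cases (i : ℤ) :
    (∃ k, i = 2 * k ∧ D.ax i = (D.R ^ k) D.a₀) ∨ ∃ k, i = 2 * k + 1 ∧ D.ax i = (D.R ^ k) D.a₁ := by
  rcases Int.even_or_odd i with ⟨k, rfl⟩ | ⟨k, rfl⟩
  · left
    refine ⟨k, by ring, ?_⟩
    rw [show k + k = 0 + 2 * k by ring, D.ax_shift, D.ax_zero]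
  · right
    refine ⟨k, rfl, ?_⟩
    rw [show 2 * k + 1 = 1 + 2 * k by ring, D.ax_shift, D.ax_one]

theorem Two.reflect₀ (i : ℤ) : D.μ₀ (D.ax i) = D.ax (-i) := by
  rcases D.ax_cases i with ⟨k, rfl, h⟩ | ⟨k, rfl, h⟩
  · rw [h, ← LinearEquiv.mul_apply, D.conj, LinearEquiv.mul_apply, fix_self D.pair₀,
      show -(2 * k) = 0 + 2 * (-k) by ring, D.ax_shift, D.ax_zero]
  · rw [h, ← LinearEquiv.mul_apply, D.conj, LinearEquiv.mul_apply,
      show -(2 * k + 1) = -1 + 2 * (-k) by ring, D.ax_shift]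
    congr 1
    rw [show (-1 : ℤ) = 1 + 2 * (-1) by ring, D.ax_shift, D.ax_one]
    conv_lhs => rw [show D.a₁ = D.μ₁ D.a₁ from (fix_self D.pair₁).symm]
    rw [← LinearEquiv.mul_apply, zpow_neg_one, Two.R, mul_inv_rev,
      inv_eq_of_mul_eq_one_left D.sq₀, inv_eq_of_mul_eq_one_left D.sq₁]

theorem Two.pow_ax (m i : ℤ) : (D.R ^ m) (D.ax i) = D.ax (i + 2 * m) := (D.ax_shift i m).symm

theorem Two.reflect (j i : ℤ) : D.inv j (D.ax i) = D.ax (2 * j - i) := by
  rw [Two.inv, LinearEquiv.mul_apply, D.reflect₀, D.pow_ax]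
  congr 1; ring

theorem Two.pair_ax (j : ℤ) :
    IsMajoranaPair mul B (D.inv j) (D.ax j) ∧ B (D.ax j) (D.ax j) = 1 := by
  rcases D.ax_cases j with ⟨k, rfl, h⟩ | ⟨k, rfl, h⟩
  · refine ⟨?_, by rw [h, (D.pres k).2, D.norm₀]⟩
    have := pair_map (D.R ^ k) D.μ₀ (D.pres k).1 (D.pres k).2 D.pair₀
    rw [← zpow_neg, mul_assoc, D.conj, neg_neg, ← mul_assoc, ← zpow_add] at this
    rw [h, Two.inv, two_mul]
    exact this
  · refine ⟨?_, by rw [h, (D.pres k).2, D.norm₁]⟩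
    have := pair_map (D.R ^ k) D.μ₁ (D.pres k).1 (D.pres k).2 D.pair₁
    rw [← zpow_neg, mul_assoc, D.mu1_eq, mul_assoc, D.conj, neg_neg, ← mul_assoc D.R, ← zpow_one_add,
      ← mul_assoc, ← zpow_add] at this
    rw [h, Two.inv, show 2 * k + 1 = k + (1 + k) by ring]
    exact this

theorem Two.inner_shift (i j k : ℤ) :
    B (D.ax (i + 2 * k)) (D.ax (j + 2 * k)) = B (D.ax i) (D.ax j) := by
  rw [D.ax_shift, D.ax_shift, (D.pres k).2]

/-- The inner products with the first axis. -/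
noncomputable def Two.g (i : ℤ) : ℝ := B D.a₀ (D.ax i)

theorem Two.g_neg (i : ℤ) : D.g (-i) = D.g i := by
  unfold Two.g
  conv_lhs => rw [← fix_self D.pair₀]
  rw [← D.reflect₀, D.pair₀.2.1]

theorem Two.g_zero : D.g 0 = 1 := by rw [Two.g, D.ax_zero, D.norm₀]

theorem Two.rel (j k : ℤ) :
    B (D.ax (j + k)) (D.ax (j - k)) = B (D.ax j) (D.ax (j + 2 * k)) ∧
    (D.ax (j + 3 * k) - D.ax (j - 3 * k)) +
      yc (B (D.ax j) (D.ax (j + k))) • (D.ax (j + 2 * k) - D.ax (j - 2 * k)) +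
      (xc (B (D.ax j) (D.ax (j + k))) (B (D.ax j) (D.ax (j + 2 * k))) - 1) •
        (D.ax (j + k) - D.ax (j - k)) = 0 ∧
    B (D.ax j) (D.ax (j + 3 * k)) =
      xc (B (D.ax j) (D.ax (j + k))) (B (D.ax j) (D.ax (j + 2 * k))) * (1 - B (D.ax j) (D.ax (j + k))) +
      (2 * B (D.ax j) (D.ax (j + k)) - 1 - B (D.ax j) (D.ax (j + 2 * k))) *
        yc (B (D.ax j) (D.ax (j + k))) +
      29 * B (D.ax j) (D.ax (j + k)) - 28 * B (D.ax j) (D.ax (j + 2 * k)) := by
  have := pair_rel D.amb (D.pair_ax j).1 (D.pair_ax (j + k)).1 (D.pair_ax j).2 (D.pair_ax (j + k)).2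
  simp only [D.reflect] at this
  rw [show 2 * j - (j + k) = j - k by ring, show 2 * (j + k) - j = j + 2 * k by ring,
    show 2 * (j + k) - (j - k) = j + 3 * k by ring, show 2 * j - (j + 3 * k) = j - 3 * k by ring,
    show 2 * j - (j + 2 * k) = j - 2 * k by ring] at this
  exact this

theorem Two.inner_one (j : ℤ) : B (D.ax j) (D.ax (j + 1)) = D.g 1 := by
  rcases Int.even_or_odd j with ⟨k, rfl⟩ | ⟨k, rfl⟩
  · rw [show k + k = 0 + 2 * k by ring, show 0 + 2 * k + 1 = 1 + 2 * k by ring, D.inner_shift,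
      D.ax_zero]
    rfl
  · rw [D.amb.2.1, show 2 * k + 1 + 1 = 0 + 2 * (k + 1) by ring,
      show 2 * k + 1 = -1 + 2 * (k + 1) by ring, D.inner_shift, D.ax_zero]
    exact D.g_neg 1

theorem Two.inner_two (j : ℤ) : B (D.ax j) (D.ax (j + 2)) = D.g 2 := by
  rcases Int.even_or_odd j with ⟨k, rfl⟩ | ⟨k, rfl⟩
  · rw [show k + k = 0 + 2 * k by ring, show 0 + 2 * k + 2 = 2 + 2 * k by ring, D.inner_shift,
      D.ax_zero]
    rfl
  · rw [show 2 * k + 1 + 2 = 1 + 2 * (k + 1) by ring, show 2 * k + 1 = -1 + 2 * (k + 1) by ring,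
      D.inner_shift, D.amb.2.1]
    have := (D.rel 0 1).1
    rw [zero_add, zero_sub, zero_add, D.ax_zero] at this
    exact this

/-- The relation centred at `j`. -/
theorem Two.step (j : ℤ) :
    (D.ax (j + 3) - D.ax (j - 3)) + yc (D.g 1) • (D.ax (j + 2) - D.ax (j - 2)) +
      (xc (D.g 1) (D.g 2) - 1) • (D.ax (j + 1) - D.ax (j - 1)) = 0 := by
  have := (D.rel j 1).2.1
  simpa only [mul_one, D.inner_one, D.inner_two] using this

/-- Antisymmetric differences. -/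
noncomputable def Two.d (i : ℤ) : V := D.ax i - D.ax (-i)

theorem Two.d_step (j : ℤ) :
    D.d (j + 3) - D.d (j - 3) + yc (D.g 1) • (D.d (j + 2) - D.d (j - 2)) +
      (xc (D.g 1) (D.g 2) - 1) • (D.d (j + 1) - D.d (j - 1)) = 0 := by
  have h1 := D.step j
  have h2 := D.step (-j)
  rw [show -j + 3 = -(j - 3) by ring, show -j - 3 = -(j + 3) by ring,
    show -j + 2 = -(j - 2) by ring, show -j - 2 = -(j + 2) by ring,
    show -j + 1 = -(j - 1) by ring, show -j - 1 = -(j + 1) by ring] at h2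
  unfold Two.d
  linear_combination (norm := module) h1 + h2

theorem Two.g_step (j : ℤ) :
    D.g (j + 3) - D.g (j - 3) + yc (D.g 1) * (D.g (j + 2) - D.g (j - 2)) +
      (xc (D.g 1) (D.g 2) - 1) * (D.g (j + 1) - D.g (j - 1)) = 0 := by
  have := congrArg (B D.a₀) (D.step j)
  simpa only [map_add, map_sub, map_smul, map_zero, smul_eq_mul, Two.g] using this

theorem Two.sys : Sys (D.g 1) (D.g 2) (D.g 3) (D.g 4) (D.g 5) (D.g 6) := by
  have r1 := (D.rel 0 1).2.2
  have r2 := (D.rel 0 2).2.2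
  simp only [zero_add, mul_one, D.ax_zero] at r1 r2
  norm_num at r2
  have g1 := D.g_step 1
  have g2 := D.g_step 2
  have g3 := D.g_step 3
  norm_num [D.g_zero] at g1 g2 g3
  rw [D.g_neg 2, D.g_neg 1] at g1
  rw [D.g_neg 1] at g2
  exact ⟨r1, g1, g2, g3, r2⟩

theorem Two.d_neg (i : ℤ) : D.d (-i) = -D.d i := by unfold Two.d; rw [neg_neg, neg_sub]

theorem Two.coords :
    D.d 3 = (-(xc (D.g 1) (D.g 2) - 1)) • D.d 1 + (-yc (D.g 1)) • D.d 2 ∧
    D.d 4 = dc41 (xc (D.g 1) (D.g 2)) (yc (D.g 1)) • D.d 1 + dc42 (xc (D.g 1) (D.g 2)) (yc (D.g 1)) • D.d 2 ∧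
    D.d 6 = dc61 (xc (D.g 1) (D.g 2)) (yc (D.g 1)) • D.d 1 + dc62 (xc (D.g 1) (D.g 2)) (yc (D.g 1)) • D.d 2 ∧
    D.d 9 = dc91 (xc (D.g 1) (D.g 2)) (yc (D.g 1)) • D.d 1 + dc92 (xc (D.g 1) (D.g 2)) (yc (D.g 1)) • D.d 2 := by
  set x := xc (D.g 1) (D.g 2) with hx
  set y := yc (D.g 1) with hy
  have hz : D.d 0 = 0 := by unfold Two.d; simp
  have s0 := D.step 0
  have s1 := D.d_step 1
  have s2 := D.d_step 2
  have s3 := D.d_step 3
  have s4 := D.d_step 4
  have s5 := D.d_step 5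
  have s6 := D.d_step 6
  norm_num [← hx, ← hy, hz] at s0 s1 s2 s3 s4 s5 s6
  rw [D.d_neg 2, D.d_neg 1] at s1
  rw [D.d_neg 1] at s2
  have h3 : D.d 3 = (-(x - 1)) • D.d 1 + (-y) • D.d 2 := by
    unfold Two.d
    linear_combination (norm := module) s0
  have h4 : D.d 4 = dc41 x y • D.d 1 + dc42 x y • D.d 2 := by
    unfold dc41 dc42
    rw [h3] at s1
    linear_combination (norm := module) s1
  have h5 : D.d 5 = dc51 x y • D.d 1 + dc52 x y • D.d 2 := by
    unfold dc51 dc52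
    rw [h4, h3] at s2
    unfold dc41 dc42 at s2
    linear_combination (norm := module) s2
  have h6 : D.d 6 = dc61 x y • D.d 1 + dc62 x y • D.d 2 := by
    unfold dc61 dc62
    rw [h5, h4] at s3
    unfold dc41 dc42 dc51 dc52 at s3
    linear_combination (norm := module) s3
  have h7 : D.d 7 = dc71 x y • D.d 1 + dc72 x y • D.d 2 := by
    unfold dc71 dc72
    rw [h6, h5, h3] at s4
    unfold dc51 dc52 dc61 dc62 at s4
    linear_combination (norm := module) s4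
  have h8 : D.d 8 = dc81 x y • D.d 1 + dc82 x y • D.d 2 := by
    unfold dc81 dc82
    rw [h7, h6, h4, h3] at s5
    unfold dc41 dc42 dc61 dc62 dc71 dc72 at s5
    linear_combination (norm := module) s5
  have h9 : D.d 9 = dc91 x y • D.d 1 + dc92 x y • D.d 2 := by
    unfold dc91 dc92
    rw [h8, h7, h5, h4, h3] at s6
    unfold dc41 dc42 dc51 dc52 dc71 dc72 dc81 dc82 at s6
    linear_combination (norm := module) s6
  exact ⟨h3, h4, h6, h9⟩

theorem Two.double :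
    A2 (xc (D.g 1) (D.g 2)) (yc (D.g 1)) (D.g 2) (D.g 4) • D.d 1 +
      B2 (xc (D.g 1) (D.g 2)) (yc (D.g 1)) (D.g 2) (D.g 4) • D.d 2 = 0 := by
  obtain ⟨-, h4, h6, -⟩ := D.coords
  have r := (D.rel 0 2).2.1
  norm_num [D.ax_zero] at r
  change D.d 6 + yc (D.g 2) • D.d 4 + (xc (D.g 2) (D.g 4) - 1) • D.d 2 = 0 at r
  rw [h4, h6] at r
  unfold A2 B2
  linear_combination (norm := module) r

theorem Two.triple :
    ∃ c : ℝ, A3 (xc (D.g 1) (D.g 2)) (yc (D.g 1)) (D.g 3) (D.g 6) • D.d 1 + c • D.d 2 = 0 := by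
  obtain ⟨h3, -, h6, h9⟩ := D.coords
  have r := (D.rel 0 3).2.1
  norm_num [D.ax_zero] at r
  change D.d 9 + yc (D.g 3) • D.d 6 + (xc (D.g 3) (D.g 6) - 1) • D.d 3 = 0 at r
  rw [h3, h6, h9] at r
  refine ⟨dc92 (xc (D.g 1) (D.g 2)) (yc (D.g 1)) + yc (D.g 3) * dc62 (xc (D.g 1) (D.g 2)) (yc (D.g 1)) +
    (xc (D.g 3) (D.g 6) - 1) * (-yc (D.g 1)), ?_⟩
  unfold A3
  linear_combination (norm := module) r

theorem Two.ax_eq_of_g (n : ℤ) (h : D.g n = 1) : D.ax n = D.a₀ := by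
  by_contra hne
  have h1 := D.amb.2.2.1 (D.ax n - D.a₀) (sub_ne_zero.2 hne)
  simp only [map_sub, LinearMap.sub_apply, (D.pair_ax n).2, D.norm₀, D.amb.2.1 (D.ax n) D.a₀,
    show B D.a₀ (D.ax n) = 1 from h] at h1
  linarith

theorem Two.period (n : ℤ) (h : D.ax n = D.a₀) : D.R ^ n = 1 := by
  have h1 : IsMajoranaPair mul B (D.inv n) D.a₀ := h ▸ (D.pair_ax n).1
  have h2 := pair_unique D.amb h1 D.pair₀ D.norm₀
  exact mul_eq_right.1 (h2 : D.R ^ n * D.μ₀ = D.μ₀)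

/-- The product of two Majorana involutions has order at most six. -/
theorem Two.six : ∃ n : ℕ, 1 ≤ n ∧ n ≤ 6 ∧ D.R ^ n = 1 := by
  suffices h : ∃ n : ℕ, 1 ≤ n ∧ n ≤ 6 ∧ D.R ^ (n : ℤ) = 1 by simpa [zpow_natCast] using h
  by_cases hd : D.d 1 = 0
  · refine ⟨2, by norm_num, by norm_num, ?_⟩
    have e : D.ax 1 = D.ax (-1) := sub_eq_zero.1 hd
    have h2 := pair_unique D.amb (D.pair_ax 1).1 (e ▸ (D.pair_ax (-1)).1) (D.pair_ax 1).2
    have h3 : D.R ^ (1 : ℤ) = D.R ^ (-1 : ℤ) := mul_right_cancel h2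
    rw [Nat.cast_ofNat, show (2 : ℤ) = 1 + 1 by norm_num, zpow_add]
    nth_rewrite 1 [h3]
    rw [← zpow_add]
    simp
  have key : D.g 3 = 1 ∨ D.g 4 = 1 ∨ D.g 5 = 1 ∨ D.g 6 = 1 := by
    by_cases ht : ∃ t : ℝ, D.d 2 = t • D.d 1
    · obtain ⟨t, ht⟩ := ht
      have hD : A2 (xc (D.g 1) (D.g 2)) (yc (D.g 1)) (D.g 2) (D.g 4) +
          t * B2 (xc (D.g 1) (D.g 2)) (yc (D.g 1)) (D.g 2) (D.g 4) = 0 := by
        have h := D.double
        rw [ht, smul_smul, ← add_smul, mul_comm] at h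
        exact (smul_eq_zero.1 h).resolve_right hd
      have hn : D.amb.2.1 = D.amb.2.1 := rfl
      have i11 : B (D.d 1) (D.ax 1) = 1 - D.g 2 := by
        unfold Two.d
        rw [map_sub, LinearMap.sub_apply, (D.pair_ax 1).2]
        congr 1
        exact D.inner_two (-1)
      have i21 : B (D.d 2) (D.ax 1) = D.g 1 - D.g 3 := by
        unfold Two.d
        rw [map_sub, LinearMap.sub_apply, D.amb.2.1 (D.ax 2)]
        have e1 := D.inner_one 1
        have e2 : B (D.ax (-2)) (D.ax 1) = D.g 3 := by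
          have := D.inner_shift 0 3 (-1)
          norm_num [D.ax_zero] at this
          exact this
        norm_num at e1
        rw [e1, e2]
      have i12 : B (D.d 1) (D.ax 2) = D.g 1 - D.g 3 := by
        unfold Two.d
        rw [map_sub, LinearMap.sub_apply]
        have e1 := D.inner_one 1
        have e2 : B (D.ax (-1)) (D.ax 2) = D.g 3 := by
          rw [D.amb.2.1]
          have := D.inner_shift 0 (-3) 1
          norm_num [D.ax_zero] at this
          rw [this]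
          exact D.g_neg 3
        norm_num at e1
        rw [e1, e2]
      have i22 : B (D.d 2) (D.ax 2) = 1 - D.g 4 := by
        unfold Two.d
        rw [map_sub, LinearMap.sub_apply, (D.pair_ax 2).2]
        congr 1
        have := D.inner_shift 0 4 (-1)
        norm_num [D.ax_zero] at this
        exact this
      have hm : D.g 2 ≠ 1 := fun e => hd (by
        have hz : B (D.d 1) (D.d 1) = 0 := by
          have e1 : B (D.ax 1) (D.ax (-1)) = D.g 2 := by
            rw [D.amb.2.1]; exact D.inner_two (-1)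
          unfold Two.d
          simp only [map_sub, LinearMap.sub_apply, (D.pair_ax 1).2, (D.pair_ax (-1)).2,
            D.amb.2.1 (D.ax (-1)) (D.ax 1), e1, e]
          ring
        by_contra h
        exact absurd hz (D.amb.2.2.1 _ h).ne')
      have hX : D.g 1 - D.g 3 = t * (1 - D.g 2) := by
        rw [← i21, ← i11, ht, map_smul, LinearMap.smul_apply, smul_eq_mul]
      have hY : 1 - D.g 4 = t * (D.g 1 - D.g 3) := by
        rw [← i22, ← i12, ht, map_smul, LinearMap.smul_apply, smul_eq_mul]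
      rcases case_dep D.sys hm hX hY hD with h | h
      · exact Or.inr (Or.inl h)
      · exact Or.inl h
    · have indep : ∀ a b : ℝ, a • D.d 1 + b • D.d 2 = 0 → a = 0 ∧ b = 0 := by
        intro a b hab
        have hb : b = 0 := by
          by_contra hb
          refine ht ⟨-(a / b), ?_⟩
          calc D.d 2 = b⁻¹ • (a • D.d 1 + b • D.d 2) + (-(a / b)) • D.d 1 := by
                rw [smul_add, smul_smul, smul_smul, inv_mul_cancel₀ hb, one_smul,
                  show b⁻¹ * a = a / b by ring, neg_smul]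
                abel
            _ = _ := by rw [hab, smul_zero, zero_add]
        rw [hb, zero_smul, add_zero] at hab
        exact ⟨(smul_eq_zero.1 hab).resolve_right hd, hb⟩
      obtain ⟨hA, hB⟩ := indep _ _ D.double
      obtain ⟨c, hc⟩ := D.triple
      rcases case_indep D.sys hA hB (indep _ _ hc).1 with h | h
      · exact Or.inr (Or.inr (Or.inr h))
      · exact Or.inr (Or.inr (Or.inl h))
  rcases key with h | h | h | h
  exacts [⟨3, by norm_num, by norm_num, D.period 3 (D.ax_eq_of_g 3 h)⟩,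
    ⟨4, by norm_num, by norm_num, D.period 4 (D.ax_eq_of_g 4 h)⟩,
    ⟨5, by norm_num, by norm_num, D.period 5 (D.ax_eq_of_g 5 h)⟩,
    ⟨6, by norm_num, by norm_num, D.period 6 (D.ax_eq_of_g 6 h)⟩]

end H58.Maj
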