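import Cfsg.Agent.H58.RegularNormal
import Cfsg.Agent.H58.SharplyTwo

/-!
Transitivity of normal subgroups of multiply transitive and multiply primitive groups.
-/

set_option autoImplicit false
set_option linter.unusedSectionVars false

namespace H58

open MulAction

universe u v

section step

variable {G : Type*} [Group G] {X : Type*} [MulAction G X]

theorem faithful_ofStabilizer [FaithfulSMul G X] (a : X) :
    FaithfulSMul (stabilizer G a) (SubMulAction.ofStabilizer G a) where
  eq_of_smul_eq_smul {g g'} h := by
    refine Subtype.ext (eq_of_smul_eq_smul (α := X) fun x => ?_)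
    by_cases hx : x = a
    · subst hx; exact g.2.trans g'.2.symm
    · exact congrArg Subtype.val (h ⟨x, hx⟩)

theorem lift_transitive (N : Subgroup G) [IsPretransitive N X] (a : X) {n : ℕ}
    (h : IsMultiplyPretransitive (N.subgroupOf (stabilizer G a))
      (SubMulAction.ofStabilizer G a) n) :
    IsMultiplyPretransitive N X (n + 1) := by
  rw [SubMulAction.ofStabilizer.isMultiplyPretransitive (a := a)]
  let σ : N.subgroupOf (stabilizer G a) → stabilizer N a :=
    fun g => ⟨⟨((g : stabilizer G a) : G), Subgroup.mem_subgroupOf.mp g.2⟩, g.1.2⟩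
  let f : SubMulAction.ofStabilizer G a →ₑ[σ] SubMulAction.ofStabilizer N a :=
    { toFun := fun x => ⟨(x : X), x.2⟩
      map_smul' := fun g x => rfl }
  have hf : Function.Surjective f := fun y => ⟨⟨(y : X), y.2⟩, rfl⟩
  exact IsPretransitive.of_embedding (f := f) hf

theorem stabilizer_eq_bot_of_transitive {N : Subgroup G} [IsPretransitive N X] {a : X}
    (h : stabilizer N a = ⊥) (b : X) : stabilizer N b = ⊥ := by
  obtain ⟨g, hg⟩ := MulAction.exists_smul_eq N a b
  rw [Subgroup.eq_bot_iff_forall]
  intro x hx
  have : g⁻¹ * x * g ∈ stabilizer N a := by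
    rw [mem_stabilizer_iff, mul_smul, mul_smul, hg, hx, ← hg, inv_smul_smul]
  rw [h, Subgroup.mem_bot, mul_assoc, inv_mul_eq_one] at this
  exact right_eq_mul.mp this |>.trans rfl

theorem subgroupOf_eq_bot {N : Subgroup G} {a : X} (h : N.subgroupOf (stabilizer G a) = ⊥) :
    stabilizer N a = ⊥ := by
  rw [Subgroup.eq_bot_iff_forall]
  rintro ⟨x, hx⟩ hxa
  have : (⟨x, hxa⟩ : stabilizer G a) ∈ N.subgroupOf (stabilizer G a) :=
    Subgroup.mem_subgroupOf.mpr hx
  rw [h, Subgroup.mem_bot] at this
  exact Subtype.ext (congrArg (fun g : stabilizer G a => (g : G)) this :)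

theorem transitive_of_normal [FaithfulSMul G X] [IsPreprimitive G X] (N : Subgroup G) [N.Normal]
    (hN : N ≠ ⊥) : IsPretransitive N X := by
  apply IsQuasiPreprimitive.isPretransitive_of_normal
  intro hfix
  apply hN
  rw [Subgroup.eq_bot_iff_forall]
  intro n hn
  refine eq_of_smul_eq_smul (α := X) fun a => ?_
  rw [one_smul]
  exact (hfix ▸ Set.mem_univ a : a ∈ fixedPoints N X) ⟨n, hn⟩

/-- If `N` is transitive and a point stabiliser in `N` is regular on the rest, then `G` has a
regular normal subgroup. -/
theorem regular_of_sharply_two [Finite G] [Fintype X] [FaithfulSMul G X] (hX : 2 ≤ Fintype.card X)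
    (N : Subgroup G) [hNn : N.Normal] [IsPretransitive N X] (a : X)
    (htr : IsPretransitive (N.subgroupOf (stabilizer G a)) (SubMulAction.ofStabilizer G a))
    (hreg : ∀ x : SubMulAction.ofStabilizer G a,
      stabilizer (N.subgroupOf (stabilizer G a)) x = ⊥) :
    ∃ R : Subgroup G, R.Normal ∧ IsPretransitive R X ∧ ∀ x : X, stabilizer R x = ⊥ := by
  have h2 : IsMultiplyPretransitive N X 2 :=
    lift_transitive (n := 1) N a (is_one_pretransitive_iff.mpr htr)
  have hfix : ∀ (g : N) (b c : X), b ≠ c → g • b = b → g • c = c → g = 1 := by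
    intro g b c hbc hb hc
    obtain ⟨k, hk⟩ := MulAction.exists_smul_eq N b a
    have hka : (k * g * k⁻¹) • a = a := by
      rw [mul_smul, mul_smul, inv_smul_eq_iff.mpr hk.symm, hb, hk]
    have hne : k • c ≠ a := fun e => hbc ((MulAction.injective k) (hk.trans e.symm))
    have h3 : (⟨⟨((k * g * k⁻¹ : N) : G), hka⟩, Subgroup.mem_subgroupOf.mpr (k * g * k⁻¹).2⟩ :
        N.subgroupOf (stabilizer G a)) ∈ stabilizer _ (⟨k • c, hne⟩ : SubMulAction.ofStabilizer G a) := by
      rw [mem_stabilizer_iff]
      refine Subtype.ext ?_
      change (k * g * k⁻¹) • k • c = k • c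
      rw [mul_smul, mul_smul, inv_smul_smul, hc]
    rw [hreg, Subgroup.mem_bot] at h3
    have h4 : k * g * k⁻¹ = 1 := Subtype.ext
      (congrArg (fun z : N.subgroupOf (stabilizer G a) => ((z : stabilizer G a) : G)) h3)
    exact conj_eq_one_iff.mp h4
  obtain ⟨R, -, hR, -, -, -, hRreg, -⟩ := sharplyTwo_kernel h2 hfix hX
  refine ⟨R.map N.subtype, ⟨?_⟩, ⟨fun x y => ?_⟩, fun x => ?_⟩
  · rintro _ ⟨r, hr, rfl⟩ g
    refine ⟨⟨g * r * g⁻¹, hNn.conj_mem r r.2 g⟩, (hR _).mpr ?_, rfl⟩
    rcases (hR r).mp hr with h | h
    · left; subst h; simp [Subtype.ext_iff]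
    · right
      intro b hb
      apply h (g⁻¹ • b)
      change (g * (r : G) * g⁻¹) • b = b at hb
      rw [mul_smul, mul_smul, smul_eq_iff_eq_inv_smul] at hb
      exact hb
  · obtain ⟨r, ⟨hr, hrx⟩, -⟩ := hRreg x y
    exact ⟨⟨_, r, hr, rfl⟩, hrx⟩
  · rw [Subgroup.eq_bot_iff_forall]
    rintro ⟨_, r, hr, rfl⟩ hx
    obtain ⟨u, -, hu⟩ := hRreg x x
    have : r = 1 := (hu r ⟨hr, hx⟩).trans (hu 1 ⟨R.one_mem, one_smul _ _⟩).symm
    exact Subtype.ext (congrArg (fun z : N => (z : G)) this)

/-- A commutative transitive group acting faithfully is regular. -/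
theorem regular_of_comm [FaithfulSMul G X] (N : Subgroup G) [IsPretransitive N X]
    (h : ∀ m n : N, m * n = n * m) (x : X) : stabilizer N x = ⊥ := by
  rw [Subgroup.eq_bot_iff_forall]
  intro n hn
  refine Subtype.ext (eq_of_smul_eq_smul (α := X) fun y => ?_)
  obtain ⟨m, rfl⟩ := MulAction.exists_smul_eq N x y
  rw [Subgroup.coe_one, one_smul]
  change n • m • x = m • x
  rw [← mul_smul, h n m, mul_smul, hn]

end step

/-- Jordan: normal subgroups of a `k`-transitive group are `(k-1)`-transitive, or `k = 3` and the
normal subgroup is elementary abelian of exponent two. -/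
theorem normal_jordan : ∀ (k : ℕ) {G : Type u} [Group G] [Finite G] {X : Type v} [Fintype X]
    [MulAction G X] [FaithfulSMul G X], 1 < k → k < Fintype.card X →
    IsMultiplyPretransitive G X k → ∀ (N : Subgroup G) [N.Normal], N ≠ ⊥ →
    IsMultiplyPretransitive N X (k - 1) ∨
      (k = 3 ∧ IsMulCommutative N ∧ ∀ n ∈ N, n ^ 2 = 1) := by
  intro k
  induction k using Nat.strong_induction_on with
  | _ k ih =>
    intro G _ _ X _ _ _ hk hdeg hG N _ hN
    classical
    have h2 : IsMultiplyPretransitive G X 2 :=
      isMultiplyPretransitive_of_le (n := k) (by omega) (by rw [Nat.card_eq_fintype_card]; omega)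
    have hpre : IsPreprimitive G X := isPreprimitive_of_is_two_pretransitive h2
    have htN := transitive_of_normal (X := X) N hN
    by_cases hk2 : k = 2
    · subst hk2
      exact Or.inl (is_one_pretransitive_iff.mpr htN)
    have hsmall : ∀ (R : Subgroup G) [R.Normal], IsPretransitive R X →
        (∀ x : X, stabilizer R x = ⊥) →
        k = 3 ∧ IsMulCommutative R ∧ ∀ r ∈ R, r ^ 2 = 1 := by
      intro R _ hR hRr
      have hp2 : IsMultiplyPreprimitive G X 2 :=
        MulAction.isMultiplyPreprimitive_of_le G X (n := k - 1) (by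
          haveI : IsMultiplyPretransitive G X (k - 1).succ := by
            rw [Nat.succ_eq_add_one, Nat.sub_add_cancel (by omega)]; exact hG
          exact MulAction.isMultiplyPreprimitive_of_isMultiplyPretransitive_succ G X
            (by rw [ENat.card_eq_coe_fintype_card]; exact_mod_cast (by omega : (k - 1) + 1 ≤ Fintype.card X)))
          (by omega) (by rw [ENat.card_eq_coe_fintype_card]; exact_mod_cast (by omega : k - 1 ≤ Fintype.card X))
      rcases two_primitive_regular (by omega) hp2 R hR hRr with h | ⟨hc, hs, -⟩
      · omega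
      · refine ⟨?_, hc, hs⟩
        by_contra hk3
        have hp3 : IsMultiplyPreprimitive G X 3 :=
          MulAction.isMultiplyPreprimitive_of_le G X (n := k - 1) (by
            haveI : IsMultiplyPretransitive G X (k - 1).succ := by
              rw [Nat.succ_eq_add_one, Nat.sub_add_cancel (by omega)]; exact hG
            exact MulAction.isMultiplyPreprimitive_of_isMultiplyPretransitive_succ G X
              (by rw [ENat.card_eq_coe_fintype_card]; exact_mod_cast (by omega : (k - 1) + 1 ≤ Fintype.card X)))
            (by omega) (by rw [ENat.card_eq_coe_fintype_card]; exact_mod_cast (by omega : k - 1 ≤ Fintype.card X))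
        rcases three_primitive_regular (by omega) hp3 R hR hRr with h | h <;> omega
    haveI : Nonempty X := Fintype.card_pos_iff.mp (by omega)
    obtain ⟨a⟩ := (inferInstance : Nonempty X)
    set Na := N.subgroupOf (stabilizer G a)
    by_cases hNa : Na = ⊥
    · exact Or.inr (hsmall N htN (stabilizer_eq_bot_of_transitive (subgroupOf_eq_bot hNa)))
    · left
      haveI := faithful_ofStabilizer (G := G) a
      have hGa : IsMultiplyPretransitive (stabilizer G a) (SubMulAction.ofStabilizer G a) (k - 1) := by
        refine SubMulAction.ofStabilizer.isMultiplyPretransitive.mp ?_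
        rw [Nat.succ_eq_add_one, Nat.sub_add_cancel (by omega)]; exact hG
      haveI : Fintype (SubMulAction.ofStabilizer G a) := Fintype.ofFinite _
      have hcard : Fintype.card (SubMulAction.ofStabilizer G a) + 1 = Fintype.card X := by
        have := SubMulAction.nat_card_ofStabilizer_add_one_eq G a
        rwa [Nat.card_eq_fintype_card, Nat.card_eq_fintype_card] at this
      rcases ih (k - 1) (by omega) (by omega) (by omega) hGa Na hNa with h | ⟨hk3, hc, -⟩
      · have := lift_transitive N a h
        rwa [show k - 1 - 1 + 1 = k - 1 by omega] at this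
      · exfalso
        have hGa2 : IsMultiplyPretransitive (stabilizer G a) (SubMulAction.ofStabilizer G a) 2 :=
          isMultiplyPretransitive_of_le (n := k - 1) (by omega)
            (by rw [Nat.card_eq_fintype_card]; omega)
        haveI := isPreprimitive_of_is_two_pretransitive hGa2
        haveI htr := transitive_of_normal (X := SubMulAction.ofStabilizer G a) Na hNa
        obtain ⟨R, hRn, hR, hRr⟩ := regular_of_sharply_two (by omega) N a htr
          (regular_of_comm Na (fun m n => hc.is_comm.comm m n))
        have := (hsmall R hR hRr).1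
        omega

/-- Normal subgroups (not regular) of `k`-primitive groups other than the symmetric group are
`k`-transitive. -/
theorem normal_of_multiplyPreprimitive : ∀ (k : ℕ) {G : Type u} [Group G] [Finite G] {X : Type v}
    [Fintype X] [MulAction G X] [FaithfulSMul G X], 1 ≤ k → k ≤ Fintype.card X →
    IsMultiplyPreprimitive G X k → ¬ Function.Surjective (MulAction.toPermHom G X) →
    ∀ (N : Subgroup G) [N.Normal], (∃ a : X, stabilizer N a ≠ ⊥) →
    IsMultiplyPretransitive N X k := by
  intro k
  induction k with
  | zero => intro G _ _ X _ _ _ h; omega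
  | succ k ih =>
    intro G _ _ X _ _ _ _ hkn hG hns N _ ⟨a, ha⟩
    classical
    have hN : N ≠ ⊥ := fun h => ha (by
      subst h
      exact Subgroup.eq_bot_of_subsingleton _)
    have hpre : IsPreprimitive G X := is_one_preprimitive_iff G X |>.mp
      (MulAction.isMultiplyPreprimitive_of_le G X hG (by omega)
        (by rw [ENat.card_eq_coe_fintype_card]; exact_mod_cast hkn))
    have htN := transitive_of_normal (X := X) N hN
    rcases Nat.eq_zero_or_pos k with rfl | hk
    · exact is_one_pretransitive_iff.mpr htN
    haveI := faithful_ofStabilizer (G := G) a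
    haveI : Fintype (SubMulAction.ofStabilizer G a) := Fintype.ofFinite _
    have hcard : Fintype.card (SubMulAction.ofStabilizer G a) + 1 = Fintype.card X := by
      have := SubMulAction.nat_card_ofStabilizer_add_one_eq G a
      rwa [Nat.card_eq_fintype_card, Nat.card_eq_fintype_card] at this
    have hGa : IsMultiplyPreprimitive (stabilizer G a) (SubMulAction.ofStabilizer G a) k :=
      MulAction.isMultiplyPreprimitive_ofStabilizer G X
    set Na := N.subgroupOf (stabilizer G a)
    by_cases hnr : ∃ x : SubMulAction.ofStabilizer G a, stabilizer Na x ≠ ⊥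
    · refine lift_transitive N a (ih hk (by omega) hGa ?_ Na hnr)
      intro hsurj
      apply hns
      intro σ
      obtain ⟨g, hg⟩ := MulAction.exists_smul_eq G a (σ a)
      set τ : Equiv.Perm X := (MulAction.toPerm g)⁻¹ * σ
      have hτ : τ a = a := by
        change g⁻¹ • σ a = a
        rw [← hg, inv_smul_smul]
      let τ' : Equiv.Perm (SubMulAction.ofStabilizer G a) := τ.subtypePerm (fun x => by
        simp only [SubMulAction.mem_ofStabilizer_iff]
        rw [not_iff_not, ← τ.injective.eq_iff (a := x), hτ])
      obtain ⟨h, hh⟩ := hsurj τ'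
      refine ⟨g * h, Equiv.ext fun x => ?_⟩
      change (g * (h : G)) • x = σ x
      by_cases hx : x = a
      · subst hx
        rw [mul_smul, h.2, hg]
      · have := congrArg Subtype.val (Equiv.congr_fun hh ⟨x, hx⟩)
        change (h : G) • x = g⁻¹ • σ x at this
        rw [mul_smul, this, smul_inv_smul]
    · push Not at hnr
      have hNa : Na ≠ ⊥ := fun h => ha (subgroupOf_eq_bot h)
      haveI : IsPreprimitive (stabilizer G a) (SubMulAction.ofStabilizer G a) :=
        is_one_preprimitive_iff _ _ |>.mp (MulAction.isMultiplyPreprimitive_of_le _ _ hGa hk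
          (by rw [ENat.card_eq_coe_fintype_card]; exact_mod_cast (by omega : k ≤ Fintype.card (SubMulAction.ofStabilizer G a))))
      haveI htr := transitive_of_normal (X := SubMulAction.ofStabilizer G a) Na hNa
      rcases Nat.lt_or_ge k 2 with hk1 | hk2
      · have hk1' : k = 1 := by omega
        subst hk1'
        exact lift_transitive N a (is_one_pretransitive_iff.mpr htr)
      exfalso
      obtain ⟨R, hRn, hR, hRr⟩ := regular_of_sharply_two (by omega) N a htr hnr
      have hp3 : IsMultiplyPreprimitive G X 3 :=
        MulAction.isMultiplyPreprimitive_of_le G X hG (by omega)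
          (by rw [ENat.card_eq_coe_fintype_card]; exact_mod_cast hkn)
      have hn : Fintype.card X ≤ 4 := by
        rcases three_primitive_regular (by omega) hp3 R hR hRr with h | h <;> omega
      apply hns
      rw [← MonoidHom.range_eq_top]
      apply Equiv.Perm.eq_top_of_isMultiplyPretransitive
      have h3 : IsMultiplyPretransitive G X (Nat.card X - 1) :=
        isMultiplyPretransitive_of_le (n := k + 1)
          (by rw [Nat.card_eq_fintype_card]; omega) (by rw [Nat.card_eq_fintype_card]; omega)
      let f : X →ₑ[fun g => (MulAction.toPermHom G X).rangeRestrict g] X :=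
        { toFun := id, map_smul' := fun g x => rfl }
      exact IsPretransitive.of_embedding (f := f) Function.surjective_id

end H58
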