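import Mathlib

/-!
Powers of a non-abelian simple group: homomorphisms onto the simple group, automorphisms,
and subdirect subgroups.
-/

set_option autoImplicit false

namespace H58.SimplePower

variable {T : Type*} [Group T] [IsSimpleGroup T] {ι : Type*}

/-- An image of a normal subgroup in a simple group is trivial or everything. -/
theorem map_eq_bot_or_top {A : Type*} [Group A] (ψ : A →* T) (hψ : Function.Surjective ψ)
    (P : Subgroup A) [hP : P.Normal] : P.map ψ = ⊥ ∨ P.map ψ = ⊤ :=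
  (hP.map ψ hψ).eq_bot_or_eq_top

/-- Two commuting everything gives an abelian group. -/
theorem exists_not_commute (hT : ¬ IsMulCommutative T) : ∃ a b : T, a * b ≠ b * a := by
  by_contra h
  push Not at h
  exact hT ⟨⟨h⟩⟩

/-- A homomorphism from a power of `T` onto `T` is a projection followed by an automorphism. -/
theorem surjective_hom_factor [Finite T] [Fintype ι] [DecidableEq ι] (hT : ¬ IsMulCommutative T)
    (ψ : (ι → T) →* T) (hψ : Function.Surjective ψ) :
    ∃ (i : ι) (f : MulAut T), ∀ n, ψ n = f (n i) := by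
  let P : ι → Subgroup (ι → T) := fun i => (MonoidHom.mulSingle (fun _ => T) i).range
  have hPn : ∀ i, (P i).Normal := fun i => ⟨by
    rintro _ ⟨t, rfl⟩ g
    refine ⟨g i * t * (g i)⁻¹, funext fun k => ?_⟩
    by_cases hk : k = i
    · subst hk; simp
    · simp [hk]⟩
  have huniq : ∀ i j, i ≠ j → (P i).map ψ = ⊤ → (P j).map ψ = ⊤ → False := by
    intro i j hij hi hj
    obtain ⟨a, b, hab⟩ := exists_not_commute hT
    obtain ⟨_, ⟨s, rfl⟩, rfl⟩ := (hi ▸ Subgroup.mem_top a : a ∈ (P i).map ψ)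
    obtain ⟨_, ⟨t, rfl⟩, rfl⟩ := (hj ▸ Subgroup.mem_top b : b ∈ (P j).map ψ)
    apply hab
    rw [← map_mul, ← map_mul]
    congr 1
    exact (Pi.mulSingle_commute (f := fun _ : ι => T) hij s t).eq
  obtain ⟨i, hi⟩ : ∃ i, (P i).map ψ = ⊤ := by
    by_contra h
    push Not at h
    obtain ⟨a, b, hab⟩ := exists_not_commute hT
    apply hab
    obtain ⟨x, rfl⟩ := hψ a
    have hx : x ∈ ψ.ker := by
      apply Subgroup.pi_mem_of_mulSingle_mem
      intro k
      have hk := ((map_eq_bot_or_top ψ hψ (hP := hPn k) (P k)).resolve_right (h k))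
      have : ψ (Pi.mulSingle k (x k)) ∈ (P k).map ψ := ⟨_, ⟨x k, rfl⟩, rfl⟩
      rw [hk] at this
      exact this
    rw [MonoidHom.mem_ker.mp hx, one_mul, mul_one]
  let g : T →* T := ψ.comp (MonoidHom.mulSingle (fun _ => T) i)
  have hg : Function.Surjective g := by
    intro t
    obtain ⟨_, ⟨s, rfl⟩, rfl⟩ := (hi ▸ Subgroup.mem_top t : t ∈ (P i).map ψ)
    exact ⟨s, rfl⟩
  refine ⟨i, MulEquiv.ofBijective g ⟨Finite.injective_iff_surjective.mpr hg, hg⟩, fun n => ?_⟩
  change ψ n = ψ (Pi.mulSingle i (n i))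
  rw [← inv_mul_eq_one, ← map_inv, ← map_mul, ← MonoidHom.mem_ker]
  apply Subgroup.pi_mem_of_mulSingle_mem
  intro k
  by_cases hk : k = i
  · subst hk
    simp
  · have hk' := (map_eq_bot_or_top ψ hψ (hP := hPn k) (P k)).resolve_right fun h => huniq k i hk h hi
    have : ψ (Pi.mulSingle k (((n⁻¹ * Pi.mulSingle i (n i)) : ι → T) k)) ∈ (P k).map ψ :=
      ⟨_, ⟨_, rfl⟩, rfl⟩
    rw [hk'] at this
    exact this

/-- An automorphism of a power of `T` permutes the coordinates. -/
theorem mulAut_pi [Finite T] [Fintype ι] [DecidableEq ι] (hT : ¬ IsMulCommutative T)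
    (α : MulAut (ι → T)) :
    ∃ (τ : Equiv.Perm ι) (f : ι → MulAut T), ∀ n j, α n j = f j (n (τ j)) := by
  have h := fun j => surjective_hom_factor hT ((Pi.evalMonoidHom (fun _ => T) j).comp α.toMonoidHom)
    ((Function.surjective_eval j).comp α.surjective)
  choose τ f hf using h
  have hsurj : Function.Surjective τ := by
    intro i
    by_contra hi
    push Not at hi
    obtain ⟨t, ht⟩ := exists_ne (1 : T)
    apply ht
    have : α (Pi.mulSingle i t) = 1 := funext fun j => by
      have := hf j (Pi.mulSingle i t)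
      simp only [Pi.mulSingle_eq_of_ne (hi j), map_one] at this
      exact this
    rw [map_eq_one_iff α α.injective, Pi.mulSingle_eq_one_iff] at this
    exact this
  exact ⟨Equiv.ofBijective τ ⟨Finite.injective_iff_surjective.mpr hsurj, hsurj⟩, f, fun n j => hf j n⟩

/-- A subdirect subgroup realises any values on pairwise inequivalent coordinates. -/
theorem subdirect_agree [DecidableEq ι] (hT : ¬ IsMulCommutative T) (X : Subgroup (ι → T))
    (hX : ∀ i t, ∃ x ∈ X, x i = t) (S : Finset ι)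
    (hS : ∀ r ∈ S, ∀ s ∈ S, r ≠ s → ∃ x ∈ X, x s = 1 ∧ x r ≠ 1)
    (n : ι → T) : ∃ x ∈ X, ∀ s ∈ S, x s = n s := by
  let π : ι → X →* T := fun i => (Pi.evalMonoidHom (fun _ => T) i).comp X.subtype
  have hπ : ∀ i, Function.Surjective (π i) := fun i t => by
    obtain ⟨x, hx, rfl⟩ := hX i t
    exact ⟨⟨x, hx⟩, rfl⟩
  let Y : Finset ι → Subgroup X := fun U => ⨅ s ∈ U, (π s).ker
  have hYn : ∀ U, (Y U).Normal := fun U =>
    Subgroup.normal_iInf_normal fun s => Subgroup.normal_iInf_normal fun _ => inferInstance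
  have hYmem : ∀ U (x : X), x ∈ Y U ↔ ∀ s ∈ U, (x : ι → T) s = 1 := by
    intro U x
    simp [Y, π, MonoidHom.mem_ker, Subgroup.mem_iInf]
  have key : ∀ r ∈ S, ∀ U : Finset ι, U ⊆ S → r ∉ U → (Y U).map (π r) = ⊤ := by
    intro r hr U
    induction U using Finset.induction_on with
    | empty =>
      intro _ _
      have : Y ∅ = ⊤ := by simp [Y]
      rw [this, Subgroup.map_top_of_surjective _ (hπ r)]
    | @insert s U hsU ih =>
      intro hsub hrU
      rw [Finset.mem_insert, not_or] at hrU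
      rw [Finset.insert_subset_iff] at hsub
      have h1 := ih hsub.2 hrU.2
      have h2 : (π s).ker.map (π r) = ⊤ := by
        refine (map_eq_bot_or_top (π r) (hπ r) _).resolve_left fun hbot => ?_
        obtain ⟨x, hx, hxs, hxr⟩ := hS r hr s hsub.1 hrU.1
        exact hxr (Subgroup.mem_bot.mp (hbot ▸ ⟨⟨x, hx⟩, hxs, rfl⟩ : (x r) ∈ (⊥ : Subgroup T)))
      refine (map_eq_bot_or_top (π r) (hπ r) (hP := hYn _) _).resolve_left fun hbot => ?_
      obtain ⟨a, b, hab⟩ := exists_not_commute hT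
      obtain ⟨x, hx, rfl⟩ := (h1 ▸ Subgroup.mem_top a : a ∈ (Y U).map (π r))
      obtain ⟨y, hy, rfl⟩ := (h2 ▸ Subgroup.mem_top b : b ∈ (π s).ker.map (π r))
      apply hab
      have hmem : x * y * x⁻¹ * y⁻¹ ∈ Y (insert s U) := by
        rw [hYmem]
        intro u hu
        rw [Finset.mem_insert] at hu
        rcases hu with rfl | hu
        · have : (y : ι → T) u = 1 := hy
          simp [this]
        · have := (hYmem U x).mp hx u hu
          simp [this]
      have h3 : π r (x * y * x⁻¹ * y⁻¹) ∈ (⊥ : Subgroup T) := hbot ▸ ⟨_, hmem, rfl⟩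
      rw [Subgroup.mem_bot, map_mul, map_mul, map_mul, map_inv, map_inv] at h3
      rwa [mul_inv_eq_one, mul_inv_eq_iff_eq_mul] at h3
  suffices h : ∀ U : Finset ι, U ⊆ S → ∃ x ∈ X, ∀ s ∈ U, x s = n s from h S subset_rfl
  intro U
  induction U using Finset.induction_on with
  | empty => exact fun _ => ⟨1, X.one_mem, by simp⟩
  | @insert r U hrU ih =>
    intro hsub
    rw [Finset.insert_subset_iff] at hsub
    obtain ⟨x, hx, hxU⟩ := ih hsub.2
    obtain ⟨y, hy, hyr⟩ := ((key r hsub.1 U hsub.2 hrU) ▸ Subgroup.mem_top ((x r)⁻¹ * n r) :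
      (x r)⁻¹ * n r ∈ (Y U).map (π r))
    refine ⟨x * y, X.mul_mem hx y.2, fun s hs => ?_⟩
    rw [Finset.mem_insert] at hs
    rcases hs with rfl | hs
    · have hyr' : (y : ι → T) s = (x s)⁻¹ * n s := hyr
      rw [Pi.mul_apply, hyr', mul_inv_cancel_left]
    · rw [Pi.mul_apply, (hYmem U y).mp hy s hs, mul_one, hxU s hs]

/-- A subdirect subgroup is diagonal over blocks, up to automorphisms of the factors. -/
theorem subdirect_structure [Finite T] [Fintype ι] [DecidableEq ι] (hT : ¬ IsMulCommutative T)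
    (X : Subgroup (ι → T)) (hX : ∀ i t, ∃ x ∈ X, x i = t) :
    ∃ (c : ι → ι) (g : ι → MulAut T), (∀ i, c (c i) = c i) ∧
      (∀ i j, c i = c j ↔ ∀ x ∈ X, (x i = 1 ↔ x j = 1)) ∧
      ∀ n : ι → T, n ∈ X ↔ ∀ i j, c i = c j → g i (n i) = g j (n j) := by
  classical
  let r : Setoid ι := ⟨fun i j => ∀ x ∈ X, (x i = 1 ↔ x j = 1),
    fun _ _ _ => Iff.rfl, fun h x hx => (h x hx).symm, fun h h' x hx => (h x hx).trans (h' x hx)⟩
  let c : ι → ι := fun i => (Quotient.mk r i).out
  have hc : ∀ i j, c i = c j ↔ ∀ x ∈ X, (x i = 1 ↔ x j = 1) := fun i j =>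
    ⟨fun h => Quotient.exact (Quotient.out_injective h), fun h => congrArg Quotient.out (Quotient.sound h)⟩
  have hcc : ∀ i, c (c i) = c i := fun i => congrArg Quotient.out (Quotient.out_eq _)
  have hwd : ∀ i, ∀ x ∈ X, ∀ y ∈ X, (x i = y i ↔ x (c i) = y (c i)) := fun i x hx y hy => by
    simpa [mul_inv_eq_one] using (hc i (c i)).mp (hcc i).symm (x * y⁻¹) (X.mul_mem hx (X.inv_mem hy))
  choose s hs hs' using hX
  have hG : ∀ i, ∃ g : MulAut T, ∀ x ∈ X, g (x i) = x (c i) := by
    intro i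
    let g : T →* T :=
      { toFun := fun t => s i t (c i)
        map_one' := (hwd i _ (hs i 1) 1 X.one_mem).mp (hs' i 1)
        map_mul' := fun a b => (hwd i _ (hs i (a * b)) (s i a * s i b) (X.mul_mem (hs i a) (hs i b))).mp
          (by simp [hs']) }
    have hgx : ∀ x ∈ X, g (x i) = x (c i) := fun x hx => (hwd i _ (hs i (x i)) x hx).mp (hs' i _)
    have hg : Function.Surjective g := fun t =>
      ⟨s (c i) t i, (hgx _ (hs (c i) t)).trans (hs' (c i) t)⟩
    exact ⟨MulEquiv.ofBijective g ⟨Finite.injective_iff_surjective.mpr hg, hg⟩, hgx⟩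
  choose g hg using hG
  refine ⟨c, g, hcc, hc, fun n => ⟨fun hn i j hij => by rw [hg i n hn, hg j n hn, hij], fun hn => ?_⟩⟩
  have hgc : ∀ i, g (c i) (n (c i)) = n (c i) := fun i => by
    have h1 := hg (c i) (s (c i) (n (c i))) (hs _ _)
    rw [hcc i, hs'] at h1
    exact h1
  obtain ⟨x, hx, hxS⟩ := subdirect_agree hT X (fun i t => ⟨s i t, hs i t, hs' i t⟩)
    (Finset.univ.image c) (by
      intro a ha b hb hab
      simp only [Finset.mem_image, Finset.mem_univ, true_and] at ha hb
      obtain ⟨i, rfl⟩ := ha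
      obtain ⟨j, rfl⟩ := hb
      by_contra hcon
      push Not at hcon
      apply hab
      rw [← hcc i, ← hcc j, hc]
      intro x hx
      refine ⟨fun h => ?_, fun h => hcon x hx h⟩
      let πi : X →* T := (Pi.evalMonoidHom (fun _ => T) (c i)).comp X.subtype
      let πj : X →* T := (Pi.evalMonoidHom (fun _ => T) (c j)).comp X.subtype
      have hle : πj.ker ≤ πi.ker := fun y hy => hcon y y.2 hy
      have hsi : Function.Surjective πi := fun t => ⟨⟨_, hs (c i) t⟩, hs' (c i) t⟩
      have hsj : Function.Surjective πj := fun t => ⟨⟨_, hs (c j) t⟩, hs' (c j) t⟩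
      have heq : πj.ker = πi.ker := Subgroup.eq_of_le_of_card_ge hle (by
        have h1 := πj.ker.card_mul_index
        have h2 := πi.ker.card_mul_index
        rw [Subgroup.index_ker, MonoidHom.range_eq_top.mpr hsj, Subgroup.card_top] at h1
        rw [Subgroup.index_ker, MonoidHom.range_eq_top.mpr hsi, Subgroup.card_top] at h2
        exact (Nat.eq_of_mul_eq_mul_right Nat.card_pos (h2.trans h1.symm)).le)
      exact (heq ▸ (h : (⟨x, hx⟩ : X) ∈ πi.ker) : (⟨x, hx⟩ : X) ∈ πj.ker)) n
  have : x = n := funext fun i => (g i).injective (by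
    rw [hg i x hx, hn i (c i) (hcc i).symm, hgc i]
    exact hxS _ (Finset.mem_image_of_mem c (Finset.mem_univ i)))
  exact this ▸ hx

end H58.SimplePower
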