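import Cfsg.Agent.H61.CharSimple
import Cfsg.Agent.H58.SimplePower

/-!
The point stabiliser in the socle of a primitive group with unique non-abelian minimal
normal subgroup.
-/

set_option autoImplicit false

namespace H58

open MulAction

theorem onan_scott_core {α : Type*} [Finite α] (H : Subgroup (Equiv.Perm α))
    [IsPreprimitive H α] (N : Subgroup H) [N.Normal] (hN : N ≠ ⊥)
    (hmin : ∀ M : Subgroup H, M.Normal → M ≤ N → M = ⊥ ∨ M = N)
    (hnab : ¬ IsMulCommutative N) (a : α) :
    ∃ (T : Type) (_ : Group T) (m : ℕ) (e : N ≃* (Fin m → T)),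
      IsSimpleGroup T ∧ ¬ IsMulCommutative T ∧ 0 < m ∧
      ((∃ K : Fin m → Subgroup T, (∀ i, K i ≠ ⊤) ∧
          ∀ n : N, (n : H) ∈ stabilizer H a ↔ ∀ i, e n i ∈ K i) ∨
       (∃ (k : ℕ) (c : Fin m → Fin m), 2 ≤ k ∧
          (∀ j : Fin m, Nat.card {i : Fin m // c i = j} = k ∨ Nat.card {i : Fin m // c i = j} = 0) ∧
          ∀ n : N, (n : H) ∈ stabilizer H a ↔ ∀ i j : Fin m, c i = c j → e n i = e n j)) := by
  classical
  obtain ⟨T, _, _, m, hm, ⟨e⟩⟩ := H61.exists_mulEquiv_pi_of_minimal_normal N inferInstance hN hmin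
  have hT : ¬ IsMulCommutative T := fun h => hnab ⟨⟨fun x y =>
    e.injective (by rw [map_mul, map_mul]; exact funext fun i => h.is_comm.comm _ _)⟩⟩
  haveI : Finite T :=
    Finite.of_injective (fun t => e.symm (Pi.mulSingle (⟨0, hm⟩ : Fin m) t))
      (e.symm.injective.comp (Pi.mulSingle_injective _))
  set K := stabilizer H a with hK
  let X : Subgroup (Fin m → T) := (K.subgroupOf N).map e.toMonoidHom
  have hXmem : ∀ n : N, e n ∈ X ↔ (n : H) ∈ K := fun n =>
    Subgroup.mem_map_equiv.trans (by simp [Subgroup.mem_subgroupOf])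
  -- the socle moves the point
  have hnle : ¬ N ≤ K := by
    intro hle
    apply hN
    rw [Subgroup.eq_bot_iff_forall]
    intro n hn
    refine Subtype.ext (Equiv.ext fun b => ?_)
    obtain ⟨g, rfl⟩ := IsPretransitive.exists_smul_eq (M := H) a b
    have : g⁻¹ * n * g ∈ K := hle (by simpa using Subgroup.Normal.conj_mem ‹N.Normal› n hn g⁻¹)
    rw [hK, mem_stabilizer_iff, mul_smul, mul_smul, inv_smul_eq_iff] at this
    exact this
  haveI : Nontrivial α := by
    by_contra h
    rw [not_nontrivial_iff_subsingleton] at h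
    exact hnle fun n _ => Subsingleton.elim _ _
  have hco : IsCoatom K := (isCoatom_stabilizer_iff_preprimitive H a).mpr inferInstance
  have hsup : K ⊔ N = ⊤ := hco.2 _ (lt_of_le_of_ne le_sup_left fun h => hnle (h ▸ le_sup_right))
  have hdecomp : ∀ h : H, ∃ k ∈ K, ∃ n ∈ N, k * n = h := by
    intro h
    have : h ∈ K ⊔ N := hsup ▸ Subgroup.mem_top h
    rw [← SetLike.mem_coe, Subgroup.mul_normal] at this
    exact Set.mem_mul.mp this
  -- conjugation permutes the coordinates
  have hconj : ∀ h : H, ∃ (τ : Equiv.Perm (Fin m)) (f : Fin m → MulAut T),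
      ∀ n j, e (MulAut.conjNormal h n) j = f j (e n (τ j)) := by
    intro h
    obtain ⟨τ, f, hf⟩ := SimplePower.mulAut_pi hT ((e.symm.trans (MulAut.conjNormal h)).trans e)
    exact ⟨τ, f, fun n j => by simpa using hf (e n) j⟩
  choose τ f hf using hconj
  have hKX : ∀ k ∈ K, ∀ n : N, (n : H) ∈ K → ((MulAut.conjNormal k n : N) : H) ∈ K := by
    intro k hk n hn
    rw [MulAut.conjNormal_apply]
    exact K.mul_mem (K.mul_mem hk hn) (K.inv_mem hk)
  -- the coordinates are permuted transitively
  have htr : ∀ i₀ j : Fin m, ∃ k ∈ K, τ k i₀ = j := by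
    intro i₀ j
    by_contra hno
    push Not at hno
    let Λ : K → N →* T := fun k =>
      ((Pi.evalMonoidHom (fun _ => T) i₀).comp e.toMonoidHom).comp (MulAut.conjNormal (k : H)).toMonoidHom
    let M : Subgroup N := ⨅ k : K, (Λ k).ker
    have hMn : M.Normal := Subgroup.normal_iInf_normal fun k => inferInstance
    have hMK : ∀ k ∈ K, ∀ x ∈ M, MulAut.conjNormal k x ∈ M := by
      intro k hk x hx
      rw [Subgroup.mem_iInf] at hx ⊢
      intro l
      have := hx ⟨l.1 * k, K.mul_mem l.2 hk⟩
      rw [MonoidHom.mem_ker] at this ⊢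
      simpa [Λ, map_mul] using this
    have hM' : (M.map N.subtype).Normal := ⟨by
      rintro _ ⟨x, hx, rfl⟩ h
      obtain ⟨k, hk, n, hn, rfl⟩ := hdecomp h
      refine ⟨MulAut.conjNormal k (⟨n, hn⟩ * x * ⟨n, hn⟩⁻¹), hMK k hk _ (hMn.conj_mem x hx _), ?_⟩
      simp [MulAut.conjNormal_apply, mul_assoc]⟩
    obtain ⟨t, ht⟩ := exists_ne (1 : T)
    rcases hmin _ hM' (Subgroup.map_subtype_le M) with hb | hb
    · have hmem : e.symm (Pi.mulSingle j t) ∈ M := by
        rw [Subgroup.mem_iInf]
        intro k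
        rw [MonoidHom.mem_ker]
        simp [Λ, hf, Pi.mulSingle_eq_of_ne (hno k k.2)]
      rw [Subgroup.map_eq_bot_iff_of_injective _ N.subtype_injective] at hb
      rw [hb, Subgroup.mem_bot] at hmem
      apply ht
      have := congrArg e hmem
      rwa [e.apply_symm_apply, map_one, Pi.mulSingle_eq_one_iff] at this
    · have hmem : e.symm (Pi.mulSingle i₀ t) ∈ M :=
        (Subgroup.mem_map_iff_mem N.subtype_injective).mp (by rw [hb]; exact SetLike.coe_mem _)
      rw [Subgroup.mem_iInf] at hmem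
      have := hmem ⟨1, K.one_mem⟩
      rw [MonoidHom.mem_ker] at this
      exact ht (by simpa [Λ] using this)
  -- an invariant subgroup above the stabiliser is the stabiliser or everything
  have hmaxX : ∀ Y : Subgroup (Fin m → T), X ≤ Y →
      (∀ k ∈ K, ∀ n : N, e n ∈ Y → e (MulAut.conjNormal k n) ∈ Y) → Y = X ∨ Y = ⊤ := by
    intro Y hXY hinv
    let Y' : Subgroup H := (Y.comap e.toMonoidHom).map N.subtype
    have hnorm : K ≤ Subgroup.normalizer (Y' : Set H) := by
      intro k hk
      rw [Subgroup.mem_normalizer_iff]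
      intro y
      constructor
      · rintro ⟨x, hx, rfl⟩
        exact ⟨MulAut.conjNormal k x, hinv k hk x hx, MulAut.conjNormal_apply k x⟩
      · rintro ⟨x, hx, hxy⟩
        refine ⟨MulAut.conjNormal k⁻¹ x, hinv _ (K.inv_mem hk) x hx, ?_⟩
        simp only [Subgroup.coe_subtype] at hxy ⊢
        rw [MulAut.conjNormal_apply, hxy]
        group
    by_cases hYK : K ⊔ Y' = K
    · left
      refine le_antisymm (fun x hx => ?_) hXY
      obtain ⟨n, rfl⟩ := e.surjective x
      exact (hXmem n).mpr (hYK ▸ Subgroup.mem_sup_right ⟨n, hx, rfl⟩)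
    · right
      have htop : K ⊔ Y' = ⊤ := hco.2 _ (lt_of_le_of_ne le_sup_left (Ne.symm hYK))
      rw [eq_top_iff]
      intro x _
      obtain ⟨n, rfl⟩ := e.surjective x
      have hn : (n : H) ∈ K ⊔ Y' := htop ▸ Subgroup.mem_top _
      rw [← SetLike.mem_coe, Subgroup.coe_mul_of_left_le_normalizer_right _ _ hnorm] at hn
      obtain ⟨k, hk, y, ⟨x, hx, rfl⟩, hkx⟩ := hn
      have hk' : ((n * x⁻¹ : N) : H) ∈ K := by
        simpa [← hkx] using hk
      have := Y.mul_mem (hXY ((hXmem (n * x⁻¹)).mpr hk')) hx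
      simpa using this
  have hXne : X ≠ ⊤ := fun h => hnle fun n hn =>
    (hXmem ⟨n, hn⟩).mp (h ▸ Subgroup.mem_top _)
  refine ⟨T, inferInstance, m, ?_⟩
  by_cases hproj : ∀ i t, ∃ x ∈ X, x i = t
  · -- diagonal case
    obtain ⟨c, g, hcc, hc, hX⟩ := SimplePower.subdirect_structure hT X hproj
    refine ⟨e.trans (MulEquiv.piCongrRight g), inferInstance, hT, hm, Or.inr ?_⟩
    let i₀ : Fin m := ⟨0, hm⟩
    refine ⟨Nat.card {i : Fin m // c i = c i₀}, c, ?_, fun j => ?_, fun n => ?_⟩
    · -- a preserved relation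
      by_contra hlt
      apply hXne
      rw [eq_top_iff]
      intro n _
      rw [hX]
      intro i j hij
      obtain ⟨k, hk, rfl⟩ := htr i₀ i
      have hsub : Subsingleton {i : Fin m // c i = c i₀} := by
        rw [← Finite.card_le_one_iff_subsingleton]; omega
      have hj : c ((τ k).symm j) = c i₀ := by
        rw [hc]
        intro x hx
        obtain ⟨u, rfl⟩ := e.surjective x
        have := (hc _ _).mp hij (e (MulAut.conjNormal k⁻¹ u))
          ((hXmem _).mpr (hKX _ (K.inv_mem hk) u ((hXmem u).mp hx)))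
        have hu : ∀ l, e u l = f k l (e (MulAut.conjNormal k⁻¹ u) (τ k l)) := fun l => by
          rw [← hf]
          simp [map_inv]
        rw [hu i₀, hu ((τ k).symm j)]
        simp only [map_eq_one_iff _ (MulEquiv.injective _), Equiv.apply_symm_apply]
        exact this.symm
      have : (τ k).symm j = i₀ := congrArg Subtype.val
        (hsub.elim ⟨(τ k).symm j, hj⟩ ⟨i₀, rfl⟩)
      rw [Equiv.symm_apply_eq] at this
      rw [this]
    · by_cases hj : ∃ i, c i = j
      · left
        obtain ⟨i, rfl⟩ := hj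
        obtain ⟨k, hk, hki⟩ := htr i₀ i
        refine Nat.card_congr ((τ k).symm.subtypeEquiv fun l => ?_)
        rw [hc, hc]
        constructor
        · intro h x hx
          obtain ⟨u, rfl⟩ := e.surjective x
          have := h (e (MulAut.conjNormal k⁻¹ u))
            ((hXmem _).mpr (hKX _ (K.inv_mem hk) u ((hXmem u).mp hx)))
          have hu : ∀ l, e u l = f k l (e (MulAut.conjNormal k⁻¹ u) (τ k l)) := fun l => by
            rw [← hf]
            simp [map_inv]
          rw [hu i₀, hu ((τ k).symm l), hki]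
          simp only [map_eq_one_iff _ (MulEquiv.injective _), Equiv.apply_symm_apply]
          exact this
        · intro h x hx
          obtain ⟨u, rfl⟩ := e.surjective x
          have := h (e (MulAut.conjNormal k u)) ((hXmem _).mpr (hKX _ hk u ((hXmem u).mp hx)))
          rw [hf, hf, hki, Equiv.apply_symm_apply] at this
          simpa only [map_eq_one_iff _ (MulEquiv.injective _)] using this
      · right
        push Not at hj
        haveI : IsEmpty {i : Fin m // c i = j} := ⟨fun i => hj i i.2⟩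
        exact Nat.card_of_isEmpty
    · rw [← hXmem, hX]
      rfl
  · -- product case
    push Not at hproj
    obtain ⟨i₁, t₁, ht₁⟩ := hproj
    let P : Fin m → Subgroup T := fun i => X.map (Pi.evalMonoidHom (fun _ => T) i)
    have hP : ∀ i, P i ≠ ⊤ := by
      intro i hi
      obtain ⟨k, hk, rfl⟩ := htr i₁ i
      obtain ⟨x, hx, hxt⟩ : (f k i₁).symm t₁ ∈ P (τ k i₁) := hi ▸ Subgroup.mem_top _
      obtain ⟨u, rfl⟩ := e.surjective x
      refine ht₁ _ ((hXmem _).mpr (hKX _ hk u ((hXmem u).mp hx))) ?_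
      rw [hf]
      simp only [Pi.evalMonoidHom_apply] at hxt
      rw [hxt, MulEquiv.apply_symm_apply]
    refine ⟨e, inferInstance, hT, hm, Or.inl ⟨P, hP, fun n => ?_⟩⟩
    let Y : Subgroup (Fin m → T) := Subgroup.pi Set.univ P
    have hY : Y = X := by
      refine (hmaxX Y (fun x hx i _ => ⟨x, hx, rfl⟩) fun k hk u hu i _ => ?_).resolve_right ?_
      · obtain ⟨x, hx, hxu⟩ := hu (τ k i) trivial
        obtain ⟨v, rfl⟩ := e.surjective x
        refine ⟨_, (hXmem _).mpr (hKX _ hk v ((hXmem v).mp hx)), ?_⟩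
        simp only [Pi.evalMonoidHom_apply] at hxu ⊢
        rw [hf, hf, hxu]
      · intro h
        apply hP i₁
        rw [eq_top_iff]
        intro t _
        simpa using (h ▸ Subgroup.mem_top (Pi.mulSingle (M := fun _ => T) i₁ t) :
          Pi.mulSingle (M := fun _ => T) i₁ t ∈ Y) i₁ trivial
    rw [← hXmem, ← hY]
    simp [Y, Subgroup.mem_pi]

end H58
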