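import Cfsg.Prelude.Def_Perm
import Mathlib

/-!
The permutation module: intertwiners as functions on pair-orbits, and transitive actions of
prime-power degree in defining characteristic (the constants are the unique minimal submodule).
-/

set_option autoImplicit false
set_option linter.unusedSectionVars false

namespace H58

open MulAction

variable {G : Type*} [Group G] {K : Type*} [Field K]

theorem permRep_single {Ω : Type*} [DecidableEq Ω] [MulAction G Ω] (g : G) (x : Ω) :
    Cfsg.permRep K G Ω g (Pi.single x 1) = Pi.single (g • x) 1 := by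
  funext y
  change (Pi.single x (1 : K) : Ω → K) (g⁻¹ • y) = _
  simp [Pi.single_apply, inv_smul_eq_iff]

theorem finrank_intertwiners_eq {Ω₁ Ω₂ : Type*} [Fintype Ω₁] [Fintype Ω₂] [MulAction G Ω₁]
    [MulAction G Ω₂] :
    Module.finrank K ((Cfsg.permRep K G Ω₁).linHom (Cfsg.permRep K G Ω₂)).invariants =
      Nat.card (MulAction.orbitRel.Quotient G (Ω₁ × Ω₂)) := by
  classical
  haveI : Fintype (MulAction.orbitRel.Quotient G (Ω₁ × Ω₂)) := Fintype.ofFinite _
  let E : ((Ω₁ → K) →ₗ[K] (Ω₂ → K)) →ₗ[K] (Ω₁ × Ω₂ → K) :=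
    { toFun := fun f q => f (Pi.single q.1 1) q.2
      map_add' := fun f g => rfl
      map_smul' := fun c f => rfl }
  have hE : Function.Injective E := by
    intro f g h
    refine LinearMap.pi_ext' fun i => LinearMap.ext_ring (funext fun j => ?_)
    exact congrFun h (i, j)
  let Q : (MulAction.orbitRel.Quotient G (Ω₁ × Ω₂) → K) →ₗ[K] (Ω₁ × Ω₂ → K) :=
    LinearMap.funLeft K K Quotient.mk''
  have hQ : Function.Injective Q :=
    LinearMap.funLeft_injective_of_surjective K K _ Quotient.mk''_surjective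
  set ρ := (Cfsg.permRep K G Ω₁).linHom (Cfsg.permRep K G Ω₂)
  have key : ∀ (g : G) f x y, E (ρ g f) (x, y) = E f (g⁻¹ • x, g⁻¹ • y) := by
    intro g f x y
    change (Cfsg.permRep K G Ω₂ g (f (Cfsg.permRep K G Ω₁ g⁻¹ (Pi.single x 1)))) y = _
    rw [permRep_single]
    rfl
  have hrange : ρ.invariants.map E = LinearMap.range Q := by
    apply le_antisymm
    · rintro _ ⟨f, hf, rfl⟩
      refine ⟨Quotient.lift (E f) ?_, funext fun q => rfl⟩
      rintro ⟨x, y⟩ ⟨x', y'⟩ ⟨g, hg⟩
      have := key g f x y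
      rw [(Representation.mem_invariants _ _).mp hf g] at this
      simp only [Prod.smul_mk, Prod.mk.injEq] at hg
      rw [this, ← hg.1, ← hg.2, inv_smul_smul, inv_smul_smul]
    · rintro _ ⟨φ, rfl⟩
      obtain ⟨f, hf⟩ : ∃ f, E f = Q φ := by
        refine ⟨∑ q : Ω₁ × Ω₂, Q φ q • (LinearMap.single K (fun _ : Ω₂ => K) q.2).comp
          (LinearMap.proj q.1), ?_⟩
        funext q
        rw [map_sum, Finset.sum_apply, Finset.sum_eq_single q]
        · simp [E]
        · rintro ⟨x, y⟩ _ hne
          simp only [E, LinearMap.coe_mk, AddHom.coe_mk, LinearMap.smul_apply,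
            LinearMap.comp_apply, LinearMap.proj_apply, LinearMap.coe_single, Pi.smul_apply]
          by_cases hx : x = q.1
          · have hy : y ≠ q.2 := fun hy => hne (Prod.ext hx hy)
            simp [hy.symm]
          · simp [hx]
        · simp
      refine ⟨f, (Representation.mem_invariants _ _).mpr fun g => hE (funext fun q => ?_), hf⟩
      obtain ⟨x, y⟩ := q
      rw [key, hf]
      change φ _ = φ _
      exact congrArg φ (Quotient.sound ⟨g⁻¹, rfl⟩)
  rw [(Submodule.equivMapOfInjective E hE ρ.invariants).finrank_eq, hrange,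
    LinearMap.finrank_range_of_inj hQ, Module.finrank_fintype_fun_eq_card,
    Nat.card_eq_fintype_card]

variable [Finite G] {p f : ℕ} [Fact p.Prime] {Ω : Type*} [Fintype Ω] [MulAction G Ω]
  [MulAction.IsPretransitive G Ω]

/-- A Sylow `p`-subgroup is transitive on a set of `p`-power size. -/
theorem sylow_isPretransitive (P : Sylow p G) (hcard : Fintype.card Ω = p ^ f) :
    MulAction.IsPretransitive (P : Subgroup G) Ω := by
  classical
  have hp : p.Prime := Fact.out
  haveI : Nonempty Ω := Fintype.card_pos_iff.mp (hcard ▸ pow_pos hp.pos f)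
  obtain ⟨a⟩ := (inferInstance : Nonempty Ω)
  obtain ⟨k, hk⟩ := P.isPGroup'.card_orbit a
  have hG : Nat.card (MulAction.stabilizer G a) * p ^ f = Nat.card G := by
    rw [← Subgroup.card_mul_index (MulAction.stabilizer G a),
      MulAction.index_stabilizer_of_transitive, Nat.card_eq_fintype_card (α := Ω), hcard]
  have hcP := Nat.card_congr (MulAction.orbitProdStabilizerEquivGroup (P : Subgroup G) a)
  rw [Nat.card_prod, hk] at hcP
  have hdvd : Nat.card (MulAction.stabilizer (P : Subgroup G) a) ∣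
      Nat.card (MulAction.stabilizer G a) :=
    Subgroup.card_dvd_of_injective
      ((((P : Subgroup G).subtype).comp (MulAction.stabilizer (P : Subgroup G) a).subtype).codRestrict
        (MulAction.stabilizer G a) (fun x => x.2))
      (fun x y h => Subtype.ext (Subtype.ext
        (congrArg (fun z : MulAction.stabilizer G a => (z : G)) h)))
  have hfk : f ≤ k := by
    by_contra h
    have hsub : p ^ (f - k) * Nat.card (P : Subgroup G) ∣ Nat.card G := by
      rw [← hcP, ← hG]
      have e1 : p ^ (f - k) * (p ^ k * Nat.card (MulAction.stabilizer (P : Subgroup G) a)) =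
          Nat.card (MulAction.stabilizer (P : Subgroup G) a) * p ^ f := by
        rw [← mul_assoc, ← pow_add, Nat.sub_add_cancel (by omega), mul_comm]
      rw [e1]
      exact Nat.mul_dvd_mul_right hdvd _
    rw [← Subgroup.card_mul_index (P : Subgroup G), mul_comm (p ^ _),
      Nat.mul_dvd_mul_iff_left Nat.card_pos] at hsub
    exact P.not_dvd_index ((dvd_pow_self p (by omega)).trans hsub)
  have huniv : MulAction.orbit (P : Subgroup G) a = Set.univ := by
    refine Set.eq_of_subset_of_ncard_le (Set.subset_univ _) ?_ Set.finite_univ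
    rw [Set.ncard_univ, Nat.card_eq_fintype_card, hcard, ← Nat.card_coe_set_eq, hk]
    exact Nat.pow_le_pow_right hp.pos hfk
  refine ⟨fun x y => ?_⟩
  obtain ⟨u, hu⟩ := (huniv.symm ▸ Set.mem_univ x : x ∈ MulAction.orbit (P : Subgroup G) a)
  obtain ⟨v, hv⟩ := (huniv.symm ▸ Set.mem_univ y : y ∈ MulAction.orbit (P : Subgroup G) a)
  exact ⟨v * u⁻¹, by rw [← hu, mul_smul, inv_smul_smul]; exact hv⟩

theorem constants_le_of_ne_bot [CharP K p] (hcard : Fintype.card Ω = p ^ f)
    (W : Subrepresentation (Cfsg.permRep K G Ω)) (hW : W.toSubmodule ≠ ⊥) :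
    (Cfsg.permConstants K G Ω).toSubmodule ≤ W.toSubmodule := by
  classical
  have hp : p.Prime := Fact.out
  obtain ⟨P⟩ := (inferInstance : Nonempty (Sylow p G))
  haveI := sylow_isPretransitive P hcard
  obtain ⟨v, hvW, hv⟩ := (Submodule.ne_bot_iff _).mp hW
  -- values of the translates of `v` lie in a finite additive group
  let A : AddSubgroup (Ω → K) := AddSubgroup.closure (Set.range fun g : G => Cfsg.permRep K G Ω g v)
  have hAW : ∀ w ∈ A, w ∈ W.toSubmodule := by
    intro w hw
    refine (AddSubgroup.closure_le (K := W.toSubmodule.toAddSubgroup)).mpr ?_ hw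
    rintro _ ⟨g, rfl⟩
    exact W.apply_mem_toSubmodule g hvW
  have hAinv : ∀ (g : G), ∀ w ∈ A, Cfsg.permRep K G Ω g w ∈ A := by
    intro g w hw
    induction hw using AddSubgroup.closure_induction with
    | mem x hx =>
      obtain ⟨h, rfl⟩ := hx
      refine AddSubgroup.subset_closure ⟨g * h, ?_⟩
      simp only [map_mul]; rfl
    | zero => rw [map_zero]; exact A.zero_mem
    | add x y _ _ hx hy => rw [map_add]; exact A.add_mem hx hy
    | neg x _ hx => rw [map_neg]; exact A.neg_mem hx
  have hpA : ∀ w : A, p • w = 0 := by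
    intro w
    refine Subtype.ext (funext fun x => ?_)
    simp
  haveI : AddGroup.FG A := by
    exact (AddGroup.fg_iff_addSubgroup_fg A).mpr ⟨(Set.range fun g : G => Cfsg.permRep K G Ω g v).toFinite.toFinset, by simp [A]⟩
  haveI : Finite A :=
    AddCommGroup.finite_of_fg_torsion A
      (fun w => isOfFinAddOrder_iff_nsmul_eq_zero.mpr ⟨p, hp.pos, hpA w⟩)
  letI actA : MulAction (P : Subgroup G) A :=
    { smul := fun g w => ⟨Cfsg.permRep K G Ω (g : G) w, hAinv _ _ w.2⟩
      one_smul := fun w => Subtype.ext (by change Cfsg.permRep K G Ω ((1 : (P : Subgroup G)) : G) w = w; simp)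
      mul_smul := fun g h w => Subtype.ext (by
        change Cfsg.permRep K G Ω ((g * h : (P : Subgroup G)) : G) w = _
        rw [Subgroup.coe_mul, map_mul]; rfl) }
  have hvA : v ∈ A := AddSubgroup.subset_closure ⟨1, by simp⟩
  have hdvd : p ∣ Nat.card A := by
    have h1 : addOrderOf (⟨v, hvA⟩ : A) = p :=
      addOrderOf_eq_prime (hpA _) (fun h => hv (congrArg Subtype.val h))
    exact h1 ▸ addOrderOf_dvd_natCard _
  have hzero : (0 : A) ∈ MulAction.fixedPoints (P : Subgroup G) A := fun g => Subtype.ext (map_zero _)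
  obtain ⟨w, hw, hw0⟩ := P.isPGroup'.exists_fixed_point_of_prime_dvd_card_of_fixed_point A hdvd hzero
  have hw0' : (w : Ω → K) ≠ 0 := fun h => hw0.symm (Subtype.ext h)
  obtain ⟨a, ha⟩ := Function.ne_iff.mp hw0'
  have hconst : ∀ x, (w : Ω → K) x = (w : Ω → K) a := by
    intro x
    obtain ⟨g, hg⟩ := MulAction.exists_smul_eq (P : Subgroup G) x a
    have h1 : Cfsg.permRep K G Ω (g : G) (w : Ω → K) = (w : Ω → K) := congrArg Subtype.val (hw g)
    have h2 := congrFun h1 a
    change (w : Ω → K) ((g : G)⁻¹ • a) = _ at h2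
    rw [← h2, ← hg]
    exact congrArg (w : Ω → K) (inv_smul_smul (g : G) x).symm
  refine Submodule.span_le.mpr (Set.singleton_subset_iff.mpr ?_)
  have : (fun _ => 1 : Ω → K) = ((w : Ω → K) a)⁻¹ • (w : Ω → K) := by
    funext x
    rw [Pi.smul_apply, smul_eq_mul, hconst x, inv_mul_cancel₀ ha]
  rw [SetLike.mem_coe, this]
  exact W.toSubmodule.smul_mem _ (hAW _ w.2)

theorem proper_le_sumZero [CharP K p] (hcard : Fintype.card Ω = p ^ f)
    (W : Subrepresentation (Cfsg.permRep K G Ω)) (hW : W.toSubmodule ≠ ⊤) :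
    W.toSubmodule ≤ (Cfsg.permSumZero K G Ω).toSubmodule := by
  classical
  let U : Subrepresentation (Cfsg.permRep K G Ω) :=
    { toSubmodule :=
        { carrier := {u | ∀ w ∈ W.toSubmodule, ∑ x, u x * w x = 0}
          add_mem' := fun {a b} ha hb w hw => by
            simp only [Pi.add_apply, add_mul, Finset.sum_add_distrib, ha w hw, hb w hw, add_zero]
          zero_mem' := fun w hw => by simp
          smul_mem' := fun c u hu w hw => by
            simp only [Pi.smul_apply, smul_eq_mul, mul_assoc, ← Finset.mul_sum, hu w hw, mul_zero] }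
      apply_mem_toSubmodule := fun g u hu w hw => by
        rw [← hu _ (W.apply_mem_toSubmodule g⁻¹ hw)]
        refine Fintype.sum_equiv (MulAction.toPerm g⁻¹) _ _ fun x => ?_
        change u (g⁻¹ • x) * w x = u (g⁻¹ • x) * w (g⁻¹⁻¹ • g⁻¹ • x)
        rw [inv_inv, smul_inv_smul] }
  have hU : U.toSubmodule ≠ ⊥ := by
    intro h
    obtain ⟨φ, hφ, hφW⟩ := Submodule.exists_le_ker_of_lt_top _ (lt_top_iff_ne_top.mpr hW)
    apply hφ
    refine LinearMap.pi_ext' fun x => LinearMap.ext_ring ?_
    have hmem : (fun x => φ (Pi.single x 1)) ∈ U.toSubmodule := by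
      intro w hw
      have hw' : φ w = 0 := hφW hw
      rw [← hw']
      conv_rhs => rw [pi_eq_sum_univ' w, map_sum]
      exact Finset.sum_congr rfl fun y _ => by rw [map_smul, smul_eq_mul, mul_comm]
    rw [h, Submodule.mem_bot] at hmem
    exact congrFun hmem x
  intro w hw
  change ∑ x, w x = 0
  have := constants_le_of_ne_bot hcard U hU (Submodule.subset_span rfl) w hw
  simpa using this

theorem two_pretransitive_of_no_trivial_factor [CharP K p] (hf : 1 ≤ f)
    (hcard : Fintype.card Ω = p ^ f)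
    (h : ∀ W W' : Subrepresentation (Cfsg.permRep K G Ω),
      (Cfsg.permConstants K G Ω).toSubmodule ≤ W.toSubmodule → W.toSubmodule < W'.toSubmodule →
      W'.toSubmodule ≤ (Cfsg.permSumZero K G Ω).toSubmodule →
      ∃ g : G, ∃ v ∈ W'.toSubmodule, Cfsg.permRep K G Ω g v - v ∉ W.toSubmodule) :
    MulAction.IsMultiplyPretransitive G Ω 2 := by
  classical
  have hp : p.Prime := Fact.out
  have h2card : 2 ≤ Fintype.card Ω := by
    rw [hcard]; exact le_trans hp.two_le (Nat.le_self_pow (by omega) p)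
  obtain ⟨a, b, hab⟩ := Fintype.exists_pair_of_one_lt_card (α := Ω) (by omega)
  by_cases hall : ∀ c, c ≠ a → ∃ g : G, g • a = a ∧ g • b = c
  · rw [MulAction.is_two_pretransitive_iff]
    have key : ∀ u v : Ω, u ≠ v → ∃ g : G, g • a = u ∧ g • b = v := by
      intro u v huv
      obtain ⟨g, hg⟩ := MulAction.exists_smul_eq G a u
      obtain ⟨k, hk, hk'⟩ := hall (g⁻¹ • v) (fun h0 => huv (by rw [← hg, ← h0, smul_inv_smul]))
      exact ⟨g * k, by rw [mul_smul, hk, hg], by rw [mul_smul, hk', smul_inv_smul]⟩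
    intro u v u' v' h1 h1'
    obtain ⟨g, hg, hg'⟩ := key u v h1
    obtain ⟨g', hh, hh'⟩ := key u' v' h1'
    exact ⟨g' * g⁻¹, by rw [← hg, mul_smul, inv_smul_smul, hh],
      by rw [← hg', mul_smul, inv_smul_smul, hh']⟩
  exfalso
  push Not at hall
  obtain ⟨c, hca, hc⟩ := hall
  -- orbit functions on pairs
  let O : Ω → Ω → Ω → K := fun d x y => if ∃ g : G, g • a = x ∧ g • d = y then 1 else 0
  have hO : ∀ d (g : G) x y, O d (g • x) (g • y) = O d x y := fun d g x y => by
    refine if_congr ⟨fun ⟨k, h0, h1⟩ => ⟨g⁻¹ * k, ?_, ?_⟩, fun ⟨k, h0, h1⟩ => ⟨g * k, ?_, ?_⟩⟩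
      rfl rfl <;> simp [mul_smul, h0, h1]
  have hOself : ∀ d, O d a d = 1 := fun d => if_pos ⟨1, one_smul _ _, one_smul _ _⟩
  have hOac : O b a c = 0 := if_neg fun ⟨k, h0, h1⟩ => hc k h0 h1
  have hOaa : ∀ d, d ≠ a → O d a a = 0 := fun d hd =>
    if_neg fun ⟨k, h0, h1⟩ => hd ((MulAction.injective k) (h1.trans h0.symm))
  have hrow : ∀ d x, ∑ y, O d x y = ∑ y, O d a y := by
    intro d x
    obtain ⟨g, rfl⟩ := MulAction.exists_smul_eq G a x
    exact (Fintype.sum_equiv (MulAction.toPerm g) _ _ fun y => (hO d g a y).symm).symm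
  obtain ⟨M, hMinv, hMrow, u, v, huv⟩ : ∃ M : Ω → Ω → K,
      (∀ (g : G) x y, M (g • x) (g • y) = M x y) ∧ (∀ x, ∑ y, M x y = 0) ∧
      ∃ u v, M a u ≠ M a v := by
    set k₁ := ∑ y, O b a y with hk₁
    set k₂ := ∑ y, O c a y with hk₂
    by_cases h0 : k₁ = 0
    · exact ⟨O b, hO b, fun x => by rw [hrow, ← hk₁, h0], b, c, by
        rw [hOself, hOac]; exact one_ne_zero⟩
    · refine ⟨fun x y => k₂ * O b x y - k₁ * O c x y, fun g x y => by simp only [hO],
        fun x => ?_, c, a, ?_⟩
      · rw [Finset.sum_sub_distrib, ← Finset.mul_sum, ← Finset.mul_sum, hrow b, hrow c, ← hk₁,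
          ← hk₂]
        ring
      · simp only [hOac, hOself, hOaa b hab.symm, hOaa c hca]
        simpa using h0
  let B : (Ω → K) →ₗ[K] (Ω → K) := LinearMap.pi fun x => ∑ y, M x y • LinearMap.proj y
  have hB : ∀ w x, B w x = ∑ y, M x y * w y := by intro w x; simp [B]
  have hBcomm : ∀ (g : G) w, B (Cfsg.permRep K G Ω g w) = Cfsg.permRep K G Ω g (B w) := by
    intro g w
    funext x
    change B (fun z => w (g⁻¹ • z)) x = B w (g⁻¹ • x)
    rw [hB, hB]
    refine (Fintype.sum_equiv (MulAction.toPerm g) _ _ fun y => ?_).symm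
    change M (g⁻¹ • x) y * w y = M x (g • y) * w (g⁻¹ • g • y)
    rw [inv_smul_smul, ← hMinv g (g⁻¹ • x) y, smul_inv_smul]
  have hB1 : B (fun _ => 1) = 0 := by funext x; simp [hB, hMrow]
  let S := (Cfsg.permSumZero K G Ω).toSubmodule
  let W : Subrepresentation (Cfsg.permRep K G Ω) :=
    { toSubmodule := S.map B
      apply_mem_toSubmodule := by
        rintro g _ ⟨w, hw, rfl⟩
        exact ⟨_, (Cfsg.permSumZero K G Ω).apply_mem_toSubmodule g hw, hBcomm g w⟩ }
  let W' : Subrepresentation (Cfsg.permRep K G Ω) :=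
    { toSubmodule := LinearMap.range B
      apply_mem_toSubmodule := by
        rintro g _ ⟨w, rfl⟩
        exact ⟨_, hBcomm g w⟩ }
  let ker : Subrepresentation (Cfsg.permRep K G Ω) :=
    { toSubmodule := LinearMap.ker B
      apply_mem_toSubmodule := fun g w hw => by
        rw [LinearMap.mem_ker] at hw ⊢
        rw [hBcomm, hw, map_zero] }
  have hw0 : (Pi.single u 1 - Pi.single v 1 : Ω → K) ∈ S := by
    change ∑ d, (Pi.single u 1 - Pi.single v 1 : Ω → K) d = 0
    simp [Finset.sum_sub_distrib]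
  have hBw : B (Pi.single u 1 - Pi.single v 1) ≠ 0 := by
    intro h0
    have := congrFun h0 a
    rw [hB] at this
    simp [mul_sub, Finset.sum_sub_distrib, Pi.single_apply] at this
    exact huv (sub_eq_zero.mp this)
  have hW1 : (Cfsg.permConstants K G Ω).toSubmodule ≤ W.toSubmodule :=
    constants_le_of_ne_bot hcard W ((Submodule.ne_bot_iff _).mpr ⟨_, ⟨_, hw0, rfl⟩, hBw⟩)
  have hW'2 : W'.toSubmodule ≤ S := by
    refine proper_le_sumZero hcard W' fun htop => ?_
    have hsurj : Function.Surjective B := LinearMap.range_eq_top.mp htop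
    have hinj := LinearMap.injective_iff_surjective.mpr hsurj
    have h1 := hinj (hB1.trans (map_zero B).symm)
    exact one_ne_zero (congrFun h1 a)
  have hker : LinearMap.ker B ≤ S :=
    proper_le_sumZero hcard ker fun htop =>
      hBw (LinearMap.mem_ker.mp (htop.ge (Submodule.mem_top (x := Pi.single u 1 - Pi.single v 1))))
  have hlt : W.toSubmodule < W'.toSubmodule := by
    refine lt_of_le_of_ne LinearMap.map_le_range fun heq => ?_
    have hmem : B (Pi.single a 1) ∈ W.toSubmodule := heq.ge ⟨_, rfl⟩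
    obtain ⟨w, hw, hwe⟩ := hmem
    have hd : w - Pi.single a 1 ∈ S := hker (LinearMap.mem_ker.mpr (by rw [map_sub, hwe, sub_self]))
    have h1 := S.sub_mem hw hd
    rw [sub_sub_cancel] at h1
    have h2 : ∑ d, (Pi.single a 1 : Ω → K) d = 0 := h1
    simp at h2
  obtain ⟨g, w, ⟨w₀, rfl⟩, hnot⟩ := h W W' hW1 hlt hW'2
  refine hnot ⟨Cfsg.permRep K G Ω g w₀ - w₀, ?_, by rw [map_sub, hBcomm]⟩
  change ∑ x, (w₀ (g⁻¹ • x) - w₀ x) = 0
  rw [Finset.sum_sub_distrib, sub_eq_zero]
  exact Fintype.sum_equiv (MulAction.toPerm g⁻¹) _ _ fun x => rfl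

end H58
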