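import Mathlib

/-!
Regular normal subgroups of doubly and triply primitive groups.
-/

set_option autoImplicit false
set_option linter.unusedSectionVars false

namespace H58

open MulAction
open scoped Pointwise

variable {G : Type*} [Group G] {X : Type*} [MulAction G X]

theorem regular_inj {N : Subgroup G} (hreg : ∀ x : X, MulAction.stabilizer N x = ⊥) {m m' : G}
    (hm : m ∈ N) (hm' : m' ∈ N) {x : X} (h : m • x = m' • x) : m = m' := by
  have h1 : (⟨m'⁻¹ * m, N.mul_mem (N.inv_mem hm') hm⟩ : N) ∈ MulAction.stabilizer N x := by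
    change (m'⁻¹ * m) • x = x
    rw [mul_smul, h, inv_smul_smul]
  rw [hreg, Subgroup.mem_bot] at h1
  exact (inv_mul_eq_one.mp (congrArg Subtype.val h1)).symm

theorem conj_smul_of_fix {g m : G} {x : X} (hg : g • x = x) : (g * m * g⁻¹) • x = g • m • x := by
  rw [mul_smul, mul_smul, inv_smul_eq_iff.mpr hg.symm]

/-- If conjugation by the pointwise stabiliser `K` of `s ∋ x` respects the pair `{m, m'}` and `K`
is primitive outside `s`, then the pair is a point or exhausts the complement of `s`. -/
theorem pair_trivial {N : Subgroup G} [hN : N.Normal]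
    (hreg : ∀ x : X, MulAction.stabilizer N x = ⊥) {s : Set X} {x : X} (hx : x ∈ s)
    (hprim : MulAction.IsPreprimitive (fixingSubgroup G s) (SubMulAction.ofFixingSubgroup G s))
    {m m' : G} (hm : m ∈ N) (hm' : m' ∈ N) (hms : m • x ∉ s) (hm's : m' • x ∉ s)
    (hpair : ∀ g ∈ fixingSubgroup G s, ∀ u v : G, (u = m ∨ u = m') → (v = m ∨ v = m') →
      g * u * g⁻¹ = v → ({g * m * g⁻¹, g * m' * g⁻¹} : Set G) = {m, m'}) :
    m = m' ∨ ∀ z : X, z ∉ s → z = m • x ∨ z = m' • x := by
  let a : SubMulAction.ofFixingSubgroup G s := ⟨m • x, hms⟩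
  let b : SubMulAction.ofFixingSubgroup G s := ⟨m' • x, hm's⟩
  have hB : MulAction.IsBlock (fixingSubgroup G s)
      ({a, b} : Set (SubMulAction.ofFixingSubgroup G s)) := by
    rw [MulAction.isBlock_iff_smul_eq_or_disjoint]
    intro g
    rw [or_iff_not_imp_right]
    intro hd
    obtain ⟨z, hz1, hz2⟩ := Set.not_disjoint_iff.mp hd
    have hgx : (g : G) • x = x := (mem_fixingSubgroup_iff G).mp g.2 x hx
    obtain ⟨w, hw, rfl⟩ := hz1
    obtain ⟨u, hu, hue⟩ : ∃ u : G, (u = m ∨ u = m') ∧ (w : X) = u • x := by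
      rcases hw with rfl | rfl
      exacts [⟨m, Or.inl rfl, rfl⟩, ⟨m', Or.inr rfl, rfl⟩]
    obtain ⟨v, hv, hve⟩ : ∃ v : G, (v = m ∨ v = m') ∧ (g : G) • (w : X) = v • x := by
      rcases hz2 with h | h
      exacts [⟨m, Or.inl rfl, congrArg Subtype.val h⟩, ⟨m', Or.inr rfl, congrArg Subtype.val h⟩]
    have hmem : ∀ r, (r = m ∨ r = m') → r ∈ N := by rintro r (rfl | rfl) <;> assumption
    have h1 : (g : G) * u * (g : G)⁻¹ = v :=
      regular_inj hreg (hN.conj_mem u (hmem u hu) g) (hmem v hv)
        (by rw [conj_smul_of_fix hgx, ← hue, hve])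
    have h2 := congrArg (fun A : Set G => (· • x) '' A) (hpair g g.2 u v hu hv h1)
    simp only [Set.image_pair, conj_smul_of_fix hgx] at h2
    apply (Set.image_injective.mpr Subtype.val_injective)
    rw [Set.smul_set_insert, Set.smul_set_singleton, Set.image_pair, Set.image_pair]
    exact h2
  rcases hprim.isTrivialBlock_of_isBlock hB with h | h
  · left
    exact regular_inj hreg hm hm' (congrArg Subtype.val (h (Set.mem_insert a {b}) (Set.mem_insert_of_mem a rfl)))
  · right
    intro z hz
    have : (⟨z, hz⟩ : SubMulAction.ofFixingSubgroup G s) ∈ ({a, b} : Set _) := h ▸ Set.mem_univ _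
    rcases this with h' | h'
    exacts [Or.inl (congrArg Subtype.val h'), Or.inr (congrArg Subtype.val h')]

variable [Fintype X]

theorem two_primitive_regular (hX : 2 ≤ Fintype.card X)
    (h2 : MulAction.IsMultiplyPreprimitive G X 2) (N : Subgroup G) [hN : N.Normal]
    (htrans : MulAction.IsPretransitive N X) (hreg : ∀ x : X, MulAction.stabilizer N x = ⊥) :
    Fintype.card X = 3 ∨ (IsMulCommutative N ∧ (∀ n ∈ N, n ^ 2 = 1) ∧
      ∃ m : ℕ, Fintype.card X = 2 ^ m) := by
  classical
  haveI : Nonempty X := Fintype.card_pos_iff.mp (by omega)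
  obtain ⟨x⟩ := (inferInstance : Nonempty X)
  by_cases h3 : Fintype.card X = 3
  · exact Or.inl h3
  right
  have hsq : ∀ n ∈ N, n ^ 2 = 1 := by
    intro n hn
    by_cases hn1 : n = 1
    · simp [hn1]
    have hfix : ∀ r ∈ N, r ≠ 1 → r • x ∉ ({x} : Set X) := fun r hr hr1 h =>
      hr1 (regular_inj hreg hr N.one_mem (x := x) (by rw [one_smul]; exact h))
    have hn1' : n⁻¹ ≠ 1 := fun h => hn1 (inv_eq_one.mp h)
    rw [pow_two, mul_eq_one_iff_eq_inv]
    by_contra hne
    rcases pair_trivial hreg (Set.mem_singleton x)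
      (h2.isPreprimitive_ofFixingSubgroup (by simp; rfl)) hn (N.inv_mem hn)
      (hfix n hn hn1) (hfix _ (N.inv_mem hn) hn1') (by
        intro g _ u v hu hv huv
        have e : g * n⁻¹ * g⁻¹ = (g * n * g⁻¹)⁻¹ := by group
        have hc : g * n * g⁻¹ = n ∨ g * n * g⁻¹ = n⁻¹ := by
          rcases hu with rfl | rfl
          · rw [huv]; exact hv
          · rw [e, inv_eq_iff_eq_inv] at huv
            rw [huv]
            rcases hv with rfl | rfl
            exacts [Or.inr rfl, Or.inl (inv_inv n)]
        rw [e]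
        rcases hc with h | h <;> rw [h]
        rw [inv_inv, Set.pair_comm]) with h | h
    · exact hne h
    · have hle : (Finset.univ : Finset X) ⊆ {x, n • x, n⁻¹ • x} := fun z _ => by
        by_cases hz : z = x
        · simp [hz]
        · rcases h z hz with h' | h' <;> simp [h']
      have hcard := (Finset.card_le_card hle).trans Finset.card_le_three
      rw [Finset.card_univ] at hcard
      have h3' : ({x, n • x, n⁻¹ • x} : Finset X).card = 3 := Finset.card_eq_three.mpr
        ⟨_, _, _, fun e => hfix n hn hn1 e.symm, fun e => hfix _ (N.inv_mem hn) hn1' e.symm,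
          fun e => hne (regular_inj hreg hn (N.inv_mem hn) e), rfl⟩
      exact h3 (le_antisymm hcard (h3' ▸ Finset.card_le_univ _))
  refine ⟨⟨⟨fun a b => Subtype.ext ?_⟩⟩, hsq, ?_⟩
  · have h1 := hsq _ (N.mul_mem a.2 b.2)
    have ha : (a : G)⁻¹ = a := inv_eq_of_mul_eq_one_right (by rw [← pow_two]; exact hsq _ a.2)
    have hb : (b : G)⁻¹ = b := inv_eq_of_mul_eq_one_right (by rw [← pow_two]; exact hsq _ b.2)
    rw [pow_two] at h1
    have := inv_eq_of_mul_eq_one_right h1
    rw [mul_inv_rev, ha, hb] at this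
    exact this.symm
  · haveI : Fact (Nat.Prime 2) := ⟨Nat.prime_two⟩
    have hb : Function.Bijective fun n : N => (n : G) • x :=
      ⟨fun a b h => Subtype.ext (regular_inj hreg a.2 b.2 h),
        fun z => MulAction.exists_smul_eq N x z⟩
    haveI : Finite N := Finite.of_injective _ hb.1
    have hP : IsPGroup 2 N := fun n => ⟨1, Subtype.ext (by simpa using hsq n n.2)⟩
    obtain ⟨j, hj⟩ := IsPGroup.iff_card.mp hP
    exact ⟨j, by rw [← hj, Nat.card_congr (Equiv.ofBijective _ hb), Nat.card_eq_fintype_card]⟩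

theorem three_primitive_regular (hX : 3 ≤ Fintype.card X)
    (h3 : MulAction.IsMultiplyPreprimitive G X 3) (N : Subgroup G) [hN : N.Normal]
    (htrans : MulAction.IsPretransitive N X) (hreg : ∀ x : X, MulAction.stabilizer N x = ⊥) :
    Fintype.card X = 3 ∨ Fintype.card X = 4 := by
  classical
  by_cases h : Fintype.card X = 3
  · exact Or.inl h
  right
  have h2 : MulAction.IsMultiplyPreprimitive G X 2 :=
    MulAction.isMultiplyPreprimitive_of_le G X h3 (by norm_num)
      (by rw [ENat.card_eq_coe_fintype_card]; exact_mod_cast hX)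
  obtain ⟨-, hsq, -⟩ := (two_primitive_regular (by omega) h2 N htrans hreg).resolve_left h
  haveI : Nonempty X := Fintype.card_pos_iff.mp (by omega)
  obtain ⟨x⟩ := (inferInstance : Nonempty X)
  have hb : ∀ z : X, ∃ n ∈ N, n • x = z := fun z => by
    obtain ⟨n, hn⟩ := MulAction.exists_smul_eq N x z
    exact ⟨n, n.2, hn⟩
  have hpick : ∀ S : Finset X, S.card < Fintype.card X → ∃ z, z ∉ S := fun S hS => by
    by_contra! hh
    have : Fintype.card X ≤ S.card := by
      rw [← Finset.card_univ]; exact Finset.card_le_card fun z _ => hh z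
    omega
  obtain ⟨y, hy⟩ := hpick {x} (by simp; omega)
  obtain ⟨z, hz⟩ := hpick {x, y} (lt_of_le_of_lt Finset.card_le_two (by omega))
  simp only [Finset.mem_singleton] at hy
  simp only [Finset.mem_insert, Finset.mem_singleton, not_or] at hz
  obtain ⟨n, hn, rfl⟩ := hb y
  obtain ⟨m, hm, rfl⟩ := hb z
  have hinv : ∀ r ∈ N, r⁻¹ = r := fun r hr =>
    inv_eq_of_mul_eq_one_right (by rw [← pow_two]; exact hsq r hr)
  have hcomm : ∀ a ∈ N, ∀ b ∈ N, a * b = b * a := fun a ha b hb => by
    have := hinv _ (N.mul_mem ha hb)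
    rw [mul_inv_rev, hinv a ha, hinv b hb] at this
    exact this.symm
  have hnn : n * n = 1 := by rw [← pow_two]; exact hsq n hn
  have hs : ∀ r ∈ N, r ≠ 1 → r ≠ n → r • x ∉ ({x, n • x} : Set X) := by
    intro r hr h1 h2' h
    rcases h with h | h
    · exact h1 (regular_inj hreg hr N.one_mem (by rw [one_smul]; exact h))
    · exact h2' (regular_inj hreg hr hn h)
  have hm1 : m ≠ 1 := fun e => hz.1 (by rw [e, one_smul])
  have hmn : m ≠ n := fun e => hz.2 (by rw [e])
  have hnm1 : n * m ≠ 1 := fun e => hmn (by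
    rw [← mul_left_cancel (a := n) (e.trans hnn.symm)])
  have hnmn : n * m ≠ n := fun e => hm1 (mul_eq_left.mp e)
  rcases pair_trivial hreg (s := ({x, n • x} : Set X)) (x := x) (Set.mem_insert _ _)
    (h3.isPreprimitive_ofFixingSubgroup (by
      rw [Set.encard_pair (fun e => hy e.symm)]; rfl)) hm (N.mul_mem hn hm) (hs m hm hm1 hmn)
    (hs _ (N.mul_mem hn hm) hnm1 hnmn) (by
      intro g hg u v hu hv huv
      have hgx := (mem_fixingSubgroup_iff G).mp hg x (Set.mem_insert _ _)
      have hgy := (mem_fixingSubgroup_iff G).mp hg (n • x) (Set.mem_insert_of_mem _ rfl)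
      have hgn : g * n * g⁻¹ = n :=
        regular_inj hreg (hN.conj_mem n hn g) hn (by rw [conj_smul_of_fix hgx, hgy])
      have hmul : g * (n * m) * g⁻¹ = n * (g * m * g⁻¹) := by
        calc g * (n * m) * g⁻¹ = (g * n * g⁻¹) * (g * m * g⁻¹) := by group
          _ = n * (g * m * g⁻¹) := by rw [hgn]
      have hcase : g * m * g⁻¹ = m ∨ g * m * g⁻¹ = n * m := by
        rcases hu with rfl | rfl
        · rcases hv with rfl | rfl
          exacts [Or.inl huv, Or.inr huv]
        · rw [hmul] at huv
          rcases hv with rfl | rfl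
          · right
            calc g * v * g⁻¹ = n * n * (g * v * g⁻¹) := by rw [hnn, one_mul]
              _ = n * v := by rw [mul_assoc, huv]
          · exact Or.inl (mul_left_cancel huv)
      rcases hcase with h' | h'
      · rw [hmul, h']
      · rw [hmul, h', ← mul_assoc, hnn, one_mul, Set.pair_comm]) with h' | h'
  · exact absurd h'.symm (fun e => hy (by
      rw [show n = 1 from mul_eq_right.mp e, one_smul]))
  · have hle : (Finset.univ : Finset X) ⊆ {x, n • x, m • x, (n * m) • x} := fun w _ => by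
      by_cases hw : w ∈ ({x, n • x} : Set X)
      · rcases hw with rfl | rfl <;> simp
      · rcases h' w hw with e | e <;> simp [e]
    have := (Finset.card_le_card hle).trans Finset.card_le_four
    rw [Finset.card_univ] at this
    omega

end H58
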