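import Cfsg.Agent.H91.Jordan

/-!
A sharply 4-transitive action is on a finite set.
-/

set_option autoImplicit false

namespace H58

open MulAction

variable {G Ω : Type*} [Group G] [MulAction G Ω]

/-- Four distinct points as an embedding. -/
def four (a b c d : Ω) (h : [a, b, c, d].Nodup) : Fin 4 ↪ Ω :=
  ⟨![a, b, c, d], (List.nodup_ofFn (f := ![a, b, c, d])).mp (by simpa [List.ofFn_succ] using h)⟩

theorem sharp_four_finite (h4 : IsMultiplyPretransitive G Ω 4)
    (hsharp : ∀ x : Fin 4 ↪ Ω, stabilizer G x = ⊥) (hne : Nonempty (Fin 4 ↪ Ω)) : Finite Ω := by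
  classical
  have move : ∀ {a b c d a' b' c' d' : Ω}, [a, b, c, d].Nodup → [a', b', c', d'].Nodup →
      ∃ g : G, g • a = a' ∧ g • b = b' ∧ g • c = c' ∧ g • d = d' := by
    intro a b c d a' b' c' d' h h'
    obtain ⟨g, hg⟩ := h4.exists_smul_eq (four a b c d h) (four a' b' c' d' h')
    exact ⟨g, DFunLike.congr_fun hg 0, DFunLike.congr_fun hg 1, DFunLike.congr_fun hg 2,
      DFunLike.congr_fun hg 3⟩
  have fix4 : ∀ {a b c d : Ω}, [a, b, c, d].Nodup → ∀ g : G, g • a = a → g • b = b →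
      g • c = c → g • d = d → g = 1 := by
    intro a b c d h g h0 h1 h2 h3
    have : g ∈ stabilizer G (four a b c d h) := by
      refine DFunLike.ext _ _ fun i => ?_
      fin_cases i
      exacts [h0, h1, h2, h3]
    rwa [hsharp, Subgroup.mem_bot] at this
  have hfin : ∀ g : G, g ≠ 1 → {x : Ω | g • x = x}.Finite := by
    intro g hg
    by_contra hinf
    let e := Set.Infinite.natEmbedding _ hinf
    apply hg
    refine fix4 (a := (e 0 : Ω)) (b := e 1) (c := e 2) (d := e 3) ?_ g (e 0).2 (e 1).2 (e 2).2 (e 3).2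
    simp [Subtype.coe_inj]
  obtain ⟨w⟩ := hne
  obtain ⟨a, b, c, d, hab, hac, had, hbc, hbd, hcd⟩ :
      ∃ a b c d : Ω, a ≠ b ∧ a ≠ c ∧ a ≠ d ∧ b ≠ c ∧ b ≠ d ∧ c ≠ d :=
    ⟨w 0, w 1, w 2, w 3, w.injective.ne (by decide), w.injective.ne (by decide),
      w.injective.ne (by decide), w.injective.ne (by decide), w.injective.ne (by decide),
      w.injective.ne (by decide)⟩
  have hn : [a, b, c, d].Nodup := by simp [hab, hac, had, hbc, hbd, hcd]
  obtain ⟨t, ta, tb, tc, td⟩ := move hn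
    (show [b, a, c, d].Nodup by simp [hab.symm, hac, had, hbc, hbd, hcd])
  have ht1 : t ≠ 1 := fun h => hab (by rw [← ta, h, one_smul])
  have htt : t * t = 1 := fix4 hn _ (by rw [mul_smul, ta, tb]) (by rw [mul_smul, tb, ta])
    (by rw [mul_smul, tc, tc]) (by rw [mul_smul, td, td])
  have htinv : ∀ x : Ω, t • t • x = x := fun x => by rw [← mul_smul, htt, one_smul]
  set F := {x : Ω | t • x = x}
  haveI : Finite F := (hfin t ht1).to_subtype
  let C := {r : G | r • a = a ∧ r • b = b ∧ r * t = t * r}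
  have hC : C.Finite := by
    rw [← Set.finite_coe_iff]
    let f : C → (F → F) := fun r x => ⟨(r : G) • (x : Ω), by
      change t • (r : G) • (x : Ω) = (r : G) • (x : Ω)
      rw [← mul_smul, ← r.2.2.2, mul_smul, x.2]⟩
    refine Finite.of_injective f fun r r' h => Subtype.ext ?_
    have hc : (r : G) • c = (r' : G) • c := congrArg Subtype.val (congrFun h ⟨c, tc⟩)
    have hd : (r : G) • d = (r' : G) • d := congrArg Subtype.val (congrFun h ⟨d, td⟩)
    have := fix4 hn ((r' : G)⁻¹ * r)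
      (by rw [mul_smul, r.2.1, inv_smul_eq_iff]; exact r'.2.1.symm)
      (by rw [mul_smul, r.2.2.1, inv_smul_eq_iff]; exact r'.2.2.1.symm)
      (by rw [mul_smul, hc, inv_smul_smul]) (by rw [mul_smul, hd, inv_smul_smul])
    exact (inv_mul_eq_one.mp this).symm
  rw [← Set.finite_univ_iff]
  refine Set.Finite.subset ((((Set.finite_singleton a).insert b).union (hfin t ht1)).union
    (Set.Finite.biUnion hC fun r hr => hfin (r⁻¹ * t) fun h => hab ?_)) fun x _ => ?_
  · rw [← inv_mul_eq_one.mp h] at ta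
    exact hr.1.symm.trans ta
  by_cases hxF : t • x = x
  · exact Or.inl (Or.inr hxF)
  by_cases hxa : x = a
  · exact Or.inl (Or.inl (by simp [hxa]))
  by_cases hxb : x = b
  · exact Or.inl (Or.inl (by simp [hxb]))
  right
  have h1 : t • x ≠ a := fun h => hxb (by rw [← htinv x, h, ta])
  have h2 : t • x ≠ b := fun h => hxa (by rw [← htinv x, h, tb])
  have hn1 : [a, b, x, t • x].Nodup := by
    simp [hab, Ne.symm hxa, Ne.symm hxb, h1.symm, h2.symm, Ne.symm hxF]
  have hn2 : [a, b, t • x, x].Nodup := by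
    simp [hab, Ne.symm hxa, Ne.symm hxb, h1.symm, h2.symm, hxF]
  obtain ⟨r, ra, rb, rx, rx'⟩ := move hn1 hn2
  have hrt : r * t = t * r := by
    have := fix4 hn1 ((t * r)⁻¹ * (r * t))
      (by rw [mul_smul, inv_smul_eq_iff, mul_smul, mul_smul, ra, ta, rb])
      (by rw [mul_smul, inv_smul_eq_iff, mul_smul, mul_smul, rb, tb, ra])
      (by rw [mul_smul, inv_smul_eq_iff, mul_smul, mul_smul, rx', rx, htinv])
      (by rw [mul_smul, inv_smul_eq_iff, mul_smul, mul_smul, htinv, rx, rx'])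
    exact (inv_mul_eq_one.mp this).symm
  simp only [Set.mem_iUnion]
  exact ⟨r, ⟨ra, rb, hrt⟩, by
    change (r⁻¹ * t) • x = x
    rw [mul_smul, inv_smul_eq_iff, rx]⟩

end H58
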