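import Mathlib
import Cfsg.Agent.H58.JordanCriterion

/-!
Wielandt's theorem on primitive permutation groups of degree twice a prime, by an elementary
argument with a semiregular element of order `p` and the Fourier transform on its two orbits.
-/

set_option autoImplicit false
set_option linter.unusedSectionVars false

namespace H58.TwiceP

open scoped ComplexConjugate Pointwise
open Finset

/-- Coordinates given by a semiregular element of order `p` with two orbits. -/
structure Coord {α : Type*} (G : Subgroup (Equiv.Perm α)) (p : ℕ) where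
  e : Fin 2 × ZMod p ≃ α
  shift : ∀ i : ZMod p, ∃ g ∈ G, ∀ ε l, g (e (ε, l)) = e (ε, l + i)

section character

variable (p : ℕ) [NeZero p]

/-- The standard character modulo `p`. -/
noncomputable def χ : AddChar (ZMod p) ℂ :=
  AddChar.zmodChar p (Complex.isPrimitiveRoot_exp p (NeZero.ne p)).pow_eq_one

/-- Fourier coefficient at the standard character. -/
noncomputable def ev (f : ZMod p → ℚ) : ℂ := ∑ l, (f l : ℂ) * χ p (-l)

variable {p}

theorem conj_χ (l : ZMod p) : conj (χ p l) = χ p (-l) := (AddChar.map_neg_eq_conj _ _).symm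

theorem conj_ev (f : ZMod p → ℚ) : conj (ev p f) = ∑ l, (f l : ℂ) * χ p l := by
  simp [ev, map_sum, map_mul, conj_χ]

theorem ev_add (f g : ZMod p → ℚ) : ev p (f + g) = ev p f + ev p g := by
  simp [ev, add_mul, sum_add_distrib]

theorem ev_sub (f g : ZMod p → ℚ) : ev p (f - g) = ev p f - ev p g := by
  simp [ev, sub_mul, sum_sub_distrib]

theorem ev_smul (c : ℚ) (f : ZMod p → ℚ) : ev p (c • f) = c * ev p f := by
  simp [ev, mul_sum, mul_assoc]

theorem ev_delta (c : ℚ) : ev p (fun l => if l = 0 then c else 0) = c := by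
  simp only [ev]
  rw [Finset.sum_eq_single (0 : ZMod p)]
  · simp
  · intro l _ hl; simp [hl]
  · simp

theorem ev_neg (f : ZMod p → ℚ) : ev p (fun l => f (-l)) = conj (ev p f) := by
  rw [conj_ev]
  exact Fintype.sum_equiv (Equiv.neg _) _ _ (fun l => by simp)

theorem ev_corr (f g : ZMod p → ℚ) :
    ev p (fun l => ∑ j, f j * g (j + l)) = conj (ev p f) * ev p g := by
  rw [conj_ev, ev, ev, sum_mul_sum]
  simp only [Rat.cast_sum, Rat.cast_mul, sum_mul]
  rw [sum_comm]
  refine sum_congr rfl fun j _ => ?_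
  refine Fintype.sum_equiv (Equiv.addLeft j) _ _ (fun l => ?_)
  have h : χ p (-l) = χ p j * χ p (-(j + l)) := by
    rw [← AddChar.map_add_eq_mul]; congr 1; abel
  simp only [Equiv.coe_addLeft]
  rw [h]; ring

theorem sum_corr (f g : ZMod p → ℚ) :
    ∑ l, ∑ j, f j * g (j + l) = (∑ l, f l) * ∑ l, g l := by
  rw [sum_comm, sum_mul_sum]
  exact sum_congr rfl fun j _ => Fintype.sum_equiv (Equiv.addLeft j) _ _ (fun _ => rfl)

variable [Fact p.Prime]

open Polynomial in
theorem eq_const_of_ev_eq_zero (f : ZMod p → ℚ) (h : ev p f = 0) (l : ZMod p) : f l = f 0 := by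
  have hp : p.Prime := Fact.out
  set ζ : ℂ := Complex.exp (2 * Real.pi * Complex.I / p) with hζdef
  have hζ : IsPrimitiveRoot ζ p := Complex.isPrimitiveRoot_exp p hp.ne_zero
  have hχ : ∀ m : ZMod p, χ p m = ζ ^ m.val := fun m => AddChar.zmodChar_apply _ m
  let g : ZMod p → ℚ := fun m => f (-m)
  suffices hg : ∀ m : ZMod p, g m = g ((p - 1 : ℕ) : ZMod p) by
    have h1 := (hg (-l)).trans (hg 0).symm
    simpa [g] using h1
  set c := g ((p - 1 : ℕ) : ZMod p)
  have hsum : ∑ m : ZMod p, (g m : ℂ) * ζ ^ m.val = 0 := by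
    rw [← h, ev]
    exact Fintype.sum_equiv (Equiv.neg _) _ _ (fun m => by simp [g, hχ])
  have hgeom : ∑ m : ZMod p, ζ ^ m.val = 0 := by
    rw [← hζ.geom_sum_eq_zero hp.one_lt]
    refine Finset.sum_bij (fun m _ => m.val) (fun m _ => Finset.mem_range.mpr m.val_lt)
      (fun a _ b _ hab => ZMod.val_injective p hab)
      (fun b hb => ⟨(b : ZMod p), mem_univ _, ZMod.val_cast_of_lt (Finset.mem_range.mp hb)⟩)
      (fun _ _ => rfl)
  let q : ℚ[X] := ∑ m : ZMod p, monomial m.val (g m - c)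
  have hroot : aeval ζ q = 0 := by
    simp only [q, map_sum, aeval_monomial, eq_ratCast, Rat.cast_sub, sub_mul, sum_sub_distrib,
      ← mul_sum, hsum, hgeom, mul_zero, sub_zero]
  have hcoeff : ∀ m : ZMod p, q.coeff m.val = g m - c := by
    intro m
    simp only [q, finset_sum_coeff, coeff_monomial]
    rw [Finset.sum_eq_single m]
    · simp
    · intro b _ hb
      rw [if_neg]
      exact fun hbm => hb (ZMod.val_injective p hbm)
    · simp
  have hq : q = 0 := by
    by_contra hq
    have hdeg := natDegree_le_of_dvd (minpoly.dvd ℚ ζ hroot) hq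
    rw [← cyclotomic_eq_minpoly_rat hζ hp.pos, natDegree_cyclotomic, Nat.totient_prime hp] at hdeg
    have hle : q.natDegree ≤ p - 1 := by
      refine natDegree_sum_le_of_forall_le _ _ fun m _ => (natDegree_monomial_le _).trans ?_
      have := m.val_lt
      omega
    have hd : q.natDegree = p - 1 := le_antisymm hle hdeg
    have := leadingCoeff_ne_zero.mpr hq
    apply this
    rw [leadingCoeff, hd]
    have h1 := hcoeff ((p - 1 : ℕ) : ZMod p)
    rw [ZMod.val_cast_of_lt (by have := hp.pos; omega)] at h1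
    simpa [c] using h1
  intro m
  have := hcoeff m
  rw [hq, coeff_zero] at this
  linarith

end character

variable {α : Type*} [Fintype α] [DecidableEq α] (G : Subgroup (Equiv.Perm α))

/-- `G`-invariant rational matrices. -/
def Inv (Z : α → α → ℚ) : Prop := ∀ g ∈ G, ∀ u v, Z (g u) (g v) = Z u v

/-- A matrix applied to a function. -/
def app (Z : α → α → ℚ) (f : α → ℚ) (u : α) : ℚ := ∑ v, Z u v * f v

/-- Product of matrices. -/
def mul (Z W : α → α → ℚ) (u v : α) : ℚ := ∑ w, Z u w * W w v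

/-- The indicator of a point. -/
def single (x : α) (v : α) : ℚ := if v = x then 1 else 0

theorem app_single (Z : α → α → ℚ) (x : α) : app Z (single x) = fun u => Z u x := by
  funext u; simp [app, single]

theorem app_app (Z W : α → α → ℚ) (f : α → ℚ) : app Z (app W f) = app (mul Z W) f := by
  funext u
  simp only [app, mul, sum_mul, mul_sum]
  rw [sum_comm]
  exact sum_congr rfl fun v _ => sum_congr rfl fun w _ => by ring

theorem Inv.mul {Z W : α → α → ℚ} (hZ : Inv G Z) (hW : Inv G W) : Inv G (TwiceP.mul Z W) := by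
  intro g hg u v
  refine (Fintype.sum_equiv g _ _ fun w => ?_).symm
  rw [hZ g hg, hW g hg]

theorem Inv.transpose {Z : α → α → ℚ} (hZ : Inv G Z) : Inv G (fun u v => Z v u) :=
  fun g hg u v => hZ g hg v u

theorem Inv.app {Z : α → α → ℚ} (hZ : Inv G Z) {g : Equiv.Perm α} (hg : g ∈ G) (f : α → ℚ)
    (u : α) : TwiceP.app Z (f ∘ g) u = TwiceP.app Z f (g u) := by
  refine Fintype.sum_equiv g _ _ fun v => ?_
  rw [hZ g hg]; rfl

variable {p : ℕ} [hpf : Fact p.Prime] (C : Coord G p)

/-- A block of a matrix. -/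
def blk (Z : α → α → ℚ) (ε δ : Fin 2) (l : ZMod p) : ℚ := Z (C.e (ε, 0)) (C.e (δ, l))

/-- A block sum. -/
def sb (Z : α → α → ℚ) (ε δ : Fin 2) : ℚ := ∑ l, blk G C Z ε δ l

/-- The eigenvalue on the vector separating the two orbits. -/
def th (Z : α → α → ℚ) : ℚ := sb G C Z 0 0 - sb G C Z 0 1

/-- The vector separating the two orbits. -/
def v0 (x : α) : ℚ := if (C.e.symm x).1 = 0 then 1 else -1

/-- The Fourier transform of a function on the points. -/
noncomputable def Phi (f : α → ℚ) (ε : Fin 2) : ℂ := ∑ l, (f (C.e (ε, l)) : ℂ) * χ p l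

/-- The Fourier transform of a block. -/
noncomputable def mm (Z : α → α → ℚ) (ε δ : Fin 2) : ℂ := ev p (blk G C Z ε δ)

theorem sum_points {M : Type*} [AddCommMonoid M] (f : α → M) :
    ∑ v, f v = ∑ δ : Fin 2, ∑ l : ZMod p, f (C.e (δ, l)) := by
  rw [← Fintype.sum_prod_type' (f := fun δ l => f (C.e (δ, l)))]
  exact (Fintype.sum_equiv C.e _ _ fun _ => rfl).symm

theorem Z_apply {Z : α → α → ℚ} (hZ : Inv G Z) (ε δ : Fin 2) (i j : ZMod p) :
    Z (C.e (ε, i)) (C.e (δ, j)) = blk G C Z ε δ (j - i) := by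
  obtain ⟨g, hg, h⟩ := C.shift i
  have := hZ g hg (C.e (ε, 0)) (C.e (δ, j - i))
  rw [h, h, zero_add, sub_add_cancel] at this
  exact this

theorem app_apply {Z : α → α → ℚ} (hZ : Inv G Z) (f : α → ℚ) (ε : Fin 2) (i : ZMod p) :
    app Z f (C.e (ε, i)) = ∑ δ, ∑ l, blk G C Z ε δ l * f (C.e (δ, l + i)) := by
  rw [app, sum_points G C]
  refine sum_congr rfl fun δ _ => ?_
  refine Fintype.sum_equiv (Equiv.subRight i) _ _ fun j => ?_
  simp only [Equiv.subRight_apply, Z_apply G C hZ, sub_add_cancel]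

theorem blk_transpose {Z : α → α → ℚ} (hZ : Inv G Z) (ε δ : Fin 2) (l : ZMod p) :
    blk G C (fun u v => Z v u) ε δ l = blk G C Z δ ε (-l) := by
  change Z (C.e (δ, l)) (C.e (ε, 0)) = _
  rw [Z_apply G C hZ, zero_sub]

theorem sb_transpose {Z : α → α → ℚ} (hZ : Inv G Z) (ε δ : Fin 2) :
    sb G C (fun u v => Z v u) ε δ = sb G C Z δ ε := by
  refine Fintype.sum_equiv (Equiv.neg _) _ _ fun l => ?_
  simp [blk_transpose G C hZ]

theorem mm_transpose {Z : α → α → ℚ} (hZ : Inv G Z) (ε δ : Fin 2) :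
    mm G C (fun u v => Z v u) ε δ = conj (mm G C Z δ ε) := by
  rw [mm, show blk G C (fun u v => Z v u) ε δ = fun l => blk G C Z δ ε (-l) from
    funext (blk_transpose G C hZ ε δ), ev_neg]
  rfl

theorem Phi_app {Z : α → α → ℚ} (hZ : Inv G Z) (f : α → ℚ) (ε : Fin 2) :
    Phi G C (app Z f) ε = ∑ δ, mm G C Z ε δ * Phi G C f δ := by
  simp only [Phi, app_apply G C hZ, Rat.cast_sum, Rat.cast_mul, sum_mul, mm, ev]
  rw [sum_comm]
  refine sum_congr rfl fun δ _ => ?_
  rw [sum_comm]
  refine sum_congr rfl fun l _ => ?_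
  rw [mul_sum]
  refine Fintype.sum_equiv (Equiv.addLeft l) _ _ fun i => ?_
  have h : χ p i = χ p (-l) * χ p (l + i) := by
    rw [← AddChar.map_add_eq_mul]; congr 1; abel
  simp only [Equiv.coe_addLeft]
  rw [h]; ring

theorem Phi_single (δ ε : Fin 2) :
    Phi G C (single (C.e (δ, 0))) ε = if ε = δ then 1 else 0 := by
  simp only [Phi, single, C.e.injective.eq_iff, Prod.mk.injEq]
  rcases eq_or_ne ε δ with rfl | h
  · rw [Finset.sum_eq_single (0 : ZMod p)]
    · simp
    · intro l _ hl; simp [hl]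
    · simp
  · simp [h]

theorem mm_mul {Z W : α → α → ℚ} (hZ : Inv G Z) (hW : Inv G W) (ε δ : Fin 2) :
    mm G C (mul Z W) ε δ = ∑ γ, mm G C Z ε γ * mm G C W γ δ := by
  have key : ∀ {T : α → α → ℚ}, Inv G T → ∀ γ,
      Phi G C (app T (single (C.e (δ, 0)))) γ = mm G C T γ δ := fun hT γ => by
    simp [Phi_app G C hT, Phi_single]
  rw [← key (hZ.mul G hW), ← app_app, Phi_app G C hZ]
  simp [key hW]

variable [MulAction.IsPretransitive G α]

theorem exists_mem_apply (u v : α) : ∃ g ∈ G, g u = v := by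
  obtain ⟨g, hg⟩ := MulAction.exists_smul_eq G u v
  exact ⟨g, g.2, hg⟩

theorem row_sum {Z : α → α → ℚ} (hZ : Inv G Z) (u w : α) : ∑ v, Z u v = ∑ v, Z w v := by
  obtain ⟨g, hg, rfl⟩ := exists_mem_apply G u w
  exact Fintype.sum_equiv g _ _ fun v => (hZ g hg u v).symm

theorem row_sum_blk {Z : α → α → ℚ} (ε : Fin 2) :
    ∑ v, Z (C.e (ε, 0)) v = sb G C Z ε 0 + sb G C Z ε 1 := by
  rw [sum_points G C, Fin.sum_univ_two]
  rfl

theorem sb_symm {Z : α → α → ℚ} (hZ : Inv G Z) :
    sb G C Z 0 0 = sb G C Z 1 1 ∧ sb G C Z 0 1 = sb G C Z 1 0 := by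
  have h1 := row_sum G hZ (C.e (0, 0)) (C.e (1, 0))
  have h2 := row_sum G (hZ.transpose G) (C.e (0, 0)) (C.e (1, 0))
  rw [row_sum_blk G C, row_sum_blk G C] at h1
  have a0 := row_sum_blk G C (Z := fun u v => Z v u) 0
  have a1 := row_sum_blk G C (Z := fun u v => Z v u) 1
  simp only [sb_transpose G C hZ] at a0 a1 h2
  constructor <;> linarith

theorem th_transpose {Z : α → α → ℚ} (hZ : Inv G Z) : th G C (fun u v => Z v u) = th G C Z := by
  simp only [th, sb_transpose G C hZ, (sb_symm G C hZ).2]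

theorem app_v0 {Z : α → α → ℚ} (hZ : Inv G Z) (u : α) : app Z (v0 G C) u = th G C Z * v0 G C u := by
  obtain ⟨⟨ε, i⟩, rfl⟩ := C.e.surjective u
  obtain ⟨h0, h1⟩ := sb_symm G C hZ
  simp only [th, app_apply G C hZ, v0, Equiv.symm_apply_apply, Fin.sum_univ_two, ← sum_mul, sb]
  simp only [sb] at h0 h1
  fin_cases ε <;> simp <;> linarith

theorem app_v0_comp {Z : α → α → ℚ} (hZ : Inv G Z) {g : Equiv.Perm α} (hg : g ∈ G) :
    app Z (v0 G C ∘ g) = fun u => th G C Z * (v0 G C ∘ g) u :=
  funext fun u => by rw [hZ.app G hg, app_v0 G C hZ]; rfl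

theorem sum_v0 : ∑ u, v0 G C u = 0 := by
  simp [sum_points G C, v0, Fin.sum_univ_two]

theorem th_mul {Z W : α → α → ℚ} (hZ : Inv G Z) (hW : Inv G W) :
    th G C (mul Z W) = th G C Z * th G C W := by
  have h := app_v0 G C (hZ.mul G hW) (C.e (0, 0))
  rw [← app_app] at h
  have e : app Z (app W (v0 G C)) (C.e (0, 0)) = th G C W * app Z (v0 G C) (C.e (0, 0)) := by
    rw [show app W (v0 G C) = fun u => th G C W * v0 G C u from funext (app_v0 G C hW)]
    simp only [app, mul_sum]
    exact sum_congr rfl fun v _ => by ring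
  rw [e, app_v0 G C hZ] at h
  simp [v0] at h
  linarith

variable (hG : MulAction.IsPreprimitive G α)

include hG in
theorem exists_eigen : ∃ u : Fin 2 → ℂ, (u 0 ≠ 0 ∨ u 1 ≠ 0) ∧ ∀ Z, Inv G Z → ∀ ε,
    mm G C Z ε 0 * u 0 + mm G C Z ε 1 * u 1 = (th G C Z : ℂ) * u ε := by
  classical
  have hp : p.Prime := hpf.out
  suffices h : ∃ g ∈ G, Phi G C (v0 G C ∘ g) ≠ 0 by
    obtain ⟨g, hg, hu⟩ := h
    refine ⟨Phi G C (v0 G C ∘ g), ?_, fun Z hZ ε => ?_⟩
    · by_contra hc
      push Not at hc
      exact hu (funext fun ε => by fin_cases ε <;> simp [hc.1, hc.2])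
    · have := Phi_app G C hZ (v0 G C ∘ g) ε
      rw [Fin.sum_univ_two] at this
      rw [← this, app_v0_comp G C hZ hg]
      simp [Phi, mul_sum, mul_assoc]
  by_contra hc
  push Not at hc
  have hval : ∀ x, v0 G C x = 1 ∨ v0 G C x = -1 := fun x => by
    unfold v0; split <;> simp
  have hconst : ∀ g ∈ G, ∀ ε l, v0 G C (g (C.e (ε, l))) = v0 G C (g (C.e (ε, 0))) := by
    intro g hg ε l
    have h0 := congrFun (hc g hg) ε
    simp only [Pi.zero_apply] at h0
    have h1 : ev p (fun m => v0 G C (g (C.e (ε, -m)))) = 0 := by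
      rw [← h0]
      exact Fintype.sum_equiv (Equiv.neg _) _ _ fun m => by simp
    have := eq_const_of_ev_eq_zero _ h1 (-l)
    simpa using this
  have hsign : ∀ g ∈ G, ∃ c : ℚ, ∀ x, v0 G C (g x) = c * v0 G C x := by
    intro g hg
    refine ⟨v0 G C (g (C.e (0, 0))), fun x => ?_⟩
    have hs : ∑ x, v0 G C (g x) = 0 := by
      rw [← sum_v0 G C]; exact Fintype.sum_equiv g _ _ fun _ => rfl
    rw [sum_points G C, Fin.sum_univ_two] at hs
    simp only [hconst g hg, sum_const, Finset.card_univ, ZMod.card, nsmul_eq_mul] at hs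
    have hp0 : (p : ℚ) ≠ 0 := by exact_mod_cast hp.ne_zero
    have h10 : v0 G C (g (C.e (1, 0))) = - v0 G C (g (C.e (0, 0))) := by
      rw [← mul_right_inj' hp0]; linarith
    obtain ⟨⟨ε, l⟩, rfl⟩ := C.e.surjective x
    rw [hconst g hg]
    fin_cases ε <;> simp [v0] <;> simpa [v0] using h10
  let B : Set α := {x | v0 G C x = 1}
  have hB : MulAction.IsBlock G B := by
    rw [MulAction.isBlock_iff_smul_eq_or_disjoint]
    intro g
    obtain ⟨c, hc⟩ := hsign _ (inv_mem g.2)
    have hmem : ∀ x, x ∈ g • B ↔ c * v0 G C x = 1 := fun x => by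
      rw [Set.mem_smul_set_iff_inv_smul_mem]
      change v0 G C ((g : Equiv.Perm α)⁻¹ x) = 1 ↔ _
      rw [hc]
    by_cases h : c = 1
    · left; ext x; simp [hmem, h, B]
    · right
      rw [Set.disjoint_left]
      intro x hx (hx' : v0 G C x = 1)
      rw [hmem, hx', mul_one] at hx
      exact h hx
  rcases hG.isTrivialBlock_of_isBlock hB with h | h
  · have h01 : (0 : ZMod p) = 1 :=
      congrArg Prod.snd (C.e.injective (h (x := C.e (0, 0)) (by simp [B, v0])
        (y := C.e (0, 1)) (by simp [B, v0])))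
    exact zero_ne_one h01
  · have : C.e (1, 0) ∈ B := h ▸ Set.mem_univ _
    simp [B, v0] at this
    norm_num at this

include hG in
/-- The fundamental identity between two invariant matrices. -/
theorem identity {Z W : α → α → ℚ} (hZ : Inv G Z) (hW : Inv G W) :
    (∑ ε, ∑ δ, ∑ j, blk G C Z ε δ j * blk G C W ε δ j) -
      (∑ j, (blk G C Z 0 0 j + blk G C Z 1 1 j) * (blk G C W 0 0 j + blk G C W 1 1 j)) +
      th G C Z * (blk G C W 0 0 0 + blk G C W 1 1 0) +
      th G C W * (blk G C Z 0 0 0 + blk G C Z 1 1 0) - 2 * th G C Z * th G C W = 0 := by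
  obtain ⟨u, hu, heig⟩ := exists_eigen G C hG
  let n : ZMod p → ℚ := blk G C Z 0 0 + blk G C Z 1 1
  let n' : ZMod p → ℚ := blk G C W 0 0 + blk G C W 1 1
  let cor : (ZMod p → ℚ) → (ZMod p → ℚ) → (ZMod p → ℚ) := fun f g l => ∑ j, f j * g (j + l)
  let θ := th G C Z
  let θ' := th G C W
  let F : ZMod p → ℚ :=
    cor (blk G C Z 0 0) (blk G C W 0 0) + cor (blk G C Z 0 1) (blk G C W 0 1) +
    cor (blk G C Z 1 0) (blk G C W 1 0) + cor (blk G C Z 1 1) (blk G C W 1 1) -
    cor n n' + θ • n' + θ' • (fun l => n (-l)) - (fun l => if l = 0 then 2 * θ * θ' else 0)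
  have hn : ev p n = mm G C Z 0 0 + mm G C Z 1 1 := ev_add _ _
  have hn' : ev p n' = mm G C W 0 0 + mm G C W 1 1 := ev_add _ _
  have hF : ev p F = 0 := by
    simp only [F, ev_add, ev_sub, ev_smul, ev_delta, cor, ev_corr, ev_neg, hn, hn', map_add]
    have e1 := heig Z hZ 0
    have e2 := heig Z hZ 1
    have f1 := heig W hW 0
    have f2 := heig W hW 1
    have e3 := heig _ (hZ.transpose G) 0
    have e4 := heig _ (hZ.transpose G) 1
    simp only [mm_transpose G C hZ, th_transpose G C hZ] at e3 e4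
    change _ + ((θ : ℚ) : ℂ) * _ + ((θ' : ℚ) : ℂ) * _ - _ = 0
    simp only [mm, θ, θ', Rat.cast_mul, Rat.cast_ofNat] at *
    set A := ev p (blk G C Z 0 0) with hA
    set B := ev p (blk G C Z 0 1) with hB
    set Cc := ev p (blk G C Z 1 0) with hC
    set D := ev p (blk G C Z 1 1) with hD
    set A' := ev p (blk G C W 0 0)
    set B' := ev p (blk G C W 0 1)
    set C' := ev p (blk G C W 1 0)
    set D' := ev p (blk G C W 1 1)
    set t := ((th G C Z : ℚ) : ℂ)
    set t' := ((th G C W : ℚ) : ℂ)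
    rcases eq_or_ne (u 0) 0 with h0 | h0
    · have h1 : u 1 ≠ 0 := hu.resolve_left (not_not_intro h0)
      simp only [h0, mul_zero, zero_add, mul_eq_zero, or_iff_left h1] at e1 e2 e3 e4 f1 f2
      have e4' := mul_right_cancel₀ h1 e4
      have f2' := mul_right_cancel₀ h1 f2
      rw [e3, e4', f1, f2', e1]
      simp only [map_zero]
      ring
    rcases eq_or_ne (u 1) 0 with h1 | h1
    · simp only [h1, mul_zero, add_zero, mul_eq_zero, or_iff_left h0] at e1 e2 e3 e4 f1 f2
      have e3' := mul_right_cancel₀ h0 e3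
      have f1' := mul_right_cancel₀ h0 f1
      rw [e3', e4, f1', f2, e2]
      simp only [map_zero]
      ring
    refine mul_right_cancel₀ (mul_ne_zero h0 h1) ?_
    rw [zero_mul]
    linear_combination (-(D' - t') * u 1) * e3 + conj Cc * u 1 * f2 +
      (-(A' - t') * u 0) * e4 + conj B * u 0 * f1
  have hsum : ∑ l, F l = 0 := by
    obtain ⟨hs1, hs2⟩ := sb_symm G C hZ
    obtain ⟨hs1', hs2'⟩ := sb_symm G C hW
    have hneg : ∑ l, n (-l) = ∑ l, n l := Fintype.sum_equiv (Equiv.neg _) _ _ fun _ => rfl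
    simp only [F, Pi.add_apply, Pi.sub_apply, Pi.smul_apply, smul_eq_mul, sum_add_distrib,
      sum_sub_distrib, ← mul_sum, cor, sum_corr, Finset.sum_ite_eq', mem_univ, if_true, hneg]
    simp only [n, n', Pi.add_apply, sum_add_distrib, θ, θ', th]
    change sb G C Z 0 0 * sb G C W 0 0 + sb G C Z 0 1 * sb G C W 0 1 +
      sb G C Z 1 0 * sb G C W 1 0 + sb G C Z 1 1 * sb G C W 1 1 -
      (sb G C Z 0 0 + sb G C Z 1 1) * (sb G C W 0 0 + sb G C W 1 1) +
      (sb G C Z 0 0 - sb G C Z 0 1) * (sb G C W 0 0 + sb G C W 1 1) +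
      (sb G C W 0 0 - sb G C W 0 1) * (sb G C Z 0 0 + sb G C Z 1 1) -
      2 * (sb G C Z 0 0 - sb G C Z 0 1) * (sb G C W 0 0 - sb G C W 0 1) = 0
    rw [← hs1, ← hs2, ← hs1', ← hs2']
    ring
  have hF0 : F 0 = 0 := by
    have hp0 : (p : ℚ) ≠ 0 := by exact_mod_cast hpf.out.ne_zero
    simp only [eq_const_of_ev_eq_zero F hF, sum_const, Finset.card_univ, ZMod.card,
      nsmul_eq_mul] at hsum
    exact (mul_eq_zero.mp hsum).resolve_left hp0
  simp only [F, cor, Pi.add_apply, Pi.sub_apply, Pi.smul_apply, smul_eq_mul, add_zero, neg_zero,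
    if_true, n, n'] at hF0
  simp only [Fin.sum_univ_two]
  linarith

/-- The indicator of the orbital of `(a₀, w)`. -/
noncomputable def orb (a₀ w : α) (u v : α) : ℚ :=
  open Classical in if ∃ g ∈ G, g a₀ = u ∧ g w = v then 1 else 0

variable (a₀ : α)

theorem orb_inv (w : α) : Inv G (orb G a₀ w) := by
  intro h hh u v
  unfold orb
  congr 1
  refine propext ⟨?_, ?_⟩
  · rintro ⟨g, hg, h1, h2⟩
    exact ⟨h⁻¹ * g, mul_mem (inv_mem hh) hg, by simp [h1], by simp [h2]⟩
  · rintro ⟨g, hg, rfl, rfl⟩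
    exact ⟨h * g, mul_mem hh hg, by simp, by simp⟩

theorem orb_zero_or_one (w u v : α) : orb G a₀ w u v = 0 ∨ orb G a₀ w u v = 1 := by
  unfold orb; split <;> simp

theorem orb_nonneg (w u v : α) : 0 ≤ orb G a₀ w u v := by
  rcases orb_zero_or_one G a₀ w u v with h | h <;> simp [h]

theorem orb_self (w : α) : orb G a₀ w a₀ w = 1 := by
  unfold orb; rw [if_pos ⟨1, one_mem _, rfl, rfl⟩]

theorem orb_diag {w : α} (hw : w ≠ a₀) (u : α) : orb G a₀ w u u = 0 := by
  unfold orb
  rw [if_neg]
  rintro ⟨g, -, h1, h2⟩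
  exact hw (g.injective (h2.trans h1.symm))

theorem orb_eq {w w' u v : α} (h : orb G a₀ w u v = 1) (h' : orb G a₀ w' u v = 1) :
    orb G a₀ w = orb G a₀ w' := by
  unfold orb at h h'
  split at h <;> [skip; simp at h]
  split at h' <;> [skip; simp at h']
  rename_i e e'
  obtain ⟨g, hg, hgu, hgv⟩ := e
  obtain ⟨k, hk, hku, hkv⟩ := e'
  funext x y
  unfold orb
  congr 1
  refine propext ⟨?_, ?_⟩
  · rintro ⟨t, ht, rfl, rfl⟩
    exact ⟨t * (g⁻¹ * k), mul_mem ht (mul_mem (inv_mem hg) hk), by simp [hku, ← hgu],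
      by simp [hkv, ← hgv]⟩
  · rintro ⟨t, ht, rfl, rfl⟩
    exact ⟨t * (k⁻¹ * g), mul_mem ht (mul_mem (inv_mem hk) hg), by simp [hgu, ← hku],
      by simp [hgv, ← hkv]⟩

theorem exists_orb (u v : α) : ∃ w, orb G a₀ w u v = 1 ∧ (w = a₀ ↔ u = v) := by
  obtain ⟨g, hg, rfl⟩ := exists_mem_apply G a₀ u
  refine ⟨g⁻¹ v, ?_, ?_⟩
  · unfold orb; rw [if_pos ⟨g, hg, rfl, by simp⟩]
  · constructor
    · intro h; exact (congrArg g h).symm.trans (by simp)
    · intro h; rw [← h]; simp

theorem card_orbit (w : α) :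
    (Nat.card (MulAction.orbit (MulAction.stabilizer G a₀) w) : ℚ) = ∑ v, orb G a₀ w a₀ v := by
  classical
  unfold orb
  rw [Finset.sum_boole, Nat.card_coe_set_eq, Set.ncard_eq_toFinset_card']
  congr 2
  ext v
  simp only [Set.mem_toFinset, mem_filter, mem_univ, true_and, MulAction.mem_orbit_iff]
  constructor
  · rintro ⟨g, rfl⟩; exact ⟨(g : G), (g : G).2, g.2, rfl⟩
  · rintro ⟨g, hg, h1, h2⟩; exact ⟨⟨⟨g, hg⟩, h1⟩, h2⟩

/-- The orbitals other than the diagonal. -/
noncomputable def orbs : Finset (α → α → ℚ) :=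
  open Classical in (univ.filter (· ≠ a₀)).image (orb G a₀)

theorem mem_orbs {A : α → α → ℚ} : A ∈ orbs G a₀ ↔ ∃ w, w ≠ a₀ ∧ orb G a₀ w = A := by
  classical
  simp [orbs]

theorem sum_orbs (u v : α) : ∑ A ∈ orbs G a₀, A u v = if u = v then 0 else 1 := by
  classical
  obtain ⟨w, hw, hiff⟩ := exists_orb G a₀ u v
  split_ifs with huv
  · subst huv
    refine Finset.sum_eq_zero fun A hA => ?_
    obtain ⟨w', hw', rfl⟩ := (mem_orbs G a₀).mp hA
    exact orb_diag G a₀ hw' u
  · have hA : orb G a₀ w ∈ orbs G a₀ := (mem_orbs G a₀).mpr ⟨w, fun h => huv (hiff.mp h), rfl⟩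
    rw [Finset.sum_eq_single_of_mem _ hA, hw]
    intro B hB hne
    obtain ⟨w', -, rfl⟩ := (mem_orbs G a₀).mp hB
    exact (orb_zero_or_one G a₀ w' u v).resolve_right fun h => hne (orb_eq G a₀ h hw)

theorem sum_th : ∑ A ∈ orbs G a₀, th G C A = -1 := by
  simp only [th, sb, blk, sum_sub_distrib]
  rw [sum_comm, sum_comm (s := orbs G a₀)]
  simp only [sum_orbs G a₀, C.e.injective.eq_iff, Prod.mk.injEq, true_and]
  simp [Finset.sum_ite, Finset.filter_ne, Finset.card_erase_of_mem]
  rw [Nat.cast_sub hpf.out.one_le]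
  simp

include hG in
/-- The correlation of the diagonal block sums of two orbitals. -/
theorem orb_corr {A A' : α → α → ℚ} (hA : A ∈ orbs G a₀) (hA' : A' ∈ orbs G a₀) :
    ∑ j, (blk G C A 0 0 j + blk G C A 1 1 j) * (blk G C A' 0 0 j + blk G C A' 1 1 j) =
      (open Classical in if A = A' then 2 * ∑ v, A (C.e (0, 0)) v else 0) -
      2 * th G C A * th G C A' := by
  classical
  obtain ⟨w, hw, rfl⟩ := (mem_orbs G a₀).mp hA
  obtain ⟨w', hw', rfl⟩ := (mem_orbs G a₀).mp hA'
  have h := identity G C hG (orb_inv G a₀ w) (orb_inv G a₀ w')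
  have h0 : ∀ (x : α) (ε : Fin 2), x ≠ a₀ → blk G C (orb G a₀ x) ε ε 0 = 0 :=
    fun x ε hx => orb_diag G a₀ hx _
  simp only [h0 _ _ hw, h0 _ _ hw', add_zero, mul_zero] at h
  have e : ∀ ε, ∑ δ, ∑ j, blk G C (orb G a₀ w) ε δ j * blk G C (orb G a₀ w') ε δ j =
      if orb G a₀ w = orb G a₀ w' then ∑ v, orb G a₀ w (C.e (0, 0)) v else 0 := by
    intro ε
    refine (sum_points G C
      (fun v => orb G a₀ w (C.e (ε, 0)) v * orb G a₀ w' (C.e (ε, 0)) v)).symm.trans ?_
    split_ifs with hww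
    · rw [← hww, row_sum G (orb_inv G a₀ w) (C.e (0, 0)) (C.e (ε, 0))]
      refine sum_congr rfl fun v _ => ?_
      rcases orb_zero_or_one G a₀ w (C.e (ε, 0)) v with h1 | h1 <;> simp [h1]
    · refine Finset.sum_eq_zero fun v _ => ?_
      rcases orb_zero_or_one G a₀ w (C.e (ε, 0)) v with h1 | h1
      · simp [h1]
      · rcases orb_zero_or_one G a₀ w' (C.e (ε, 0)) v with h2 | h2
        · simp [h2]
        · exact absurd (orb_eq G a₀ h1 h2) hww
  simp only [Fin.sum_univ_two] at h e ⊢
  rw [e, e] at h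
  split_ifs at h ⊢ <;> linarith

include hG in
theorem sb_pos {A : α → α → ℚ} (hA : A ∈ orbs G a₀) : 0 < sb G C A 0 0 := by
  classical
  obtain ⟨w, hw, rfl⟩ := (mem_orbs G a₀).mp hA
  set A := orb G a₀ w with hAdef
  have hnn : ∀ ε δ l, 0 ≤ blk G C A ε δ l := fun ε δ l => orb_nonneg G a₀ w _ _
  refine lt_of_le_of_ne (sum_nonneg fun l _ => hnn 0 0 l) fun hs => ?_
  obtain ⟨hs1, hs2⟩ := sb_symm G C (orb_inv G a₀ w)
  have ha : ∀ l, blk G C A 0 0 l = 0 := fun l =>
    (sum_eq_zero_iff_of_nonneg fun l _ => hnn 0 0 l).mp hs.symm l (mem_univ _)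
  have hd : ∀ l, blk G C A 1 1 l = 0 := fun l =>
    (sum_eq_zero_iff_of_nonneg fun l _ => hnn 1 1 l).mp (hs1.symm.trans hs.symm) l (mem_univ _)
  have hk := orb_corr G C hG a₀ hA hA
  have hrow := row_sum_blk G C (Z := A) 0
  rw [row_sum G (orb_inv G a₀ w) _ a₀] at hrow
  simp only [ha, hd, add_zero, mul_zero, sum_const_zero, if_true, th, ← hs] at hk
  rw [row_sum G (orb_inv G a₀ w) _ a₀] at hk
  have hk1 : ∑ v, A a₀ v = 1 := by
    have hpos : 0 < ∑ v, A a₀ v :=
      sum_pos' (fun v _ => orb_nonneg G a₀ w _ _) ⟨w, mem_univ _, by rw [hAdef, orb_self]; simp⟩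
    have hprod : (∑ v, A a₀ v) * (1 - ∑ v, A a₀ v) = 0 := by
      rw [← hs, zero_add] at hrow
      rw [hrow] at hk ⊢
      linarith [hk]
    rcases mul_eq_zero.mp hprod with h | h <;> linarith
  have hfix : ∀ g ∈ G, g a₀ = a₀ → g w = w := by
    intro g hg h1
    by_contra hne
    have hgw : A a₀ (g w) = 1 := by
      rw [hAdef]; unfold orb; rw [if_pos ⟨g, hg, h1, rfl⟩]
    have hw1 : A a₀ w = 1 := orb_self G a₀ w
    have hsub := sum_le_sum_of_subset_of_nonneg (f := A a₀) (subset_univ {g w, w})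
      (fun v _ _ => orb_nonneg G a₀ w _ _)
    rw [sum_pair hne, hgw, hw1, hk1] at hsub
    norm_num at hsub
  -- the stabiliser of `a₀` would be normal, hence trivial
  haveI : Nontrivial α := ⟨⟨w, a₀, hw⟩⟩
  haveI := hG
  set H := MulAction.stabilizer G a₀ with hH
  have hco : IsCoatom H := MulAction.IsPreprimitive.isCoatom_stabilizer_of_isPreprimitive (↥G) a₀
  have hle : H ≤ MulAction.stabilizer G w := fun g hg => hfix g g.2 hg
  obtain ⟨g, hg⟩ := MulAction.exists_smul_eq G a₀ w
  have heq : H = MulAction.stabilizer G w := by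
    rcases lt_or_eq_of_le hle with hlt | h
    · have := hco.2 _ hlt
      obtain ⟨t, ht⟩ := MulAction.exists_smul_eq G w a₀
      have : t • w = w := (this ▸ Subgroup.mem_top t : t ∈ MulAction.stabilizer G w)
      exact absurd (this.symm.trans ht) hw
    · exact h
  have hgn : g ∈ Subgroup.normalizer (H : Set G) := by
    rw [Subgroup.mem_normalizer_iff]
    intro x
    conv_rhs => rw [heq]
    simp only [SetLike.mem_coe, hH, MulAction.mem_stabilizer_iff, mul_smul, ← hg,
      inv_smul_smul, smul_left_cancel_iff]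
  have hnorm : Subgroup.normalizer (H : Set G) = ⊤ := by
    refine hco.2 _ (lt_of_le_of_ne Subgroup.le_normalizer fun h => ?_)
    rw [← h, hH, MulAction.mem_stabilizer_iff, hg] at hgn
    exact hw hgn
  haveI : H.Normal := Subgroup.normalizer_eq_top_iff.mp hnorm
  have hbot : H = ⊥ := by
    rw [Subgroup.eq_bot_iff_forall]
    intro x hx
    refine Subtype.ext (Equiv.ext fun y => ?_)
    obtain ⟨t, rfl⟩ := MulAction.exists_smul_eq G a₀ y
    have hx' : (t⁻¹ * x * t⁻¹⁻¹) ∈ H := (inferInstance : H.Normal).conj_mem x hx t⁻¹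
    rw [inv_inv, hH, MulAction.mem_stabilizer_iff, mul_smul, mul_smul, inv_smul_eq_iff] at hx'
    exact hx'
  obtain ⟨y, hy, hys⟩ := C.shift 1
  let yy : G := ⟨y, hy⟩
  have hyne : Subgroup.zpowers yy ≠ ⊥ := by
    rw [Ne, Subgroup.zpowers_eq_bot]
    intro h
    have h1 := hys 0 0
    rw [zero_add, show y = 1 from congrArg Subtype.val h, Equiv.Perm.one_apply] at h1
    exact zero_ne_one (congrArg Prod.snd (C.e.injective h1))
  have htop : Subgroup.zpowers yy = ⊤ := hco.2 _ (hbot ▸ bot_lt_iff_ne_bot.mpr hyne)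
  have hkeep : ∀ x : G, ∀ u : α, (C.e.symm (x • u)).1 = (C.e.symm u).1 := by
    intro x
    have hx : x ∈ Subgroup.zpowers yy := htop ▸ Subgroup.mem_top x
    obtain ⟨i, rfl⟩ := hx
    have hy1 : ∀ u : α, (C.e.symm (yy • u)).1 = (C.e.symm u).1 := fun u => by
      obtain ⟨⟨ε, l⟩, rfl⟩ := C.e.surjective u
      rw [show yy • C.e (ε, l) = C.e (ε, l + 1) from hys ε l]
      simp
    dsimp only
    induction i using Int.induction_on with
    | zero => simp
    | succ i ih =>
      intro u
      rw [zpow_add_one, mul_smul]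
      exact (ih _).trans (hy1 u)
    | pred i ih =>
      intro u
      rw [zpow_sub_one, mul_smul, ih, ← hy1 (yy⁻¹ • u), smul_inv_smul]
  obtain ⟨t, ht⟩ := MulAction.exists_smul_eq G (C.e (0, 0)) (C.e (1, 0))
  have := hkeep t (C.e (0, 0))
  rw [ht] at this
  simp at this

include C hG in
theorem card_orbs_le : (orbs G a₀).card ≤ 2 := by
  classical
  by_contra h3
  push Not at h3
  -- some orbital has eigenvalue zero
  obtain ⟨A, hA, hθ⟩ : ∃ A ∈ orbs G a₀, th G C A = 0 := by
    by_contra hc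
    push Not at hc
    obtain ⟨A, B, D, hA, hB, hD, hAB, hAD, hBD⟩ := Finset.two_lt_card_iff.mp h3
    have key : ∀ {X Y}, X ∈ orbs G a₀ → Y ∈ orbs G a₀ → X ≠ Y → th G C X * th G C Y ≤ 0 := by
      intro X Y hX hY hne
      have h := orb_corr G C hG a₀ hX hY
      rw [if_neg hne] at h
      have hnn : 0 ≤ ∑ j, (blk G C X 0 0 j + blk G C X 1 1 j) *
          (blk G C Y 0 0 j + blk G C Y 1 1 j) := by
        obtain ⟨x, -, rfl⟩ := (mem_orbs G a₀).mp hX
        obtain ⟨y, -, rfl⟩ := (mem_orbs G a₀).mp hY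
        exact sum_nonneg fun j _ => mul_nonneg
          (add_nonneg (orb_nonneg G a₀ x _ _) (orb_nonneg G a₀ x _ _))
          (add_nonneg (orb_nonneg G a₀ y _ _) (orb_nonneg G a₀ y _ _))
      linarith
    rcases lt_or_gt_of_ne (hc A hA) with a | a <;> rcases lt_or_gt_of_ne (hc B hB) with b | b <;>
      rcases lt_or_gt_of_ne (hc D hD) with d | d <;>
      nlinarith [key hA hB hAB, key hA hD hAD, key hB hD hBD]
  have hAmem := hA
  obtain ⟨w, hw, rfl⟩ := (mem_orbs G a₀).mp hA
  set A := orb G a₀ w with hAdef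
  have hAinv : Inv G A := orb_inv G a₀ w
  have hdiag : ∀ l, blk G C A 0 0 l = blk G C A 1 1 l := by
    have h := orb_corr G C hG a₀ hAmem hAmem
    obtain ⟨hs1, -⟩ := sb_symm G C hAinv
    rw [if_pos rfl, hθ, mul_zero, sub_zero, row_sum_blk] at h
    unfold th at hθ
    have h2 : ∑ j, (blk G C A 0 0 j + blk G C A 1 1 j) *
        (2 - (blk G C A 0 0 j + blk G C A 1 1 j)) = 0 := by
      simp only [mul_sub, sum_sub_distrib, h, ← sum_mul, sum_add_distrib]
      change (sb G C A 0 0 + sb G C A 1 1) * 2 - _ = 0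
      linarith
    have hb : ∀ ε δ j, blk G C A ε δ j = 0 ∨ blk G C A ε δ j = 1 :=
      fun ε δ j => orb_zero_or_one G a₀ w _ _
    intro l
    have hl := (sum_eq_zero_iff_of_nonneg fun j _ => ?_).mp h2 l (mem_univ _)
    · rcases hb 0 0 l with ha | ha <;>
        rcases hb 1 1 l with hd | hd <;>
        rw [ha, hd] at hl ⊢ <;> norm_num at hl
    · rcases hb 0 0 j with ha | ha <;>
        rcases hb 1 1 j with hd | hd <;>
        rw [ha, hd] <;> norm_num
  have hevA : mm G C A 0 0 ≠ 0 := by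
    intro h0
    have hc := eq_const_of_ev_eq_zero _ h0
    have := sb_pos G C hG a₀ hAmem
    have hz : blk G C A 0 0 0 = 0 := orb_diag G a₀ hw _
    simp [sb, hc, hz] at this
  obtain ⟨u, hu, heig⟩ := exists_eigen G C hG
  have hnorm : conj (u 0) * u 0 = conj (u 1) * u 1 ∧ u 0 ≠ 0 ∧ u 1 ≠ 0 := by
    have e1 := heig A hAinv 0
    have e2 := heig A hAinv 1
    have e3 := heig _ (hAinv.transpose G) 0
    simp only [mm_transpose G C hAinv, th_transpose G C hAinv] at e3
    have hd : mm G C A 1 1 = mm G C A 0 0 := by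
      unfold mm; rw [funext hdiag]
    simp only [hd, hθ, Rat.cast_zero, zero_mul] at e1 e2 e3
    have h0 : u 0 ≠ 0 := by
      intro h0
      rw [h0, mul_zero, zero_add] at e2
      exact hu.elim (· h0) (· ((mul_eq_zero.mp e2).resolve_left hevA))
    have h1 : u 1 ≠ 0 := by
      intro h1
      rw [h1, mul_zero, add_zero] at e1
      exact h0 ((mul_eq_zero.mp e1).resolve_left hevA)
    have hc : mm G C A 1 0 ≠ 0 := by
      intro hc
      rw [hc, zero_mul, zero_add] at e2
      exact h1 ((mul_eq_zero.mp e2).resolve_left hevA)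
    have e3' := congrArg conj e3
    simp only [map_add, map_mul, Complex.conj_conj, map_zero] at e3'
    refine ⟨mul_left_cancel₀ (mul_ne_zero hevA hc) ?_, h0, h1⟩
    linear_combination (mm G C A 1 0 * u 0) * e3' - (mm G C A 1 0 * conj (u 1)) * e2
  have hequal : ∀ Z, Inv G Z → mm G C Z 0 0 = mm G C Z 1 1 := by
    intro Z hZ
    have e2 := heig Z hZ 1
    have e3 := heig _ (hZ.transpose G) 0
    simp only [mm_transpose G C hZ, th_transpose G C hZ] at e3
    have e3' := congrArg conj e3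
    simp only [map_add, map_mul, Complex.conj_conj, map_ratCast] at e3'
    refine mul_right_cancel₀ (mul_ne_zero ((map_ne_zero conj).mpr hnorm.2.1) hnorm.2.1) ?_
    linear_combination u 0 * e3' - conj (u 1) * e2 - (mm G C Z 1 1 - (th G C Z : ℂ)) * hnorm.1
  -- the averaged projection
  let vg : G → α → ℚ := fun g x => v0 G C ((g : Equiv.Perm α) x)
  let Q : α → α → ℚ := fun x y => ∑ g : G, vg g x * vg g y
  have hQ : Inv G Q := by
    intro h hh x y
    exact Fintype.sum_equiv (Equiv.mulRight (⟨h, hh⟩ : G)) _ _ fun g => rfl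
  have hQsymm : (fun x y => Q y x) = Q := by
    funext x y; exact sum_congr rfl fun g _ => mul_comm _ _
  set τ := th G C Q with hτ
  have happQ : ∀ f x, app Q f x = ∑ g : G, (∑ y, vg g y * f y) * vg g x := by
    intro f x
    simp only [app, Q, sum_mul]
    rw [sum_comm]
    exact sum_congr rfl fun g _ => sum_congr rfl fun y _ => by ring
  have hZvg : ∀ Z, Inv G Z → ∀ f x, app Z (app Q f) x = th G C Z * app Q f x := by
    intro Z hZ f x
    have : ∀ g : G, ∀ x, app Z (vg g) x = th G C Z * vg g x := fun g x =>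
      congrFun (app_v0_comp G C hZ g.2) x
    have lin : ∀ c : G → ℚ,
        app Z (fun v => ∑ g : G, c g * vg g v) x = ∑ g : G, c g * app Z (vg g) x := fun c => by
      simp only [app, mul_sum]
      rw [sum_comm]
      exact sum_congr rfl fun g _ => sum_congr rfl fun v _ => by ring
    calc app Z (app Q f) x = ∑ g : G, (∑ y, vg g y * f y) * app Z (vg g) x := by
          rw [funext (happQ f)]
          exact lin _
      _ = th G C Z * app Q f x := by
          simp only [this, happQ, mul_sum]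
          exact sum_congr rfl fun g _ => by ring
  have hτpos : 0 < τ := by
    have h1 : ∑ x, app Q (v0 G C) x * v0 G C x = τ * ∑ x, v0 G C x * v0 G C x := by
      simp only [app_v0 G C hQ, mul_sum, mul_assoc, hτ]
    have h2 : ∑ x, app Q (v0 G C) x * v0 G C x = ∑ g : G, (∑ y, vg g y * v0 G C y) ^ 2 := by
      simp only [happQ, sum_mul]
      rw [sum_comm]
      refine sum_congr rfl fun g _ => ?_
      simp only [pow_two, mul_sum, sum_mul]
      rw [sum_comm]
      exact sum_congr rfl fun y _ => sum_congr rfl fun x _ => by ring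
    have hsq : ∀ x, v0 G C x * v0 G C x = 1 := fun x => by unfold v0; split <;> simp
    have h3 : (0 : ℚ) < ∑ g : G, (∑ y, vg g y * v0 G C y) ^ 2 := by
      refine sum_pos' (fun g _ => sq_nonneg _) ⟨1, mem_univ _, ?_⟩
      have : (∑ y, vg 1 y * v0 G C y) = (Fintype.card α : ℚ) := by
        simp [vg, hsq]
      rw [this]
      haveI : Nonempty α := ⟨a₀⟩
      positivity
    simp only [hsq, sum_const, Finset.card_univ, nsmul_eq_mul, mul_one] at h1
    by_contra hle
    push Not at hle
    have : τ * (Fintype.card α : ℚ) ≤ 0 := mul_nonpos_of_nonpos_of_nonneg hle (Nat.cast_nonneg _)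
    linarith
  -- the diagonal block of `Q` is rational at the standard character
  have hQ2 : ∀ ε δ, ∑ γ, mm G C Q ε γ * mm G C Q γ δ = (τ : ℂ) * mm G C Q ε δ := by
    intro ε δ
    have hmul : mul Q Q = fun x y => τ * Q x y := by
      funext x y
      have h := hZvg Q hQ (single y) x
      rwa [app_app, app_single, app_single] at h
    rw [← mm_mul G C hQ hQ, hmul]
    exact ev_smul τ _
  obtain ⟨r, hr⟩ : ∃ r : ℚ, mm G C Q 0 0 = r := by
    have h01 := hQ2 0 1
    rw [Fin.sum_univ_two, ← hequal Q hQ] at h01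
    have e1 := heig Q hQ 0
    by_cases hb : mm G C Q 0 1 = 0
    · rw [hb, zero_mul, add_zero] at e1
      exact ⟨τ, mul_right_cancel₀ hnorm.2.1 e1⟩
    · refine ⟨τ / 2, ?_⟩
      have : (2 * mm G C Q 0 0 - τ) * mm G C Q 0 1 = 0 := by linear_combination h01
      have := sub_eq_zero.mp ((mul_eq_zero.mp this).resolve_right hb)
      push_cast
      linear_combination this / 2
  have hQ00 : ∀ l, blk G C Q 0 0 l - (if l = 0 then r else 0) = blk G C Q 0 0 0 - r := by
    intro l
    have h0 : ev p (blk G C Q 0 0 - fun l => if l = 0 then r else 0) = 0 := by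
      rw [ev_sub, ev_delta]; exact sub_eq_zero.mpr hr
    simpa using eq_const_of_ev_eq_zero _ h0 l
  set κ := blk G C Q 0 0 0 - r with hκ
  have hQval : ∀ x y, Q x y = if x = y then κ + r else κ := by
    intro x y
    obtain ⟨x', hx', hiff⟩ := exists_orb G a₀ x y
    by_cases hxy : x = y
    · subst hxy
      obtain ⟨g, hg, hgx⟩ := exists_mem_apply G (C.e (0, 0)) x
      rw [if_pos rfl, ← hgx, hQ g hg, hκ, sub_add_cancel]
      rfl
    · rw [if_neg hxy]
      have hw' : x' ≠ a₀ := fun h => hxy (hiff.mp h)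
      have hpos := sb_pos G C hG a₀ ((mem_orbs G a₀).mpr ⟨x', hw', rfl⟩)
      obtain ⟨l, -, hl⟩ := exists_ne_zero_of_sum_ne_zero hpos.ne'
      have hl1 := (orb_zero_or_one G a₀ x' (C.e (0, 0)) (C.e (0, l))).resolve_left hl
      have hl0 : l ≠ 0 := by
        rintro rfl
        exact hl (orb_diag G a₀ hw' _)
      unfold orb at hx' hl1
      split at hx' <;> [skip; simp at hx']
      split at hl1 <;> [skip; simp at hl1]
      rename_i ex el
      obtain ⟨g, hg, rfl, rfl⟩ := ex
      obtain ⟨k, hk, hk1, hk2⟩ := el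
      rw [hQ g hg, ← hQ k hk a₀ x', hk1, hk2]
      have := hQ00 l
      rw [if_neg hl0, sub_zero] at this
      exact this
  have happ : ∀ f x, app Q f x = r * f x + κ * ∑ y, f y := by
    intro f x
    simp only [app, hQval, ite_mul, add_mul, mul_sum]
    rw [show (fun y => if x = y then κ * f y + r * f y else κ * f y) =
      fun y => (if x = y then r * f y else 0) + κ * f y from
      funext fun y => by split_ifs <;> ring, sum_add_distrib]
    simp
  have hr0 : r = τ := by
    have h := app_v0 G C hQ (C.e (0, 0))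
    rw [happ, sum_v0] at h
    simpa [v0] using h
  have hAall : ∀ f : α → ℚ, ∑ y, f y = 0 → ∀ x, app A f x = th G C A * f x := by
    intro f hf x
    have h := hZvg A hAinv f x
    have hQf : app Q f = fun y => τ * f y := funext fun y => by rw [happ, hf, hr0]; ring
    rw [hQf] at h
    have h2 : app A (fun y => τ * f y) x = τ * app A f x := by
      simp only [app, mul_sum]; exact sum_congr rfl fun y _ => by ring
    rw [h2] at h
    exact mul_left_cancel₀ hτpos.ne' (by rw [h]; ring)
  have hone : ∀ v, v ≠ a₀ → A a₀ v = 1 := by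
    intro v hv
    by_cases hvw : v = w
    · subst hvw; exact orb_self G a₀ v
    have h := hAall (fun y => single v y - single w y) (by simp [single]) a₀
    simp only [app, mul_sub, sum_sub_distrib, single, mul_ite, mul_one, mul_zero,
      Finset.sum_ite_eq', mem_univ, if_true, if_neg (Ne.symm hv), if_neg (Ne.symm hw)] at h
    rw [hAdef] at h ⊢
    rw [orb_self] at h
    linarith
  have hall : ∀ B ∈ orbs G a₀, B = A := by
    intro B hB
    obtain ⟨v, hv, rfl⟩ := (mem_orbs G a₀).mp hB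
    exact orb_eq G a₀ (orb_self G a₀ v) (hone v hv)
  have : (orbs G a₀).card ≤ 1 := Finset.card_le_one.mpr fun x hx y hy => (hall x hx).trans (hall y hy).symm
  omega

theorem two_transitive_of_card_orbs_le_one (h : (orbs G a₀).card ≤ 1) :
    MulAction.IsMultiplyPretransitive G α 2 := by
  classical
  refine MulAction.is_two_pretransitive_iff.mpr fun {u v x y} huv hxy => ?_
  obtain ⟨w, hw, hiff⟩ := exists_orb G a₀ u v
  obtain ⟨w', hw', hiff'⟩ := exists_orb G a₀ x y
  have heq := Finset.card_le_one.mp h _ ((mem_orbs G a₀).mpr ⟨w, fun e => huv (hiff.mp e), rfl⟩)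
    _ ((mem_orbs G a₀).mpr ⟨w', fun e => hxy (hiff'.mp e), rfl⟩)
  rw [← heq] at hw'
  unfold orb at hw hw'
  split at hw <;> [skip; simp at hw]
  split at hw' <;> [skip; simp at hw']
  rename_i e e'
  obtain ⟨g, hg, rfl, rfl⟩ := e
  obtain ⟨k, hk, rfl, rfl⟩ := e'
  exact ⟨⟨k, hk⟩ * ⟨g, hg⟩⁻¹, by simp [Subgroup.smul_def], by simp [Subgroup.smul_def]⟩

theorem th_int (w : α) : ∃ z : ℤ, th G C (orb G a₀ w) = z := by
  classical
  refine ⟨(univ.filter fun l => ∃ g ∈ G, g a₀ = C.e (0, 0) ∧ g w = C.e (0, l)).card -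
    (univ.filter fun l => ∃ g ∈ G, g a₀ = C.e (0, 0) ∧ g w = C.e (1, l)).card, ?_⟩
  simp [th, sb, blk, orb, Finset.sum_boole]

include C hG in
theorem rank_three (h2 : (orbs G a₀).card = 2) :
    ∃ a : ℕ, 0 < a ∧ p = 2 * a ^ 2 + 2 * a + 1 ∧ ∀ b : α, b ≠ a₀ →
      Nat.card (MulAction.orbit (MulAction.stabilizer G a₀) b) = a * (2 * a + 1) ∨
      Nat.card (MulAction.orbit (MulAction.stabilizer G a₀) b) = (a + 1) * (2 * a + 1) := by
  classical
  obtain ⟨A, A', hne, horbs⟩ := Finset.card_eq_two.mp h2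
  have hA : A ∈ orbs G a₀ := by rw [horbs]; simp
  have hA' : A' ∈ orbs G a₀ := by rw [horbs]; simp
  obtain ⟨w, hw, hwA⟩ := (mem_orbs G a₀).mp hA
  obtain ⟨w', hw', hwA'⟩ := (mem_orbs G a₀).mp hA'
  have hAinv : Inv G A := hwA ▸ orb_inv G a₀ w
  have hsum : ∀ x y, A x y + A' x y = if x = y then 0 else 1 := fun x y => by
    rw [← sum_orbs G a₀ x y, horbs, sum_pair hne]
  have hθsum : th G C A + th G C A' = -1 := by
    rw [← sum_th G C a₀, horbs, sum_pair hne]
  -- the square of `A` in the basis of the orbitals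
  set Z := mul A A with hZdef
  have hZ : Inv G Z := hAinv.mul G hAinv
  set cα := Z a₀ a₀ - Z a₀ w'
  set cβ := Z a₀ w - Z a₀ w'
  set cγ := Z a₀ w'
  have hdec : ∀ x y, Z x y = (if x = y then cα else 0) + cβ * A x y + cγ := by
    intro x y
    obtain ⟨z, hz, hiff⟩ := exists_orb G a₀ x y
    have hzval : Z x y = Z a₀ z ∧ A x y = A a₀ z := by
      unfold orb at hz
      split at hz <;> [skip; simp at hz]
      rename_i e
      obtain ⟨g, hg, rfl, rfl⟩ := e
      exact ⟨hZ g hg _ _, hAinv g hg _ _⟩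
    rw [hzval.1]
    by_cases hxy : x = y
    · have hza := hiff.mpr hxy
      rw [if_pos hxy, hzval.2, hza, ← hwA, orb_diag G a₀ hw]
      simp [cα, cγ]
    rw [if_neg hxy, zero_add, hzval.2]
    have hzmem : orb G a₀ z = A ∨ orb G a₀ z = A' := by
      have := (mem_orbs G a₀).mpr ⟨z, fun e => hxy (hiff.mp e), rfl⟩
      simpa [horbs] using this
    have key : ∀ {v : α}, orb G a₀ z = orb G a₀ v → Z a₀ z = Z a₀ v ∧ A a₀ z = A a₀ v := by
      intro v hv
      have h1 := orb_self G a₀ z
      rw [hv] at h1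
      unfold orb at h1
      split at h1 <;> [skip; simp at h1]
      rename_i e
      obtain ⟨g, hg, hg1, hg2⟩ := e
      exact ⟨(congrArg₂ Z hg1 hg2).symm.trans (hZ g hg a₀ v),
        (congrArg₂ A hg1 hg2).symm.trans (hAinv g hg a₀ v)⟩
    have hAw : A a₀ w = 1 := by rw [← hwA, orb_self]
    have hAw' : A a₀ w' = 0 := by
      have h1 := hsum a₀ w'
      rw [if_neg (Ne.symm hw'), ← hwA', orb_self] at h1
      linarith
    rcases hzmem with h | h
    · obtain ⟨e1, e2⟩ := key (h.trans hwA.symm)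
      rw [e1, e2, hAw]; simp [cβ, cγ]
    · obtain ⟨e1, e2⟩ := key (h.trans hwA'.symm)
      rw [e1, e2, hAw']; simp [cγ]
  have hblk : ∀ ε δ l, blk G C Z ε δ l =
      (if ε = δ ∧ l = 0 then cα else 0) + cβ * blk G C A ε δ l + cγ := by
    intro ε δ l
    simp only [blk, hdec, C.e.injective.eq_iff, Prod.mk.injEq]
    congr 3
    exact propext (and_congr_right fun _ => eq_comm)
  have hθ2 : th G C A * th G C A = cα + cβ * th G C A := by
    rw [← th_mul G C hAinv hAinv, ← hZdef]
    simp [th, sb, hblk, sum_add_distrib, ← mul_sum]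
    ring
  have hM : ∀ ε δ, mm G C A ε 0 * mm G C A 0 δ + mm G C A ε 1 * mm G C A 1 δ =
      (if ε = δ then (cα : ℂ) else 0) + (cβ : ℂ) * mm G C A ε δ := by
    intro ε δ
    have h := mm_mul G C hAinv hAinv ε δ
    rw [Fin.sum_univ_two] at h
    rw [← h, ← hZdef, mm,
      show blk G C Z ε δ = (fun l => if l = 0 then (if ε = δ then cα else 0) else 0) +
        cβ • blk G C A ε δ + fun _ => cγ from funext fun l => by
          simp only [hblk, Pi.add_apply, Pi.smul_apply, smul_eq_mul]
          by_cases h1 : ε = δ <;> by_cases h2 : l = 0 <;> simp [h1, h2],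
      ev_add, ev_add, ev_smul, ev_delta]
    have hconst : ev p (fun _ => cγ) = 0 := by
      simp only [ev, ← mul_sum]
      have : ∑ l : ZMod p, χ p (-l) = 0 := by
        rw [show ∑ l : ZMod p, χ p (-l) = ∑ l, χ p l from
          Fintype.sum_equiv (Equiv.neg _) _ _ fun _ => rfl]
        refine AddChar.sum_eq_zero_of_ne_one fun h => ?_
        have h1 := congrArg (fun ψ : AddChar (ZMod p) ℂ => ψ 1) h
        simp only [χ, AddChar.zmodChar_apply, ZMod.val_one, pow_one, AddChar.one_apply] at h1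
        exact (Complex.isPrimitiveRoot_exp p hpf.out.ne_zero).ne_one hpf.out.one_lt h1
      rw [this, mul_zero]
    rw [hconst, mm]
    split_ifs <;> simp
  -- the trace at the character is rational
  obtain ⟨ν, hν⟩ : ∃ ν : ℚ, mm G C A 0 0 + mm G C A 1 1 = ν := by
    obtain ⟨u, hu, heig⟩ := exists_eigen G C hG
    have e1 := heig A hAinv 0
    have e2 := heig A hAinv 1
    have h01 := hM 0 1
    have h10 := hM 1 0
    have h00 := hM 0 0
    have h11 := hM 1 1
    set a := mm G C A 0 0
    set b := mm G C A 0 1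
    set c := mm G C A 1 0
    set d := mm G C A 1 1
    set t := ((th G C A : ℚ) : ℂ)
    by_cases hab : a + d = (cβ : ℂ)
    · exact ⟨cβ, hab⟩
    simp only [Fin.isValue, zero_ne_one, one_ne_zero, if_false, if_true] at h01 h10 h00 h11
    have hb : b = 0 := by
      refine (mul_eq_zero.mp (?_ : (a + d - (cβ : ℂ)) * b = 0)).resolve_left (sub_ne_zero.mpr hab)
      linear_combination h01
    have hc : c = 0 := by
      refine (mul_eq_zero.mp (?_ : (a + d - (cβ : ℂ)) * c = 0)).resolve_left (sub_ne_zero.mpr hab)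
      linear_combination h10
    rw [hb, hc] at h00 h11
    rw [hb] at e1
    rw [hc] at e2
    have hθ2' : t * t = (cα : ℂ) + (cβ : ℂ) * t := by
      simp only [t]; exact_mod_cast congrArg (fun q : ℚ => (q : ℂ)) hθ2
    have hroot : ∀ x : ℂ, x * x = (cα : ℂ) + (cβ : ℂ) * x → x = t ∨ x = (cβ : ℂ) - t := by
      intro x hx
      rcases mul_eq_zero.mp (show (x - t) * (x + t - (cβ : ℂ)) = 0 by
        linear_combination hx - hθ2') with h | h
      · exact Or.inl (sub_eq_zero.mp h)
      · exact Or.inr (by linear_combination h)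
    have ha : a = t ∨ a = (cβ : ℂ) - t := hroot a (by linear_combination h00)
    have hd : d = t ∨ d = (cβ : ℂ) - t := hroot d (by linear_combination h11)
    refine ⟨2 * th G C A, ?_⟩
    push_cast
    rcases hu with h0 | h1
    · have ha' : a = t := mul_right_cancel₀ h0 (by linear_combination e1)
      rcases hd with hd | hd
      · rw [ha', hd]; ring
      · exact absurd (by rw [ha', hd]; ring) hab
    · have hd' : d = t := mul_right_cancel₀ h1 (by linear_combination e2)
      rcases ha with ha | ha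
      · rw [hd', ha]; ring
      · exact absurd (by rw [hd', ha]; ring) hab
  set n : ZMod p → ℚ := blk G C A 0 0 + blk G C A 1 1 with hn
  have h00 : n 0 = 0 := by
    simp [hn, ← hwA, blk, orb_diag G a₀ hw]
  have hnconst : ∀ l, l ≠ 0 → n l = -ν := by
    intro l hl
    have h0 : ev p (n - fun l => if l = 0 then ν else 0) = 0 := by
      rw [ev_sub, ev_delta, hn, ev_add]; exact sub_eq_zero.mpr hν
    have := eq_const_of_ev_eq_zero _ h0 l
    simpa [hl, h00] using this
  have hn' : ∀ l, l ≠ 0 → blk G C A' 0 0 l + blk G C A' 1 1 l = 2 - n l := by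
    intro l hl
    have h1 := hsum (C.e (0, 0)) (C.e (0, l))
    have h2 := hsum (C.e (1, 0)) (C.e (1, l))
    rw [if_neg (by simpa using Ne.symm hl)] at h1 h2
    simp only [hn, blk, Pi.add_apply]
    linarith
  have hAz : ∀ {X}, X ∈ orbs G a₀ → ∀ ε, blk G C X ε ε 0 = 0 := fun {X} hX ε => by
    obtain ⟨x, hx, rfl⟩ := (mem_orbs G a₀).mp hX
    exact orb_diag G a₀ hx _
  have hsum_ne : ∀ f : ZMod p → ℚ, f 0 = 0 → ∀ c : ℚ, (∀ l, l ≠ 0 → f l = c) →
      ∑ l, f l = ((p : ℚ) - 1) * c := by
    intro f hf0 c hfc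
    rw [← Finset.sum_erase (a := (0 : ZMod p)) univ hf0,
      Finset.sum_congr rfl (fun l hl => hfc l (Finset.ne_of_mem_erase hl))]
    simp [Finset.card_erase_of_mem, Nat.cast_sub hpf.out.one_le]
  have hνval : -ν = 1 := by
    have hl1 : (1 : ZMod p) ≠ 0 := one_ne_zero
    have h1 := hnconst 1 hl1
    have hpos := sb_pos G C hG a₀ hA
    have hpos' := sb_pos G C hG a₀ hA'
    obtain ⟨hs, -⟩ := sb_symm G C hAinv
    obtain ⟨hs', -⟩ := sb_symm G C (hwA' ▸ orb_inv G a₀ w' : Inv G A')
    have hn1 : n 1 = 0 ∨ n 1 = 1 ∨ n 1 = 2 := by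
      simp only [hn, Pi.add_apply, blk, ← hwA]
      rcases orb_zero_or_one G a₀ w (C.e (0, 0)) (C.e (0, 1)) with h | h <;>
        rcases orb_zero_or_one G a₀ w (C.e (1, 0)) (C.e (1, 1)) with h' | h' <;>
        simp [h, h'] <;> norm_num
    rcases hn1 with h | h | h
    · have := hsum_ne n h00 0 fun l hl => (hnconst l hl).trans (h1.symm.trans h)
      simp only [hn, Pi.add_apply, sum_add_distrib, mul_zero] at this
      change sb G C A 0 0 + sb G C A 1 1 = 0 at this
      linarith
    · linarith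
    · have := hsum_ne (fun l => blk G C A' 0 0 l + blk G C A' 1 1 l) (by simp [hAz hA']) 0
        fun l hl => by rw [hn' l hl, (hnconst l hl).trans (h1.symm.trans h)]; norm_num
      simp only [sum_add_distrib, mul_zero] at this
      change sb G C A' 0 0 + sb G C A' 1 1 = 0 at this
      linarith
  have hn1 : ∀ l, l ≠ 0 → n l = 1 := fun l hl => (hnconst l hl).trans hνval
  have hs : sb G C A 0 0 * 2 = (p : ℚ) - 1 := by
    have := hsum_ne n h00 1 hn1
    simp only [hn, Pi.add_apply, sum_add_distrib, mul_one] at this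
    change sb G C A 0 0 + sb G C A 1 1 = (p : ℚ) - 1 at this
    linarith [(sb_symm G C hAinv).1]
  have hs' : sb G C A' 0 0 * 2 = (p : ℚ) - 1 := by
    have := hsum_ne (fun l => blk G C A' 0 0 l + blk G C A' 1 1 l) (by simp [hAz hA']) 1
      fun l hl => by rw [hn' l hl, hn1 l hl]; norm_num
    simp only [sum_add_distrib, mul_one] at this
    change sb G C A' 0 0 + sb G C A' 1 1 = (p : ℚ) - 1 at this
    linarith [(sb_symm G C (hwA' ▸ orb_inv G a₀ w' : Inv G A')).1]
  have hp2 : (p : ℚ) - 1 = -2 * th G C A * th G C A' := by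
    have h := orb_corr G C hG a₀ hA hA'
    rw [if_neg hne] at h
    have := hsum_ne (fun j => n j * (blk G C A' 0 0 j + blk G C A' 1 1 j))
      (by simp [h00]) 1 fun l hl => by rw [hn' l hl, hn1 l hl]; norm_num
    simp only [hn, Pi.add_apply, mul_one] at this
    linarith
  have hk : ∀ {X}, X ∈ orbs G a₀ → sb G C X 0 0 * 2 = (p : ℚ) - 1 → ∀ b, orb G a₀ b = X →
      (Nat.card (MulAction.orbit (MulAction.stabilizer G a₀) b) : ℚ) =
        (p : ℚ) - 1 - th G C X := by
    intro X _ hsX b hb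
    rw [card_orbit, row_sum G (orb_inv G a₀ b) a₀ (C.e (0, 0)), row_sum_blk, hb, th]
    linarith
  obtain ⟨z, hz⟩ := th_int G C a₀ w
  rw [hwA] at hz
  have hA'θ : th G C A' = -1 - z := by linarith
  rw [hz, hA'θ] at hp2
  have hpz : (p : ℤ) = 2 * z * z + 2 * z + 1 := by
    have : (p : ℚ) = ((2 * z * z + 2 * z + 1 : ℤ) : ℚ) := by push_cast; linarith
    exact_mod_cast this
  have hcases : ∀ b, b ≠ a₀ → (Nat.card (MulAction.orbit (MulAction.stabilizer G a₀) b) : ℤ) =
      2 * z * z + z ∨ (Nat.card (MulAction.orbit (MulAction.stabilizer G a₀) b) : ℤ) =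
      2 * z * z + 3 * z + 1 := by
    intro b hb
    have hmem := (mem_orbs G a₀).mpr ⟨b, hb, rfl⟩
    rw [horbs, mem_insert, mem_singleton] at hmem
    rcases hmem with h | h
    · left
      have := hk hA hs b h
      rw [hz] at this
      have h' : (Nat.card (MulAction.orbit (MulAction.stabilizer G a₀) b) : ℚ) =
          ((2 * z * z + z : ℤ) : ℚ) := by push_cast; linarith
      exact_mod_cast h'
    · right
      have := hk hA' hs' b h
      rw [hA'θ] at this
      have h' : (Nat.card (MulAction.orbit (MulAction.stabilizer G a₀) b) : ℚ) =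
          ((2 * z * z + 3 * z + 1 : ℤ) : ℚ) := by push_cast; linarith
      exact_mod_cast h'
  obtain ⟨a, ha⟩ : ∃ a : ℕ, z = a ∨ z = -(a : ℤ) - 1 := by
    rcases le_or_gt 0 z with h | h
    · exact ⟨z.toNat, Or.inl (Int.toNat_of_nonneg h).symm⟩
    · exact ⟨(-z - 1).toNat, Or.inr (by rw [Int.toNat_of_nonneg (by omega)]; ring)⟩
  have hpa : p = 2 * a ^ 2 + 2 * a + 1 := by
    rcases ha with rfl | rfl <;> · zify; rw [hpz]; ring
  refine ⟨a, ?_, hpa, fun b hb => ?_⟩
  · by_contra h0
    have := hpf.out.one_lt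
    simp only [Nat.eq_zero_of_not_pos h0] at hpa
    norm_num at hpa
    omega
  · rcases ha with rfl | rfl <;> rcases hcases b hb with h | h <;>
      first
        | (left; zify; rw [h]; ring; done)
        | (right; zify; rw [h]; ring; done)

theorem card_quotient :
    Nat.card (MulAction.orbitRel.Quotient (MulAction.stabilizer G a₀) α) =
      (orbs G a₀).card + 1 := by
  classical
  have hne : orb G a₀ a₀ ∉ orbs G a₀ := by
    intro h
    obtain ⟨w, hw, he⟩ := (mem_orbs G a₀).mp h
    have := orb_self G a₀ a₀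
    rw [← he, orb_diag G a₀ hw] at this
    norm_num at this
  rw [← Finset.card_insert_of_notMem hne, ← Nat.card_eq_finsetCard]
  refine Nat.card_congr (Equiv.ofBijective (Quotient.lift
    (fun w => (⟨orb G a₀ w, ?_⟩ : {x // x ∈ insert (orb G a₀ a₀) (orbs G a₀)})) ?_) ⟨?_, ?_⟩)
  · by_cases h : w = a₀
    · simp [h]
    · exact Finset.mem_insert_of_mem ((mem_orbs G a₀).mpr ⟨w, h, rfl⟩)
  · rintro b c ⟨g, rfl⟩
    refine Subtype.ext (orb_eq G a₀ (u := a₀) (v := g • c) ?_ ?_)
    · exact orb_self G a₀ _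
    · unfold orb; rw [if_pos ⟨(g : G), (g : G).2, g.2, rfl⟩]
  · intro x y
    induction x using Quotient.inductionOn with | h b => ?_
    induction y using Quotient.inductionOn with | h c => ?_
    intro h
    have h' : orb G a₀ b = orb G a₀ c := congrArg Subtype.val h
    have h1 := orb_self G a₀ b
    rw [h'] at h1
    unfold orb at h1
    split at h1 <;> [skip; simp at h1]
    rename_i e
    obtain ⟨g, hg, hg1, hg2⟩ := e
    exact Quotient.sound ⟨⟨⟨g, hg⟩, hg1⟩, hg2⟩
  · rintro ⟨X, hX⟩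
    rcases Finset.mem_insert.mp hX with rfl | h
    · exact ⟨Quotient.mk _ a₀, rfl⟩
    · obtain ⟨w, -, rfl⟩ := (mem_orbs G a₀).mp h
      exact ⟨Quotient.mk _ w, rfl⟩

omit [MulAction.IsPretransitive G α] in
include hG in
theorem main (hp : p.Prime) (hα : Fintype.card α = 2 * p) :
    MulAction.IsMultiplyPretransitive G α 2 ∨ Nonempty (Coord G p) := by
  classical
  haveI := hG
  haveI : MulAction.IsPretransitive G α := hG.toIsPretransitive
  haveI : Nonempty α := Fintype.card_pos_iff.mp (by rw [hα]; have := hp.pos; omega)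
  obtain ⟨x0⟩ := ‹Nonempty α›
  have hdvd : p ∣ Nat.card G := by
    have h := (MulAction.stabilizer G x0).index_dvd_card
    rw [MulAction.index_stabilizer_of_transitive, Nat.card_eq_fintype_card, hα] at h
    exact (dvd_mul_left p 2).trans h
  obtain ⟨⟨y, hy⟩, hord⟩ := exists_prime_orderOf_dvd_card' (G := G) p hdvd
  rw [Subgroup.orderOf_mk] at hord
  obtain ⟨m, hm⟩ := Equiv.Perm.cycleType_prime_order (hord.symm ▸ hp : (orderOf y).Prime)
  rw [hord] at hm
  have hsupp : y.support.card = (m + 1) * p := by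
    rw [← Equiv.Perm.sum_cycleType, hm, Multiset.sum_replicate, smul_eq_mul]
  have hle : (m + 1) * p ≤ 2 * p := by
    rw [← hsupp, ← hα]; exact Finset.card_le_univ _
  have hm1 : m ≤ 1 := by
    have := Nat.le_of_mul_le_mul_right hle hp.pos
    omega
  interval_cases m
  · -- a single cycle
    left
    have hcyc : y.IsCycle := by
      rw [← Equiv.Perm.card_cycleType_eq_one, hm, Multiset.card_replicate]
    rw [zero_add, one_mul] at hsupp
    have htop : alternatingGroup α ≤ G ∨ G = ⊤ := by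
      rcases eq_or_ne p 2 with rfl | hp2
      · exact Or.inr (Equiv.Perm.subgroup_eq_top_of_isPreprimitive_of_isSwap_mem hG y
          (Equiv.Perm.card_support_eq_two.mp hsupp) hy)
      · have := hp.two_le
        exact Or.inl (H58.alternating_le_of_prime_cycle G hG hp (by omega) hcyc hsupp hy)
    have hAle : alternatingGroup α ≤ G := htop.elim id (fun h => h ▸ le_top)
    have hA2 : MulAction.IsMultiplyPretransitive (alternatingGroup α) α 2 := by
      haveI := alternatingGroup.isMultiplyPretransitive α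
      exact MulAction.isMultiplyPretransitive_of_le (n := Nat.card α - 2)
        (by rw [Nat.card_eq_fintype_card, hα]; have := hp.two_le; omega) (Nat.sub_le _ _)
    refine MulAction.is_two_pretransitive_iff.mpr fun {u v x z} huv hxz => ?_
    obtain ⟨g, h1, h2⟩ := (MulAction.is_two_pretransitive_iff.mp hA2) huv hxz
    exact ⟨⟨g, hAle g.2⟩, h1, h2⟩
  · -- two cycles
    right
    have hall : ∀ x, y x ≠ x := by
      intro x
      have : y.support = Finset.univ := Finset.eq_univ_of_card _ (by rw [hsupp, hα])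
      exact Equiv.Perm.mem_support.mp (this ▸ Finset.mem_univ x)
    have hyp : y ^ p = 1 := hord ▸ pow_orderOf_eq_one y
    have hpow : ∀ k : ℕ, (k : ZMod p) ≠ 0 → ∀ x, (y ^ k) x ≠ x := by
      intro k hk x hx
      have hcop : Nat.Coprime k p := by
        refine Nat.Coprime.symm ((hp.coprime_iff_not_dvd).mpr fun h => hk ?_)
        exact (ZMod.natCast_eq_zero_iff ..).mpr h
      obtain ⟨j, hj⟩ := Nat.exists_mul_mod_eq_one_of_coprime hcop hp.one_lt
      have h1 : y = (y ^ k) ^ j := by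
        rw [← pow_mul, ← pow_mod_orderOf, hord, hj.2, pow_one]
      exact hall x (by rw [h1]; exact Equiv.Perm.pow_apply_eq_self_of_apply_eq_self hx j)
    haveI : NeZero p := ⟨hp.ne_zero⟩
    have hadd : ∀ i l : ZMod p, y ^ (l + i).val = y ^ i.val * y ^ l.val := by
      intro i l
      rw [← pow_add, ZMod.val_add, add_comm i.val]
      conv_rhs => rw [← pow_mod_orderOf, hord]
    have hsep : ∀ x (i j : ZMod p), (y ^ i.val) x = (y ^ j.val) x → i = j := by
      intro x i j h
      by_contra hne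
      have e := hadd j (i - j)
      rw [sub_add_cancel] at e
      rw [e, Equiv.Perm.mul_apply] at h
      refine hpow (i - j).val ?_ x ((y ^ j.val).injective h)
      rw [ZMod.natCast_zmod_val]
      exact sub_ne_zero.mpr hne
    obtain ⟨x1, hx1⟩ : ∃ x1, ∀ i : ZMod p, (y ^ i.val) x0 ≠ x1 := by
      by_contra hc
      push Not at hc
      have := Fintype.card_le_of_surjective (fun i : ZMod p => (y ^ i.val) x0) hc
      rw [hα, ZMod.card] at this
      have := hp.pos
      omega
    let f : Fin 2 × ZMod p → α := fun q => (y ^ q.2.val) (if q.1 = 0 then x0 else x1)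
    have hsymm : ∀ i j : ZMod p, (y ^ i.val) x0 ≠ (y ^ j.val) x1 := by
      intro i j h
      have e := hadd j (i - j)
      rw [sub_add_cancel] at e
      rw [e, Equiv.Perm.mul_apply] at h
      exact hx1 (i - j) ((y ^ j.val).injective h)
    have hinj : Function.Injective f := by
      rintro ⟨ε, i⟩ ⟨δ, j⟩ h
      fin_cases ε <;> fin_cases δ
      · exact Prod.ext rfl (hsep x0 i j h)
      · exact absurd h (hsymm i j)
      · exact absurd h.symm (hsymm j i)
      · exact Prod.ext rfl (hsep x1 i j h)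
    refine ⟨⟨Equiv.ofBijective f ((Fintype.bijective_iff_injective_and_card f).mpr
      ⟨hinj, by simp [hα]⟩), fun i => ⟨y ^ i.val, pow_mem hy _, fun ε l => ?_⟩⟩⟩
    simp only [Equiv.ofBijective_apply, f, hadd i l, Equiv.Perm.mul_apply]

end H58.TwiceP
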