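import Mathlib
import Cfsg.Agent.H58.TwiceP

/-!
Rationality lemma for circulant `0,1`-matrices: if a power of the eigenvalue and its squared
absolute value are rational up to a root of unity, the matrix is trivial.
-/

set_option autoImplicit false

namespace H58.SqOne

open scoped ComplexConjugate
open Finset H58.TwiceP

variable {p : ℕ} [Fact p.Prime]

theorem ev_conv (f g : ZMod p → ℚ) :
    ev p (fun l => ∑ i, f i * g (l - i)) = ev p f * ev p g := by
  simp only [ev, Rat.cast_sum, Rat.cast_mul, sum_mul]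
  rw [sum_comm]
  refine sum_congr rfl fun i _ => ?_
  rw [mul_sum]
  refine Fintype.sum_equiv (Equiv.subRight i) _ _ fun l => ?_
  have h : χ p (-l) = χ p (-i) * χ p (-(l - i)) := by
    rw [← AddChar.map_add_eq_mul]; congr 1; abel
  simp only [Equiv.subRight_apply]
  rw [h]; ring

theorem ev_const (c : ℚ) : ev p (fun _ => c) = 0 := by
  simp only [ev, ← mul_sum]
  have : ∑ l : ZMod p, χ p (-l) = 0 := by
    rw [show ∑ l : ZMod p, χ p (-l) = ∑ l, χ p l from
      Fintype.sum_equiv (Equiv.neg _) _ _ fun _ => rfl]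
    refine AddChar.sum_eq_zero_of_ne_one fun h => ?_
    have h1 := congrArg (fun ψ : AddChar (ZMod p) ℂ => ψ 1) h
    simp only [χ, AddChar.zmodChar_apply, ZMod.val_one, pow_one, AddChar.one_apply] at h1
    exact (Complex.isPrimitiveRoot_exp p (Fact.out : p.Prime).ne_zero).ne_one
      (Fact.out : p.Prime).one_lt h1
  rw [this, mul_zero]

theorem ev_point (c : ℚ) (t : ZMod p) :
    ev p (fun l => if l = t then c else 0) = (c : ℂ) * χ p (-t) := by
  simp only [ev]
  rw [Finset.sum_eq_single t]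
  · simp
  · intro l _ hl; simp [hl]
  · simp

/-- A function constant away from a point has value `(f t - const) χ(-t)`. -/
theorem ev_almost_const {f : ZMod p → ℚ} {t : ZMod p} {γ : ℚ} (h : ∀ l, l ≠ t → f l = γ) :
    ev p f = ((f t - γ : ℚ) : ℂ) * χ p (-t) := by
  have : f = (fun l => if l = t then f t - γ else 0) + fun _ => γ := by
    funext l
    simp only [Pi.add_apply]
    by_cases hl : l = t
    · simp [hl]
    · simp [hl, h l hl]
  conv_lhs => rw [this]
  rw [ev_add, ev_point, ev_const, add_zero]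

/-- The rationality argument. -/
theorem const_off_point (hp2 : p ≠ 2) (D : ZMod p → ℚ) {α β : ℚ} {c : ZMod p} (hβ : β ≠ 0)
    (h1 : ev p D ^ p = (α : ℂ) * χ p c) (h2 : ev p D * conj (ev p D) = (β : ℂ)) :
    ∃ t, ∀ l l', l ≠ t → l' ≠ t → D l = D l' := by
  have hp : p.Prime := Fact.out
  set x := ev p D with hx
  set ζ : ℂ := Complex.exp (2 * Real.pi * Complex.I / p) with hζdef
  have hζ : IsPrimitiveRoot ζ p := Complex.isPrimitiveRoot_exp p hp.ne_zero
  have hχ : ∀ m : ZMod p, χ p m = ζ ^ m.val := fun m => AddChar.zmodChar_apply _ m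
  have hnorm : χ p c * conj (χ p c) = 1 := by
    rw [conj_χ, ← AddChar.map_add_eq_mul, add_neg_cancel, AddChar.map_zero_eq_one]
  have hαβ : β ^ p = α ^ 2 := by
    have : ((β ^ p : ℚ) : ℂ) = ((α ^ 2 : ℚ) : ℂ) := by
      push_cast
      rw [← h2, mul_pow, ← map_pow, h1, map_mul, map_ratCast]
      linear_combination (α : ℂ) ^ 2 * hnorm
    exact_mod_cast this
  obtain ⟨m, hm⟩ := hp.odd_of_ne_two hp2
  set r : ℚ := α / β ^ m with hrdef
  have hrr : r ^ 2 = β := by
    rw [hrdef, div_pow, ← hαβ, ← pow_mul, hm, pow_succ, mul_comm m 2]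
    field_simp
  have hr0 : r ≠ 0 := fun h => hβ (by rw [← hrr, h]; norm_num)
  have hrp : r ^ p = α := by
    rw [hm, pow_succ, pow_mul, hrr, hrdef]
    field_simp
  set w : ℂ := x / (r : ℂ) with hwdef
  have hw : w ^ p = χ p c := by
    rw [hwdef, div_pow, h1, ← Rat.cast_pow, hrp]
    have hα0 : (α : ℂ) ≠ 0 := by
      rw [← hrp]; exact_mod_cast pow_ne_zero p hr0
    field_simp
  -- `w` lies in `ℚ(ζ)`
  have hwmem : w ∈ IntermediateField.adjoin ℚ ({ζ} : Set ℂ) := by
    have hζmem : ζ ∈ IntermediateField.adjoin ℚ ({ζ} : Set ℂ) :=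
      IntermediateField.subset_adjoin ℚ _ rfl
    have hq : ∀ q : ℚ, (q : ℂ) ∈ IntermediateField.adjoin ℚ ({ζ} : Set ℂ) := fun q => by
      rw [← eq_ratCast (algebraMap ℚ ℂ) q]; exact IntermediateField.algebraMap_mem _ q
    refine div_mem ?_ (hq r)
    rw [hx, ev]
    exact sum_mem fun l _ => mul_mem (hq _) (by rw [hχ]; exact pow_mem hζmem _)
  by_cases hc : c = 0
  · rw [hc, AddChar.map_zero_eq_one] at hw
    obtain ⟨i, -, hi⟩ := hζ.eq_pow_of_pow_eq_one hw
    refine ⟨-(i : ZMod p), fun l l' hl hl' => ?_⟩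
    have hxe : x = (r : ℂ) * χ p (i : ZMod p) := by
      have : χ p (i : ZMod p) = ζ ^ i := AddChar.zmodChar_apply' _ i
      rw [this, hi, hwdef]
      field_simp
    have h0 : ev p (D - fun l => if l = -(i : ZMod p) then r else 0) = 0 := by
      rw [ev_sub, ev_point, neg_neg, ← hx, hxe, sub_self]
    have e1 := eq_const_of_ev_eq_zero _ h0 l
    have e2 := eq_const_of_ev_eq_zero _ h0 l'
    simp only [Pi.sub_apply, if_neg hl, if_neg hl', sub_zero] at e1 e2
    rw [e1, e2]
  · exfalso
    have hne : w ^ p ^ 1 ≠ 1 := by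
      rw [pow_one, hw, hχ]
      intro h
      have := hζ.dvd_of_pow_eq_one _ h
      exact (Nat.not_dvd_of_pos_of_lt (Nat.pos_of_ne_zero (fun h0 => hc ((ZMod.val_eq_zero c).mp h0)))
        c.val_lt) this
    have hfin : w ^ p ^ (1 + 1) = 1 := by
      rw [show p ^ (1 + 1) = p * p by ring, pow_mul, hw, hχ, ← pow_mul, mul_comm, pow_mul,
        hζ.pow_eq_one, one_pow]
    have hord : orderOf w = p ^ 2 := orderOf_eq_prime_pow hne hfin
    have hw2 : IsPrimitiveRoot w (p ^ 2) := hord ▸ IsPrimitiveRoot.orderOf w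
    have hint : IsIntegral ℚ ζ :=
      (hζ.isIntegral hp.pos).tower_top
    set F := IntermediateField.adjoin ℚ ({ζ} : Set ℂ)
    haveI : FiniteDimensional ℚ F := IntermediateField.adjoin.finiteDimensional hint
    have hdeg : (minpoly ℚ (⟨w, hwmem⟩ : F)).natDegree ≤ Module.finrank ℚ F :=
      minpoly.natDegree_le _
    rw [← minpoly.algebraMap_eq (B' := ℂ) (algebraMap F ℂ).injective,
      show algebraMap F ℂ ⟨w, hwmem⟩ = w from rfl,
      ← Polynomial.cyclotomic_eq_minpoly_rat hw2 (pow_pos hp.pos 2),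
      IntermediateField.adjoin.finrank hint,
      ← Polynomial.cyclotomic_eq_minpoly_rat hζ hp.pos, Polynomial.natDegree_cyclotomic,
      Polynomial.natDegree_cyclotomic, Nat.totient_prime hp,
      Nat.totient_prime_pow hp (by norm_num)] at hdeg
    have h3 : 2 ≤ p := hp.two_le
    have h4 : 2 * (p - 1) ≤ p ^ (2 - 1) * (p - 1) := by
      apply Nat.mul_le_mul_right; simpa using h3
    omega

end H58.SqOne
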