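import Mathlib
import Cfsg.Agent.H58.SquarePlusOneChar
import Cfsg.Agent.H58.PrimeDegree

/-!
Doubly transitive groups of degree `p² + 1`: elementary proof that they are doubly primitive
apart from the group of order 20 on five points.
-/

set_option autoImplicit false
set_option linter.unusedSectionVars false

namespace H58.SqOne

open scoped Pointwise
open MulAction

variable {G : Type*} [Group G] [Finite G] {Ω : Type*} [Fintype Ω] [MulAction G Ω]

/-- An orbit times a stabiliser. -/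
theorem card_eq_orbit_mul (M : Subgroup G) (x : Ω) :
    Nat.card M = {y | ∃ g ∈ M, g • x = y}.ncard * Nat.card ↥(M ⊓ stabilizer G x) := by
  classical
  have h1 := Subgroup.card_mul_index (stabilizer M x)
  rw [index_stabilizer] at h1
  have h2 : orbit M x = {y | ∃ g ∈ M, g • x = y} := by
    ext y
    exact ⟨fun ⟨g, hg⟩ => ⟨g, g.2, hg⟩, fun ⟨g, hg, h⟩ => ⟨⟨g, hg⟩, h⟩⟩
  have h3 : Nat.card (stabilizer M x) = Nat.card ↥(M ⊓ stabilizer G x) :=
    Nat.card_congr
      { toFun := fun g => ⟨(g : M), ⟨(g : M).2, g.2⟩⟩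
        invFun := fun g => ⟨⟨g, g.2.1⟩, g.2.2⟩
        left_inv := fun _ => rfl
        right_inv := fun _ => rfl }
  rw [← h1, h2, h3, mul_comm]

/-- The data: a doubly transitive group of degree `p² + 1`, a point `a`, and a block of size `p`
of the stabiliser of `a`. -/
structure Setup (G : Type*) [Group G] (Ω : Type*) [MulAction G Ω] (p : ℕ) where
  a : Ω
  b : Ω
  B : Set Ω
  ne : b ≠ a
  two : ∀ {x y z w : Ω}, x ≠ y → z ≠ w → ∃ g : G, g • x = z ∧ g • y = w
  hb : b ∈ B
  ha : a ∉ B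
  cardB : B.ncard = p
  block : ∀ g : G, g • a = a → ∀ y, y ∈ B → g • y ∈ B → g • B = B
  faith : ∀ g : G, (∀ x : Ω, g • x = x) → g = 1

variable {p : ℕ} [hpf : Fact p.Prime] (S : Setup G Ω p) (hn : Fintype.card Ω = p ^ 2 + 1)

/-- The two-point stabiliser. -/
def D : Subgroup G := stabilizer G S.a ⊓ stabilizer G S.b

theorem mem_D {g : G} : g ∈ D S ↔ g • S.a = S.a ∧ g • S.b = S.b := Iff.rfl

include S in
theorem trans_one (x y : Ω) : ∃ g : G, g • x = y := by
  by_cases hx : x = S.a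
  · subst hx
    by_cases hy : y = S.a
    · exact ⟨1, by rw [one_smul, hy]⟩
    · obtain ⟨g, hg, -⟩ := S.two S.ne.symm hy
      exact ⟨g, hg⟩
  · by_cases hy : y = S.a
    · subst hy
      obtain ⟨g, hg, -⟩ := S.two (y := S.a) hx S.ne.symm
      exact ⟨g, hg⟩
    · obtain ⟨g, hg, -⟩ := S.two (y := S.a) (w := S.a) hx hy
      exact ⟨g, hg⟩

include hn in
theorem card_X : Nat.card (stabilizer G S.a) = p ^ 2 * Nat.card (D S) := by
  rw [card_eq_orbit_mul (stabilizer G S.a) S.b]
  congr 1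
  have : {y | ∃ g ∈ stabilizer G S.a, g • S.b = y} = {S.a}ᶜ := by
    ext y
    constructor
    · rintro ⟨g, hg, rfl⟩ h
      rw [Set.mem_singleton_iff] at h
      exact S.ne (smul_left_cancel g (h.trans (mem_stabilizer_iff.mp hg).symm))
    · intro hy
      obtain ⟨g, hg1, hg2⟩ := S.two S.ne.symm (Ne.symm hy : S.a ≠ y)
      exact ⟨g, hg1, hg2⟩
  rw [this, Set.ncard_compl, Set.ncard_singleton, Nat.card_eq_fintype_card, hn]
  omega

include hn in
theorem card_G : Nat.card G = (p ^ 2 + 1) * (p ^ 2 * Nat.card (D S)) := by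
  rw [← Subgroup.card_top (G := G), card_eq_orbit_mul ⊤ S.a, top_inf_eq, card_X S hn]
  congr 1
  rw [show {y | ∃ g ∈ (⊤ : Subgroup G), g • S.a = y} = Set.univ from
    Set.eq_univ_of_forall fun y => by
      obtain ⟨g, hg⟩ := trans_one S S.a y; exact ⟨g, trivial, hg⟩,
    Set.ncard_univ, Nat.card_eq_fintype_card, hn]

include hn in
/-- A set with a doubly transitive stabiliser containing the two-point stabiliser is a pair or
everything. -/
theorem two_or_univ (T : Set Ω) (M : Subgroup G) (hT : ∀ g ∈ M, g • T = T) (hD : D S ≤ M)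
    (ha : S.a ∈ T) (hb : S.b ∈ T) (htr : ∀ z ∈ T, ∃ g ∈ M, g • S.a = z)
    (htr2 : ∀ w ∈ T, w ≠ S.a → ∃ g ∈ M, g • S.a = S.a ∧ g • S.b = w) :
    T.ncard = 2 ∨ T = Set.univ := by
  have hp : p.Prime := hpf.out
  have hmem : ∀ g ∈ M, ∀ z ∈ T, g • z ∈ T := fun g hg z hz =>
    hT g hg ▸ Set.smul_mem_smul_set hz
  have h1 := card_eq_orbit_mul M S.a
  have h2 := card_eq_orbit_mul (M ⊓ stabilizer G S.a) S.b
  have e1 : {y | ∃ g ∈ M, g • S.a = y} = T :=
    Set.ext fun y => ⟨fun ⟨g, hg, h⟩ => h ▸ hmem g hg _ ha, htr y⟩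
  have e2 : {y | ∃ g ∈ M ⊓ stabilizer G S.a, g • S.b = y} = T \ {S.a} := by
    refine Set.ext fun y => ⟨?_, ?_⟩
    · rintro ⟨g, ⟨hg, hga⟩, rfl⟩
      refine ⟨hmem g hg _ hb, fun h => S.ne (smul_left_cancel g ?_)⟩
      rw [Set.mem_singleton_iff] at h
      exact h.trans (mem_stabilizer_iff.mp hga).symm
    · rintro ⟨hy, hya⟩
      obtain ⟨g, hg, hga, hgb⟩ := htr2 y hy hya
      exact ⟨g, ⟨hg, hga⟩, hgb⟩
  have e3 : M ⊓ stabilizer G S.a ⊓ stabilizer G S.b = D S := by
    rw [inf_assoc]; exact inf_eq_right.mpr hD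
  rw [e1] at h1
  rw [e2, e3] at h2
  set k := T.ncard with hk
  have hk2 : 2 ≤ k := by
    rw [hk, ← Set.ncard_pair S.ne]
    exact Set.ncard_le_ncard (Set.insert_subset hb (Set.singleton_subset_iff.mpr ha))
  rw [Set.ncard_diff_singleton_of_mem ha, ← hk] at h2
  have hd1 : (k - 1) * Nat.card (D S) ∣ p ^ 2 * Nat.card (D S) := by
    rw [← h2, ← card_X S hn]
    exact Subgroup.card_dvd_of_le inf_le_right
  have hd2 : k * ((k - 1) * Nat.card (D S)) ∣ (p ^ 2 + 1) * (p ^ 2 * Nat.card (D S)) := by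
    rw [← h2, ← h1, ← card_G S hn]
    exact Subgroup.card_subgroup_dvd_card M
  have hDpos : 0 < Nat.card (D S) := Nat.card_pos
  rw [Nat.mul_dvd_mul_iff_right hDpos] at hd1
  rw [← mul_assoc, ← mul_assoc, Nat.mul_dvd_mul_iff_right hDpos] at hd2
  obtain ⟨i, hi, hki⟩ := (Nat.dvd_prime_pow hp).mp hd1
  interval_cases i
  · left; simp only [pow_zero] at hki; omega
  · exfalso
    rw [pow_one] at hki
    rw [hki, show k = p + 1 by omega, pow_two p, ← mul_assoc,
      Nat.mul_dvd_mul_iff_right hp.pos] at hd2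
    have hcop : Nat.Coprime (p + 1) p := by simp
    have hd3 : p + 1 ∣ p * p + 1 := hcop.dvd_of_dvd_mul_right hd2
    obtain ⟨c, hc⟩ := hd3
    have h2p := hp.two_le
    have hcp : c < p := by nlinarith
    have hcp' : p - 1 ≤ c := by
      by_contra hlt
      push Not at hlt
      have : (p + 1) * (c + 2) ≤ (p + 1) * p := Nat.mul_le_mul_left _ (by omega)
      nlinarith
    obtain ⟨rfl⟩ : PLift (c = p - 1) := ⟨by omega⟩
    obtain ⟨q, rfl⟩ : ∃ q, p = q + 1 := ⟨p - 1, by omega⟩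
    simp at hc
    nlinarith
  · right
    apply Set.eq_of_subset_of_ncard_le (Set.subset_univ T)
    rw [Set.ncard_univ, Nat.card_eq_fintype_card, hn]
    omega

include hn in
/-- An equivariant family of subgroups of two-point stabilisers has pairs or everything as
fixed sets. -/
theorem fix_two_or_univ (R : Ω → Ω → Subgroup G)
    (hfix : ∀ x y, x ≠ y → ∀ h ∈ R x y, h • x = x ∧ h • y = y)
    (hequiv : ∀ (g : G) x y, x ≠ y → ∀ h, h ∈ R x y → g * h * g⁻¹ ∈ R (g • x) (g • y))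
    (hle : ∀ x y z w, x ≠ y → z ≠ w → (∀ h ∈ R x y, h • z = z) →
      (∀ h ∈ R x y, h • w = w) → R x y ≤ R z w) :
    {z : Ω | ∀ h ∈ R S.a S.b, h • z = z}.ncard = 2 ∨
      ∀ h ∈ R S.a S.b, ∀ z : Ω, h • z = z := by
  classical
  set T := {z : Ω | ∀ h ∈ R S.a S.b, h • z = z} with hT
  have hconj : ∀ (g : G) x y, x ≠ y → Nat.card (R x y) ≤ Nat.card (R (g • x) (g • y)) := by
    intro g x y hxy
    refine Nat.card_le_card_of_injective
      (fun h => ⟨g * h * g⁻¹, hequiv g x y hxy h h.2⟩) fun h k hhk => ?_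
    simpa using congrArg Subtype.val hhk
  have heq : ∀ z w, z ≠ w → z ∈ T → w ∈ T → R z w = R S.a S.b := by
    intro z w hzw hz hw
    refine (Subgroup.eq_of_le_of_card_ge (hle _ _ z w S.ne.symm hzw hz hw) ?_).symm
    obtain ⟨g, hg1, hg2⟩ := S.two hzw S.ne.symm
    have := hconj g z w hzw
    rwa [hg1, hg2] at this
  -- elements moving the base pair inside `T`
  have hstab : ∀ g : G, g • S.a ∈ T → g • S.b ∈ T → g • T = T := by
    intro g hga hgb
    have hne : g • S.a ≠ g • S.b := fun h => S.ne (smul_left_cancel g h).symm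
    refine Set.eq_of_subset_of_ncard_le ?_ (Set.ncard_smul_set g T).ge
    rintro _ ⟨z, hz, rfl⟩ h hh
    rw [← heq _ _ hne hga hgb] at hh
    have h' := hequiv g⁻¹ _ _ hne h hh
    rw [inv_smul_smul, inv_smul_smul, inv_inv] at h'
    have := hz _ h'
    rwa [mul_smul, mul_smul, inv_smul_eq_iff] at this
  let M : Subgroup G := stabilizer G T
  have haT : S.a ∈ T := fun h hh => (hfix _ _ S.ne.symm h hh).1
  have hbT : S.b ∈ T := fun h hh => (hfix _ _ S.ne.symm h hh).2
  rcases two_or_univ S hn T M (fun g hg => hg)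
    (fun g hg => hstab g (by rw [hg.1]; exact haT) (by rw [hg.2]; exact hbT)) haT hbT
    (fun z hz => by
      by_cases hzb : z = S.b
      · obtain ⟨g, hg1, hg2⟩ := S.two S.ne.symm S.ne
        exact ⟨g, hstab g (by rw [hg1]; exact hbT) (by rw [hg2]; exact haT), hg1.trans hzb.symm⟩
      · obtain ⟨g, hg1, hg2⟩ := S.two S.ne.symm (hzb : z ≠ S.b)
        exact ⟨g, hstab g (by rw [hg1]; exact hz) (by rw [hg2]; exact hbT), hg1⟩)
    (fun w hw hwa => by
      obtain ⟨g, hg1, hg2⟩ := S.two S.ne.symm (Ne.symm hwa : S.a ≠ w)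
      exact ⟨g, hstab g (by rw [hg1]; exact haT) (by rw [hg2]; exact hw), hg1, hg2⟩) with h | h
  · exact Or.inl h
  · exact Or.inr fun k hk z => (show z ∈ T from h ▸ Set.mem_univ z) k hk

theorem smul_B_eq {g g' : G} (hg : g • S.a = S.a) (hg' : g' • S.a = S.a) {c : Ω}
    (hc : c ∈ g • S.B) (hc' : c ∈ g' • S.B) : g • S.B = g' • S.B := by
  obtain ⟨y, hy, rfl⟩ := hc
  obtain ⟨y', hy', he⟩ := hc'
  simp only at he
  have h : (g'⁻¹ * g) • y = y' := by rw [mul_smul, ← he, inv_smul_smul]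
  have := S.block (g'⁻¹ * g) (by rw [mul_smul, hg, inv_smul_eq_iff, hg']) y hy (h ▸ hy')
  rw [mul_smul, inv_smul_eq_iff] at this
  exact this

theorem smul_B_self {g : G} (hg : g • S.a = S.a) (hgb : g • S.b = S.b) : g • S.B = S.B :=
  S.block g hg S.b S.hb (by rw [hgb]; exact S.hb)

theorem smul_B1 {g : G} (hg : g • S.a = S.a) (hgb : g • S.b = S.b) :
    ∀ c ∈ S.B \ {S.b}, g • c ∈ S.B \ {S.b} := fun c hc =>
  ⟨smul_B_self S hg hgb ▸ Set.smul_mem_smul_set hc.1,
    fun h => hc.2 (smul_left_cancel g ((Set.mem_singleton_iff.mp h).trans hgb.symm))⟩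

theorem card_B1 : (S.B \ {S.b}).ncard = p - 1 := by
  rw [Set.ncard_diff_singleton_of_mem S.hb, S.cardB]

/-- A `p`-element fixing the two base points fixes the block pointwise. -/
theorem pElt_fix {g : G} (hg : g ∈ D S) {j : ℕ} (hj : g ^ p ^ j = 1) :
    ∀ c ∈ S.B, g • c = c := by
  intro c hc
  by_cases hcb : c = S.b
  · rw [hcb]; exact hg.2
  have hP : IsPGroup p (Subgroup.zpowers g) := by
    obtain ⟨i, -, hi⟩ := (Nat.dvd_prime_pow hpf.out).mp (orderOf_dvd_of_pow_eq_one hj)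
    exact IsPGroup.of_card (n := i) (by rw [Nat.card_zpowers, hi])
  obtain ⟨i, hi⟩ := hP.card_orbit c
  have hsub : orbit (Subgroup.zpowers g) c ⊆ S.B \ {S.b} := by
    rintro _ ⟨⟨h, hh⟩, rfl⟩
    exact smul_B1 S (Subgroup.zpowers_le.mpr hg hh).1 (Subgroup.zpowers_le.mpr hg hh).2 c
      ⟨hc, hcb⟩
  have hle := Set.ncard_le_ncard hsub
  rw [card_B1, ← Nat.card_coe_set_eq, hi] at hle
  have hp2 := hpf.out.two_le
  have hi0 : i = 0 := by
    by_contra h
    have := Nat.le_self_pow h p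
    omega
  rw [hi0, pow_zero, Nat.card_coe_set_eq, Set.ncard_eq_one] at hi
  obtain ⟨d, hd⟩ := hi
  have h1 : g • c ∈ orbit (Subgroup.zpowers g) c :=
    ⟨⟨g, Subgroup.mem_zpowers g⟩, rfl⟩
  have h2 : c ∈ orbit (Subgroup.zpowers g) c := mem_orbit_self c
  rw [hd] at h1 h2
  exact h1.trans h2.symm

theorem exists_B1 : ∃ c ∈ S.B, c ≠ S.b := by
  obtain ⟨c, hc, hcb⟩ := Set.exists_ne_of_one_lt_ncard (S.cardB ▸ hpf.out.one_lt) S.b
  exact ⟨c, hc, hcb⟩

include hn in
/-- The two-point stabiliser has order prime to `p`. -/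
theorem not_dvd_D : ¬ p ∣ Nat.card (D S) := by
  intro hdvd
  obtain ⟨⟨g, hg⟩, hord⟩ := exists_prime_orderOf_dvd_card' p hdvd
  rw [Subgroup.orderOf_mk] at hord
  let R : Ω → Ω → Subgroup G := fun x y =>
    Subgroup.closure {h | h • x = x ∧ h • y = y ∧ ∃ j, h ^ p ^ j = 1}
  have hfix : ∀ x y, ∀ h ∈ R x y, h • x = x ∧ h • y = y := fun x y h hh =>
    (Subgroup.closure_le (K := stabilizer G x ⊓ stabilizer G y)).mpr
      (fun k hk => ⟨hk.1, hk.2.1⟩) hh
  rcases fix_two_or_univ S hn R (fun x y _ => hfix x y)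
    (fun g x y _ h hh => by
      refine (Subgroup.closure_le
        (K := (R (g • x) (g • y)).comap (MulAut.conj g).toMonoidHom)).mpr ?_ hh
      rintro k ⟨h1, h2, j, hj⟩
      exact Subgroup.subset_closure ⟨by simp [mul_smul, h1], by simp [mul_smul, h2], j, by
        rw [← map_pow, hj, map_one]⟩)
    (fun x y z w _ _ hz hw => (Subgroup.closure_le _).mpr fun k hk =>
      Subgroup.subset_closure
        ⟨hz k (Subgroup.subset_closure hk), hw k (Subgroup.subset_closure hk), hk.2.2⟩) with h | h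
  · obtain ⟨c, hcB, hcb⟩ := exists_B1 S
    have hsub : ({S.a, S.b, c} : Set Ω) ⊆ {z : Ω | ∀ h ∈ R S.a S.b, h • z = z} := by
      intro z hz k hk
      rcases hz with rfl | rfl | rfl
      · exact (hfix _ _ k hk).1
      · exact (hfix _ _ k hk).2
      · exact (Subgroup.closure_le (K := stabilizer G z)).mpr
          (fun m hm => by
            obtain ⟨h1, h2, j, hj⟩ := hm
            exact pElt_fix S ⟨h1, h2⟩ hj z hcB) hk
    have h3 := Set.ncard_le_ncard hsub
    have hca : S.a ≠ c := fun e => S.ha (e ▸ hcB)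
    rw [h, Set.ncard_insert_of_notMem (by simp [S.ne.symm, hca]), Set.ncard_pair (Ne.symm hcb)]
      at h3
    omega
  · have hgR : g ∈ R S.a S.b := Subgroup.subset_closure
      ⟨hg.1, hg.2, 1, by rw [pow_one, ← hord, pow_orderOf_eq_one]⟩
    rw [S.faith g (h g hgR), orderOf_one] at hord
    exact hpf.out.one_lt.ne hord

omit hpf in
/-- A transitive group with point set of even size and order `2 mod 4` is impossible for a doubly
transitive group. -/
theorem order_mod_four [DecidableEq Ω] (S : Setup G Ω p) (hev : Even (Fintype.card Ω))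
    (h3 : 2 < Fintype.card Ω) : Nat.card G % 4 ≠ 2 := by
  classical
  intro hG
  haveI : Fintype G := Fintype.ofFinite G
  obtain ⟨m, hm⟩ : ∃ m, Nat.card G = 2 * m := ⟨Nat.card G / 2, by omega⟩
  have hmodd : ¬ 2 ∣ m := by omega
  obtain ⟨t, ht⟩ := exists_prime_orderOf_dvd_card' (G := G) 2 (hm ▸ dvd_mul_right 2 m)
  let f : G →* ℤˣ := Equiv.Perm.sign.comp (MulAction.toPermHom G G)
  have hfree : ∀ x : G, t * x ≠ x := fun x h => by
    have : t = 1 := mul_right_cancel (b := x) (by rw [one_mul]; exact h)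
    rw [this, orderOf_one] at ht
    norm_num at ht
  have hft : f t = -1 := by
    set σ : Equiv.Perm G := MulAction.toPermHom G G t with hσ
    have hsq : σ ^ 2 = 1 := by rw [hσ, ← map_pow, ← ht, pow_orderOf_eq_one, map_one]
    have hfix0 : Fintype.card (Function.fixedPoints σ) = 0 :=
      Fintype.card_eq_zero_iff.mpr ⟨fun x => hfree x x.2⟩
    show Equiv.Perm.sign σ = -1
    rw [Equiv.Perm.sign_of_pow_two_eq_one hsq, hfix0, Nat.sub_zero, ← Nat.card_eq_fintype_card,
      hm, Nat.mul_div_cancel_left _ (by norm_num : 0 < 2)]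
    exact Odd.neg_one_pow (Nat.odd_iff.mpr (by omega))
  have hsurj : Function.Surjective f := fun u => by
    rcases Int.units_eq_one_or u with rfl | rfl
    · exact ⟨1, map_one f⟩
    · exact ⟨t, hft⟩
  have hidx : f.ker.index = 2 := by
    rw [Subgroup.index_ker, MonoidHom.range_eq_top.mpr hsurj, Subgroup.card_top,
      Nat.card_eq_fintype_card, Fintype.card_units_int]
  have hker := Subgroup.card_mul_index f.ker
  rw [hidx, hm] at hker
  haveI : MulAction.IsMultiplyPretransitive G Ω 2 :=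
    MulAction.is_two_pretransitive_iff.mpr fun h h' => S.two h h'
  haveI hprim : MulAction.IsPreprimitive G Ω := MulAction.isPreprimitive_of_is_two_pretransitive ‹_›
  haveI : MulAction.IsQuasiPreprimitive G Ω := inferInstance
  have hne : fixedPoints f.ker Ω ≠ Set.univ := by
    intro hu
    have hbot : f.ker = ⊥ := (Subgroup.eq_bot_iff_forall _).mpr fun x hx => S.faith x fun y =>
      (hu ▸ Set.mem_univ y : y ∈ fixedPoints f.ker Ω) ⟨x, hx⟩
    rw [hbot, Subgroup.card_bot] at hker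
    have hle : Fintype.card Ω ∣ Nat.card G := by
      haveI : IsPretransitive G Ω := hprim.toIsPretransitive
      rw [← Nat.card_eq_fintype_card, ← index_stabilizer_of_transitive G S.a]
      exact Subgroup.index_dvd_card _
    have := Nat.le_of_dvd (by omega) hle
    omega
  haveI := IsQuasiPreprimitive.isPretransitive_of_normal (G := G) (X := Ω) (N := f.ker) hne
  have hdiv : Fintype.card Ω ∣ Nat.card f.ker := by
    rw [← Nat.card_eq_fintype_card, ← index_stabilizer_of_transitive f.ker S.a]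
    exact Subgroup.index_dvd_card _
  have : 2 ∣ Nat.card f.ker := hev.two_dvd.trans hdiv
  omega

include hn in
/-- The even degree excludes a trivial two-point stabiliser for odd `p`. -/
theorem D_even (hp2 : p ≠ 2) : 2 ∣ Nat.card (D S) := by
  classical
  by_contra h
  have hpodd := hpf.out.odd_of_ne_two hp2
  have hp2' := hpf.out.two_le
  have hsq : Odd (p ^ 2) := hpodd.pow
  obtain ⟨i, hi⟩ := hsq
  have hdodd : Odd (Nat.card (D S)) := Nat.odd_iff.mpr (by omega)
  obtain ⟨j, hj⟩ := hdodd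
  refine order_mod_four S ⟨i + 1, by omega⟩ (by rw [hn]; nlinarith) ?_
  rw [card_G S hn, hi, hj]
  have : (2 * i + 1 + 1) * ((2 * i + 1) * (2 * j + 1)) =
      2 * ((i + 1) * ((2 * i + 1) * (2 * j + 1))) := by ring
  rw [this]
  have hi2 : Even i := by
    obtain ⟨q, hq⟩ := hpodd
    have : i = 2 * (q * q + q) := by
      have : 2 * i + 1 = (2 * q + 1) ^ 2 := by rw [← hi, hq]
      nlinarith
    exact ⟨q * q + q, by omega⟩
  have hodd : Odd ((i + 1) * ((2 * i + 1) * (2 * j + 1))) :=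
    hi2.add_one.mul ((odd_two_mul_add_one i).mul (odd_two_mul_add_one j))
  have h1 := Nat.odd_iff.mp hodd
  omega

include hn in
/-- The two-point stabiliser fixes no third point. -/
theorem D_fix (hp2 : p ≠ 2) {z : Ω} (hz : ∀ d ∈ D S, d • z = z) : z = S.a ∨ z = S.b := by
  by_contra hne
  push Not at hne
  rcases fix_two_or_univ S hn (fun x y => stabilizer G x ⊓ stabilizer G y)
    (fun x y _ h hh => ⟨hh.1, hh.2⟩)
    (fun g x y _ h hh => ⟨by simp [mem_stabilizer_iff, mul_smul, mem_stabilizer_iff.mp hh.1],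
      by simp [mem_stabilizer_iff, mul_smul, mem_stabilizer_iff.mp hh.2]⟩)
    (fun x y z w _ _ hz hw h hh => ⟨hz h hh, hw h hh⟩) with h | h
  · have hsub : ({S.a, S.b, z} : Set Ω) ⊆ {w : Ω | ∀ d ∈ D S, d • w = w} := by
      intro w hw d hd
      rcases hw with rfl | rfl | rfl
      · exact hd.1
      · exact hd.2
      · exact hz d hd
    have h3 := Set.ncard_le_ncard hsub
    change {w : Ω | ∀ d ∈ D S, d • w = w}.ncard = 2 at h
    rw [h, Set.ncard_insert_of_notMem (by simp [S.ne.symm, Ne.symm hne.1]),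
      Set.ncard_pair (Ne.symm hne.2)] at h3
    omega
  · have hbot : D S = ⊥ := (Subgroup.eq_bot_iff_forall _).mpr fun d hd => S.faith d (h d hd)
    have h2 := D_even S hn hp2
    rw [hbot, Subgroup.card_bot] at h2
    norm_num at h2

/-- Two systems of lines cannot share a line: the key counting-free contradiction. -/
theorem T_lemma {U : Set Ω} (hbU : S.b ∈ U) (haU : S.a ∉ U)
    (hUblock : ∀ g : G, g • S.a = S.a → ∀ y, y ∈ U → g • y ∈ U → g • U = U)
    (hUne : U ≠ S.B) {τ : G} (hτa : τ • S.a = S.b) (hτb : τ • S.b = S.a)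
    (hT : τ • (S.B \ {S.b}) = U \ {S.b}) : False := by
  set T := insert S.a U with hTdef
  have hτT : τ • insert S.a S.B = T := by
    rw [Set.smul_set_insert, hτa, show S.B = insert S.b (S.B \ {S.b}) by simp [S.hb],
      Set.smul_set_insert, hτb, hT, Set.insert_comm, hTdef]
    simp [hbU]
  -- the stabiliser of `T` fixes `a`
  have hfixa : ∀ g : G, g • T = T → g • S.a = S.a := by
    intro g hg
    have hmem : g • S.a ∈ T := hg ▸ Set.smul_mem_smul_set (Set.mem_insert _ _)
    rcases hmem with h | hc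
    · exact h
    exfalso
    have hca : g • S.a ≠ S.a := fun h => haU (h ▸ hc)
    obtain ⟨h, hha, hhb⟩ := S.two S.ne.symm (Ne.symm hca : S.a ≠ g • S.a)
    have hhU : h • U = U := hUblock h hha S.b hbU (by rw [hhb]; exact hc)
    have hhT : h • T = T := by rw [hTdef, Set.smul_set_insert, hha, hhU]
    set f := g⁻¹ * (h * τ) with hf
    have hfa : f • S.a = S.a := by rw [hf, mul_smul, mul_smul, hτa, hhb, inv_smul_smul]
    have hfT : f • insert S.a S.B = T := by
      rw [hf, mul_smul, mul_smul, hτT, hhT, inv_smul_eq_iff, hg]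
    rw [Set.smul_set_insert, hfa] at hfT
    have hfB : f • S.B = U := by
      have e : (insert S.a (f • S.B)) \ {S.a} = (insert S.a U) \ {S.a} := by rw [hfT]
      have ha' : S.a ∉ f • S.B := fun hh => S.ha (by
        obtain ⟨y, hy, hye⟩ := hh
        rwa [← smul_left_cancel f (hye.trans hfa.symm)])
      rwa [Set.insert_diff_of_mem _ (Set.mem_singleton _), Set.diff_singleton_eq_self ha',
        Set.insert_diff_of_mem _ (Set.mem_singleton _), Set.diff_singleton_eq_self haU] at e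
    refine hUne (hfB.symm.trans ?_)
    have h1 : S.b ∈ f • S.B := hfB ▸ hbU
    have h2 : S.b ∈ (1 : G) • S.B := by rw [one_smul]; exact S.hb
    rw [smul_B_eq S hfa (one_smul G S.a) h1 h2, one_smul]
  obtain ⟨c, hc, hcb⟩ := exists_B1 S
  have hca : S.a ≠ c := fun e => S.ha (e ▸ hc)
  obtain ⟨h, hha, hhb⟩ := S.two S.ne.symm hca
  have hhB : h • S.B = S.B := S.block h hha S.b S.hb (by rw [hhb]; exact hc)
  have hgT : (τ * h * τ⁻¹) • T = T := by
    rw [mul_smul, mul_smul, ← hτT, inv_smul_smul, Set.smul_set_insert, hha, hhB]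
  have := hfixa _ hgT
  rw [mul_smul, mul_smul, show τ⁻¹ • S.a = S.b by rw [inv_smul_eq_iff, hτb], hhb] at this
  exact hcb (smul_left_cancel τ (this.trans hτb.symm))

include hn in
/-- The block through `b` does not give a line with `a`. -/
theorem no_swap (hp2 : p ≠ 2) {τ : G} (hτa : τ • S.a = S.b) (hτb : τ • S.b = S.a)
    (hT : τ • (S.B \ {S.b}) = S.B \ {S.b}) : False := by
  set T := insert S.a S.B with hTdef
  let M : Subgroup G := stabilizer G T
  have hτT : τ ∈ M := by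
    show τ • T = T
    rw [hTdef, show S.B = insert S.b (S.B \ {S.b}) by simp [S.hb], Set.smul_set_insert,
      Set.smul_set_insert, hτa, hτb, hT, Set.insert_comm]
  have hM : ∀ w ∈ S.B, ∃ g ∈ M, g • S.a = S.a ∧ g • S.b = w := fun w hw => by
    obtain ⟨g, hga, hgb⟩ := S.two S.ne.symm (fun e => S.ha (e ▸ hw) : S.a ≠ w)
    have hgB : g • S.B = S.B := S.block g hga S.b S.hb (by rw [hgb]; exact hw)
    exact ⟨g, show g • T = T by rw [hTdef, Set.smul_set_insert, hga, hgB], hga, hgb⟩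
  rcases two_or_univ S hn T M (fun g hg => hg)
    (fun g hg => show g • T = T by
      rw [hTdef, Set.smul_set_insert, hg.1, smul_B_self S hg.1 hg.2])
    (Set.mem_insert _ _) (Set.mem_insert_of_mem _ S.hb)
    (fun z hz => by
      rcases hz with rfl | hz
      · exact ⟨1, one_mem _, one_smul _ _⟩
      · obtain ⟨g, hg, hga, hgb⟩ := hM z hz
        exact ⟨g * τ, mul_mem hg hτT, by rw [mul_smul, hτa, hgb]⟩)
    (fun w hw hwa => hM w (hw.resolve_left hwa)) with h | h
  · rw [hTdef, Set.ncard_insert_of_notMem S.ha, S.cardB] at h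
    have := hpf.out.two_le
    omega
  · have h1 : T.ncard = p ^ 2 + 1 := by rw [h, Set.ncard_univ, Nat.card_eq_fintype_card, hn]
    rw [hTdef, Set.ncard_insert_of_notMem S.ha, S.cardB, pow_two] at h1
    have := hpf.out.two_le
    nlinarith

/-- The kernel of the stabiliser on the blocks. -/
def K : Subgroup G where
  carrier := {g | g • S.a = S.a ∧ ∀ x : G, x • S.a = S.a → g • x • S.B = x • S.B}
  one_mem' := ⟨one_smul _ _, fun x _ => one_smul _ _⟩
  mul_mem' := fun {g h} hg hh => ⟨by rw [mul_smul, hh.1, hg.1],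
    fun x hx => by rw [mul_smul, hh.2 x hx, hg.2 x hx]⟩
  inv_mem' := fun {g} hg => ⟨by rw [inv_smul_eq_iff, hg.1],
    fun x hx => by rw [inv_smul_eq_iff, hg.2 x hx]⟩

theorem K_conj {g k : G} (hg : g • S.a = S.a) (hk : k ∈ K S) : g * k * g⁻¹ ∈ K S := by
  refine ⟨by rw [mul_smul, mul_smul, show g⁻¹ • S.a = S.a by rw [inv_smul_eq_iff, hg], hk.1, hg],
    fun x hx => ?_⟩
  rw [mul_smul, mul_smul, ← mul_smul g⁻¹ x,
    hk.2 (g⁻¹ * x) (by rw [mul_smul, hx, inv_smul_eq_iff, hg]), mul_smul, smul_inv_smul]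

theorem K_mem {k : G} (hk : k ∈ K S) {x : G} (hx : x • S.a = S.a) {c : Ω} (hc : c ∈ x • S.B) :
    k • c ∈ x • S.B := hk.2 x hx ▸ Set.smul_mem_smul_set hc

/-- Frame: a regular abelian subgroup of order `p²` of the stabiliser of `a`, a generator `z` of
the stabiliser of the blocks in it, and an element `σ` outside. -/
structure Frame (S : Setup G Ω p) where
  P : Subgroup G
  z : G
  fixa : ∀ π ∈ P, π • S.a = S.a
  comm : ∀ π ∈ P, ∀ π' ∈ P, π * π' = π' * π
  reg : ∀ y, y ≠ S.a → ∃! π, π ∈ P ∧ π • S.b = y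
  zP : z ∈ P
  zord : orderOf z = p
  zK : z ∈ K S
  zall : ∀ y ∈ S.B, ∃ i : ZMod p, z ^ i.val • S.b = y
  inB : ∀ π ∈ P, π • S.b ∈ S.B → π ∈ Subgroup.zpowers z
  powB : ∀ π ∈ P, π ^ p ∈ Subgroup.zpowers z

include hn in
theorem exists_frame : Nonempty (Frame S) := by
  classical
  have hp : p.Prime := hpf.out
  have hX := card_X S hn
  obtain ⟨Q, hQ⟩ := Sylow.exists_subgroup_card_pow_prime (G := stabilizer G S.a) p (n := 2)
    (hX ▸ dvd_mul_right _ _)
  set P := Q.map (stabilizer G S.a).subtype with hPdef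
  have hPcard : Nat.card P = p ^ 2 := by
    rw [hPdef, Subgroup.card_map_of_injective (Subgroup.subtype_injective _), hQ]
  have hfixa : ∀ π ∈ P, π • S.a = S.a := by
    rintro _ ⟨π, -, rfl⟩; exact π.2
  have hcomm : ∀ π ∈ P, ∀ π' ∈ P, π * π' = π' * π := fun π h π' h' =>
    congrArg Subtype.val (IsPGroup.commutative_of_card_eq_prime_sq hPcard ⟨π, h⟩ ⟨π', h'⟩)
  have hfree : ∀ π ∈ P, π • S.b = S.b → π = 1 := by
    intro π hπ hb
    by_contra hne
    obtain ⟨i, hi, hord⟩ := (Nat.dvd_prime_pow hp).mp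
      (hPcard ▸ (Subgroup.orderOf_mk π hπ ▸ orderOf_dvd_natCard (⟨π, hπ⟩ : P)) :
        orderOf π ∣ p ^ 2)
    refine not_dvd_D S hn (dvd_trans ?_ (Subgroup.orderOf_dvd_natCard (D S) ⟨hfixa π hπ, hb⟩))
    rw [hord]
    refine dvd_pow_self p fun h => hne ?_
    rw [h, pow_zero, orderOf_eq_one_iff] at hord
    exact hord
  -- regularity
  let f : P → Ω := fun π => (π : G) • S.b
  have hf : Function.Injective f := fun π π' h => by
    have h' : ((π' : G)⁻¹ * π) • S.b = S.b := by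
      rw [mul_smul, show (π : G) • S.b = (π' : G) • S.b from h, inv_smul_smul]
    exact Subtype.ext (inv_mul_eq_one.mp (hfree _ (mul_mem (inv_mem π'.2) π.2) h')).symm
  have hrange : Set.range f = {S.a}ᶜ := by
    refine Set.eq_of_subset_of_ncard_le ?_ ?_
    · rintro _ ⟨π, rfl⟩ h
      exact S.ne (smul_left_cancel (π : G)
        ((Set.mem_singleton_iff.mp h).trans (hfixa π π.2).symm))
    · rw [Set.ncard_compl, Set.ncard_singleton, Nat.card_eq_fintype_card, hn,
        ← Nat.card_coe_set_eq, Nat.card_range_of_injective hf, hPcard]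
      omega
  have hreg : ∀ y, y ≠ S.a → ∃! π, π ∈ P ∧ π • S.b = y := by
    intro y hy
    obtain ⟨π, hπ⟩ : y ∈ Set.range f := hrange ▸ hy
    exact ⟨π, ⟨π.2, hπ⟩, fun π' h => congrArg Subtype.val (@hf ⟨π', h.1⟩ π (h.2.trans hπ.symm))⟩
  -- the stabiliser of the block
  let Z : Subgroup G := P ⊓ stabilizer G S.B
  have hZmem : ∀ π ∈ P, π • S.b ∈ S.B → π ∈ Z := fun π h hb =>
    ⟨h, S.block π (hfixa π h) S.b S.hb hb⟩
  have hZcard : Nat.card Z = p := by
    rw [← S.cardB, ← Nat.card_coe_set_eq]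
    refine Nat.card_eq_of_bijective (fun π => ⟨(π : G) • S.b, ?_⟩) ⟨fun π π' h => ?_, fun c => ?_⟩
    · have h2 : (π : G) • S.B = S.B := π.2.2
      exact h2 ▸ Set.smul_mem_smul_set S.hb
    · exact Subtype.ext (congrArg Subtype.val
        (@hf ⟨π, π.2.1⟩ ⟨π', π'.2.1⟩ (congrArg Subtype.val h)) :)
    · obtain ⟨π, ⟨hπ, hπc⟩, -⟩ := hreg c (fun e => S.ha (e ▸ c.2))
      exact ⟨⟨π, hZmem π hπ (hπc ▸ c.2)⟩, Subtype.ext hπc⟩
  obtain ⟨⟨z, hz⟩, hzord⟩ := exists_prime_orderOf_dvd_card' (G := Z) p (hZcard ▸ dvd_rfl)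
  rw [Subgroup.orderOf_mk] at hzord
  have hZeq : Subgroup.zpowers z = Z :=
    Subgroup.eq_of_le_of_card_ge (Subgroup.zpowers_le.mpr hz)
      (by rw [Nat.card_zpowers, hzord, hZcard])
  have hzK : z ∈ K S := by
    refine ⟨hfixa z hz.1, fun x hx => ?_⟩
    have hxb : x • S.b ≠ S.a := fun h => S.ne (smul_left_cancel x (h.trans hx.symm))
    obtain ⟨π, ⟨hπ, hπb⟩, -⟩ := hreg _ hxb
    have he : x • S.B = π • S.B := smul_B_eq S hx (hfixa π hπ)
      (Set.smul_mem_smul_set S.hb) (hπb ▸ Set.smul_mem_smul_set S.hb)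
    have hzB : z • S.B = S.B := hz.2
    rw [he, ← mul_smul, hcomm z hz.1 π hπ, mul_smul, hzB]
  refine ⟨⟨P, z, hfixa, hcomm, hreg, hz.1, hzord, hzK, fun y hy => ?_,
    fun π h hb => hZeq ▸ hZmem π h hb, fun π h => ?_⟩⟩
  · obtain ⟨π, ⟨hπ, hπy⟩, -⟩ := hreg y (fun e => S.ha (e ▸ hy))
    have hmem : π ∈ Subgroup.zpowers z := hZeq ▸ hZmem π hπ (hπy ▸ hy)
    obtain ⟨n, hn⟩ := Subgroup.mem_zpowers_iff.mp hmem
    refine ⟨(n : ZMod p), ?_⟩
    have e : z ^ (n : ZMod p).val = z ^ n := by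
      rw [← zpow_natCast, ZMod.val_intCast]
      conv_rhs => rw [← zpow_mod_orderOf, hzord]
    rw [e, hn, hπy]
  · have hidx : (Z.subgroupOf P).index = p := by
      have h1 := Subgroup.card_mul_index (Z.subgroupOf P)
      rw [Nat.card_congr (Subgroup.subgroupOfEquivOfLe (inf_le_left : Z ≤ P)).toEquiv, hZcard,
        hPcard, pow_two] at h1
      exact Nat.eq_of_mul_eq_mul_left hp.pos h1
    haveI : (Z.subgroupOf P).Normal := ⟨fun n hn g => by
      have : g * n * g⁻¹ = n := by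
        rw [mul_inv_eq_iff_eq_mul]; exact Subtype.ext (hcomm g g.2 n n.2)
      rwa [this]⟩
    have := (Z.subgroupOf P).pow_index_mem (⟨π, h⟩ : P)
    rw [hidx] at this
    exact hZeq ▸ this

end H58.SqOne
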