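import Mathlib
import Cfsg.Agent.H58.SquarePlusOne

/-!
Doubly transitive groups of degree `p² + 1`: the two cases and the conclusion.
-/

set_option autoImplicit false
set_option linter.unusedSectionVars false

namespace H58.SqOne

open scoped Pointwise ComplexConjugate
open MulAction H58.TwiceP

variable {G : Type*} [Group G] [Finite G] {Ω : Type*} [Fintype Ω] [MulAction G Ω]
variable {p : ℕ} [hpf : Fact p.Prime] {S : Setup G Ω p} (F : Frame S)
  (hn : Fintype.card Ω = p ^ 2 + 1)

/-- Powers of the generator of the kernel part. -/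
def zl (l : ZMod p) : G := F.z ^ l.val

theorem zl_add (i l : ZMod p) : zl F (i + l) = zl F i * zl F l := by
  rw [zl, zl, zl, ← pow_add, ZMod.val_add]
  conv_rhs => rw [← pow_mod_orderOf, F.zord]

theorem zl_zero : zl F 0 = 1 := by simp [zl]

theorem zl_one : zl F 1 = F.z := by rw [zl, ZMod.val_one, pow_one]

theorem zl_P (l : ZMod p) : zl F l ∈ F.P := pow_mem F.zP _

theorem zl_K (l : ZMod p) : zl F l ∈ K S := pow_mem F.zK _

theorem zl_natCast (n : ℕ) : zl F (n : ZMod p) = F.z ^ n := by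
  rw [zl, ZMod.val_natCast]
  conv_rhs => rw [← pow_mod_orderOf, F.zord]

theorem zl_of_mem {g : G} (hg : g ∈ Subgroup.zpowers F.z) : ∃ l : ZMod p, zl F l = g := by
  obtain ⟨n, rfl⟩ := Subgroup.mem_zpowers_iff.mp hg
  refine ⟨(n : ZMod p), ?_⟩
  rw [zl, ← zpow_natCast, ZMod.val_intCast]
  conv_rhs => rw [← zpow_mod_orderOf, F.zord]

include F in
theorem P_ne (π : G) (hπ : π ∈ F.P) : π • S.b ≠ S.a := fun h =>
  S.ne (smul_left_cancel π (h.trans (F.fixa π hπ).symm))

theorem P_inj {π π' : G} (hπ : π ∈ F.P) (hπ' : π' ∈ F.P) (h : π • S.b = π' • S.b) : π = π' :=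
  (F.reg _ (P_ne F π hπ)).unique ⟨hπ, rfl⟩ ⟨hπ', h.symm⟩

theorem zl_inj {i l : ZMod p} (h : zl F i • S.b = zl F l • S.b) : i = l := by
  have h1 : F.z ^ i.val = F.z ^ l.val := P_inj F (zl_P F i) (zl_P F l) h
  have h2 := pow_injOn_Iio_orderOf (x := F.z) (by rw [F.zord]; exact i.val_lt)
    (by rw [F.zord]; exact l.val_lt) h1
  exact ZMod.val_injective p h2

theorem zl_smul_B (l : ZMod p) : zl F l • S.B = S.B := by
  have := (zl_K F l).2 1 (one_smul _ _)
  rwa [one_smul] at this

theorem zl_mem_B (l : ZMod p) : zl F l • S.b ∈ S.B :=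
  zl_smul_B F l ▸ Set.smul_mem_smul_set S.hb

theorem exists_zl {y : Ω} (hy : y ∈ S.B) : ∃ l, zl F l • S.b = y := F.zall y hy

theorem exists_zl_block {π : G} (hπ : π ∈ F.P) {y : Ω} (hy : y ∈ π • S.B) :
    ∃ l, zl F l • π • S.b = y := by
  obtain ⟨c, hc, rfl⟩ := hy
  obtain ⟨l, rfl⟩ := exists_zl F hc
  exact ⟨l, by rw [← mul_smul, F.comm _ (zl_P F l) π hπ, mul_smul]⟩

include F in
theorem blk_of_point {y : Ω} (hy : y ≠ S.a) : ∃ π ∈ F.P, π • S.b = y ∧ y ∈ π • S.B := by
  obtain ⟨π, ⟨hπ, rfl⟩, -⟩ := F.reg y hy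
  exact ⟨π, hπ, rfl, Set.smul_mem_smul_set S.hb⟩

include F hn in
/-- The kernel on the blocks is faithful on each of them. -/
theorem K_faith {π : G} (hπ : π ∈ F.P) {k : G} (hk : k ∈ K S)
    (hfix : ∀ c ∈ π • S.B, k • c = c) : k = 1 := by
  classical
  suffices H : ∀ k ∈ K S, (∀ c ∈ S.B, k • c = c) → k = 1 by
    have := H (π⁻¹ * k * π⁻¹⁻¹) (K_conj S (F.fixa _ (inv_mem hπ)) hk) fun c hc => by
      rw [inv_inv, mul_smul, mul_smul, hfix _ (Set.smul_mem_smul_set hc), inv_smul_smul]
    rwa [inv_inv, mul_assoc, inv_mul_eq_one, right_eq_mul] at this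
  clear hπ hfix hk k π
  intro k hk hkB
  let N : Subgroup G := K S ⊓ fixingSubgroup G S.B
  have hN : ∀ m, m ∈ N ↔ m ∈ K S ∧ ∀ c ∈ S.B, m • c = c := fun m => by
    simp [N, mem_fixingSubgroup_iff]
  have hND : N ≤ D S := fun m hm => ⟨((hN m).mp hm).1.1, ((hN m).mp hm).2 _ S.hb⟩
  refine S.faith k fun y => ?_
  by_cases hya : y = S.a
  · rw [hya]; exact hk.1
  obtain ⟨π, hπ, -, hyπ⟩ := blk_of_point F hya
  have hz : ∀ (l : ZMod p) (m : G), m ∈ N → zl F l * m * (zl F l)⁻¹ ∈ N := fun l m hm => by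
    rw [hN] at hm ⊢
    refine ⟨mul_mem (mul_mem (zl_K F l) hm.1) (inv_mem (zl_K F l)), fun c hc => ?_⟩
    have : (zl F l)⁻¹ • c ∈ S.B := by
      have h' := inv_smul_eq_iff.mpr (zl_smul_B F l).symm
      rw [← h']; exact Set.smul_mem_smul_set hc
    rw [mul_smul, mul_smul, hm.2 _ this, smul_inv_smul]
  -- all orbits in the block have the same size
  let o : Ω → Set Ω := fun c => {x | ∃ m ∈ N, m • c = x}
  have hoeq : ∀ (l : ZMod p) c, zl F l • o c ⊆ o (zl F l • c) := by
    rintro l c _ ⟨_, ⟨m, hm, rfl⟩, rfl⟩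
    exact ⟨_, hz l m hm, by simp [mul_smul]⟩
  have hsize : ∀ c ∈ π • S.B, (o c).ncard = (o (π • S.b)).ncard := by
    intro c hc
    obtain ⟨l, rfl⟩ := exists_zl_block F hπ hc
    refine le_antisymm ?_ ?_
    · have h := Set.ncard_le_ncard (hoeq (-l) (zl F l • π • S.b))
      rwa [Set.ncard_smul_set, ← mul_smul (zl F (-l)) (zl F l), ← zl_add, neg_add_cancel, zl_zero, one_smul] at h
    · have h := Set.ncard_le_ncard (hoeq l (π • S.b))
      rwa [Set.ncard_smul_set] at h
  let C : Finset Ω := (π • S.B).toFinset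
  have hmem : ∀ c ∈ π • S.B, ∀ m ∈ N, m • c ∈ π • S.B := fun c hc m hm =>
    K_mem S ((hN m).mp hm).1 (F.fixa π hπ) hc
  have hfib : ∀ O ∈ C.image o, (C.filter fun c => o c = O).card = (o (π • S.b)).ncard := by
    intro O hO
    obtain ⟨c, hc, rfl⟩ := Finset.mem_image.mp hO
    rw [Set.mem_toFinset] at hc
    rw [← hsize c hc, Set.ncard_eq_toFinset_card']
    congr 1
    ext d
    simp only [C, Finset.mem_filter, Set.mem_toFinset]
    constructor
    · rintro ⟨-, hd⟩
      rw [← hd]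
      exact ⟨1, one_mem _, one_smul _ _⟩
    · rintro ⟨m, hm, rfl⟩
      refine ⟨hmem c hc m hm, Set.ext fun x => ⟨?_, ?_⟩⟩
      · rintro ⟨m', hm', rfl⟩; exact ⟨m' * m, mul_mem hm' hm, mul_smul _ _ _⟩
      · rintro ⟨m', hm', rfl⟩
        exact ⟨m' * m⁻¹, mul_mem hm' (inv_mem hm), by rw [mul_smul, inv_smul_smul]⟩
  have hsum := Finset.card_eq_sum_card_fiberwise (s := C) (t := C.image o) (f := o)
    fun c hc => Finset.mem_image_of_mem o hc
  rw [Finset.sum_congr rfl hfib, Finset.sum_const, smul_eq_mul,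
    show C.card = p by rw [← Set.ncard_eq_toFinset_card', Set.ncard_smul_set, S.cardB]] at hsum
  have hdvdD : (o (π • S.b)).ncard ∣ Nat.card (D S) :=
    (Dvd.intro _ (card_eq_orbit_mul N (π • S.b)).symm).trans (Subgroup.card_dvd_of_le hND)
  rcases (Nat.dvd_prime hpf.out).mp (Dvd.intro_left _ hsum.symm) with h1 | h1
  · obtain ⟨x, hx⟩ := Set.ncard_eq_one.mp ((hsize y hyπ).trans h1)
    have e1 : k • y ∈ o y := ⟨k, (hN k).mpr ⟨hk, hkB⟩, rfl⟩
    have e2 : y ∈ o y := ⟨1, one_mem _, one_smul _ _⟩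
    rw [hx] at e1 e2
    exact e1.trans e2.symm
  · rw [h1] at hdvdD; exact absurd hdvdD (not_dvd_D S hn)

include F hn in
/-- Elements of the kernel agreeing on the block are equal. -/
theorem K_ext {k m : G} (hk : k ∈ K S) (hm : m ∈ K S) (h : ∀ c ∈ S.B, k • c = m • c) : k = m := by
  have := K_faith F hn (one_mem F.P) (mul_mem (inv_mem hm) hk) fun c hc => by
    rw [one_smul] at hc
    rw [mul_smul, h c hc, inv_smul_smul]
  exact (inv_mul_eq_one.mp this).symm

section caseA

variable (hA : ∀ c ∈ S.B, c ≠ S.b → ∀ d ∈ S.B, d ≠ S.b →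
  ∃ k ∈ K S ⊓ D S, k • c = d)

include F hn hA in
/-- In the doubly transitive case an orbit of the kernel stabiliser in another block is a point
or the complement of a fixed point. -/
theorem orbit_dichotomy (hp2 : p ≠ 2) {σ : G} (hσ : σ ∈ F.P) (hσB : σ • S.b ∉ S.B) {c : Ω}
    (hc : c ∈ σ • S.B) :
    (∀ k ∈ K S ⊓ D S, k • c = c) ∨ ∃ u ∈ σ • S.B, u ≠ c ∧ (∀ k ∈ K S ⊓ D S, k • u = u) ∧
      ∀ y ∈ σ • S.B, y ≠ u → ∃ k ∈ K S ⊓ D S, k • c = y := by
  classical
  let R0 : Ω → Ω → ℚ := fun x y => if ∃ k ∈ K S, k • S.b = x ∧ k • c = y then 1 else 0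
  have hR0k : ∀ k ∈ K S, ∀ x y, R0 (k • x) (k • y) = R0 x y := by
    intro k hk x y
    refine if_congr ⟨?_, ?_⟩ rfl rfl
    · rintro ⟨m, hm, h1, h2⟩
      exact ⟨k⁻¹ * m, mul_mem (inv_mem hk) hm, by rw [mul_smul, h1, inv_smul_smul],
        by rw [mul_smul, h2, inv_smul_smul]⟩
    · rintro ⟨m, hm, h1, h2⟩
      exact ⟨k * m, mul_mem hk hm, by rw [mul_smul, h1], by rw [mul_smul, h2]⟩
  have hR0B : ∀ x y, R0 x y ≠ 0 → x ∈ S.B ∧ (x = S.b → y ∈ σ • S.B) := by
    intro x y h
    obtain ⟨k, hk, h1, h2⟩ : ∃ k ∈ K S, k • S.b = x ∧ k • c = y := by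
      by_contra hne
      exact h (if_neg hne)
    refine ⟨h1 ▸ ?_, fun _ => h2 ▸ K_mem S hk (F.fixa σ hσ) hc⟩
    have := K_mem S hk (one_smul G S.a) (c := S.b) (by rw [one_smul]; exact S.hb)
    rwa [one_smul] at this
  let R : ℕ → Ω → Ω → ℚ := fun m x y => R0 ((σ ^ m)⁻¹ • x) ((σ ^ m)⁻¹ • y)
  have hRk : ∀ m, ∀ k ∈ K S, ∀ x y, R m (k • x) (k • y) = R m x y := by
    intro m k hk x y
    have hk' : (σ ^ m)⁻¹ * k * (σ ^ m)⁻¹⁻¹ ∈ K S :=
      K_conj S (F.fixa _ (inv_mem (pow_mem hσ m))) hk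
    have e : ∀ w : Ω, (σ ^ m)⁻¹ • k • w = ((σ ^ m)⁻¹ * k * (σ ^ m)⁻¹⁻¹) • (σ ^ m)⁻¹ • w :=
      fun w => by simp [mul_smul]
    show R0 _ _ = R0 _ _
    rw [e, e, hR0k _ hk']
  let Cn : ℕ → Ω → ℚ := fun m => Nat.rec (fun y => if y = S.b then 1 else 0)
    (fun j prev y => ∑ w, prev w * R j w y) m
  have hCn : ∀ m, ∀ k ∈ K S ⊓ D S, ∀ y, Cn m (k • y) = Cn m y := by
    intro m k hk
    induction m with
    | zero =>
      intro y
      show (if k • y = S.b then (1 : ℚ) else 0) = if y = S.b then 1 else 0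
      refine if_congr ⟨fun h => ?_, fun h => by rw [h]; exact hk.2.2⟩ rfl rfl
      exact smul_left_cancel k (h.trans hk.2.2.symm)
    | succ j ih =>
      intro y
      show ∑ w, Cn j w * R j w (k • y) = ∑ w, Cn j w * R j w y
      refine (Fintype.sum_equiv (MulAction.toPerm k) _ _ fun w => ?_).symm
      simp only [MulAction.toPerm_apply]
      rw [ih w, hRk j k hk.1]
  let Dv : ZMod p → ℚ := fun l => R0 S.b (zl F l • σ • S.b)
  let g : ℕ → ZMod p → ℚ := fun m l => Cn m (zl F l • σ ^ m • S.b)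
  have hsum : ∀ (π : G), π ∈ F.P → ∀ f : Ω → ℚ, (∀ w, f w ≠ 0 → w ∈ π • S.B) →
      ∑ w, f w = ∑ i, f (zl F i • π • S.b) := by
    intro π hπ f hf
    refine (Fintype.sum_of_injective (fun i => zl F i • π • S.b) ?_ _ _ ?_ fun _ => rfl).symm
    · intro i l h
      refine zl_inj F (smul_left_cancel π ?_)
      rw [← mul_smul, ← mul_smul, F.comm π hπ _ (zl_P F i), F.comm π hπ _ (zl_P F l),
        mul_smul, mul_smul]
      exact h
    · intro w hw
      by_contra h
      exact hw (by
        obtain ⟨l, hl⟩ := exists_zl_block F hπ (hf w h)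
        exact ⟨l, hl⟩)
  have hzσ : ∀ (π : G), π ∈ F.P → ∀ (l : ZMod p) (y : Ω), zl F l • π • y = π • zl F l • y :=
    fun π hπ l y => by rw [← mul_smul, F.comm _ (zl_P F l) π hπ, mul_smul]
  have hDshift : ∀ i l, R0 (zl F i • S.b) (zl F l • σ • S.b) = Dv (l - i) := by
    intro i l
    show _ = R0 _ _
    rw [← hR0k _ (zl_K F i) S.b, ← mul_smul, ← mul_smul, ← mul_smul, ← zl_add, add_sub_cancel,
      mul_smul]
  have hrec : ∀ m l, g (m + 1) l = ∑ i, g m i * Dv (l - i) := by
    intro m l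
    show ∑ w, Cn m w * R m w (zl F l • σ ^ (m + 1) • S.b) = _
    rw [hsum (σ ^ m) (pow_mem hσ m)]
    · refine Finset.sum_congr rfl fun i _ => ?_
      show _ = Cn m _ * Dv (l - i)
      congr 1
      show R0 _ _ = _
      rw [hzσ _ (pow_mem hσ m) i, inv_smul_smul, pow_succ, mul_smul,
        hzσ _ (pow_mem hσ m) l, inv_smul_smul, hDshift]
    · intro w hw
      have h1 := (hR0B _ _ (right_ne_zero_of_mul hw)).1
      exact ⟨_, h1, smul_inv_smul _ _⟩
  have hev : ∀ m, ev p (g m) = ev p Dv ^ m := by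
    intro m
    induction m with
    | zero =>
      rw [pow_zero, show g 0 = fun l => if l = 0 then 1 else 0 from funext fun l => by
        show (if zl F l • σ ^ 0 • S.b = S.b then (1 : ℚ) else 0) = _
        refine if_congr ⟨fun h => zl_inj F ?_, fun h => ?_⟩ rfl rfl
        · rw [pow_zero, one_smul] at h; rw [h, zl_zero, one_smul]
        · rw [h, zl_zero, pow_zero, one_smul, one_smul], ev_delta]
      simp
    | succ j ih =>
      rw [show g (j + 1) = fun l => ∑ i, g j i * Dv (l - i) from funext (hrec j), ev_conv, ih,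
        pow_succ]
  -- the power
  obtain ⟨c0, hc0⟩ := zl_of_mem F (F.powB σ hσ)
  obtain ⟨α, hα⟩ : ∃ α : ℚ, ev p Dv ^ p = (α : ℂ) * χ p c0 := by
    obtain ⟨γ, hγ⟩ : ∃ γ, ∀ l, l ≠ 0 → Cn p (zl F l • S.b) = γ := by
      refine ⟨Cn p (zl F 1 • S.b), fun l hl => ?_⟩
      obtain ⟨k, hk, hke⟩ := hA (zl F 1 • S.b) (zl_mem_B F 1)
        (fun h => one_ne_zero (zl_inj F (by rw [h, zl_zero, one_smul])))
        (zl F l • S.b) (zl_mem_B F l)
        (fun h => hl (zl_inj F (by rw [h, zl_zero, one_smul])))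
      rw [← hke, hCn p k hk]
    refine ⟨g p (-c0) - γ, ?_⟩
    have hgp : ∀ l, l ≠ -c0 → g p l = γ := by
      intro l hl
      show Cn p (zl F l • σ ^ p • S.b) = γ
      rw [← hc0, ← mul_smul, ← zl_add]
      exact hγ _ fun h => hl (eq_neg_of_add_eq_zero_left h)
    rw [← hev, ev_almost_const hgp, neg_neg]
  -- the absolute value
  obtain ⟨β, hβ⟩ : ∃ β : ℚ, ev p Dv * conj (ev p Dv) = (β : ℂ) := by
    let s : ZMod p → ℚ := fun l => ∑ w, R0 S.b w * R0 (zl F l • S.b) w
    have hs : s = fun l => ∑ j, Dv j * Dv (j + l) := by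
      funext l
      show ∑ w, _ = _
      rw [hsum σ hσ]
      · refine (Fintype.sum_equiv (Equiv.addRight l) _ _ fun j => ?_).symm
        simp only [Equiv.coe_addRight]
        rw [hDshift, add_sub_cancel_right, mul_comm]
      · intro w hw
        exact (hR0B _ _ (left_ne_zero_of_mul hw)).2 rfl
    have hconst : ∀ l, l ≠ 0 → s l = s 1 := by
      intro l hl
      obtain ⟨k, hk, hke⟩ := hA (zl F 1 • S.b) (zl_mem_B F 1)
        (fun h => one_ne_zero (zl_inj F (by rw [h, zl_zero, one_smul])))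
        (zl F l • S.b) (zl_mem_B F l)
        (fun h => hl (zl_inj F (by rw [h, zl_zero, one_smul])))
      show ∑ w, _ = ∑ w, _
      refine (Fintype.sum_equiv (MulAction.toPerm k) _ _ fun w => ?_).symm
      simp only [MulAction.toPerm_apply, ← hke]
      rw [hR0k k hk.1]
      congr 1
      conv_rhs => rw [← hk.2.2, hR0k k hk.1]
    refine ⟨s 0 - s 1, ?_⟩
    have h := ev_almost_const hconst
    rw [neg_zero, AddChar.map_zero_eq_one, mul_one] at h
    rw [← h, hs, ev_corr, mul_comm]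
  -- an orbit cannot be the whole block
  have hnfull : ¬ ∀ y ∈ σ • S.B, ∃ k ∈ K S ⊓ D S, k • c = y := by
    intro hfull
    have he : {y | ∃ k ∈ K S ⊓ D S, k • c = y} = σ • S.B := Set.ext fun y =>
      ⟨fun ⟨k, hk, h⟩ => h ▸ K_mem S hk.1 (F.fixa σ hσ) hc, hfull y⟩
    have h1 := card_eq_orbit_mul (K S ⊓ D S) c
    rw [he, Set.ncard_smul_set, S.cardB] at h1
    exact not_dvd_D S hn ((Dvd.intro _ h1.symm).trans (Subgroup.card_dvd_of_le inf_le_right))
  have hDv : ∀ l, Dv l = if ∃ k ∈ K S ⊓ D S, k • c = zl F l • σ • S.b then 1 else 0 := by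
    intro l
    refine if_congr ⟨?_, ?_⟩ rfl rfl
    · rintro ⟨k, hk, h1, h2⟩; exact ⟨k, ⟨hk, hk.1, h1⟩, h2⟩
    · rintro ⟨k, hk, h2⟩; exact ⟨k, hk.1, hk.2.2, h2⟩
  have hDv01 : ∀ l, Dv l = 0 ∨ Dv l = 1 := fun l => by rw [hDv]; split <;> simp
  obtain ⟨l0, hl0⟩ := exists_zl_block F hσ hc
  have hDl0 : Dv l0 = 1 := by
    rw [hDv, if_pos ⟨1, one_mem _, by rw [one_smul, hl0]⟩]
  have hβ0 : β ≠ 0 := by
    intro h0
    rw [h0, Rat.cast_zero, mul_eq_zero, map_eq_zero, or_self] at hβ
    have hcst := eq_const_of_ev_eq_zero _ hβ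
    refine hnfull fun y hy => ?_
    obtain ⟨l, rfl⟩ := exists_zl_block F hσ hy
    have h1 : Dv l = 1 := (hcst l).trans ((hcst l0).symm.trans hDl0)
    rw [hDv] at h1
    by_contra hne
    rw [if_neg hne] at h1
    exact zero_ne_one h1
  obtain ⟨t, ht⟩ := const_off_point hp2 Dv hβ0 hα hβ
  have hp3 : 2 < p := lt_of_le_of_ne hpf.out.two_le (Ne.symm hp2)
  obtain ⟨l1, hl1t, hl10⟩ : ∃ l1, l1 ≠ t ∧ l1 ≠ l0 := by
    by_contra hne
    push Not at hne
    have hsub : (Finset.univ : Finset (ZMod p)) ⊆ {t, l0} := fun x _ => by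
      by_cases hx : x = t
      · simp [hx]
      · simp [hne x hx]
    have h2 := Finset.card_le_card hsub
    rw [Finset.card_univ, ZMod.card] at h2
    exact absurd (h2.trans Finset.card_le_two) (by omega)
  rcases hDv01 l1 with h0 | h1
  · left
    intro k hk
    obtain ⟨l, hl⟩ := exists_zl_block F hσ (K_mem S hk.1 (F.fixa σ hσ) hc)
    have hl1 : Dv l = 1 := by rw [hDv, if_pos ⟨k, hk, hl.symm⟩]
    have : l = l0 := by
      by_cases hlt : l = t
      · by_cases hl0t : l0 = t
        · rw [hlt, hl0t]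
        · exact absurd ((ht l1 l0 hl1t hl0t).symm.trans h0) (by rw [hDl0]; exact one_ne_zero)
      · exact absurd ((ht l l1 hlt hl1t).trans h0) (by rw [hl1]; exact one_ne_zero)
    rw [← hl, this, hl0]
  · right
    have hall : ∀ l, l ≠ t → ∃ k ∈ K S ⊓ D S, k • c = zl F l • σ • S.b := fun l hl => by
      have := (ht l l1 hl hl1t).trans h1
      rw [hDv] at this
      by_contra hne
      rw [if_neg hne] at this
      exact zero_ne_one this
    have hno : ¬ ∃ k ∈ K S ⊓ D S, k • c = zl F t • σ • S.b := fun h => hnfull fun y hy => by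
      obtain ⟨l, rfl⟩ := exists_zl_block F hσ hy
      by_cases hl : l = t
      · rw [hl]; exact h
      · exact hall l hl
    have hu : zl F t • σ • S.b ∈ σ • S.B := by
      rw [hzσ σ hσ t]; exact Set.smul_mem_smul_set (zl_mem_B F t)
    refine ⟨_, hu, fun h => hno ⟨1, one_mem _, by rw [one_smul, h]⟩, fun k hk => ?_,
      fun y hy hne => ?_⟩
    · obtain ⟨l, hl⟩ := exists_zl_block F hσ (K_mem S hk.1 (F.fixa σ hσ) hu)
      by_cases hlt : l = t
      · rw [← hl, hlt]
      · exfalso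
        obtain ⟨m, hm, hme⟩ := hall l hlt
        exact hno ⟨k⁻¹ * m, mul_mem (inv_mem hk) hm, by rw [mul_smul, hme, hl, inv_smul_smul]⟩
    · obtain ⟨l, rfl⟩ := exists_zl_block F hσ hy
      exact hall l fun h => hne (by rw [h])

include F hn hA in
/-- In the doubly transitive case: every block has exactly one point fixed by the kernel
stabiliser. -/
theorem fixed_unique (hp2 : p ≠ 2) {π : G} (hπ : π ∈ F.P) :
    ∃! u, u ∈ π • S.B ∧ ∀ k ∈ K S ⊓ D S, k • u = u := by
  obtain ⟨c1, hc1, hc1b⟩ := exists_B1 S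
  have hne : ∃ d ∈ S.B, d ≠ S.b ∧ d ≠ c1 := by
    by_contra h
    push Not at h
    have hsub : S.B ⊆ {S.b, c1} := fun x hx => by
      by_cases hxb : x = S.b
      · exact Or.inl hxb
      · exact Or.inr (h x hx hxb)
    have h2 := (Set.ncard_le_ncard hsub).trans (Set.ncard_insert_le _ _)
    rw [S.cardB, Set.ncard_singleton] at h2
    have := hpf.out.two_le
    omega
  obtain ⟨d1, hd1, hd1b, hd1c⟩ := hne
  by_cases hπB : π • S.b ∈ S.B
  · have hB : π • S.B = S.B := S.block π (F.fixa π hπ) S.b S.hb hπB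
    refine ⟨S.b, ⟨hB.symm ▸ S.hb, fun k hk => hk.2.2⟩, ?_⟩
    rintro u ⟨hu, hufix⟩
    rw [hB] at hu
    by_contra hub
    obtain ⟨k, hk, hke⟩ : ∃ k ∈ K S ⊓ D S, k • u ≠ u := by
      by_cases huc : u = c1
      · obtain ⟨k, hk, hke⟩ := hA u hu hub d1 hd1 hd1b
        exact ⟨k, hk, fun h => hd1c (hke.symm.trans (h.trans huc))⟩
      · obtain ⟨k, hk, hke⟩ := hA u hu hub c1 hc1 hc1b
        exact ⟨k, hk, fun h => huc (h.symm.trans hke)⟩
    exact hke (hufix k hk)
  · -- not every point is fixed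
    obtain ⟨c, hc, hcf⟩ : ∃ c ∈ π • S.B, ¬ ∀ k ∈ K S ⊓ D S, k • c = c := by
      by_contra hall
      push Not at hall
      obtain ⟨k, hk, hke⟩ := hA c1 hc1 hc1b d1 hd1 hd1b
      rw [K_faith F hn hπ hk.1 fun c hc => hall c hc k hk, one_smul] at hke
      exact hd1c hke.symm
    obtain ⟨u, hu, -, hufix, horb⟩ := (orbit_dichotomy F hn hA hp2 hπ hπB hc).resolve_left hcf
    refine ⟨u, ⟨hu, hufix⟩, ?_⟩
    rintro v ⟨hv, hvfix⟩
    by_contra hvu
    obtain ⟨k, hk, hke⟩ := horb v hv hvu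
    refine hcf ?_
    have : c = v := by
      have h' := hvfix k⁻¹ (inv_mem hk)
      rw [← hke, inv_smul_smul] at h'
      exact h'.trans hke
    rw [this]
    exact hvfix

include F hn hA in
theorem caseA_false (hp2 : p ≠ 2) : False := by
  classical
  obtain ⟨τ, hτa, hτb⟩ := S.two S.ne.symm S.ne
  have hτD : ∀ d ∈ D S, τ * d * τ⁻¹ ∈ D S := fun d hd =>
    (mem_D S).mpr ⟨by rw [mul_smul, mul_smul, show τ⁻¹ • S.a = S.b by rw [inv_smul_eq_iff, hτb], hd.2, hτb],
     by rw [mul_smul, mul_smul, show τ⁻¹ • S.b = S.a by rw [inv_smul_eq_iff, hτa], hd.1, hτa]⟩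
  set B2 := τ • (S.B \ {S.b}) with hB2
  have hB2card : B2.ncard = p - 1 := by rw [hB2, Set.ncard_smul_set, card_B1 S]
  have hB2trans : ∀ y ∈ B2, ∀ y' ∈ B2, ∃ d ∈ D S, d • y = y' := by
    rintro _ ⟨c, hc, rfl⟩ _ ⟨c', hc', rfl⟩
    obtain ⟨k, hk, hke⟩ := hA c hc.1 hc.2 c' hc'.1 hc'.2
    exact ⟨τ * k * τ⁻¹, hτD k hk.2, by simp [mul_smul, hke]⟩
  have hB2D : ∀ d ∈ D S, ∀ y ∈ B2, d • y ∈ B2 := by
    rintro d hd _ ⟨c, hc, rfl⟩
    refine ⟨(τ⁻¹ * d * τ) • c, smul_B1 S ?_ ?_ c hc, by simp [mul_smul]⟩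
    · rw [mul_smul, mul_smul, hτa, hd.2, inv_smul_eq_iff, hτa]
    · rw [mul_smul, mul_smul, hτb, hd.1, inv_smul_eq_iff, hτb]
  have hB2a : ∀ y ∈ B2, y ≠ S.a ∧ y ≠ S.b := by
    rintro _ ⟨c, hc, rfl⟩
    exact ⟨fun h => hc.2 (smul_left_cancel τ (h.trans hτb.symm)),
      fun h => S.ha (smul_left_cancel τ (h.trans hτa.symm) ▸ hc.1)⟩
  obtain ⟨y0, hy0⟩ : B2.Nonempty := by
    obtain ⟨c, hc, hcb⟩ := exists_B1 S; exact ⟨τ • c, c, ⟨hc, hcb⟩, rfl⟩
  -- an invariant set of the right size is everything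
  have hinv : ∀ V : Set Ω, (∀ d ∈ D S, ∀ y ∈ V, d • y ∈ V) → V.ncard ≤ p - 1 → y0 ∈ V →
      B2 = V := fun V hV hcard hy => by
    refine Set.eq_of_subset_of_ncard_le (fun y hyB => ?_) (by rw [hB2card]; exact hcard)
    obtain ⟨d, hd, rfl⟩ := hB2trans y0 hy0 y hyB
    exact hV d hd y0 hy
  by_cases hyB : y0 ∈ S.B
  · exact no_swap S hn hp2 hτa hτb (hinv _ (fun d hd y hy => smul_B1 S hd.1 hd.2 y hy)
      (card_B1 S).le ⟨hyB, (hB2a y0 hy0).2⟩)
  let U : Set Ω := {y | y ≠ S.a ∧ ∀ k ∈ K S ⊓ D S, k • y = y}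
  have hKD : ∀ d ∈ D S, ∀ k ∈ K S ⊓ D S, d * k * d⁻¹ ∈ K S ⊓ D S := fun d hd k hk =>
    Subgroup.mem_inf.mpr ⟨K_conj S hd.1 hk.1, mul_mem (mul_mem hd hk.2) (inv_mem hd)⟩
  have hUD : ∀ d ∈ D S, ∀ y ∈ U, d • y ∈ U := fun d hd y hy =>
    ⟨fun h => hy.1 (smul_left_cancel d (h.trans hd.1.symm)), fun k hk => by
      have := hy.2 _ (hKD d⁻¹ (inv_mem hd) k hk)
      rw [inv_inv, mul_smul, mul_smul, inv_smul_eq_iff] at this
      exact this⟩
  obtain ⟨π, hπ, -, hy0π⟩ := blk_of_point F (hB2a y0 hy0).1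
  by_cases hy0U : y0 ∈ U
  · -- the fixed points form a block
    have hUB : ∀ y ∈ U, ∀ g ∈ K S, g • y = y → g ∈ K S ⊓ D S := by
      intro y hy
      obtain ⟨ρ, ⟨hρ, rfl⟩, -⟩ := F.reg y hy.1
      let M : Subgroup G := K S ⊓ stabilizer G (ρ • S.b)
      have hle : K S ⊓ D S ≤ M := fun k hk => ⟨hk.1, hy.2 k hk⟩
      have hcard : Nat.card M ≤ Nat.card ↥(K S ⊓ D S) := by
        refine Nat.card_le_card_of_injective (fun m => ⟨ρ⁻¹ * m * ρ⁻¹⁻¹,
          K_conj S (F.fixa _ (inv_mem hρ)) m.2.1, ⟨(K_conj S (F.fixa _ (inv_mem hρ)) m.2.1).1, ?_⟩⟩)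
          fun m m' h => by simpa using congrArg Subtype.val h
        show (ρ⁻¹ * (m : G) * ρ⁻¹⁻¹) • S.b = S.b
        rw [inv_inv, mul_smul, mul_smul, mem_stabilizer_iff.mp m.2.2, inv_smul_smul]
      intro g hg hgy
      rw [Subgroup.eq_of_le_of_card_ge hle hcard]
      exact ⟨hg, hgy⟩
    have hblock : ∀ g : G, g • S.a = S.a → ∀ y, y ∈ U → g • y ∈ U → g • U = U := by
      intro g hga y hy hgy
      refine Set.eq_of_subset_of_ncard_le ?_ (Set.ncard_smul_set g U).ge
      rintro _ ⟨u, hu, rfl⟩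
      refine ⟨fun h => hu.1 (smul_left_cancel g (h.trans hga.symm)), fun k hk => ?_⟩
      have hga' : g⁻¹ • S.a = S.a := by rw [inv_smul_eq_iff, hga]
      have hmem : g⁻¹ * k * g⁻¹⁻¹ ∈ K S ⊓ D S :=
        hUB y hy _ (K_conj S hga' hk.1) (by
          rw [inv_inv, mul_smul, mul_smul, hgy.2 k hk, inv_smul_smul])
      have := hu.2 _ hmem
      rw [inv_inv, mul_smul, mul_smul, inv_smul_eq_iff] at this
      exact this
    have hUcard : U.ncard ≤ p := by
      have hpos : 0 < p := hpf.out.pos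
      refine Nat.le_of_mul_le_mul_right ?_ hpos
      choose f hfP hf using fun y : U => (F.reg (y : Ω) y.2.1).exists.imp' id fun _ h => h
      have hinj : Function.Injective (fun q : U × S.B => (⟨f q.1 • (q.2 : Ω), fun h =>
          S.ha (smul_left_cancel (f q.1) (h.trans (F.fixa _ (hfP q.1)).symm) ▸ q.2.2)⟩ :
          ({S.a}ᶜ : Set Ω))) := by
        rintro ⟨u, c⟩ ⟨u', c'⟩ h
        have h' : f u • (c : Ω) = f u' • (c' : Ω) := congrArg Subtype.val h
        have hblk : f u • S.B = f u' • S.B := smul_B_eq S (F.fixa _ (hfP u)) (F.fixa _ (hfP u'))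
          (Set.smul_mem_smul_set c.2) (h' ▸ Set.smul_mem_smul_set c'.2)
        have huu : (u : Ω) = u' := (fixed_unique F hn hA hp2 (hfP u)).unique
          ⟨by rw [← hf u]; exact Set.smul_mem_smul_set S.hb, u.2.2⟩
          ⟨by rw [hblk, ← hf u']; exact Set.smul_mem_smul_set S.hb, u'.2.2⟩
        obtain rfl : u = u' := Subtype.ext huu
        exact Prod.ext rfl (Subtype.ext (smul_left_cancel _ h'))
      have h := Nat.card_le_card_of_injective _ hinj
      rw [Nat.card_prod, Nat.card_coe_set_eq, Nat.card_coe_set_eq, S.cardB, Nat.card_coe_set_eq,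
        Set.ncard_compl, Set.ncard_singleton, Nat.card_eq_fintype_card, hn, Nat.add_sub_cancel,
        pow_two] at h
      exact h
    have hbU : S.b ∈ U := ⟨S.ne, fun k hk => hk.2.2⟩
    have hB2U : B2 = U \ {S.b} := hinv _
      (fun d hd y hy => ⟨hUD d hd y hy.1, fun h => hy.2
        (smul_left_cancel d ((Set.mem_singleton_iff.mp h).trans hd.2.symm))⟩)
      (by rw [Set.ncard_diff_singleton_of_mem hbU]; omega) ⟨hy0U, (hB2a y0 hy0).2⟩
    refine T_lemma S hbU (fun h => h.1 rfl) hblock (fun h => ?_) hτa hτb hB2U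
    exact hyB (h ▸ hy0U)
  · -- the whole orbit lies in one block
    obtain ⟨u, ⟨hu, hufix⟩, huniq⟩ := fixed_unique F hn hA hp2 hπ
    have hπB : π • S.b ∉ S.B := fun h =>
      hyB (S.block π (F.fixa π hπ) S.b S.hb h ▸ hy0π)
    obtain ⟨u', hu', -, hu'fix, horb⟩ := (orbit_dichotomy F hn hA hp2 hπ hπB hy0π).resolve_left
      (fun h => hy0U ⟨(hB2a y0 hy0).1, h⟩)
    obtain rfl : u' = u := huniq u' ⟨hu', hu'fix⟩
    have hsub : π • S.B \ {u'} ⊆ B2 := fun y hy => by
      obtain ⟨k, hk, rfl⟩ := horb y hy.1 hy.2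
      exact hB2D k hk.2 y0 hy0
    have heq : π • S.B \ {u'} = B2 := by
      refine Set.eq_of_subset_of_ncard_le hsub ?_
      rw [hB2card, Set.ncard_diff_singleton_of_mem hu', Set.ncard_smul_set, S.cardB]
    have hDu : ∀ d ∈ D S, d • u' = u' := by
      intro d hd
      refine huniq _ ⟨?_, fun k hk => ?_⟩
      · have h1 : d • y0 ∈ π • S.B := (heq ▸ hB2D d hd y0 hy0 : d • y0 ∈ π • S.B \ {u'}).1
        have h2 : (d * π) • S.B = π • S.B := by
          refine smul_B_eq S (by rw [mul_smul, F.fixa π hπ, hd.1]) (F.fixa π hπ) ?_ h1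
          rw [mul_smul]; exact Set.smul_mem_smul_set hy0π
        rw [← h2, mul_smul]; exact Set.smul_mem_smul_set hu'
      · have := hu'fix _ (hKD d⁻¹ (inv_mem hd) k hk)
        rw [inv_inv, mul_smul, mul_smul, inv_smul_eq_iff] at this
        exact this
    rcases D_fix S hn hp2 hDu with h | h
    · obtain ⟨c, hc, hce⟩ := hu'
      exact S.ha (smul_left_cancel π ((hce.trans h).trans (F.fixa π hπ).symm) ▸ hc)
    · have h1 : S.b ∈ π • S.B := h ▸ hu'
      have h2 : π • S.B = S.B := by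
        have := smul_B_eq S (F.fixa π hπ) (one_smul G S.a) h1 (by rw [one_smul]; exact S.hb)
        rwa [one_smul] at this
      exact hyB (h2 ▸ hy0π)

end caseA

section caseB

variable (hZn : ∀ x : G, x • S.a = S.a → x * F.z * x⁻¹ ∈ Subgroup.zpowers F.z)

include hn in
/-- A commutator of the two-point stabiliser fixes the block pointwise. -/
theorem comm_fixB (hZn : ∀ x : G, x • S.a = S.a → x * F.z * x⁻¹ ∈ Subgroup.zpowers F.z)
    {d d' : G} (hd : d ∈ D S) (hd' : d' ∈ D S) :
    ∀ c ∈ S.B, (d * d' * d⁻¹ * d'⁻¹) • c = c := by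
  have key : ∀ e ∈ D S, ∃ i : ℕ, ∀ n : ℕ, e • F.z ^ n • S.b = F.z ^ (i * n) • S.b := by
    intro e he
    obtain ⟨l, hl⟩ := zl_of_mem F (hZn e he.1)
    refine ⟨l.val, fun n => ?_⟩
    have h1 : e * F.z ^ n * e⁻¹ = F.z ^ (l.val * n) := by rw [← conj_pow, ← hl, zl, ← pow_mul]
    calc e • F.z ^ n • S.b = (e * F.z ^ n * e⁻¹) • e • S.b := by simp [mul_smul]
      _ = F.z ^ (l.val * n) • S.b := by rw [h1, he.2]
  have comm : ∀ c ∈ S.B, d • d' • c = d' • d • c := by
    intro c hc
    obtain ⟨l, rfl⟩ := exists_zl F hc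
    obtain ⟨i, hi⟩ := key d hd
    obtain ⟨j, hj⟩ := key d' hd'
    rw [zl, hj, hi, hi, hj, mul_left_comm]
  intro c hc
  have h' : (d' * d)⁻¹ • c ∈ S.B := by
    have := smul_B_self S (mem_D S |>.mp (inv_mem (mul_mem hd' hd))).1
      (mem_D S |>.mp (inv_mem (mul_mem hd' hd))).2
    exact this ▸ Set.smul_mem_smul_set hc
  calc (d * d' * d⁻¹ * d'⁻¹) • c = d • d' • (d' * d)⁻¹ • c := by simp [mul_smul]
    _ = d' • d • (d' * d)⁻¹ • c := comm _ h'
    _ = c := by simp [mul_smul]

include F hn hZn in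
theorem normal_P (hp2 : p ≠ 2) :
    ∀ x : G, x • S.a = S.a → ∀ π ∈ F.P, x * π * x⁻¹ ∈ F.P := by
  classical
  obtain ⟨y, hyB, hya⟩ : ∃ y, y ∉ S.B ∧ y ≠ S.a := by
    by_contra h
    push Not at h
    have hsub : ({S.a}ᶜ : Set Ω) ⊆ S.B := fun y hy => by_contra fun hy' => hy (h y hy')
    have h2 := Set.ncard_le_ncard hsub
    rw [Set.ncard_compl, Set.ncard_singleton, Nat.card_eq_fintype_card, hn, S.cardB,
      Nat.add_sub_cancel] at h2
    have := hpf.out.two_le
    nlinarith
  obtain ⟨σ, hσ, hσy, -⟩ := blk_of_point F hya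
  have hσB : σ • S.b ∉ S.B := hσy ▸ hyB
  -- numbering of the blocks
  let blk : ZMod p → Set Ω := fun j => σ ^ j.val • S.B
  have hσp : ∀ q : ℕ, σ ^ (p * q) • S.B = S.B := fun q => by
    obtain ⟨l, hl⟩ := zl_of_mem F (F.powB σ hσ)
    rw [pow_mul, ← hl, ← mem_stabilizer_iff]
    exact pow_mem (mem_stabilizer_iff.mpr (zl_smul_B F l)) q
  have hpow : ∀ n : ℕ, σ ^ n • S.B = blk (n : ZMod p) := by
    intro n
    show _ = σ ^ (n : ZMod p).val • S.B
    rw [ZMod.val_natCast]
    conv_lhs => rw [← Nat.mod_add_div n p, pow_add, mul_smul, hσp]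
  have hblk0 : blk 0 = S.B := by simp [blk]
  have hinj : Function.Injective blk := by
    intro i j h
    by_contra hne
    have h1 : blk (i - j) = S.B := by
      have e : σ ^ (i.val + (-j).val) • S.B = σ ^ (j.val + (-j).val) • S.B := by
        rw [add_comm i.val, add_comm j.val, pow_add, pow_add, mul_smul, mul_smul]
        exact congrArg _ h
      rw [hpow, hpow] at e
      simpa [← sub_eq_add_neg, hblk0] using e
    set m := (i - j).val
    have hmp : Nat.Coprime m p := (Nat.coprime_of_lt_prime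
      (fun h0 => hne (sub_eq_zero.mp ((ZMod.val_eq_zero _).mp h0))) (ZMod.val_lt _) hpf.out).symm
    obtain ⟨u, hu⟩ := Nat.exists_mul_mod_eq_one_of_coprime hmp hpf.out.one_lt
    have hm : σ ^ m ∈ Subgroup.zpowers F.z := by
      refine F.inB _ (pow_mem hσ m) ?_
      exact (show σ ^ m • S.B = S.B from h1) ▸ Set.smul_mem_smul_set S.hb
    have h3 : σ ∈ Subgroup.zpowers F.z := by
      have e : σ = (σ ^ m) ^ u * ((σ ^ p) ^ (m * u / p))⁻¹ := by
        rw [eq_mul_inv_iff_mul_eq, ← pow_mul, ← pow_mul, ← pow_succ']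
        congr 1
        have := Nat.div_add_mod (m * u) p
        rw [hu.2] at this
        omega
      rw [e]
      exact mul_mem (pow_mem hm u) (inv_mem (pow_mem (F.powB σ hσ) _))
    obtain ⟨l, hl⟩ := zl_of_mem F h3
    exact hσB (hl ▸ zl_mem_B F l)
  have hsurj : ∀ y, y ≠ S.a → ∃ j, y ∈ blk j := by
    intro y hy
    let f : ZMod p × ZMod p → Ω := fun q => σ ^ q.1.val • zl F q.2 • S.b
    have hf : Function.Injective f := by
      rintro ⟨i, u⟩ ⟨j, v⟩ h
      have hij : i = j := hinj (smul_B_eq S (F.fixa _ (pow_mem hσ _)) (F.fixa _ (pow_mem hσ _))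
        (Set.smul_mem_smul_set (zl_mem_B F u))
        (show f (i, u) ∈ _ from h ▸ Set.smul_mem_smul_set (zl_mem_B F v)))
      subst hij
      exact Prod.ext rfl (zl_inj F (smul_left_cancel _ h))
    have hr : Set.range f = {S.a}ᶜ := by
      refine Set.eq_of_subset_of_ncard_le ?_ ?_
      · rintro _ ⟨q, rfl⟩ h
        exact P_ne F (σ ^ q.1.val * zl F q.2) (mul_mem (pow_mem hσ _) (zl_P F _))
          (by rw [mul_smul]; exact h)
      · rw [Set.ncard_compl, Set.ncard_singleton, Nat.card_eq_fintype_card, hn,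
          ← Nat.card_coe_set_eq, Nat.card_range_of_injective hf, Nat.card_prod, Nat.card_zmod,
          pow_two]
        omega
    obtain ⟨q, hq⟩ : y ∈ Set.range f := hr ▸ hy
    exact ⟨q.1, hq ▸ Set.smul_mem_smul_set (zl_mem_B F q.2)⟩
  have hperm : ∀ x : G, x • S.a = S.a → ∀ j, ∃ i, x • blk j = blk i := by
    intro x hx j
    have hj : σ ^ j.val • S.a = S.a := F.fixa _ (pow_mem hσ _)
    obtain ⟨i, hi⟩ := hsurj ((x * σ ^ j.val) • S.b) fun h =>
      S.ne (smul_left_cancel (x * σ ^ j.val) (h.trans (by rw [mul_smul, hj, hx])))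
    refine ⟨i, ?_⟩
    rw [← mul_smul]
    exact smul_B_eq S (by rw [mul_smul, hj, hx]) (F.fixa _ (pow_mem hσ _))
      (Set.smul_mem_smul_set S.hb) hi
  choose pm hpm using hperm
  let X : Subgroup G := stabilizer G S.a
  let φ0 : X → ZMod p → ZMod p := fun x => pm x.1 x.2
  have hφ : ∀ (x : X) j, (x : G) • blk j = blk (φ0 x j) := fun x j => hpm _ x.2 j
  have hφinj : ∀ x : X, Function.Injective (φ0 x) := fun x i j h => hinj
    (smul_left_cancel (x : G) (by rw [hφ, hφ, h]))
  let φ : X →* Equiv.Perm (ZMod p) :=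
    MonoidHom.mk' (fun x => Equiv.ofBijective _ (Finite.injective_iff_bijective.mp (hφinj x)))
      fun x x' => Equiv.ext fun j => hinj (by
        show blk (φ0 (x * x') j) = blk (φ0 x (φ0 x' j))
        rw [← hφ, ← hφ, ← hφ, Subgroup.coe_mul, mul_smul])
  have hφa : ∀ (x : X) j, (x : G) • blk j = blk (φ x j) := hφ
  let σX : X := ⟨σ, F.fixa σ hσ⟩
  have hshift : ∀ j, φ σX j = j + 1 := fun j => hinj (by
    rw [← hφa]
    show σ • σ ^ j.val • S.B = _
    rw [← mul_smul, ← pow_succ', hpow]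
    simp)
  have hker : ∀ x : X, (∀ j, φ x j = j) → (x : G) ∈ K S := by
    intro x hx
    refine ⟨x.2, fun y hy => ?_⟩
    obtain ⟨i, hi⟩ := hsurj (y • S.b) fun h => S.ne (smul_left_cancel y (h.trans hy.symm))
    rw [smul_B_eq S hy (F.fixa _ (pow_mem hσ i.val)) (Set.smul_mem_smul_set S.hb) hi]
    exact (hφa x i).trans (congrArg blk (hx i))
  have hzlker : ∀ l j, φ ⟨zl F l, (zl_K F l).1⟩ j = j := fun l j => hinj (by
    rw [← hφa]; exact (zl_K F l).2 _ (F.fixa _ (pow_mem hσ _)))
  have hD0 : ∀ d : X, (d : G) ∈ D S → φ d 0 = 0 := fun d hd => hinj (by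
    rw [← hφa, hblk0]; exact smul_B_self S hd.1 hd.2)
  -- conjugates of `σ` act as translations
  have htrans : ∀ x : X, ∃ i : ℕ, ∀ j, φ (x * σX * x⁻¹) j = j + i := by
    haveI : IsPretransitive φ.range (ZMod p) := ⟨fun u v => by
      refine ⟨⟨φ (σX ^ (v - u).val), ⟨_, rfl⟩⟩, ?_⟩
      show φ (σX ^ (v - u).val) u = v
      have hpn : ∀ n : ℕ, ∀ j, φ (σX ^ n) j = j + n := by
        intro n
        induction n with
        | zero => intro j; simp
        | succ n ih =>
          intro j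
          rw [pow_succ, map_mul, Equiv.Perm.mul_apply, hshift, ih, Nat.cast_succ]
          abel
      rw [hpn, ZMod.natCast_zmod_val, add_sub_cancel]⟩
    rcases H58.allAff_or_two_pretransitive (e := Equiv.refl (ZMod p)) φ.range
      (c := φ σX) ⟨_, rfl⟩ (fun j => (hshift j).symm) with hAff | h2t
    · intro x
      obtain ⟨u, v, huv⟩ := hAff (φ x) ⟨x, rfl⟩
      refine ⟨u.val, fun j => ?_⟩
      have e : ∀ k, φ x k = u * k + v := fun k => huv k
      obtain ⟨k, rfl⟩ := (φ x).surjective j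
      rw [map_mul, map_mul, Equiv.Perm.mul_apply, Equiv.Perm.mul_apply, map_inv,
        Equiv.Perm.inv_def, Equiv.symm_apply_apply, hshift, e, e, ZMod.natCast_zmod_val]
      ring
    · have hDtrans : ∀ i j : ZMod p, i ≠ 0 → j ≠ 0 →
          ∃ d : X, (d : G) ∈ D S ∧ φ d i = j := by
        intro i j hi hj
        obtain ⟨⟨_, x, rfl⟩, h0, h1⟩ := (MulAction.is_two_pretransitive_iff.mp h2t)
          (Ne.symm hi : (0 : ZMod p) ≠ i) (Ne.symm hj : (0 : ZMod p) ≠ j)
        change φ x 0 = 0 at h0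
        change φ x i = j at h1
        have hxB : (x : G) • S.B = S.B := by
          have h' := hφa x 0
          rwa [h0, hblk0] at h'
        obtain ⟨l, hl⟩ := exists_zl F
          (hxB ▸ Set.smul_mem_smul_set S.hb : (x : G) • S.b ∈ S.B)
        refine ⟨(⟨zl F l, (zl_K F l).1⟩ : X)⁻¹ * x, ⟨((⟨zl F l, (zl_K F l).1⟩ : X)⁻¹ * x).2, ?_⟩, ?_⟩
        · show ((zl F l)⁻¹ * (x : G)) • S.b = S.b
          rw [mul_smul, ← hl, inv_smul_smul]
        · rw [map_mul, map_inv, Equiv.Perm.mul_apply, h1, Equiv.Perm.inv_def, Equiv.symm_apply_eq]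
          exact (hzlker l j).symm
      -- the image of the block under a swap
      obtain ⟨τ, hτa, hτb⟩ := S.two S.ne.symm S.ne
      set B2 := τ • (S.B \ {S.b}) with hB2
      have hB2card : B2.ncard = p - 1 := by rw [hB2, Set.ncard_smul_set, card_B1 S]
      have hB2a : ∀ y ∈ B2, y ≠ S.a ∧ y ≠ S.b := by
        rintro _ ⟨c, hc, rfl⟩
        exact ⟨fun h => hc.2 (smul_left_cancel τ (h.trans hτb.symm)),
          fun h => S.ha (smul_left_cancel τ (h.trans hτa.symm) ▸ hc.1)⟩
      have hB2D : ∀ d ∈ D S, ∀ y ∈ B2, d • y ∈ B2 := by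
        rintro d hd _ ⟨c, hc, rfl⟩
        refine ⟨(τ⁻¹ * d * τ) • c, smul_B1 S ?_ ?_ c hc, by simp [mul_smul]⟩
        · rw [mul_smul, mul_smul, hτa, hd.2, inv_smul_eq_iff, hτa]
        · rw [mul_smul, mul_smul, hτb, hd.1, inv_smul_eq_iff, hτb]
      -- `B2` meets every block other than `B`
      obtain ⟨y, hy, hyB⟩ : ∃ y ∈ B2, y ∉ S.B := by
        by_contra hne
        push Not at hne
        refine no_swap S hn hp2 hτa hτb (Set.eq_of_subset_of_ncard_le
          (fun y hy => ⟨hne y hy, (hB2a y hy).2⟩) ?_)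
        rw [Set.ncard_smul_set]
      obtain ⟨i, hi⟩ := hsurj y (hB2a y hy).1
      have hi0 : i ≠ 0 := fun h => hyB (by rwa [h, hblk0] at hi)
      have hall : ∀ j, j ≠ 0 → ∃ y' ∈ B2, y' ∈ blk j := by
        intro j hj
        obtain ⟨d, hd, hdj⟩ := hDtrans i j hi0 hj
        exact ⟨(d : G) • y, hB2D _ hd y hy, hdj ▸ hφa d i ▸ Set.smul_mem_smul_set hi⟩
      -- commutators are trivial
      have hDc : ∀ d ∈ D S, ∀ d' ∈ D S, d * d' = d' * d := by
        intro d hd d' hd'
        set e := d * d' * d⁻¹ * d'⁻¹ with he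
        have hτD : ∀ d ∈ D S, τ⁻¹ * d * τ ∈ D S := fun d hd =>
          (mem_D S).mpr ⟨by rw [mul_smul, mul_smul, hτa, hd.2, inv_smul_eq_iff, hτa],
           by rw [mul_smul, mul_smul, hτb, hd.1, inv_smul_eq_iff, hτb]⟩
        have heB2 : ∀ y' ∈ B2, e • y' = y' := by
          rintro _ ⟨c, hc, rfl⟩
          have := comm_fixB F hn hZn (hτD d hd) (hτD d' hd') c hc.1
          rw [show τ⁻¹ * d * τ * (τ⁻¹ * d' * τ) * (τ⁻¹ * d * τ)⁻¹ * (τ⁻¹ * d' * τ)⁻¹ =
            τ⁻¹ * e * τ by rw [he]; group, mul_smul, mul_smul, inv_smul_eq_iff] at this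
          exact this
        have heD : e ∈ D S :=
          mul_mem (mul_mem (mul_mem hd hd') (inv_mem hd)) (inv_mem hd')
        have heK : e ∈ K S := hker ⟨e, heD.1⟩ fun j => by
          by_cases hj : j = 0
          · rw [hj]; exact hD0 _ heD
          · obtain ⟨y', hy', hy'j⟩ := hall j hj
            refine hinj ?_
            rw [← hφa]
            show e • blk j = blk j
            have h1 : y' ∈ (e * σ ^ j.val) • S.B := by
              rw [mul_smul, ← heB2 y' hy']; exact Set.smul_mem_smul_set hy'j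
            have h2 := smul_B_eq S (by rw [mul_smul, F.fixa _ (pow_mem hσ _), heD.1])
              (F.fixa _ (pow_mem hσ _)) h1 hy'j
            rwa [mul_smul] at h2
        have := K_faith F hn (one_mem F.P) heK (by
          rw [one_smul]; exact comm_fixB F hn hZn hd hd')
        rw [he, mul_inv_eq_one, mul_inv_eq_iff_eq_mul] at this
        exact this
      -- two fixed blocks force the identity
      have hreg : ∀ (x : X) (u v : ZMod p), u ≠ v → φ x u = u → φ x v = v → φ x = 1 := by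
        have h00 : ∀ (d : X), (d : G) ∈ D S → ∀ v, v ≠ 0 → φ d v = v → φ d = 1 := by
          intro d hd v hv hdv
          refine Equiv.ext fun w => ?_
          by_cases hw : w = 0
          · rw [hw]; exact hD0 d hd
          obtain ⟨e, he, hev⟩ := hDtrans v w hv hw
          have hcm : d * e = e * d := Subtype.ext (hDc _ hd _ he)
          rw [← hev, ← Equiv.Perm.mul_apply, ← map_mul, hcm, map_mul, Equiv.Perm.mul_apply, hdv]
          rfl
        intro x u v huv hu hv
        -- move `u` to `0`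
        let s : X := σX ^ u.val
        have hs : ∀ j, φ s j = j + u := by
          have hpn : ∀ n : ℕ, ∀ j, φ (σX ^ n) j = j + n := by
            intro n
            induction n with
            | zero => intro j; simp
            | succ n ih =>
              intro j
              rw [pow_succ, map_mul, Equiv.Perm.mul_apply, hshift, ih, Nat.cast_succ]
              abel
          intro j
          rw [hpn, ZMod.natCast_zmod_val]
        let y := s⁻¹ * x * s
        have hy : ∀ j, φ y j = φ x (j + u) - u := by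
          intro j
          rw [map_mul, map_mul, map_inv, Equiv.Perm.mul_apply, Equiv.Perm.mul_apply, hs,
            Equiv.Perm.inv_def, Equiv.symm_apply_eq, hs, sub_add_cancel]
        have hyB : (y : G) • S.B = S.B := by
          have h' := hφa y 0
          rwa [show φ y 0 = 0 by rw [hy, zero_add, hu, sub_self], hblk0] at h'
        obtain ⟨l, hl⟩ := exists_zl F
          (hyB ▸ Set.smul_mem_smul_set S.hb : (y : G) • S.b ∈ S.B)
        let zX : X := ⟨zl F l, (zl_K F l).1⟩
        have hd : ((zX⁻¹ * y : X) : G) ∈ D S := ⟨(zX⁻¹ * y).2, by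
          show ((zl F l)⁻¹ * (y : G)) • S.b = S.b
          rw [mul_smul, ← hl, inv_smul_smul]⟩
        have hz1 : φ zX = 1 := Equiv.ext (hzlker l)
        have hy1 : φ y = 1 := by
          have h1 := h00 (zX⁻¹ * y) hd (v - u) (sub_ne_zero.mpr huv.symm)
            (by rw [map_mul, map_inv, hz1, inv_one, one_mul, hy, sub_add_cancel, hv])
          rwa [map_mul, map_inv, hz1, inv_one, one_mul] at h1
        rw [show y = s⁻¹ * x * s from rfl, map_mul, map_mul, map_inv] at hy1
        calc φ x = φ s * ((φ s)⁻¹ * φ x * φ s) * (φ s)⁻¹ := by group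
          _ = 1 := by rw [hy1, mul_one, mul_inv_cancel]
      intro x
      set w := x * σX * x⁻¹ with hw
      refine ⟨(φ w 0).val, fun j => ?_⟩
      have hfree : ∀ k, φ w k ≠ k := by
        intro k hk
        rw [hw, map_mul, map_mul, Equiv.Perm.mul_apply, Equiv.Perm.mul_apply, map_inv,
          hshift] at hk
        have h' := congrArg (φ x).symm hk
        rw [Equiv.symm_apply_apply, Equiv.Perm.inv_def] at h'
        simpa using h'
      let ν : ZMod p → ZMod p := fun k => φ w k - φ w 0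
      by_contra hne
      have hνne : ∃ k, ν k ≠ k := ⟨j, fun h => hne (by
        rw [ZMod.natCast_zmod_val]
        show φ w j = _
        have h' : φ w j - φ w 0 = j := h
        linear_combination h')⟩
      -- `k ↦ ν k - k` is injective, hence hits `- w 0`
      have hinj' : Function.Injective fun k => ν k - k := by
        intro u v h
        by_contra huv
        obtain ⟨k, hk⟩ := hνne
        have hpn : ∀ n : ℕ, ∀ j, φ (σX ^ n) j = j + n := by
          intro n
          induction n with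
          | zero => intro j; simp
          | succ n ih =>
            intro j
            rw [pow_succ, map_mul, Equiv.Perm.mul_apply, hshift, ih, Nat.cast_succ]
            abel
        set t : ZMod p := u - φ w u with ht
        let w' : X := σX ^ t.val * w
        have hw' : ∀ k, φ w' k = φ w k + t := fun k => by
          rw [map_mul, Equiv.Perm.mul_apply, hpn, ZMod.natCast_zmod_val]
        have huv' : φ w u - u = φ w v - v := by
          have h' : φ w u - φ w 0 - u = φ w v - φ w 0 - v := h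
          linear_combination h'
        have h1 := hreg w' u v huv (by rw [hw', ht, add_sub_cancel])
          (by rw [hw', ht]; linear_combination -huv')
        have e0 : φ w 0 + t = 0 := by rw [← hw', h1]; rfl
        have ek : φ w k + t = k := by rw [← hw', h1]; rfl
        apply hk
        show φ w k - φ w 0 = k
        linear_combination ek - e0
      obtain ⟨k, hk⟩ := (Finite.injective_iff_surjective.mp hinj') (- φ w 0)
      refine hfree k ?_
      have hk' : φ w k - φ w 0 - k = - φ w 0 := hk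
      linear_combination hk'
  -- conclusion
  have hσcj : ∀ x : G, x • S.a = S.a → x * σ * x⁻¹ ∈ F.P := by
    intro x hx
    obtain ⟨i, hi⟩ := htrans ⟨x, hx⟩
    set k := x * σ * x⁻¹ * (σ ^ i)⁻¹ with hk
    have hkK : k ∈ K S := by
      have hmem : ((⟨x, hx⟩ : X) * σX * (⟨x, hx⟩ : X)⁻¹ * (σX ^ i)⁻¹ : X).1 ∈ K S := by
        refine hker _ fun j => ?_
        have hpn : ∀ n : ℕ, ∀ j, φ (σX ^ n) j = j + n := by
          intro n
          induction n with
          | zero => intro j; simp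
          | succ n ih =>
            intro j
            rw [pow_succ, map_mul, Equiv.Perm.mul_apply, hshift, ih, Nat.cast_succ]
            abel
        rw [map_mul, Equiv.Perm.mul_apply, hi, map_inv, Equiv.Perm.inv_def]
        have := (φ (σX ^ i)).apply_symm_apply j
        rw [hpn] at this
        exact this
      exact hmem
    -- it centralises `z`
    obtain ⟨l, hl⟩ := zl_of_mem F (hZn x hx)
    have hl' : zl F l ≠ 1 := fun h => by
      have h1 : F.z = 1 := by
        rw [hl] at h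
        rwa [mul_inv_eq_one, mul_eq_left] at h
      have h2 := F.zord
      rw [h1, orderOf_one] at h2
      exact hpf.out.one_lt.ne h2
    have hgen : F.z ∈ Subgroup.zpowers (zl F l) := by
      have hlt : Subgroup.zpowers (zl F l) = Subgroup.zpowers F.z := by
        refine Subgroup.eq_of_le_of_card_ge
          (Subgroup.zpowers_le.mpr (Subgroup.npow_mem_zpowers _ _)) ?_
        rw [Nat.card_zpowers, Nat.card_zpowers, F.zord]
        have hdvd : orderOf (zl F l) ∣ p := by
          refine orderOf_dvd_of_pow_eq_one ?_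
          have hzp : F.z ^ p = 1 := by
            have := pow_orderOf_eq_one F.z
            rwa [F.zord] at this
          rw [zl, ← pow_mul, mul_comm, pow_mul, hzp, one_pow]
        rcases (Nat.dvd_prime hpf.out).mp hdvd with h | h
        · exact absurd (orderOf_eq_one_iff.mp h) hl'
        · exact h.ge
      rw [hlt]
      exact Subgroup.mem_zpowers _
    have hcz : Commute k F.z := by
      have h1 : Commute (x * σ * x⁻¹) (zl F l) := by
        rw [hl]
        show _ = _
        calc x * σ * x⁻¹ * (x * F.z * x⁻¹) = x * (σ * F.z) * x⁻¹ := by group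
          _ = x * (F.z * σ) * x⁻¹ := by rw [F.comm σ hσ F.z F.zP]
          _ = x * F.z * x⁻¹ * (x * σ * x⁻¹) := by group
      have h2 : Commute (σ ^ i)⁻¹ F.z := F.comm _ (inv_mem (pow_mem hσ i)) _ F.zP
      have h3 : Commute (x * σ * x⁻¹) F.z := by
        obtain ⟨e, he⟩ := Subgroup.mem_zpowers_iff.mp hgen
        rw [← he]; exact h1.zpow_right e
      exact h3.mul_left h2
    have hkB : k • S.b ∈ S.B := by
      have := K_mem S hkK (one_smul G S.a) (c := S.b) (by rw [one_smul]; exact S.hb)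
      rwa [one_smul] at this
    obtain ⟨u, hu⟩ := exists_zl F hkB
    have hkz : k = zl F u := K_ext F hn hkK (zl_K F u) fun c hc => by
      obtain ⟨w, rfl⟩ := exists_zl F hc
      rw [← mul_smul, show k * zl F w = zl F w * k from (hcz.pow_right _).eq, mul_smul, ← hu,
        ← mul_smul, ← mul_smul, ← zl_add, ← zl_add, add_comm]
    have : x * σ * x⁻¹ = zl F u * σ ^ i := by rw [← hkz, hk, inv_mul_cancel_right]
    rw [this]
    exact mul_mem (zl_P F u) (pow_mem hσ i)
  intro x hx π hπ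
  have hπa : π • S.b ≠ S.a := P_ne F π hπ
  obtain ⟨j, hj⟩ := hsurj _ hπa
  obtain ⟨l, hl⟩ := exists_zl_block F (pow_mem hσ j.val) hj
  have hπe : π = zl F l * σ ^ j.val :=
    P_inj F hπ (mul_mem (zl_P F l) (pow_mem hσ _)) (by rw [mul_smul, hl])
  rw [hπe, show x * (zl F l * σ ^ j.val) * x⁻¹ =
    x * zl F l * x⁻¹ * (x * σ ^ j.val * x⁻¹) by group]
  refine mul_mem ?_ ?_
  · rw [zl, ← conj_pow]
    exact pow_mem ((Subgroup.zpowers_le.mpr F.zP) (hZn x hx)) _
  · rw [← conj_pow]
    exact pow_mem (hσcj x hx) _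

include F hn hZn in
theorem caseB_false (hp2 : p ≠ 2) : False := by
  classical
  have hPn := normal_P F hn hZn hp2
  obtain ⟨τ, hτa, hτb⟩ := S.two S.ne.symm S.ne
  have hτD : ∀ d ∈ D S, τ * d * τ⁻¹ ∈ D S := fun d hd =>
    (mem_D S).mpr ⟨by rw [mul_smul, mul_smul, show τ⁻¹ • S.a = S.b by rw [inv_smul_eq_iff, hτb], hd.2, hτb],
     by rw [mul_smul, mul_smul, show τ⁻¹ • S.b = S.a by rw [inv_smul_eq_iff, hτa], hd.1, hτa]⟩
  -- fixed points and centralisers
  have hfixC : ∀ d ∈ D S, ∀ π ∈ F.P, d • π • S.b = π • S.b ↔ d * π * d⁻¹ = π := by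
    intro d hd π hπ
    have e : (d * π * d⁻¹) • S.b = d • π • S.b := by
      rw [mul_smul, mul_smul, show d⁻¹ • S.b = S.b by rw [inv_smul_eq_iff, hd.2]]
    exact ⟨fun h => P_inj F (hPn d hd.1 π hπ) hπ (e.trans h),
      fun h => by rw [← e, h]⟩
  -- the two-point stabiliser is commutative
  have hcommZ : ∀ d ∈ D S, ∀ d' ∈ D S, ∀ π ∈ F.P,
      (d * d') * π * (d * d')⁻¹ * ((d' * d) * π * (d' * d)⁻¹)⁻¹ ∈ Subgroup.zpowers F.z := by
    intro d hd d' hd' π hπ
    have hex : ∀ e ∈ D S, ∀ w ∈ F.P, w • S.b ∉ S.B → ∃ i : ℕ, ∀ v ∈ F.P,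
        (∃ n : ℕ, v * (w ^ n)⁻¹ ∈ Subgroup.zpowers F.z) →
        e * v * e⁻¹ * (v ^ i)⁻¹ ∈ Subgroup.zpowers F.z := by
      intro e he w hw hwB
      -- `⟨w⟩` and `z` generate `P`
      have hgenP : ∀ v ∈ F.P, ∃ n : ℕ, v * (w ^ n)⁻¹ ∈ Subgroup.zpowers F.z := by
        intro v hv
        let H : Subgroup G := Subgroup.zpowers F.z
        let f : ZMod p × ZMod p → F.P := fun q =>
          ⟨zl F q.1 * w ^ q.2.val, mul_mem (zl_P F _) (pow_mem hw _)⟩
        have hf : Function.Injective f := by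
          rintro ⟨u, i⟩ ⟨u', i'⟩ h
          have h' : zl F u * w ^ i.val = zl F u' * w ^ i'.val := congrArg Subtype.val h
          have hmem : w ^ i.val * (w ^ i'.val)⁻¹ ∈ H := by
            have : w ^ i.val * (w ^ i'.val)⁻¹ = (zl F u)⁻¹ * zl F u' := by
              rw [mul_inv_eq_iff_eq_mul, mul_assoc, ← h', inv_mul_cancel_left]
            rw [this]
            exact mul_mem (inv_mem (Subgroup.npow_mem_zpowers _ _)) (Subgroup.npow_mem_zpowers _ _)
          have hii : i = i' := by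
            by_contra hne
            have hmod : ∀ n : ℕ, w ^ n * (w ^ (n % p))⁻¹ ∈ H := fun n => by
              conv => arg 2; rw [← Nat.mod_add_div n p, pow_add]
              rw [show w ^ (n % p) * w ^ (p * (n / p)) * (w ^ ((n % p + p * (n / p)) % p))⁻¹ =
                (w ^ p) ^ (n / p) by
                  rw [Nat.add_mul_mod_self_left, Nat.mod_mod, F.comm _ (pow_mem hw _) _
                    (pow_mem hw _), mul_inv_cancel_right, pow_mul]]
              exact pow_mem (F.powB w hw) _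
            set m := (i - i').val
            have hm : w ^ m ∈ H := by
              have e2 : w ^ (i'.val + m) * (w ^ i.val)⁻¹ ∈ H := by
                have := hmod (i'.val + m)
                rwa [← ZMod.val_add, add_sub_cancel] at this
              have e3 : w ^ m = (w ^ (i'.val + m) * (w ^ i.val)⁻¹) *
                  (w ^ i.val * (w ^ i'.val)⁻¹) := by
                rw [mul_assoc, inv_mul_cancel_left, add_comm i'.val, pow_add, mul_inv_cancel_right]
              rw [e3]; exact mul_mem e2 hmem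
            have hmp : Nat.Coprime m p := (Nat.coprime_of_lt_prime
              (fun h0 => hne (sub_eq_zero.mp ((ZMod.val_eq_zero _).mp h0))) (ZMod.val_lt _)
              hpf.out).symm
            obtain ⟨u2, hu2⟩ := Nat.exists_mul_mod_eq_one_of_coprime hmp hpf.out.one_lt
            have hwH : w ∈ H := by
              have e4 := hmod (m * u2)
              rw [hu2.2, pow_one] at e4
              have e5 : (w ^ m) ^ u2 ∈ H := pow_mem hm u2
              rw [← pow_mul] at e5
              simpa using inv_mem (H.mul_mem (inv_mem e5) e4)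
            obtain ⟨l, hl⟩ := zl_of_mem F hwH
            exact hwB (hl ▸ zl_mem_B F l)
          subst hii
          have : zl F u • S.b = zl F u' • S.b := by rw [mul_right_cancel h']
          exact Prod.ext (zl_inj F this) rfl
        have hsurjP : Function.Surjective f := by
          refine (hf.bijective_of_nat_card_le ?_).2
          rw [Nat.card_prod, Nat.card_zmod]
          have hPcard : Nat.card F.P ≤ p * p := by
            have hinj : Function.Injective (fun π : F.P =>
                (⟨(π : G) • S.b, P_ne F π π.2⟩ : ({S.a}ᶜ : Set Ω))) := fun π π' h =>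
              Subtype.ext (P_inj F π.2 π'.2 (congrArg Subtype.val h))
            have h := Nat.card_le_card_of_injective _ hinj
            rwa [Nat.card_coe_set_eq, Set.ncard_compl, Set.ncard_singleton,
              Nat.card_eq_fintype_card (α := Ω), hn, Nat.add_sub_cancel, pow_two] at h
          exact hPcard
        obtain ⟨q, hq⟩ := hsurjP ⟨v, hv⟩
        refine ⟨q.2.val, ?_⟩
        rw [show v = zl F q.1 * w ^ q.2.val from (congrArg Subtype.val hq).symm,
          mul_inv_cancel_right]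
        exact Subgroup.npow_mem_zpowers _ _
      obtain ⟨i, hi⟩ := hgenP _ (hPn e he.1 w hw)
      refine ⟨i, fun v hv => ?_⟩
      rintro ⟨n, hn'⟩
      obtain ⟨l, hl⟩ := zl_of_mem F hn'
      have hv' : v = zl F l * w ^ n := by rw [hl, inv_mul_cancel_right]
      obtain ⟨l', hl'⟩ := zl_of_mem F hi
      have hew : e * w * e⁻¹ = zl F l' * w ^ i := by rw [hl', inv_mul_cancel_right]
      have hcl : Commute (zl F l) (w ^ n) := F.comm _ (zl_P F l) _ (pow_mem hw n)
      have hcl' : Commute (zl F l') (w ^ i) := F.comm _ (zl_P F l') _ (pow_mem hw i)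
      have e1 : e * v * e⁻¹ = (e * zl F l * e⁻¹) * (zl F l') ^ n * w ^ (i * n) := by
        rw [hv', show e * (zl F l * w ^ n) * e⁻¹ =
          (e * zl F l * e⁻¹) * (e * w ^ n * e⁻¹) by group, ← conj_pow, hew, hcl'.mul_pow,
          ← pow_mul]
        simp only [mul_assoc]
      have e2 : v ^ i = zl F l ^ i * w ^ (i * n) := by
        rw [hv', hcl.mul_pow, ← pow_mul, mul_comm n i]
      rw [e1, e2, mul_inv_rev, mul_assoc, mul_inv_cancel_left]
      refine mul_mem (mul_mem ?_ (pow_mem (Subgroup.npow_mem_zpowers _ _) _))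
        (inv_mem (pow_mem (Subgroup.npow_mem_zpowers _ _) _))
      rw [zl, ← conj_pow]
      exact pow_mem (hZn e he.1) _
    by_cases hπB : π • S.b ∈ S.B
    · obtain ⟨l, rfl⟩ := zl_of_mem F (F.inB π hπ hπB)
      have : ∀ g : G, g • S.a = S.a → g * zl F l * g⁻¹ ∈ Subgroup.zpowers F.z := fun g hg => by
        rw [zl, ← conj_pow]; exact pow_mem (hZn g hg) _
      exact mul_mem (this _ (mul_mem hd hd').1) (inv_mem (this _ (mul_mem hd' hd).1))
    · obtain ⟨i, hi⟩ := hex d hd π hπ hπB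
      obtain ⟨i', hi'⟩ := hex d' hd' π hπ hπB
      have hpow : ∀ (e : G) (j : ℕ) (v : G), v ∈ F.P →
          e * v * e⁻¹ * (v ^ j)⁻¹ ∈ Subgroup.zpowers F.z →
          ∃ t ∈ Subgroup.zpowers F.z, e * v * e⁻¹ = t * v ^ j := fun e j v _ h =>
        ⟨_, h, by group⟩
      obtain ⟨t, ht, hte⟩ := hpow d i π hπ (hi π hπ ⟨1, by simp⟩)
      obtain ⟨t', ht', hte'⟩ := hpow d' i' π hπ (hi' π hπ ⟨1, by simp⟩)
      have hZP : Subgroup.zpowers F.z ≤ F.P := Subgroup.zpowers_le.mpr F.zP
      have hconjZ : ∀ g : G, g • S.a = S.a → ∀ s ∈ Subgroup.zpowers F.z,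
          g * s * g⁻¹ ∈ Subgroup.zpowers F.z := by
        intro g hg s hs
        obtain ⟨l, rfl⟩ := zl_of_mem F hs
        rw [zl, ← conj_pow]; exact pow_mem (hZn g hg) _
      have e1 : d * d' * π * (d * d')⁻¹ = (d * t' * d⁻¹) * t ^ i' * π ^ (i * i') := by
        rw [show d * d' * π * (d * d')⁻¹ = d * (d' * π * d'⁻¹) * d⁻¹ by group, hte',
          show d * (t' * π ^ i') * d⁻¹ = (d * t' * d⁻¹) * (d * π ^ i' * d⁻¹) by group,
          ← conj_pow, hte, (show Commute t (π ^ i) from F.comm _ (hZP ht) _ (pow_mem hπ i)).mul_pow,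
          ← pow_mul]
        simp only [mul_assoc]
      have e2 : d' * d * π * (d' * d)⁻¹ = (d' * t * d'⁻¹) * t' ^ i * π ^ (i * i') := by
        rw [show d' * d * π * (d' * d)⁻¹ = d' * (d * π * d⁻¹) * d'⁻¹ by group, hte,
          show d' * (t * π ^ i) * d'⁻¹ = (d' * t * d'⁻¹) * (d' * π ^ i * d'⁻¹) by group,
          ← conj_pow, hte',
          (show Commute t' (π ^ i') from F.comm _ (hZP ht') _ (pow_mem hπ i')).mul_pow, ← pow_mul,
          mul_comm i' i]
        simp only [mul_assoc]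
      rw [e1, e2, mul_inv_rev, mul_assoc, mul_inv_cancel_left]
      exact mul_mem (mul_mem (hconjZ d hd.1 t' ht') (pow_mem ht _))
        (inv_mem (mul_mem (hconjZ d' hd'.1 t ht) (pow_mem ht' _)))
  have hDc : ∀ d ∈ D S, ∀ d' ∈ D S, d * d' = d' * d := by
    intro d hd d' hd'
    set e := d * d' * d⁻¹ * d'⁻¹ with he
    have heD : e ∈ D S := mul_mem (mul_mem (mul_mem hd hd') (inv_mem hd)) (inv_mem hd')
    have heK : e ∈ K S := by
      refine ⟨heD.1, fun x hx => ?_⟩
      obtain ⟨π, hπ, hπb, hπB⟩ := blk_of_point F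
        (fun h => S.ne (smul_left_cancel x (h.trans hx.symm)) : x • S.b ≠ S.a)
      rw [smul_B_eq S hx (F.fixa π hπ) (Set.smul_mem_smul_set S.hb) hπB]
      -- conjugation by `e` fixes `π` modulo the kernel part
      have hπ' : (d' * d)⁻¹ * π * (d' * d) ∈ F.P := by
        have := hPn _ (inv_mem (mul_mem hd' hd) : (d' * d)⁻¹ ∈ D S).1 π hπ
        rwa [inv_inv] at this
      have h1 := hcommZ d hd d' hd' _ hπ'
      rw [show (d * d') * ((d' * d)⁻¹ * π * (d' * d)) * (d * d')⁻¹ = e * π * e⁻¹ by rw [he]; group,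
        show (d' * d) * ((d' * d)⁻¹ * π * (d' * d)) * (d' * d)⁻¹ = π by group] at h1
      obtain ⟨l, hl⟩ := zl_of_mem F h1
      calc e • π • S.B = (e * π * e⁻¹) • e • S.B := by simp [mul_smul]
        _ = (π * zl F l) • S.B := by
          rw [smul_B_self S heD.1 heD.2, F.comm π hπ _ (zl_P F l), hl, inv_mul_cancel_right]
        _ = π • S.B := by rw [mul_smul, zl_smul_B F l]
    have := K_faith F hn (one_mem F.P) heK (by rw [one_smul]; exact comm_fixB F hn hZn hd hd')
    rw [he, mul_inv_eq_one, mul_inv_eq_iff_eq_mul] at this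
    exact this
  obtain ⟨c1, hc1, hc1b⟩ := exists_B1 S
  by_cases hH1 : ∃ d ∈ D S, d ≠ 1 ∧ ∀ c ∈ S.B, d • c = c
  · obtain ⟨d, hd, hd1, hdB⟩ := hH1
    set r := τ * d * τ⁻¹ with hr
    have hrD : r ∈ D S := hτD d hd
    let C : Subgroup G := F.P ⊓ Subgroup.centralizer {r}
    have hC : ∀ π, π ∈ C ↔ π ∈ F.P ∧ r • π • S.b = π • S.b := by
      intro π
      constructor
      · rintro ⟨hπ, hc⟩
        refine ⟨hπ, (hfixC r hrD π hπ).mpr ?_⟩
        rw [mul_inv_eq_iff_eq_mul]
        exact Subgroup.mem_centralizer_singleton_iff.mp hc |>.symm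
      · rintro ⟨hπ, h⟩
        refine ⟨hπ, Subgroup.mem_centralizer_singleton_iff.mpr ?_⟩
        exact (mul_inv_eq_iff_eq_mul.mp ((hfixC r hrD π hπ).mp h)).symm
    let U : Set Ω := (fun π => π • S.b) '' (C : Set G)
    have hbU : S.b ∈ U := ⟨1, one_mem _, one_smul _ _⟩
    have hU : ∀ y, y ≠ S.a → r • y = y → y ∈ U := by
      intro y hy hry
      obtain ⟨π, ⟨hπ, rfl⟩, -⟩ := F.reg y hy
      exact ⟨π, (hC π).mpr ⟨hπ, hry⟩, rfl⟩
    have hUcard : U.ncard = Nat.card C := by
      rw [Set.ncard_image_of_injOn (fun π hπ π' hπ' h => P_inj F hπ.1 hπ'.1 h),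
        ← Nat.card_coe_set_eq]
      rfl
    have hCdvd : Nat.card C ∣ p ^ 2 := by
      have hP : Nat.card F.P = p ^ 2 := by
        have hbij : Function.Bijective (fun π : F.P =>
            (⟨(π : G) • S.b, P_ne F π π.2⟩ : ({S.a}ᶜ : Set Ω))) := by
          refine ⟨fun π π' h => Subtype.ext (P_inj F π.2 π'.2 (congrArg Subtype.val h)), fun y => ?_⟩
          obtain ⟨π, ⟨hπ, hπy⟩, -⟩ := F.reg y.1 y.2
          exact ⟨⟨π, hπ⟩, Subtype.ext hπy⟩
        rw [Nat.card_eq_of_bijective _ hbij, Nat.card_coe_set_eq, Set.ncard_compl,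
          Set.ncard_singleton, Nat.card_eq_fintype_card, hn, Nat.add_sub_cancel]
      exact hP ▸ Subgroup.card_dvd_of_le inf_le_left
    have hB2 : τ • (S.B \ {S.b}) ⊆ U \ {S.b} := by
      rintro _ ⟨c, hc, rfl⟩
      refine ⟨hU _ (fun h => hc.2 (smul_left_cancel τ (h.trans hτb.symm))) ?_,
        fun h => S.ha (smul_left_cancel τ ((Set.mem_singleton_iff.mp h).trans hτa.symm) ▸ hc.1)⟩
      rw [hr]; simp [mul_smul, hdB c hc.1]
    have hp3 := hpf.out.two_le
    obtain ⟨j, hj, hCj⟩ := (Nat.dvd_prime_pow hpf.out).mp hCdvd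
    have hle := Set.ncard_le_ncard hB2
    rw [Set.ncard_smul_set, card_B1 S, Set.ncard_diff_singleton_of_mem hbU, hUcard, hCj] at hle
    interval_cases j
    · rw [pow_zero] at hle; omega
    · rw [pow_one] at hCj
      have heq : τ • (S.B \ {S.b}) = U \ {S.b} := Set.eq_of_subset_of_ncard_le hB2 (by
        rw [Set.ncard_smul_set, card_B1 S, Set.ncard_diff_singleton_of_mem hbU, hUcard, hCj])
      by_cases hUB : U = S.B
      · exact no_swap S hn hp2 hτa hτb (hUB ▸ heq)
      refine T_lemma S hbU ?_ ?_ hUB hτa hτb heq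
      · rintro ⟨π, hπ, h⟩
        exact P_ne F π hπ.1 h
      · rintro g hga _ ⟨π, hπ, rfl⟩ ⟨π', hπ', hgy⟩
        obtain ⟨ρ, hρ, hρb, -⟩ := blk_of_point F
          (fun h => S.ne (smul_left_cancel g (h.trans hga.symm)) : g • S.b ≠ S.a)
        set e := ρ⁻¹ * g with he
        have heD : e ∈ D S := (mem_D S).mpr ⟨by rw [mul_smul, hga, inv_smul_eq_iff, F.fixa ρ hρ],
          by rw [mul_smul, ← hρb, inv_smul_smul]⟩
        have hge : g = ρ * e := by rw [he, mul_inv_cancel_left]
        clear_value e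
        have heC : ∀ v ∈ C, e * v * e⁻¹ ∈ C := by
          intro v hv
          refine ⟨hPn e heD.1 v hv.1, Subgroup.mem_centralizer_singleton_iff.mpr ?_⟩
          have h1 := Subgroup.mem_centralizer_singleton_iff.mp hv.2
          have h2 := hDc e heD r hrD
          calc e * v * e⁻¹ * r = e * v * (e⁻¹ * (r * e)) * e⁻¹ := by group
            _ = e * (v * r) * e⁻¹ := by rw [← h2]; group
            _ = (e * r) * v * e⁻¹ := by rw [h1]; group
            _ = r * (e * v * e⁻¹) := by rw [h2]; group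
        have hρC : ρ ∈ C := by
          have h1 : π' = ρ * (e * π * e⁻¹) := by
            refine P_inj F hπ'.1 (mul_mem hρ (hPn e heD.1 π hπ.1)) ?_
            rw [show π' • S.b = g • π • S.b from hgy, hge, mul_smul, mul_smul, mul_smul, mul_smul,
              show e⁻¹ • S.b = S.b by rw [inv_smul_eq_iff, heD.2]]
          rw [show ρ = π' * (e * π * e⁻¹)⁻¹ by rw [h1, mul_inv_cancel_right]]
          exact mul_mem hπ' (inv_mem (heC π hπ))
        refine Set.eq_of_subset_of_ncard_le ?_ (Set.ncard_smul_set g U).ge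
        rintro _ ⟨_, ⟨v, hv, rfl⟩, rfl⟩
        refine ⟨ρ * (e * v * e⁻¹), mul_mem hρC (heC v hv), ?_⟩
        simp only [hge, mul_smul, show e⁻¹ • S.b = S.b by rw [inv_smul_eq_iff, heD.2]]
    · have hall : ∀ π ∈ F.P, π ∈ C := fun π hπ => by
        have hP : Nat.card F.P ≤ Nat.card C := by
          rw [hCj]
          have hinj : Function.Injective (fun π : F.P =>
              (⟨(π : G) • S.b, P_ne F π π.2⟩ : ({S.a}ᶜ : Set Ω))) := fun π π' h =>
            Subtype.ext (P_inj F π.2 π'.2 (congrArg Subtype.val h))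
          have h := Nat.card_le_card_of_injective _ hinj
          rwa [Nat.card_coe_set_eq, Set.ncard_compl, Set.ncard_singleton,
            Nat.card_eq_fintype_card (α := Ω), hn, Nat.add_sub_cancel] at h
        rw [Subgroup.eq_of_le_of_card_ge (show C ≤ F.P from inf_le_left) hP]
        exact hπ
      have hr1 : r = 1 := S.faith r fun y => by
        by_cases hy : y = S.a
        · rw [hy]; exact hrD.1
        · obtain ⟨π, ⟨hπ, rfl⟩, -⟩ := F.reg y hy
          exact ((hC π).mp (hall π hπ)).2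
      exact hd1 (by rw [hr, mul_inv_eq_one, mul_eq_left] at hr1; exact hr1)
  · -- the two-point stabiliser is semiregular on the block
    push Not at hH1
    have hz1 : ∀ d ∈ D S, d • F.z • S.b = F.z • S.b → d = 1 := by
      intro d hd h
      by_contra hne
      obtain ⟨c, hc, hcne⟩ := hH1 d hd hne
      apply hcne
      have hcz : d * F.z * d⁻¹ = F.z := (hfixC d hd F.z F.zP).mp h
      obtain ⟨l, rfl⟩ := exists_zl F hc
      refine (hfixC d hd _ (zl_P F l)).mpr ?_
      rw [zl, ← conj_pow, hcz]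
    have hzB : F.z • S.b ∈ S.B \ {S.b} := by
      refine ⟨by rw [← zl_one F]; exact zl_mem_B F 1, fun h => ?_⟩
      have := zl_inj F (i := 1) (l := 0) (by rw [zl_one, zl_zero, one_smul]; exact h)
      exact one_ne_zero this
    have hDle : Nat.card (D S) ≤ p - 1 := by
      rw [← card_B1 S, ← Nat.card_coe_set_eq]
      refine Nat.card_le_card_of_injective
        (fun d => ⟨(d : G) • F.z • S.b, smul_B1 S d.2.1 d.2.2 _ hzB⟩) fun d d' h => ?_
      have h' : ((d' : G)⁻¹ * d) • F.z • S.b = F.z • S.b := by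
        rw [mul_smul, show (d : G) • F.z • S.b = (d' : G) • F.z • S.b from congrArg Subtype.val h,
          inv_smul_smul]
      exact Subtype.ext (inv_mul_eq_one.mp (hz1 _ (mul_mem (inv_mem d'.2) d.2) h')).symm
    obtain ⟨⟨t, htD⟩, hto⟩ := exists_prime_orderOf_dvd_card' 2 (D_even S hn hp2)
    rw [Subgroup.orderOf_mk] at hto
    have ht2 : t * t = 1 := by rw [← pow_two, ← hto, pow_orderOf_eq_one]
    have ht1 : t ≠ 1 := fun h => by rw [h, orderOf_one] at hto; norm_num at hto
    have hinv : ∀ s ∈ D S, s * s = 1 → s ≠ 1 → s * F.z * s⁻¹ = F.z⁻¹ := by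
      intro s hs hs2 hs1
      obtain ⟨l, hl⟩ := zl_of_mem F (hZn s hs.1)
      have hll : F.z ^ (l.val * l.val) = F.z := by
        calc F.z ^ (l.val * l.val) = (F.z ^ l.val) ^ l.val := pow_mul _ _ _
          _ = (s * F.z * s⁻¹) ^ l.val := by rw [← hl, zl]
          _ = s * F.z ^ l.val * s⁻¹ := conj_pow
          _ = (s * s) * F.z * (s * s)⁻¹ := by rw [show F.z ^ l.val = s * F.z * s⁻¹ from hl]; group
          _ = F.z := by rw [hs2]; group
      have hmod : ((l.val * l.val : ℕ) : ZMod p) = ((1 : ℕ) : ZMod p) := by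
        refine zl_inj F ?_
        rw [zl_natCast, zl_natCast, hll, pow_one]
      rw [Nat.cast_mul, ZMod.natCast_zmod_val, Nat.cast_one] at hmod
      rcases mul_self_eq_one_iff.mp hmod with h | h
      · exfalso
        refine hs1 (hz1 s hs ((hfixC s hs F.z F.zP).mpr ?_))
        rw [← hl, h, zl_one]
      · rw [← hl, h, eq_inv_iff_mul_eq_one, ← zl_one F, ← zl_add, neg_add_cancel, zl_zero]
    have huniq : ∀ s ∈ D S, s * s = 1 → s ≠ 1 → s = t := by
      intro s hs hs2 hs1
      have hmem : t⁻¹ * s ∈ D S := mul_mem (inv_mem htD) hs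
      refine (inv_mul_eq_one.mp (hz1 _ hmem ((hfixC _ hmem F.z F.zP).mpr ?_))).symm
      calc t⁻¹ * s * F.z * (t⁻¹ * s)⁻¹ = t⁻¹ * (s * F.z * s⁻¹) * t := by group
        _ = t⁻¹ * (t * F.z * t⁻¹) * t := by rw [hinv s hs hs2 hs1, hinv t htD ht2 ht1]
        _ = F.z := by group
    -- involutions fixing two points
    let R : Ω → Ω → Subgroup G := fun x y =>
      Subgroup.closure {h | h • x = x ∧ h • y = y ∧ h * h = 1}
    have hRfix : ∀ x y, ∀ h ∈ R x y, h • x = x ∧ h • y = y := fun x y h hh =>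
      (Subgroup.closure_le (K := stabilizer G x ⊓ stabilizer G y)).mpr
        (fun k hk => ⟨hk.1, hk.2.1⟩) hh
    have htfix : ∀ w, t • w = w → w = S.a ∨ w = S.b := by
      intro w hw
      have htR : t ∈ R S.a S.b := Subgroup.subset_closure ⟨htD.1, htD.2, ht2⟩
      have hRle : R S.a S.b ≤ Subgroup.zpowers t := by
        refine (Subgroup.closure_le _).mpr fun k hk => ?_
        by_cases hk1 : k = 1
        · rw [hk1]; exact one_mem _
        · rw [huniq k ⟨hk.1, hk.2.1⟩ hk.2.2 hk1]; exact Subgroup.mem_zpowers t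
      rcases fix_two_or_univ S hn R (fun x y _ => hRfix x y)
        (fun g x y _ h hh => by
          refine (Subgroup.closure_le
            (K := (R (g • x) (g • y)).comap (MulAut.conj g).toMonoidHom)).mpr ?_ hh
          rintro k ⟨h1, h2, h3⟩
          exact Subgroup.subset_closure ⟨by simp [mul_smul, h1], by simp [mul_smul, h2], by
            rw [← map_mul, h3, map_one]⟩)
        (fun x y z w _ _ hz hw => (Subgroup.closure_le _).mpr fun k hk =>
          Subgroup.subset_closure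
            ⟨hz k (Subgroup.subset_closure hk), hw k (Subgroup.subset_closure hk), hk.2.2⟩)
        with h | h
      · by_contra hne
        push Not at hne
        have hsub : ({S.a, S.b, w} : Set Ω) ⊆ {z : Ω | ∀ k ∈ R S.a S.b, k • z = z} := by
          intro v hv k hk
          rcases hv with rfl | rfl | rfl
          · exact (hRfix _ _ k hk).1
          · exact (hRfix _ _ k hk).2
          · exact mem_stabilizer_iff.mp (Subgroup.zpowers_le.mpr (mem_stabilizer_iff.mpr hw)
              (hRle hk))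
        have h3 := Set.ncard_le_ncard hsub
        rw [h, Set.ncard_insert_of_notMem (by simp [S.ne.symm, Ne.symm hne.1]),
          Set.ncard_pair (Ne.symm hne.2)] at h3
        omega
      · exact absurd (S.faith t (h t htR)) ht1
    haveI : Fintype G := Fintype.ofFinite G
    let I : Finset G := Finset.univ.filter fun s =>
      s ≠ 1 ∧ s * s = 1 ∧ ∃ x y : Ω, x ≠ y ∧ s • x = x ∧ s • y = y
    let Q : Finset (Ω × Ω) := Finset.univ.offDiag
    -- one involution fixes each pair
    have hone : ∀ x y : Ω, x ≠ y → (I.filter fun s => s • x = x ∧ s • y = y).card = 1 := by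
      intro x y hxy
      obtain ⟨g, hga, hgb⟩ := S.two S.ne.symm hxy
      rw [Finset.card_eq_one]
      refine ⟨g * t * g⁻¹, Finset.ext fun s => ?_⟩
      simp only [I, Finset.mem_filter, Finset.mem_univ, true_and, Finset.mem_singleton]
      constructor
      · rintro ⟨⟨hs1, hs2, -⟩, hsx, hsy⟩
        have h1 : g⁻¹ * s * g = t := by
          refine huniq _ ⟨?_, ?_⟩ ?_ fun h => hs1 ?_
          · show (g⁻¹ * s * g) • S.a = S.a
            rw [mul_smul, mul_smul, hga, hsx, inv_smul_eq_iff, hga]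
          · show (g⁻¹ * s * g) • S.b = S.b
            rw [mul_smul, mul_smul, hgb, hsy, inv_smul_eq_iff, hgb]
          · rw [show g⁻¹ * s * g * (g⁻¹ * s * g) = g⁻¹ * (s * s) * g by group, hs2]; group
          · rw [show s = g * (g⁻¹ * s * g) * g⁻¹ by group, h]; group
        rw [← h1]; group
      · rintro rfl
        have hx' : (g * t * g⁻¹) • x = x := by
          rw [mul_smul, mul_smul, ← hga, inv_smul_smul, htD.1]
        have hy' : (g * t * g⁻¹) • y = y := by
          rw [mul_smul, mul_smul, ← hgb, inv_smul_smul, htD.2]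
        refine ⟨⟨fun h => ht1 ?_, ?_, x, y, hxy, hx', hy'⟩, hx', hy'⟩
        · rw [show t = g⁻¹ * (g * t * g⁻¹) * g by group, h]; group
        · rw [show g * t * g⁻¹ * (g * t * g⁻¹) = g * (t * t) * g⁻¹ by group, ht2]; group
    have hI : ∀ s ∈ I, ∃ x y : Ω, x ≠ y ∧ ∀ w : Ω, s • w = w ↔ (w = x ∨ w = y) := by
      intro s hs
      simp only [I, Finset.mem_filter, Finset.mem_univ, true_and] at hs
      obtain ⟨hs1, hs2, x, y, hxy, hsx, hsy⟩ := hs
      obtain ⟨g, hga, hgb⟩ := S.two S.ne.symm hxy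
      refine ⟨x, y, hxy, fun w => ⟨fun hw => ?_, fun hw => hw.elim (· ▸ hsx) (· ▸ hsy)⟩⟩
      have hst : s = g * t * g⁻¹ := by
        obtain ⟨u, hu⟩ := Finset.card_eq_one.mp (hone x y hxy)
        have e1 : s ∈ I.filter fun s => s • x = x ∧ s • y = y := by
          simp only [I, Finset.mem_filter, Finset.mem_univ, true_and]
          exact ⟨⟨hs1, hs2, x, y, hxy, hsx, hsy⟩, hsx, hsy⟩
        have hx' : (g * t * g⁻¹) • x = x := by
          rw [mul_smul, mul_smul, ← hga, inv_smul_smul, htD.1]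
        have hy' : (g * t * g⁻¹) • y = y := by
          rw [mul_smul, mul_smul, ← hgb, inv_smul_smul, htD.2]
        have e2 : g * t * g⁻¹ ∈ I.filter fun s => s • x = x ∧ s • y = y := by
          simp only [I, Finset.mem_filter, Finset.mem_univ, true_and]
          refine ⟨⟨fun h => ht1 ?_, ?_, x, y, hxy, hx', hy'⟩, hx', hy'⟩
          · rw [show t = g⁻¹ * (g * t * g⁻¹) * g by group, h]; group
          · rw [show g * t * g⁻¹ * (g * t * g⁻¹) = g * (t * t) * g⁻¹ by group, ht2]; group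
        rw [hu, Finset.mem_singleton] at e1 e2
        rw [e1, e2]
      have hgw : t • g⁻¹ • w = g⁻¹ • w := by
        rw [hst, mul_smul, mul_smul, smul_eq_iff_eq_inv_smul] at hw
        exact hw
      rcases htfix _ hgw with h | h
      · left; rw [← hga, ← h, smul_inv_smul]
      · right; rw [← hgb, ← h, smul_inv_smul]
    have hfixcount : I.card * 2 = Q.card := by
      have h1 := Finset.sum_card_bipartiteAbove_eq_sum_card_bipartiteBelow
        (fun (s : G) (q : Ω × Ω) => s • q.1 = q.1 ∧ s • q.2 = q.2) (s := I) (t := Q)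
      have h2 : ∀ q ∈ Q, (Finset.bipartiteBelow
          (fun (s : G) (q : Ω × Ω) => s • q.1 = q.1 ∧ s • q.2 = q.2) I q).card = 1 :=
        fun q hq => hone q.1 q.2 (Finset.mem_offDiag.mp hq).2.2
      have h3 : ∀ s ∈ I, (Finset.bipartiteAbove
          (fun (s : G) (q : Ω × Ω) => s • q.1 = q.1 ∧ s • q.2 = q.2) Q s).card = 2 := by
        intro s hs
        obtain ⟨x, y, hxy, hw⟩ := hI s hs
        rw [Finset.card_eq_two]
        refine ⟨(x, y), (y, x), fun h => hxy (congrArg Prod.fst h), Finset.ext fun q => ?_⟩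
        obtain ⟨q1, q2⟩ := q
        simp only [Finset.mem_bipartiteAbove, Q, Finset.mem_offDiag, Finset.mem_univ, true_and,
          Finset.mem_insert, Finset.mem_singleton, Prod.mk.injEq, hw]
        constructor
        · rintro ⟨hne, hq1 | hq1, hq2 | hq2⟩ <;> subst hq1 <;> subst hq2 <;>
            first
              | exact absurd rfl hne
              | exact Or.inl ⟨rfl, rfl⟩
              | exact Or.inr ⟨rfl, rfl⟩
        · rintro (⟨rfl, rfl⟩ | ⟨rfl, rfl⟩)
          · exact ⟨hxy, Or.inl rfl, Or.inr rfl⟩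
          · exact ⟨hxy.symm, Or.inr rfl, Or.inl rfl⟩
      rw [Finset.sum_congr rfl h2, Finset.sum_congr rfl h3, Finset.sum_const, Finset.sum_const,
        smul_eq_mul, smul_eq_mul, mul_one] at h1
      exact h1
    have hswap : I.card * (Fintype.card Ω - 2) ≤ Q.card * (p - 1) := by
      have h1 := Finset.sum_card_bipartiteAbove_eq_sum_card_bipartiteBelow
        (fun (s : G) (q : Ω × Ω) => s • q.1 = q.2) (s := I) (t := Q)
      have h2 : ∀ q ∈ Q, (Finset.bipartiteBelow
          (fun (s : G) (q : Ω × Ω) => s • q.1 = q.2) I q).card ≤ p - 1 := by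
        intro q hq
        obtain ⟨x, y⟩ := q
        obtain ⟨g, hga, hgb⟩ := S.two S.ne.symm (Finset.mem_offDiag.mp hq).2.2
        refine le_trans ?_ hDle
        rw [← Nat.card_eq_finsetCard]
        have hmem : ∀ s : {s // s ∈ Finset.bipartiteBelow
            (fun (s : G) (q : Ω × Ω) => s • q.1 = q.2) I (x, y)},
            τ⁻¹ * (g⁻¹ * (s : G) * g) ∈ D S := by
          rintro ⟨s, hs⟩
          simp only [I, Finset.mem_bipartiteBelow, Finset.mem_filter, Finset.mem_univ,
            true_and] at hs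
          obtain ⟨⟨-, hs2, -⟩, hsx⟩ := hs
          have hsy : s • y = x := by rw [← hsx, ← mul_smul, hs2, one_smul]
          constructor
          · show (τ⁻¹ * (g⁻¹ * s * g)) • S.a = S.a
            rw [mul_smul, mul_smul, mul_smul, hga, hsx, inv_smul_eq_iff, inv_smul_eq_iff, hτa, hgb]
          · show (τ⁻¹ * (g⁻¹ * s * g)) • S.b = S.b
            rw [mul_smul, mul_smul, mul_smul, hgb, hsy, inv_smul_eq_iff, inv_smul_eq_iff, hτb, hga]
        refine Nat.card_le_card_of_injective (fun s => ⟨_, hmem s⟩) fun s s' h => ?_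
        exact Subtype.ext (by simpa using congrArg Subtype.val h)
      have h3 : ∀ s ∈ I, (Finset.bipartiteAbove
          (fun (s : G) (q : Ω × Ω) => s • q.1 = q.2) Q s).card = Fintype.card Ω - 2 := by
        intro s hs
        obtain ⟨x, y, hxy, hw⟩ := hI s hs
        have e : (Finset.bipartiteAbove (fun (s : G) (q : Ω × Ω) => s • q.1 = q.2) Q s).card =
            (Finset.univ \ {x, y} : Finset Ω).card := by
          refine Finset.card_bij (fun q _ => q.1) (fun q hq => ?_) (fun q hq q' hq' h => ?_)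
            (fun w hw' => ?_)
          · simp only [Finset.mem_bipartiteAbove, Q, Finset.mem_offDiag, Finset.mem_univ,
              true_and] at hq
            simp only [Finset.mem_sdiff, Finset.mem_univ, true_and, Finset.mem_insert,
              Finset.mem_singleton, ← hw]
            exact fun h => hq.1 (h.symm.trans hq.2)
          · simp only [Finset.mem_bipartiteAbove] at hq hq'
            exact Prod.ext h (by rw [← hq.2, ← hq'.2, h])
          · simp only [Finset.mem_sdiff, Finset.mem_univ, true_and, Finset.mem_insert,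
              Finset.mem_singleton, ← hw] at hw'
            exact ⟨(w, s • w), by simp [Q, Finset.mem_offDiag, Ne.symm hw'], rfl⟩
        rw [e, Finset.card_sdiff_of_subset (Finset.subset_univ _), Finset.card_univ,
          Finset.card_pair hxy]
      rw [Finset.sum_congr rfl h3, Finset.sum_const, smul_eq_mul] at h1
      rw [h1]
      exact (Finset.sum_le_card_nsmul _ _ _ h2).trans (by rw [smul_eq_mul])
    have hQ : 0 < Q.card :=
      Finset.card_pos.mpr ⟨(S.a, S.b), by simp [Q, Finset.mem_offDiag, S.ne.symm]⟩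
    have hIpos : 0 < I.card := by omega
    rw [hn, ← hfixcount, mul_assoc] at hswap
    have h4 := Nat.le_of_mul_le_mul_left hswap hIpos
    have h3 : 3 * p ≤ p ^ 2 := by
      rw [pow_two]
      have := hpf.out.two_le
      exact Nat.mul_le_mul_right p (by omega)
    have := hpf.out.two_le
    omega

end caseB

include F hn in
theorem odd_false (hp2 : p ≠ 2) : False := by
  classical
  let φ : K S →* Equiv.Perm S.B :=
    MonoidHom.mk' (fun k => (MulAction.toPerm (k : G)).subtypePerm fun c => by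
      have hB : (k : G) • S.B = S.B := by
        have := k.2.2 1 (one_smul _ _); rwa [one_smul] at this
      simp only [MulAction.toPerm_apply]
      conv_lhs => rw [← hB]
      exact Set.smul_mem_smul_set_iff)
      fun k k' => Equiv.ext fun c => Subtype.ext (mul_smul (k : G) (k' : G) (c : Ω))
  have hφ : ∀ (k : K S) (c : S.B), ((φ k c : S.B) : Ω) = (k : G) • (c : Ω) := fun _ _ => rfl
  let e : ZMod p ≃ S.B := Equiv.ofBijective (fun l => ⟨zl F l • S.b, zl_mem_B F l⟩)
    ⟨fun i j h => zl_inj F (congrArg Subtype.val h),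
     fun c => by obtain ⟨l, hl⟩ := exists_zl F c.2; exact ⟨l, Subtype.ext hl⟩⟩
  have he : ∀ l, (e l : Ω) = zl F l • S.b := fun _ => rfl
  let c0 : Equiv.Perm S.B := φ ⟨F.z, F.zK⟩
  have hc0 : ∀ j, e (j + 1) = c0 (e j) := fun j => Subtype.ext (by
    rw [hφ, he, he, add_comm, zl_add, zl_one, mul_smul])
  haveI : Fintype S.B := Fintype.ofFinite _
  haveI : IsPretransitive φ.range S.B := ⟨fun u v => by
    obtain ⟨i, rfl⟩ := e.surjective u
    obtain ⟨j, rfl⟩ := e.surjective v
    refine ⟨⟨φ ⟨zl F (j - i), zl_K F _⟩, _, rfl⟩, Subtype.ext ?_⟩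
    show ((φ ⟨zl F (j - i), zl_K F _⟩ (e i) : S.B) : Ω) = _
    rw [hφ, he, he, ← mul_smul, ← zl_add, sub_add_cancel]⟩
  rcases H58.allAff_or_two_pretransitive φ.range (e := e) (c := c0) ⟨_, rfl⟩ hc0 with hAff | h2t
  · refine caseB_false F hn (fun x hx => ?_) hp2
    set w := x * F.z * x⁻¹ with hw
    have hwK : w ∈ K S := K_conj S hx F.zK
    obtain ⟨u, v, huv⟩ := hAff (φ ⟨w, hwK⟩) ⟨_, rfl⟩
    have hact : ∀ l, w • zl F l • S.b = zl F (u * l + v) • S.b := fun l => by
      have h1 : φ ⟨w, hwK⟩ (e l) = e (u * l + v) := by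
        rw [← huv l, H58.relabel_apply, Equiv.apply_symm_apply]
      exact congrArg Subtype.val h1
    by_cases hu : u = 1
    · have hwz : w = zl F v := K_ext F hn hwK (zl_K F v) fun c hc => by
        obtain ⟨l, rfl⟩ := exists_zl F hc
        rw [hact, hu, one_mul, add_comm, zl_add, mul_smul]
      rw [hwz]; exact Subgroup.npow_mem_zpowers _ _
    · exfalso
      have hu' : 1 - u ≠ 0 := sub_ne_zero.mpr (Ne.symm hu)
      set l := v / (1 - u)
      have hl : u * l + v = l := by
        have : (1 - u) * l = v := mul_div_cancel₀ v hu'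
        linear_combination -this
      have hfix : w • zl F l • S.b = zl F l • S.b := by rw [hact, hl]
      set w' := (zl F l)⁻¹ * w * zl F l
      have hw'D : w' ∈ D S := by
        refine ⟨(mul_mem (mul_mem (inv_mem (zl_K F l)) hwK) (zl_K F l)).1, ?_⟩
        show ((zl F l)⁻¹ * w * zl F l) • S.b = S.b
        rw [mul_smul, mul_smul, hfix, inv_smul_smul]
      have hord : orderOf w' = p := by
        have h1 : w' = MulAut.conj ((zl F l)⁻¹ * x) F.z := by
          rw [MulAut.conj_apply]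
          show (zl F l)⁻¹ * (x * F.z * x⁻¹) * zl F l = _
          group
        rw [h1, MulEquiv.orderOf_eq, F.zord]
      have hdvd := Subgroup.orderOf_dvd_natCard (D S) hw'D
      rw [hord] at hdvd
      exact not_dvd_D S hn hdvd
  · refine caseA_false F hn (fun c hc hcb d hd hdb => ?_) hp2
    obtain ⟨⟨_, k, rfl⟩, h1, h2⟩ := (MulAction.is_two_pretransitive_iff.mp h2t)
      ((fun h => hcb (congrArg Subtype.val h).symm) : (⟨S.b, S.hb⟩ : S.B) ≠ ⟨c, hc⟩)
      ((fun h => hdb (congrArg Subtype.val h).symm) : (⟨S.b, S.hb⟩ : S.B) ≠ ⟨d, hd⟩)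
    exact ⟨k, ⟨k.2, k.2.1, congrArg Subtype.val h1⟩, congrArg Subtype.val h2⟩

end H58.SqOne
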