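import Mathlib

/-!
Modular representations with a cyclic TI Sylow subgroup: the relative trace argument.
-/

set_option autoImplicit false
set_option linter.style.haveILetI false

namespace H58.TITrace

open Polynomial

variable {F : Type*} [Field F] {V : Type*} [AddCommGroup V] [Module F V]

/-- In characteristic `p` the sum `1 + X + ⋯ + X^(p^n-1)` is `(X-1)^(p^n-1)`. -/
theorem geom_eq (p : ℕ) [Fact p.Prime] [CharP F p] (n : ℕ) :
    (∑ i ∈ Finset.range (p ^ n), (X : F[X]) ^ i) = (X - 1) ^ (p ^ n - 1) := by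
  have hne : (X : F[X]) - 1 ≠ 0 := X_sub_C_ne_zero 1
  apply mul_left_cancel₀ hne
  rw [mul_geom_sum, ← pow_succ', Nat.sub_add_cancel (Nat.one_le_pow _ _ (Fact.out : p.Prime).pos),
    sub_pow_char_pow, one_pow]

/-- Range of the trace over a cyclic group of order `p^n`. -/
theorem trace_range (p : ℕ) [Fact p.Prime] [CharP F p] (n : ℕ) (U U' : Module.End F V)
    (h2 : U' * U = 1) (h1 : U * U' = 1) (m j : ℕ) (hm : (U - 1) ^ m = 0)
    (hj : j + m ≤ p ^ n) (ψ : Module.End F V) :
    LinearMap.range (∑ i ∈ Finset.range (p ^ n), U ^ i * ψ * U' ^ i) ≤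
      LinearMap.range ((U - 1) ^ j) := by
  set N : Module.End F V := U - 1 with hN
  set D : Module.End F (Module.End F V) := LinearMap.mulLeft F U * LinearMap.mulRight F U' with hD
  have hDi : ∀ i : ℕ, (D ^ i) ψ = U ^ i * ψ * U' ^ i := by
    intro i
    rw [hD, Commute.mul_pow (LinearMap.commute_mulLeft_right U U'), LinearMap.pow_mulLeft,
      LinearMap.pow_mulRight]
    simp [mul_assoc]
  have hsum : (∑ i ∈ Finset.range (p ^ n), U ^ i * ψ * U' ^ i) = ((D - 1) ^ (p ^ n - 1)) ψ := by
    have h := congrArg (Polynomial.aeval D) (geom_eq (F := F) p n)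
    simp only [map_sum, map_pow, map_sub, map_one, aeval_X] at h
    rw [← h, LinearMap.sum_apply]
    exact Finset.sum_congr rfl fun i _ => (hDi i).symm
  have hD1 : D - 1 = (LinearMap.mulLeft F N + LinearMap.mulRight F (-N)) * LinearMap.mulRight F U' := by
    apply LinearMap.ext
    intro φ
    simp only [hD, hN, LinearMap.sub_apply, Module.End.mul_apply, Module.End.one_apply,
      LinearMap.add_apply, LinearMap.mulLeft_apply, LinearMap.mulRight_apply]
    rw [mul_neg, mul_sub, sub_mul, mul_assoc φ U' U, h2]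
    simp only [one_mul, mul_one, mul_assoc]
    abel
  have hcomm : Commute (LinearMap.mulLeft F N + LinearMap.mulRight F (-N))
      (LinearMap.mulRight F U') := by
    refine Commute.add_left (LinearMap.commute_mulLeft_right N U') ?_
    apply LinearMap.ext
    intro φ
    simp only [Module.End.mul_apply, LinearMap.mulRight_apply, mul_assoc]
    congr 1
    rw [hN, mul_neg, neg_mul, mul_sub, sub_mul, h1, h2, one_mul, mul_one]
  rw [hsum, hD1, hcomm.mul_pow, Module.End.mul_apply, LinearMap.pow_mulRight,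
    LinearMap.mulRight_apply,
    Commute.add_pow (LinearMap.commute_mulLeft_right N (-N)), LinearMap.sum_apply]
  rintro _ ⟨v, rfl⟩
  rw [LinearMap.sum_apply]
  refine Submodule.sum_mem _ fun i hi => ?_
  rw [Finset.mem_range] at hi
  rw [← nsmul_eq_mul', LinearMap.smul_apply, LinearMap.smul_apply]
  refine Submodule.smul_of_tower_mem _ _ ?_
  rw [LinearMap.pow_mulLeft, LinearMap.pow_mulRight, Module.End.mul_apply, LinearMap.mulLeft_apply,
    LinearMap.mulRight_apply]
  by_cases hij : j ≤ i
  · refine ⟨(N ^ (i - j) * (ψ * U' ^ (p ^ n - 1) * (-N) ^ (p ^ n - 1 - i))) v, ?_⟩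
    rw [← Module.End.mul_apply, ← mul_assoc (N ^ j), ← pow_add, Nat.add_sub_cancel' hij]
  · have h0 : (-N) ^ (p ^ n - 1 - i) = 0 := by
      rw [neg_pow, pow_eq_zero_of_le (by omega) hm, mul_zero]
    simp [h0]

/-- A relative trace from a subgroup which acts freely on the other cosets. -/
theorem coset_trace {G : Type*} [Group G] [Finite G] (ρ : Representation F G V)
    (H : Subgroup G) (P : Subgroup G) [Fintype P] (hPH : P ≤ H)
    (hfree : ∀ r : G, r ∉ H → ∀ x ∈ P, r⁻¹ * x * r ∈ H → x = 1)
    (φ : Module.End F V) (hφ : ∀ h ∈ H, ρ h * φ = φ * ρ h) :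
    ∃ ψ : Module.End F V, ∀ g : G,
      Commute (ρ g) (φ + ∑ x : P, ρ (x : G) * ψ * ρ (x : G)⁻¹) := by
  classical
  let _ : Fintype (G ⧸ H) := Fintype.ofFinite _
  let f : G ⧸ H → Module.End F V := fun q => ρ q.out * φ * ρ q.out⁻¹
  have hf : ∀ (g : G) (q : G ⧸ H), f (g • q) = ρ g * f q * ρ g⁻¹ := by
    intro g q
    obtain ⟨h, hh⟩ := QuotientGroup.mk_out_eq_mul H (g * q.out)
    have hq : g • q = ((g * q.out : G) : G ⧸ H) := by
      conv_lhs => rw [← QuotientGroup.out_eq' q]
      rfl
    have hc : ρ (h : G) * φ * ρ (h : G)⁻¹ = φ := by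
      rw [hφ h h.2, mul_assoc, ← map_mul, mul_inv_cancel, map_one, mul_one]
    simp only [f]
    rw [hq, hh, mul_inv_rev, mul_inv_rev]
    conv_rhs => rw [← hc]
    simp only [map_mul, mul_assoc]
  have hT : ∀ g : G, Commute (ρ g) (∑ q, f q) := by
    intro g
    have h1 : ρ g * (∑ q, f q) * ρ g⁻¹ = ∑ q, f q := by
      rw [Finset.mul_sum, Finset.sum_mul]
      exact Fintype.sum_equiv (MulAction.toPerm g) _ _ fun q => (hf g q).symm
    have h2 : ρ g * (∑ q, f q) = ρ g * (∑ q, f q) * ρ g⁻¹ * ρ g := by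
      rw [mul_assoc _ (ρ g⁻¹), ← map_mul, inv_mul_cancel, map_one, mul_one]
    rw [h1] at h2
    exact h2
  set one : G ⧸ H := ((1 : G) : G ⧸ H) with hone
  have hone' : f one = φ := by
    have hm : one.out ∈ H := by
      have h := QuotientGroup.out_eq' one
      rw [hone, QuotientGroup.eq] at h
      simpa using h
    simp only [f]
    rw [hφ _ hm, mul_assoc, ← map_mul, mul_inv_cancel, map_one, mul_one]
  have hfix : ∀ x : P, (x : G) • one = one := by
    intro x
    rw [hone]
    change (((x : G) * 1 : G) : G ⧸ H) = _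
    rw [QuotientGroup.eq]
    simpa using inv_mem (hPH x.2)
  have hfree' : ∀ (x : P) (q : G ⧸ H), q ≠ one → (x : G) • q = q → x = 1 := by
    intro x q hq hxq
    have hr : q.out ∉ H := by
      intro h
      apply hq
      rw [← QuotientGroup.out_eq' q, hone, QuotientGroup.eq]
      simpa using inv_mem h
    rw [← QuotientGroup.out_eq' q] at hxq
    have h := QuotientGroup.eq.1 (show (((x : G) * q.out : G) : G ⧸ H) = (q.out : G ⧸ H) from hxq)
    have h' := inv_mem h
    exact Subtype.ext (hfree _ hr _ x.2 (by simpa [mul_assoc] using h'))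
  let rep : G ⧸ H → G ⧸ H := fun q => (Quotient.mk (MulAction.orbitRel P (G ⧸ H)) q).out
  let w : G ⧸ H → F := fun q => if rep q = q then 1 else 0
  let s : Finset (G ⧸ H) := Finset.univ.erase one
  refine ⟨∑ q ∈ s, w q • f q, fun g => ?_⟩
  have hsum : (∑ x : P, ρ (x : G) * (∑ q ∈ s, w q • f q) * ρ (x : G)⁻¹) = ∑ q ∈ s, f q := by
    have e1 : ∀ x : P, ρ (x : G) * (∑ q ∈ s, w q • f q) * ρ (x : G)⁻¹ =
        ∑ q ∈ s, w (x⁻¹ • q) • f q := by
      intro x
      rw [Finset.mul_sum, Finset.sum_mul]
      refine Finset.sum_bij' (fun q _ => x • q) (fun q _ => x⁻¹ • q) ?_ ?_ ?_ ?_ ?_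
      · intro q hq
        simp only [s, Finset.mem_erase, Finset.mem_univ, and_true] at hq ⊢
        exact fun h => hq (smul_left_cancel x (h.trans (hfix x).symm))
      · intro q hq
        simp only [s, Finset.mem_erase, Finset.mem_univ, and_true] at hq ⊢
        exact fun h => hq (smul_left_cancel x⁻¹ (h.trans (hfix x⁻¹).symm))
      · intro q _; simp
      · intro q _; simp
      · intro q _
        rw [inv_smul_smul, mul_smul_comm, smul_mul_assoc]
        exact congrArg _ (hf (x : G) q).symm
    rw [Finset.sum_congr rfl fun x _ => e1 x, Finset.sum_comm]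
    refine Finset.sum_congr rfl fun q hq => ?_
    have hq' : q ≠ one := Finset.ne_of_mem_erase hq
    have hrep : ∀ x : P, rep (x • q) = rep q := fun x =>
      congrArg Quotient.out (Quotient.sound (MulAction.mem_orbit q x))
    obtain ⟨x₀, hx₀⟩ := MulAction.orbitRel_apply.1
      (Quotient.mk_out (s := MulAction.orbitRel P (G ⧸ H)) q)
    rw [Finset.sum_eq_single x₀⁻¹]
    · rw [inv_inv]
      have : w (x₀ • q) = 1 := by simp only [w]; rw [hrep]; exact if_pos hx₀.symm
      rw [this, one_smul]
    · intro x _ hx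
      have : w (x⁻¹ • q) = 0 := by
        simp only [w]
        rw [hrep]
        refine if_neg fun h => hx ?_
        have h3 : x₀ • q = x⁻¹ • q := hx₀.trans h
        have h4 : ((x⁻¹⁻¹ * x₀ : P) : G) • q = q := by
          change (x⁻¹⁻¹ * x₀ : P) • q = q
          rw [mul_smul, h3, inv_smul_smul]
        have h5 := hfree' _ q hq' h4
        rw [inv_inv, mul_eq_one_iff_eq_inv] at h5
        exact h5
      rw [this, zero_smul]
    · exact fun h => absurd (Finset.mem_univ _) h
  rw [hsum, ← hone', Finset.add_sum_erase _ _ (Finset.mem_univ one)]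
  exact hT g

end H58.TITrace
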