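import Cfsg.Agent.H58.NormalTransitive

/-!
Wagner: non-trivial normal subgroups of triply transitive groups of odd degree at least five are
triply transitive.
-/

set_option autoImplicit false
set_option linter.unusedSectionVars false

namespace H58

open MulAction

variable {G X : Type*} [Group G] [Finite G] [Fintype X] [MulAction G X] [FaithfulSMul G X]

theorem wagner_three (hodd : Odd (Fintype.card X)) (h5 : 5 ≤ Fintype.card X)
    (hG : IsMultiplyPretransitive G X 3) (N : Subgroup G) [hNn : N.Normal] (hN : N ≠ ⊥) :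
    IsMultiplyPretransitive N X 3 := by
  classical
  haveI : Fact (Nat.Prime 2) := ⟨Nat.prime_two⟩
  have hN2 : IsMultiplyPretransitive N X 2 := by
    rcases normal_jordan 3 (by omega) (by omega) hG N hN with h | ⟨-, hc, hsq⟩
    · exact h
    exfalso
    haveI : IsMultiplyPretransitive G X 2 :=
      isMultiplyPretransitive_of_le (n := 3) (by omega) (by rw [Nat.card_eq_fintype_card]; omega)
    haveI : IsPreprimitive G X := isPreprimitive_of_is_two_pretransitive inferInstance
    haveI := transitive_of_normal (X := X) N hN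
    haveI : Nonempty X := Fintype.card_pos_iff.mp (by omega)
    obtain ⟨a⟩ := (inferInstance : Nonempty X)
    have hcard : Nat.card N = Fintype.card X := by
      rw [← Nat.card_eq_fintype_card, ← index_stabilizer_of_transitive N a,
        regular_of_comm N (fun m n => hc.is_comm.comm m n) a, Subgroup.index_bot]
    have hP : IsPGroup 2 N := fun n => ⟨1, Subtype.ext (by simpa using hsq n n.2)⟩
    obtain ⟨j, hj⟩ := IsPGroup.iff_card.mp hP
    rw [hcard] at hj
    rw [hj, Nat.odd_pow_iff (by rintro rfl; simp at hj; omega)] at hodd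
    exact absurd hodd (by decide)
  haveI : Nonempty X := Fintype.card_pos_iff.mp (by omega)
  obtain ⟨a, b, hab⟩ := Fintype.exists_pair_of_one_lt_card (α := X) (by omega)
  have h2' : ∀ {x y x' y' : X}, x ≠ y → x' ≠ y' → ∃ g : N, g • x = x' ∧ g • y = y' :=
    is_two_pretransitive_iff.mp hN2
  let pair : ∀ (x y : X), x ≠ y → (Fin 2 ↪ X) := fun x y hxy =>
    ⟨![x, y], fun i j h => by fin_cases i <;> fin_cases j <;> simp_all [hxy.symm]⟩
  let Nab : Subgroup N := stabilizer N (pair a b hab)
  have memNab : ∀ g : N, g ∈ Nab ↔ g • a = a ∧ g • b = b := by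
    intro g
    constructor
    · intro h
      exact ⟨DFunLike.congr_fun h (0 : Fin 2), DFunLike.congr_fun h (1 : Fin 2)⟩
    · rintro ⟨h0, h1⟩
      refine DFunLike.ext _ _ fun i => ?_
      fin_cases i <;> assumption
  -- the orbits of `N` on triples
  let Trip := Fin 3 ↪ X
  let R := orbitRel.Quotient N Trip
  haveI : Fintype R := Fintype.ofFinite _
  let sw : Trip → Trip := fun t => (Equiv.swap (0 : Fin 3) 1).toEmbedding.trans t
  let τ : R → R := Quotient.lift (fun t => (Quotient.mk'' (sw t) : R)) (by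
    rintro t t' ⟨g, rfl⟩
    exact Quotient.sound ⟨g, DFunLike.ext _ _ fun i => rfl⟩)
  let act : G → R → R := fun g => Quotient.lift (fun t => (Quotient.mk'' (g • t) : R)) (by
    rintro t t' ⟨n, rfl⟩
    refine Quotient.sound ⟨⟨g * n * g⁻¹, hNn.conj_mem n n.2 g⟩, ?_⟩
    change (g * (n : G) * g⁻¹) • g • t' = g • (n : G) • t'
    rw [← mul_smul, inv_mul_cancel_right, mul_smul])
  have hRodd : Odd (Fintype.card R) := by
    -- all orbits have equal size, a multiple of `n (n - 1)`
    obtain ⟨t₀⟩ : Nonempty Trip := Function.Embedding.nonempty_of_card_le (by simp; omega)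
    have hsize : ∀ t : Trip, (stabilizer N t).index = (stabilizer N t₀).index := by
      intro t
      obtain ⟨g, rfl⟩ := hG.exists_smul_eq t₀ t
      rw [index_stabilizer, index_stabilizer]
      have : orbit N (g • t₀) = (fun z => g • z) '' orbit N t₀ := by
        ext z
        constructor
        · rintro ⟨n, rfl⟩
          refine ⟨_, ⟨⟨g⁻¹ * n * g, by simpa using hNn.conj_mem n n.2 g⁻¹⟩, rfl⟩, ?_⟩
          change g • (g⁻¹ * (n : G) * g) • t₀ = (n : G) • g • t₀
          rw [← mul_smul, ← mul_smul]; group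
        · rintro ⟨_, ⟨n, rfl⟩, rfl⟩
          refine ⟨⟨g * n * g⁻¹, hNn.conj_mem n n.2 g⟩, ?_⟩
          change (g * (n : G) * g⁻¹) • g • t₀ = g • (n : G) • t₀
          rw [← mul_smul, inv_mul_cancel_right, mul_smul]
      exact (congrArg Set.ncard this).trans (Set.ncard_image_of_injective _ (MulAction.injective g))
    let q : Fin 2 ↪ X := (Fin.castSuccEmb).trans t₀
    have hle : stabilizer N t₀ ≤ stabilizer N q := fun g hg =>
      DFunLike.ext _ _ fun i => DFunLike.congr_fun (show g • t₀ = t₀ from hg) (Fin.castSucc i)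
    obtain ⟨s, hs⟩ := Subgroup.index_dvd_of_le hle
    have hidx : (stabilizer N q).index = Nat.card (Fin 2 ↪ X) := by
      rw [index_stabilizer, ← Set.ncard_univ]
      exact congrArg Set.ncard (Set.eq_univ_of_forall fun z => hN2.exists_smul_eq q z)
    rw [hidx, Nat.card_eq_fintype_card, Fintype.card_embedding_eq, Fintype.card_fin] at hs
    have hsum : Nat.card Trip = Fintype.card R * (stabilizer N t₀).index := by
      have e := selfEquivSigmaOrbits N Trip
      rw [Nat.card_congr e, Nat.card_sigma, Finset.sum_congr rfl (fun q _ => ?_), Finset.sum_const,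
        smul_eq_mul, Finset.card_univ]
      rw [Nat.card_coe_set_eq, ← index_stabilizer, hsize]
    rw [Nat.card_eq_fintype_card (α := Trip), Fintype.card_embedding_eq, Fintype.card_fin, hs,
      Nat.descFactorial_succ] at hsum
    have hpos : 0 < (Fintype.card X).descFactorial 2 := Nat.descFactorial_pos.mpr (by omega)
    have h2 : Fintype.card X - 2 = Fintype.card R * s :=
      Nat.eq_of_mul_eq_mul_left hpos (by linarith [hsum])
    have hodd2 : Odd (Fintype.card X - 2) := by
      obtain ⟨c, hc⟩ := hodd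
      exact ⟨c - 1, by omega⟩
    rw [h2] at hodd2
    exact (Nat.odd_mul.mp hodd2).1
  have hτ : ∀ z, τ z = z := by
    have hτ2 : ∀ z, τ (τ z) = z := fun z => Quotient.inductionOn' z fun t =>
      congrArg Quotient.mk'' (DFunLike.ext _ _ fun i => congrArg t (Equiv.swap_apply_self _ _ i))
    obtain ⟨z₀, hz₀⟩ : ∃ z, τ z = z := by
      by_contra! h
      have hz : ∑ _z : R, (1 : ZMod 2) = 0 :=
        Finset.sum_involution (fun z _ => τ z) (fun _ _ => CharTwo.add_self_eq_zero 1) (fun z _ _ => h z)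
          (fun z _ => Finset.mem_univ _) (fun z _ => hτ2 z)
      rw [Finset.sum_const, Finset.card_univ, nsmul_one, ZMod.natCast_eq_zero_iff_even] at hz
      exact Nat.not_even_iff_odd.mpr hRodd hz
    intro z
    induction z using Quotient.inductionOn' with
    | h t =>
      induction z₀ using Quotient.inductionOn' with
      | h t₀ =>
        obtain ⟨g, rfl⟩ := hG.exists_smul_eq t₀ t
        have hcomm : τ (act g (Quotient.mk'' t₀)) = act g (τ (Quotient.mk'' t₀)) :=
          congrArg Quotient.mk'' (DFunLike.ext _ _ fun i => rfl)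
        exact hcomm.trans (congrArg (act g) hz₀)
  -- swapping elements keep the classes on the remaining points
  have hswap : ∀ w : N, w • a = b → w • b = a → ∀ x, x ≠ a → x ≠ b →
      ∃ k ∈ Nab, k • x = w • x := by
    intro w hwa hwb x hxa hxb
    let t : Trip := ⟨![a, b, x], fun i j h => by
      fin_cases i <;> fin_cases j <;> simp_all [hab.symm, hxa.symm, hxb.symm]⟩
    have h1 : (Quotient.mk'' (sw t) : R) = Quotient.mk'' t := hτ (Quotient.mk'' t)
    obtain ⟨k, hk⟩ := Quotient.exact h1
    have hk0 : k • a = b := DFunLike.congr_fun hk (0 : Fin 3)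
    have hk1 : k • b = a := DFunLike.congr_fun hk (1 : Fin 3)
    have hk2 : k • x = x := DFunLike.congr_fun hk (2 : Fin 3)
    refine ⟨w * k, (memNab _).mpr ⟨?_, ?_⟩, by rw [mul_smul, hk2]⟩
    · rw [mul_smul, hk0, hwb]
    · rw [mul_smul, hk1, hwa]
  obtain ⟨Q⟩ := (inferInstance : Nonempty (Sylow 2 Nab))
  let Q' : Subgroup N := (Q : Subgroup Nab).map Nab.subtype
  -- a 2-element swapping `a` and `b` and normalising `Q'`
  obtain ⟨u, hu0, hu1⟩ := h2' hab hab.symm
  have huN : ∀ y ∈ Nab, u * y * u⁻¹ ∈ Nab := by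
    intro y hy
    obtain ⟨hy0, hy1⟩ := (memNab y).mp hy
    rw [memNab, mul_smul, mul_smul, mul_smul, mul_smul, inv_smul_eq_iff.mpr hu1.symm,
      inv_smul_eq_iff.mpr hu0.symm, hy1, hy0]
    exact ⟨hu1, hu0⟩
  let φ : Nab →* Nab :=
    ((MulAut.conj u).toMonoidHom.comp Nab.subtype).codRestrict Nab (fun y => huN y y.2)
  have hφ : Function.Injective φ := fun y z h =>
    Subtype.ext ((MulAut.conj u).injective (congrArg Subtype.val h))
  let Q₂ : Sylow 2 Nab := Sylow.ofCard ((Q : Subgroup Nab).map φ) (by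
    rw [Subgroup.card_map_of_injective hφ, Sylow.card_eq_multiplicity])
  obtain ⟨v, hv⟩ := MulAction.exists_smul_eq Nab Q₂ Q
  obtain ⟨w₀, hw₀def⟩ : ∃ w₀ : N, w₀ = (v : N) * u := ⟨_, rfl⟩
  have hw₀ : w₀ • a = b ∧ w₀ • b = a := by
    rw [hw₀def]
    obtain ⟨hva, hvb⟩ := (memNab v).mp v.2
    exact ⟨by rw [mul_smul, hu0, hvb], by rw [mul_smul, hu1, hva]⟩
  have hnorm₀ : ∀ y ∈ Q', w₀ * y * w₀⁻¹ ∈ Q' := by
    rintro _ ⟨y, hy, rfl⟩
    have hmem : v * φ y * v⁻¹ ∈ (Q : Subgroup Nab) := by
      rw [← hv]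
      exact Subgroup.smul_mem_pointwise_smul (φ y) (MulAut.conj v) (Q₂ : Subgroup Nab) ⟨y, hy, rfl⟩
    refine ⟨_, hmem, ?_⟩
    simp [φ, hw₀def, mul_assoc]
  have hw₀N : w₀ ∈ Subgroup.normalizer (Q' : Set N) := by
    rw [Subgroup.mem_normalizer_iff]
    intro y
    refine ⟨hnorm₀ y, fun h => ?_⟩
    have hmap : Q'.map (MulAut.conj w₀).toMonoidHom = Q' := by
      refine Subgroup.eq_of_le_of_card_ge ?_
        (Subgroup.card_map_of_injective (MulAut.conj w₀).injective).ge
      rintro _ ⟨z, hz, rfl⟩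
      exact hnorm₀ z hz
    rw [← hmap] at h
    obtain ⟨z, hz, he⟩ := h
    exact (MulAut.conj w₀).injective he ▸ hz
  -- replace by the 2-part
  obtain ⟨e, m, hm, hem⟩ := Nat.exists_eq_two_pow_mul_odd (orderOf_pos w₀).ne'
  set w := w₀ ^ m with hwdef
  have hwab : w • a = b ∧ w • b = a := by
    have key : ∀ i : ℕ, (w₀ ^ (2 * i + 1)) • a = b ∧ (w₀ ^ (2 * i + 1)) • b = a := by
      intro i
      induction i with
      | zero => simpa using hw₀
      | succ i ih =>
        rw [show 2 * (i + 1) + 1 = 2 * i + 1 + 2 by ring, pow_add, pow_two, mul_smul, mul_smul,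
          mul_smul, mul_smul, hw₀.1, hw₀.2, hw₀.1]
        exact ih
    obtain ⟨i, hi⟩ := hm
    rw [hwdef, hi]
    exact key i
  have hwp : IsPGroup 2 (Subgroup.zpowers w) := by
    refine IsPGroup.of_card (n := e) ?_
    rw [Nat.card_zpowers, hwdef, orderOf_pow_of_dvd (by rintro rfl; simp at hm)
      (hem ▸ dvd_mul_left m _), hem, Nat.mul_div_cancel _ (Odd.pos hm)]
  have hQ'p : IsPGroup 2 Q' := Q.isPGroup'.map _
  let P := Subgroup.zpowers w ⊔ Q'
  have hPp : IsPGroup 2 P :=
    hwp.to_sup_of_normal_right' hQ'p (Subgroup.zpowers_le.mpr (pow_mem hw₀N m))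
  have hQP : Q' < P := by
    refine lt_of_le_of_ne le_sup_right fun he => hab ?_
    have hwQ : w ∈ Q' := he.symm ▸ Subgroup.mem_sup_left (Subgroup.mem_zpowers w)
    obtain ⟨y, -, hy⟩ := hwQ
    have := ((memNab w).mp (hy ▸ y.2)).1
    rw [hwab.1] at this
    exact this.symm
  have huniq : ∀ c d : X, (∀ g ∈ P, g • c = c) → (∀ g ∈ P, g • d = d) → c = d := by
    intro c d hc hd
    by_contra hcd
    let Ncd : Subgroup N := stabilizer N (pair c d hcd)
    have hPle : P ≤ Ncd := fun g hg => DFunLike.ext _ _ fun i => by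
      fin_cases i
      exacts [hc g hg, hd g hg]
    obtain ⟨j, hj⟩ := IsPGroup.iff_card.mp hPp
    have hcards : Nat.card Ncd = Nat.card Nab := by
      obtain ⟨g, hg⟩ := hN2.exists_smul_eq (pair a b hab) (pair c d hcd)
      exact (Nat.card_congr (stabilizerEquivStabilizer hg.symm).toEquiv).symm
    have hdvd : 2 ^ j ∣ Nat.card Nab := hcards ▸ hj ▸ Subgroup.card_dvd_of_le hPle
    have hlt : Nat.card Q' < Nat.card P := lt_of_le_of_ne (Subgroup.card_le_of_le hQP.le)
      (fun h => hQP.ne (Subgroup.eq_of_le_of_card_ge hQP.le h.ge))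
    rw [hj, Subgroup.card_map_of_injective Nab.subtype_injective, Sylow.card_eq_multiplicity] at hlt
    have := (Nat.Prime.pow_dvd_iff_le_factorization Nat.prime_two Nat.card_pos.ne').mp hdvd
    exact absurd (Nat.pow_le_pow_right (show 0 < 2 by norm_num) this) (not_le.mpr hlt)
  -- every class on the remaining points contains a point fixed by `P`
  have hclass : ∀ x, x ≠ a → x ≠ b → ∃ k ∈ Nab, ∀ g ∈ P, g • k • x = k • x := by
    intro x hxa hxb
    let O : Set X := orbit Nab x
    have hne : ∀ z ∈ O, z ≠ a ∧ z ≠ b := by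
      rintro _ ⟨k, rfl⟩
      obtain ⟨h0, h1⟩ := (memNab k).mp k.2
      exact ⟨fun h => hxa ((MulAction.injective (k : N)) (h.trans h0.symm)),
        fun h => hxb ((MulAction.injective (k : N)) (h.trans h1.symm))⟩
    have hinv : ∀ g ∈ P, ∀ z ∈ O, g • z ∈ O := by
      intro g hg
      have hstab : P ≤ ({ carrier := {g | (∀ z ∈ O, g • z ∈ O) ∧ ∀ z ∈ O, g⁻¹ • z ∈ O}
                          one_mem' := ⟨fun z hz => by rwa [one_smul], fun z hz => by simpa using hz⟩
                          mul_mem' := fun {g h} hg hh => ⟨fun z hz => by rw [mul_smul]; exact hg.1 _ (hh.1 z hz),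
                            fun z hz => by rw [mul_inv_rev, mul_smul]; exact hh.2 _ (hg.2 z hz)⟩
                          inv_mem' := fun {g} hg => ⟨hg.2, by simpa using hg.1⟩ } : Subgroup N) := by
        refine sup_le (Subgroup.zpowers_le.mpr ⟨?_, ?_⟩) ?_
        · intro z hz
          obtain ⟨k, hk, hke⟩ := hswap w hwab.1 hwab.2 z (hne z hz).1 (hne z hz).2
          rw [← hke]
          exact MulAction.mem_orbit_of_mem_orbit (⟨k, hk⟩ : Nab) hz
        · intro z hz
          have hw'a : w⁻¹ • a = b := inv_smul_eq_iff.mpr hwab.2.symm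
          have hw'b : w⁻¹ • b = a := inv_smul_eq_iff.mpr hwab.1.symm
          obtain ⟨k, hk, hke⟩ := hswap w⁻¹ hw'a hw'b z (hne z hz).1 (hne z hz).2
          rw [← hke]
          exact MulAction.mem_orbit_of_mem_orbit (⟨k, hk⟩ : Nab) hz
        · rintro _ ⟨y, -, rfl⟩
          exact ⟨fun z hz => MulAction.mem_orbit_of_mem_orbit y hz,
            fun z hz => MulAction.mem_orbit_of_mem_orbit y⁻¹ hz⟩
      exact (hstab hg).1
    letI : MulAction P O :=
      { smul := fun g z => ⟨(g : N) • (z : X), hinv g g.2 z z.2⟩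
        one_smul := fun z => Subtype.ext (one_smul N (z : X))
        mul_smul := fun g h z => Subtype.ext (mul_smul (g : N) (h : N) (z : X)) }
    have hOodd : ¬ 2 ∣ Nat.card O := by
      intro h2
      have hdvd : Nat.card O ∣ Fintype.card X - 2 := by
        haveI hGab : IsPretransitive (fixingSubgroup G ({a, b} : Set X))
            (SubMulAction.ofFixingSubgroup G ({a, b} : Set X)) :=
          is_one_pretransitive_iff.mp (SubMulAction.ofFixingSubgroup.isMultiplyPretransitive
            (G := G) (n := 3) (m := 1) ({a, b} : Set X) (by rw [Set.ncard_pair hab]))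
        let Z := SubMulAction.ofFixingSubgroup G ({a, b} : Set X)
        let M := N.subgroupOf (fixingSubgroup G ({a, b} : Set X))
        have hd : ∀ z : Z, (orbit M z).ncard ∣ Nat.card Z := fun z =>
          (IsBlock.orbit_of_normal (N := M) z).ncard_dvd_card ⟨z, mem_orbit_self z⟩
        have hzx : x ∉ ({a, b} : Set X) := by simp [hxa, hxb]
        have hO : (Subtype.val '' orbit M (⟨x, hzx⟩ : Z) : Set X) = O := by
          ext z
          constructor
          · rintro ⟨_, ⟨g, rfl⟩, rfl⟩
            have hg := (mem_fixingSubgroup_iff G).mp g.1.2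
            exact ⟨⟨⟨((g : fixingSubgroup G ({a, b} : Set X)) : G), Subgroup.mem_subgroupOf.mp g.2⟩,
              (memNab _).mpr ⟨hg a (by simp), hg b (by simp)⟩⟩, rfl⟩
          · rintro ⟨k, rfl⟩
            obtain ⟨h0, h1⟩ := (memNab k).mp k.2
            refine ⟨(⟨⟨((k : N) : G), (mem_fixingSubgroup_iff G).mpr ?_⟩,
              Subgroup.mem_subgroupOf.mpr (k : N).2⟩ : M) • (⟨x, hzx⟩ : Z), mem_orbit _ _, rfl⟩
            rintro z (rfl | rfl)
            exacts [h0, h1]
        rw [Nat.card_coe_set_eq, ← hO, Set.ncard_image_of_injective _ Subtype.val_injective]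
        refine (hd (⟨x, hzx⟩ : Z)).trans (dvd_of_eq ?_)
        have hset : (SubMulAction.ofFixingSubgroup G ({a, b} : Set X)).carrier = ({a, b} : Set X)ᶜ := rfl
        rw [show Nat.card Z = (({a, b} : Set X)ᶜ).ncard from
          (Nat.card_coe_set_eq (({a, b} : Set X)ᶜ)), Set.ncard_compl, Set.ncard_pair hab,
          Nat.card_eq_fintype_card]
      have : Even (Fintype.card X - 2) := even_iff_two_dvd.mpr (h2.trans hdvd)
      obtain ⟨c, hc⟩ := hodd
      obtain ⟨d, hd⟩ := this
      omega
    obtain ⟨⟨z, k, rfl⟩, hz⟩ := hPp.nonempty_fixed_point_of_prime_not_dvd_card O hOodd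
    exact ⟨k, k.2, fun g hg => congrArg Subtype.val (hz ⟨g, hg⟩)⟩
  -- conclusion
  haveI : IsPretransitive N X := isPretransitive_of_is_two_pretransitive
  refine ⟨fun t t' => ?_⟩
  have key : ∀ t : Trip, ∀ x, x ≠ a → x ≠ b → ∃ g : N, g • a = t 0 ∧ g • b = t 1 ∧ g • x = t 2 := by
    intro t x hxa hxb
    obtain ⟨g, hg0, hg1⟩ := h2' hab (t.injective.ne (show (0 : Fin 3) ≠ 1 by decide))
    set y := g⁻¹ • t 2 with hy
    have hya : y ≠ a := fun h => t.injective.ne (show (2 : Fin 3) ≠ 0 by decide)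
      (by rw [← hg0, ← h, hy, smul_inv_smul])
    have hyb : y ≠ b := fun h => t.injective.ne (show (2 : Fin 3) ≠ 1 by decide)
      (by rw [← hg1, ← h, hy, smul_inv_smul])
    obtain ⟨k, hk, hkx⟩ := hclass x hxa hxb
    obtain ⟨l, hl, hly⟩ := hclass y hya hyb
    have he := huniq _ _ hkx hly
    refine ⟨g * (l⁻¹ * k), ?_, ?_, ?_⟩
    · rw [mul_smul, ((memNab _).mp (mul_mem (inv_mem hl) hk)).1, hg0]
    · rw [mul_smul, ((memNab _).mp (mul_mem (inv_mem hl) hk)).2, hg1]
    · rw [mul_smul, mul_smul, he, inv_smul_smul, hy, smul_inv_smul]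
  obtain ⟨x, hx⟩ : ∃ x, x ∉ ({a, b} : Finset X) := by
    by_contra! h
    have := (Finset.card_le_card (s := Finset.univ) fun z _ => h z).trans Finset.card_le_two
    rw [Finset.card_univ] at this
    omega
  simp only [Finset.mem_insert, Finset.mem_singleton, not_or] at hx
  obtain ⟨g, g0, g1, g2⟩ := key t x hx.1 hx.2
  obtain ⟨g', g0', g1', g2'⟩ := key t' x hx.1 hx.2
  refine ⟨g' * g⁻¹, ?_⟩
  ext i
  fin_cases i <;> simp [← g0, ← g1, ← g2, ← g0', ← g1', ← g2', mul_smul]

end H58
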