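import Mathlib

/-!
Witt's lemma on transitive extensions.
-/

set_option autoImplicit false

namespace H58.Witt

open Equiv

variable {α : Type*}

/-- The group generated by `G` and `s i` for `2 ≤ i ≤ k`. -/
def ext (G : Subgroup (Perm α)) (s : ℕ → Perm α) (k : ℕ) : Subgroup (Perm α) :=
  Subgroup.closure ((G : Set (Perm α)) ∪ {x | ∃ i : ℕ, 2 ≤ i ∧ i ≤ k ∧ x = s i})

variable {G : Subgroup (Perm α)} {s : ℕ → Perm α}

theorem le_ext (k : ℕ) : G ≤ ext G s k :=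
  fun _ hx => Subgroup.subset_closure (Or.inl hx)

theorem mem_ext {i k : ℕ} (h2 : 2 ≤ i) (hk : i ≤ k) : s i ∈ ext G s k :=
  Subgroup.subset_closure (Or.inr ⟨i, h2, hk, rfl⟩)

theorem ext_mono {j k : ℕ} (h : j ≤ k) : ext G s j ≤ ext G s k :=
  Subgroup.closure_mono (Set.union_subset_union_right _
    fun _ ⟨i, h2, hi, hx⟩ => ⟨i, h2, hi.trans h, hx⟩)

theorem ext_one : ext G s 1 = G := by
  refine le_antisymm ((Subgroup.closure_le _).mpr ?_) (le_ext 1)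
  rintro x (hx | ⟨i, h2, hi, -⟩)
  · exact hx
  · omega

/-- If `L ∪ L σ L` absorbs `σ L σ`, then it is the group generated by `L` and `σ`. -/
theorem mem_of_mem_double (L : Subgroup (Perm α)) (σ : Perm α) (hσ : σ ^ 2 ∈ L)
    (habs : ∀ x ∈ L, σ * x * σ ∈ L ∨ ∃ a ∈ L, ∃ b ∈ L, σ * x * σ = a * σ * b)
    {g : Perm α} (hg : g ∈ Subgroup.closure ((L : Set (Perm α)) ∪ {σ})) :
    g ∈ L ∨ ∃ a ∈ L, ∃ b ∈ L, g = a * σ * b := by
  induction hg using Subgroup.closure_induction with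
  | mem x hx =>
    rcases hx with hx | hx
    · exact Or.inl hx
    · exact Or.inr ⟨1, one_mem _, 1, one_mem _, by simpa using Set.mem_singleton_iff.mp hx⟩
  | one => exact Or.inl (one_mem _)
  | mul x y _ _ hx hy =>
    rcases hx with hx | ⟨a, ha, b, hb, rfl⟩ <;> rcases hy with hy | ⟨c, hc, d, hd, rfl⟩
    · exact Or.inl (mul_mem hx hy)
    · exact Or.inr ⟨x * c, mul_mem hx hc, d, hd, by group⟩
    · exact Or.inr ⟨a, ha, b * y, mul_mem hb hy, by group⟩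
    · rcases habs (b * c) (mul_mem hb hc) with h | ⟨u, hu, v, hv, h⟩
      · left
        rw [show a * σ * b * (c * σ * d) = a * (σ * (b * c) * σ) * d by group]
        exact mul_mem (mul_mem ha h) hd
      · right
        refine ⟨a * u, mul_mem ha hu, v * d, mul_mem hv hd, ?_⟩
        rw [show a * σ * b * (c * σ * d) = a * (σ * (b * c) * σ) * d by group, h]
        group
  | inv x _ hx =>
    rcases hx with hx | ⟨a, ha, b, hb, rfl⟩
    · exact Or.inl (inv_mem hx)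
    · refine Or.inr ⟨b⁻¹, inv_mem hb, (σ ^ 2)⁻¹ * a⁻¹, mul_mem (inv_mem hσ) (inv_mem ha), ?_⟩
      rw [pow_two]
      group

/-- What is carried along the induction. -/
structure Inv (t : ℕ) (q : ℕ → α) (G : Subgroup (Perm α)) (s : ℕ → Perm α)
    (H : Subgroup (Perm α)) (k : ℕ) : Prop where
  fix : ∀ g ∈ ext G s k, ∀ j, k + 2 ≤ j → j ≤ t → g (q j) = q j
  multi : ∀ x y : Fin (k + 1) → α, Function.Injective x → Function.Injective y →
    (∀ i j, k + 2 ≤ j → j ≤ t → x i ≠ q j) → (∀ i j, k + 2 ≤ j → j ≤ t → y i ≠ q j) →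
    ∃ g ∈ ext G s k, ∀ i, g (x i) = y i
  trans : ∀ z, (∀ j, k + 2 ≤ j → j ≤ t → z ≠ q j) → ∃ g ∈ ext G s k, g (q (k + 1)) = z
  dec : ∀ g ∈ ext G s k, g (q (k + 1)) = q (k + 1) ∨
    ∃ a b, a ∈ ext G s k ∧ b ∈ ext G s k ∧ a (q (k + 1)) = q (k + 1) ∧
      b (q (k + 1)) = q (k + 1) ∧ g = a * s k * b
  self : s k ∈ ext G s k
  norm : k + 2 ≤ t → ∀ x ∈ ext G s k, x (q (k + 1)) = q (k + 1) →
    s (k + 1) * x * (s (k + 1))⁻¹ ∈ ext G s k ∧
      (s (k + 1) * x * (s (k + 1))⁻¹) (q (k + 1)) = q (k + 1)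
  inter : ∀ x ∈ ext G s k, (∀ i, 1 ≤ i → i ≤ t → x (q i) = q i) → x ∈ H

variable {t : ℕ} {q : ℕ → α} {H : Subgroup (Perm α)}

theorem inv_step (hq : ∀ i j, 1 ≤ i → i ≤ t → 1 ≤ j → j ≤ t → q i = q j → i = j)
    (hsq : ∀ i : ℕ, 2 ≤ i → i + 1 ≤ t → s i (q i) = q (i + 1) ∧ s i (q (i + 1)) = q i ∧
      ∀ j : ℕ, 1 ≤ j → j ≤ t → j ≠ i → j ≠ i + 1 → s i (q j) = q j)
    (hHG : H ≤ G)
    (hsq2 : ∀ i : ℕ, 1 ≤ i → i + 1 ≤ t → s i ^ 2 ∈ H)
    (hbraid : ∀ i : ℕ, 1 ≤ i → i + 2 ≤ t → (s i * s (i + 1)) ^ 3 ∈ H)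
    (hnorm' : ∀ k j : ℕ, 1 ≤ k → k + 2 ≤ j → j + 1 ≤ t →
      ∀ x ∈ ext G s k, s j * x * (s j)⁻¹ ∈ ext G s k)
    {k : ℕ} (hk1 : 1 ≤ k) (hk : k + 2 ≤ t) (h : Inv t q G s H k) :
    Inv t q G s H (k + 1) := by
  set L := ext G s k with hL
  set σ := s (k + 1) with hσ
  have hσ2 : σ ^ 2 ∈ L := le_ext k (hHG (hsq2 (k + 1) (by omega) (by omega)))
  obtain ⟨hσa, hσb, hσo⟩ := hsq (k + 1) (by omega) (by omega)
  have hσk : s k ∈ L := h.self
  have hback : ∀ x ∈ L, x (q (k + 1)) = q (k + 1) → σ⁻¹ * x * σ ∈ L := by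
    intro x hx hx'
    rw [show σ⁻¹ * x * σ = (σ ^ 2)⁻¹ * (σ * x * σ⁻¹) * σ ^ 2 by group]
    exact mul_mem (mul_mem (inv_mem hσ2) (h.norm hk x hx hx').1) hσ2
  have hbr : (s k * σ) ^ 3 ∈ L := le_ext k (hHG (hbraid k hk1 hk))
  have habs : ∀ x ∈ L, σ * x * σ ∈ L ∨ ∃ a ∈ L, ∃ b ∈ L, σ * x * σ = a * σ * b := by
    intro x hx
    rcases h.dec x hx with hx' | ⟨a, b, ha, hb, ha', hb', rfl⟩
    · left
      rw [show σ * x * σ = σ * x * σ⁻¹ * σ ^ 2 by group]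
      exact mul_mem (h.norm hk x hx hx').1 hσ2
    · right
      refine ⟨σ * a * σ⁻¹ * ((s k)⁻¹ * (s k * σ) ^ 3 * (σ ^ 2)⁻¹), ?_,
        (s k)⁻¹ * (σ⁻¹ * b * σ), ?_, ?_⟩
      · exact mul_mem (h.norm hk a ha ha').1 (mul_mem (mul_mem (inv_mem hσk) hbr) (inv_mem hσ2))
      · exact mul_mem (inv_mem hσk) (hback b hb hb')
      · simp only [pow_succ, pow_zero, one_mul]
        group
  have hgen : ext G s (k + 1) ≤ Subgroup.closure ((L : Set (Perm α)) ∪ {σ}) := by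
    refine (Subgroup.closure_le _).mpr ?_
    rintro x (hx | ⟨i, h2, hi, rfl⟩)
    · exact Subgroup.subset_closure (Or.inl (le_ext k hx))
    · rcases Nat.lt_or_ge i (k + 1) with hlt | hge
      · exact Subgroup.subset_closure (Or.inl (mem_ext h2 (by omega)))
      · obtain rfl : i = k + 1 := by omega
        exact Subgroup.subset_closure (Or.inr rfl)
  have hdouble : ∀ g ∈ ext G s (k + 1), g ∈ L ∨ ∃ a ∈ L, ∃ b ∈ L, g = a * σ * b :=
    fun g hg => mem_of_mem_double L σ hσ2 habs (hgen hg)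
  have hmono : L ≤ ext G s (k + 1) := ext_mono (by omega)
  have hσm : σ ∈ ext G s (k + 1) := mem_ext (by omega) le_rfl
  have hLfix : ∀ a ∈ L, a (q (k + 2)) = q (k + 2) := fun a ha => h.fix a ha _ le_rfl hk
  have hne : q (k + 1) ≠ q (k + 2) := fun e => by
    have := hq _ _ (by omega) (by omega) (by omega) hk e
    omega
  have hstab : ∀ g ∈ ext G s (k + 1), g (q (k + 2)) = q (k + 2) → g ∈ L := by
    intro g hg hgq
    rcases hdouble g hg with hg' | ⟨a, ha, b, hb, rfl⟩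
    · exact hg'
    · refine absurd ?_ hne
      rw [Perm.mul_apply, Perm.mul_apply, hLfix b hb] at hgq
      rw [show σ (q (k + 2)) = q (k + 1) from hσb] at hgq
      exact a.injective (hgq.trans (hLfix a ha).symm)
  have htrans : ∀ z, (∀ j, k + 1 + 2 ≤ j → j ≤ t → z ≠ q j) →
      ∃ g ∈ ext G s (k + 1), g (q (k + 1 + 1)) = z := by
    intro z hz
    by_cases hzk : z = q (k + 2)
    · exact ⟨1, one_mem _, by simp [hzk]⟩
    · obtain ⟨a, ha, ha'⟩ := h.trans z fun j hj hjt => by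
        rcases Nat.eq_or_lt_of_le hj with rfl | hj'
        · exact hzk
        · exact hz j (by omega) hjt
      refine ⟨a * σ, mul_mem (hmono ha) hσm, ?_⟩
      rw [Perm.mul_apply, show σ (q (k + 1 + 1)) = q (k + 1) from hσb, ha']
  have hfix : ∀ g ∈ ext G s (k + 1), ∀ j, k + 1 + 2 ≤ j → j ≤ t → g (q j) = q j := by
    intro g hg j hj hjt
    have hL' : ∀ a ∈ L, a (q j) = q j := fun a ha => h.fix a ha j (by omega) hjt
    rcases hdouble g hg with hg' | ⟨a, ha, b, hb, rfl⟩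
    · exact hL' g hg'
    · rw [Perm.mul_apply, Perm.mul_apply, hL' b hb,
        show σ (q j) = q j from hσo j (by omega) hjt (by omega) (by omega), hL' a ha]
  refine ⟨hfix, ?_, htrans, ?_, hσm, ?_, ?_⟩
  · intro x y hx hy hxo hyo
    obtain ⟨g₁, hg₁, hg₁'⟩ := htrans (x (Fin.last _)) (hxo _)
    obtain ⟨g₂, hg₂, hg₂'⟩ := htrans (y (Fin.last _)) (hyo _)
    have key : ∀ (g : Perm α) (z : Fin (k + 1 + 1) → α), g ∈ ext G s (k + 1) →
        g (q (k + 1 + 1)) = z (Fin.last _) → Function.Injective z →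
        (∀ i j, k + 1 + 2 ≤ j → j ≤ t → z i ≠ q j) →
        ∀ (i : Fin (k + 1)) (j : ℕ), k + 2 ≤ j → j ≤ t → g⁻¹ (z i.castSucc) ≠ q j := by
      intro g z hg hgz hz hzo i j hj hjt e
      rw [Perm.inv_eq_iff_eq] at e
      rcases Nat.eq_or_lt_of_le hj with rfl | hj'
      · rw [hgz] at e
        exact (Fin.castSucc_lt_last i).ne (hz e)
      · rw [hfix g hg j (by omega) hjt] at e
        exact hzo _ j (by omega) hjt e
    obtain ⟨g, hg, hg'⟩ := h.multi (fun i => g₁⁻¹ (x i.castSucc)) (fun i => g₂⁻¹ (y i.castSucc))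
      (fun i j e => Fin.castSucc_injective _ (hx (g₁⁻¹.injective e)))
      (fun i j e => Fin.castSucc_injective _ (hy (g₂⁻¹.injective e)))
      (key g₁ x hg₁ hg₁' hx hxo) (key g₂ y hg₂ hg₂' hy hyo)
    refine ⟨g₂ * g * g₁⁻¹, mul_mem (mul_mem hg₂ (hmono hg)) (inv_mem hg₁), fun i => ?_⟩
    refine Fin.lastCases ?_ (fun i => ?_) i
    · rw [Perm.mul_apply, Perm.mul_apply, ← hg₁', Perm.inv_def, Equiv.symm_apply_apply, hLfix g hg, hg₂']
    · rw [Perm.mul_apply, Perm.mul_apply, hg' i, Perm.inv_def, Equiv.apply_symm_apply]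
  · intro g hg
    rcases hdouble g hg with hg' | ⟨a, ha, b, hb, rfl⟩
    · exact Or.inl (hLfix g hg')
    · exact Or.inr ⟨a, b, hmono ha, hmono hb, hLfix a ha, hLfix b hb, rfl⟩
  · intro hk' x hx hxq
    have := hnorm' k (k + 1 + 1) hk1 le_rfl hk' x (hstab x hx hxq)
    exact ⟨hmono this, hLfix _ this⟩
  · intro x hx hall
    exact h.inter x (hstab x hx (hall _ (by omega) hk)) hall

theorem witt (ht : 2 ≤ t) (hq : ∀ i j, 1 ≤ i → i ≤ t → 1 ≤ j → j ≤ t → q i = q j → i = j)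
    (hfix : ∀ g ∈ G, ∀ i : ℕ, 3 ≤ i → i ≤ t → g (q i) = q i)
    (h2 : ∀ a b c d : α, (∀ i, 3 ≤ i → i ≤ t → a ≠ q i ∧ b ≠ q i ∧ c ≠ q i ∧ d ≠ q i) →
      a ≠ b → c ≠ d → ∃ g ∈ G, g a = c ∧ g b = d)
    (hs1 : s 1 ∈ G) (hs1q : s 1 (q 1) = q 2 ∧ s 1 (q 2) = q 1)
    (hsq : ∀ i : ℕ, 2 ≤ i → i + 1 ≤ t → s i (q i) = q (i + 1) ∧ s i (q (i + 1)) = q i ∧
      ∀ j : ℕ, 1 ≤ j → j ≤ t → j ≠ i → j ≠ i + 1 → s i (q j) = q j)
    (hH : H = G ⊓ MulAction.stabilizer (Perm α) (q 1) ⊓ MulAction.stabilizer (Perm α) (q 2))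
    (hsq2 : ∀ i : ℕ, 1 ≤ i → i + 1 ≤ t → s i ^ 2 ∈ H)
    (hbraid : ∀ i : ℕ, 1 ≤ i → i + 2 ≤ t → (s i * s (i + 1)) ^ 3 ∈ H)
    (hcomm : ∀ i j : ℕ, 1 ≤ i → i + 2 ≤ j → j + 1 ≤ t →
      (s i * s j) ^ 2 ∈ H ∧ (s j * s i) ^ 2 ∈ H)
    (hnorm : ∀ i : ℕ, 2 ≤ i → i + 1 ≤ t → ∀ g ∈ G ⊓ MulAction.stabilizer (Perm α) (q 2),
      s i * g * (s i)⁻¹ ∈ G ⊓ MulAction.stabilizer (Perm α) (q 2)) :
    Inv t q G s H (t - 1) := by
  have hHG : H ≤ G := hH ▸ inf_le_left.trans inf_le_left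
  have hmem : ∀ {x : Perm α} {z : α}, x ∈ MulAction.stabilizer (Perm α) z ↔ x z = z :=
    fun {x z} => Iff.rfl
  have hne : q 1 ≠ q 2 := fun e => by
    have := hq 1 2 le_rfl (by omega) (by omega) ht e
    omega
  have hout : ∀ i, 1 ≤ i → i ≤ 2 → ∀ j, 3 ≤ j → j ≤ t → q i ≠ q j := fun i hi hi2 j hj hjt e => by
    have := hq i j hi (by omega) (by omega) hjt e
    omega
  have hdec : ∀ g ∈ G, g (q 2) = q 2 ∨
      ∃ a b, a ∈ G ∧ b ∈ G ∧ a (q 2) = q 2 ∧ b (q 2) = q 2 ∧ g = a * s 1 * b := by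
    intro g hg
    by_cases hg2 : g (q 2) = q 2
    · exact Or.inl hg2
    have hz : ∀ i, 3 ≤ i → i ≤ t → g (q 2) ≠ q i := fun i hi hit e =>
      hout 2 (by omega) le_rfl i hi hit (g.injective (e.trans (hfix g hg i hi hit).symm))
    obtain ⟨a, ha, ha1, ha2⟩ := h2 (q 1) (q 2) (g (q 2)) (q 2) (fun i hi hit =>
      ⟨hout 1 le_rfl (by omega) i hi hit, hout 2 (by omega) le_rfl i hi hit, hz i hi hit,
        hout 2 (by omega) le_rfl i hi hit⟩) hne hg2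
    refine Or.inr ⟨a, (a * s 1)⁻¹ * g, ha, mul_mem (inv_mem (mul_mem ha hs1)) hg, ha2, ?_, by group⟩
    rw [Perm.mul_apply, Perm.inv_eq_iff_eq, Perm.mul_apply, hs1q.2, ha1]
  have hnorm' : ∀ k j : ℕ, 1 ≤ k → k + 2 ≤ j → j + 1 ≤ t →
      ∀ x ∈ ext G s k, s j * x * (s j)⁻¹ ∈ ext G s k := by
    intro k j hk hkj hjt x hx
    have hj2 : (s j ^ 2)⁻¹ ∈ ext G s k := inv_mem (le_ext k (hHG (hsq2 j (by omega) hjt)))
    have hsgen : ∀ i, 1 ≤ i → i ≤ k → s i ∈ ext G s k → s j * s i * (s j)⁻¹ ∈ ext G s k := by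
      intro i hi hik hsi
      rw [show s j * s i * (s j)⁻¹ = (s i)⁻¹ * (s i * s j) ^ 2 * (s j ^ 2)⁻¹ by
        simp only [pow_two]; group]
      exact mul_mem (mul_mem (inv_mem hsi)
        (le_ext k (hHG (hcomm i j hi (by omega) hjt).1))) hj2
    have hG2 : ∀ g ∈ G, g (q 2) = q 2 → s j * g * (s j)⁻¹ ∈ ext G s k := fun g hg hg2 =>
      le_ext k (hnorm j (by omega) hjt g ⟨hg, hmem.mpr hg2⟩).1
    induction hx using Subgroup.closure_induction with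
    | mem y hy =>
      rcases hy with hy | ⟨i, hi2, hik, rfl⟩
      · rcases hdec y hy with hy2 | ⟨a, b, ha, hb, ha2, hb2, rfl⟩
        · exact hG2 y hy hy2
        · rw [show s j * (a * s 1 * b) * (s j)⁻¹ =
            s j * a * (s j)⁻¹ * (s j * s 1 * (s j)⁻¹) * (s j * b * (s j)⁻¹) by group]
          exact mul_mem (mul_mem (hG2 a ha ha2) (hsgen 1 le_rfl hk (le_ext k hs1))) (hG2 b hb hb2)
      · exact hsgen i (by omega) hik (mem_ext hi2 hik)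
    | one => simp
    | mul y z _ _ hy hz =>
      rw [show s j * (y * z) * (s j)⁻¹ = s j * y * (s j)⁻¹ * (s j * z * (s j)⁻¹) by group]
      exact mul_mem hy hz
    | inv y _ hy =>
      rw [show s j * y⁻¹ * (s j)⁻¹ = (s j * y * (s j)⁻¹)⁻¹ by group]
      exact inv_mem hy
  have hbase : Inv t q G s H 1 := by
    refine ⟨?_, ?_, ?_, ?_, ?_, ?_, ?_⟩ <;> rw [ext_one]
    · exact fun g hg j hj hjt => hfix g hg j hj hjt
    · intro x y hx hy hxo hyo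
      obtain ⟨g, hg, h0, h1⟩ := h2 (x 0) (x 1) (y 0) (y 1)
        (fun i hi hit => ⟨hxo 0 i hi hit, hxo 1 i hi hit, hyo 0 i hi hit, hyo 1 i hi hit⟩)
        (hx.ne (by decide)) (hy.ne (by decide))
      refine ⟨g, hg, fun i => ?_⟩
      fin_cases i
      exacts [h0, h1]
    · intro z hz
      by_cases hz1 : z = q 1
      · exact ⟨s 1, hs1, hs1q.2.trans hz1.symm⟩
      · obtain ⟨g, hg, -, hg2⟩ := h2 (q 1) (q 2) (q 1) z (fun i hi hit =>
          ⟨hout 1 le_rfl (by omega) i hi hit, hout 2 (by omega) le_rfl i hi hit,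
            hout 1 le_rfl (by omega) i hi hit, hz i hi hit⟩) hne (Ne.symm hz1)
        exact ⟨g, hg, hg2⟩
    · exact hdec
    · exact hs1
    · intro hk x hx hxq
      exact hnorm 2 le_rfl hk x ⟨hx, hmem.mpr hxq⟩
    · intro x hx hall
      rw [hH]
      exact ⟨⟨hx, hmem.mpr (hall 1 le_rfl (by omega))⟩, hmem.mpr (hall 2 (by omega) ht)⟩
  have hall : ∀ k, 1 ≤ k → k + 1 ≤ t → Inv t q G s H k := by
    intro k
    induction k with
    | zero => omega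
    | succ k ih =>
      intro _ hk
      rcases Nat.eq_zero_or_pos k with rfl | hpos
      · exact hbase
      · exact inv_step hq hsq hHG hsq2 hbraid hnorm' hpos hk (ih hpos (by omega))
  exact hall (t - 1) (by omega) (by omega)

end H58.Witt
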